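import Mathlib
import Cfsg.Prelude.Def_GeometricClasses
import Cfsg.Agent.Lib.Helper27.ASC.Defs

/-!
# Project ASC, Gram matrices of (sesqui)linear forms given as functions (helper29)
-/

set_option autoImplicit false
set_option linter.unusedVariables false

namespace Cfsg.Agent.Lib.Helper27.ASC

open Cfsg Cfsg.Geo
open scoped MatrixGroups Matrix

variable {n : ℕ} {F : Type*} [Field F]

/-- the Gram matrix of a two-argument form -/
def ascformGram (f : (Fin n → F) → (Fin n → F) → F) : Matrix (Fin n) (Fin n) F :=
  Matrix.of fun i j => f (Pi.single i 1) (Pi.single j 1)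

theorem ascform_single_smul (i : Fin n) (a : F) :
    (Pi.single i a : Fin n → F) = a • (Pi.single i 1 : Fin n → F) := by
  ext j
  by_cases h : j = i
  · subst h; simp
  · simp [h]

/-- a form that is linear in the first and `τ`-semilinear in the second slot is given by its Gram matrix -/
theorem ascform_gram (τ : F →+* F) (f : (Fin n → F) → (Fin n → F) → F)
    (hal : ∀ x y v, f (x + y) v = f x v + f y v) (hsl : ∀ (c : F) (x v : Fin n → F), f (c • x) v = c * f x v)
    (har : ∀ v x y, f v (x + y) = f v x + f v y)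
    (hsr : ∀ (c : F) (v x : Fin n → F), f v (c • x) = τ c * f v x) (u v : Fin n → F) :
    f u v = u ⬝ᵥ (ascformGram f *ᵥ (fun j => τ (v j))) := by
  classical
  -- first slot
  have h1 : ∀ v : Fin n → F, ∀ u : Fin n → F, f u v = ∑ i, u i * f (Pi.single i 1) v := by
    intro v u
    let L : (Fin n → F) →ₗ[F] F :=
      { toFun := fun u => f u v
        map_add' := fun x y => hal x y v
        map_smul' := fun c x => by simpa using hsl c x v }
    have hu : u = ∑ i, Pi.single i (u i) := (Finset.univ_sum_single u).symm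
    have : L u = ∑ i, u i * L (Pi.single i 1) := by
      conv_lhs => rw [hu]
      rw [map_sum]
      apply Finset.sum_congr rfl
      intro i _
      rw [ascform_single_smul, map_smul, smul_eq_mul]
    exact this
  -- second slot
  have h2 : ∀ w : Fin n → F, ∀ v : Fin n → F, f w v = ∑ j, τ (v j) * f w (Pi.single j 1) := by
    intro w v
    let R : (Fin n → F) →ₛₗ[τ] F :=
      { toFun := fun v => f w v
        map_add' := fun x y => har w x y
        map_smul' := fun c x => by simpa using hsr c w x }
    have hv : v = ∑ j, Pi.single j (v j) := (Finset.univ_sum_single v).symm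
    have : R v = ∑ j, τ (v j) * R (Pi.single j 1) := by
      conv_lhs => rw [hv]
      rw [map_sum]
      apply Finset.sum_congr rfl
      intro j _
      rw [ascform_single_smul, map_smulₛₗ, smul_eq_mul]
    exact this
  rw [h1 v u]
  simp only [dotProduct, Matrix.mulVec, ascformGram, Matrix.of_apply]
  apply Finset.sum_congr rfl
  intro i _
  rw [h2 (Pi.single i 1) v]
  congr 1
  apply Finset.sum_congr rfl
  intro j _
  ring

/-- two matrices inducing the same `τ`-sesquilinear form are equal -/
theorem ascform_ext (τ : F →+* F) (M N : Matrix (Fin n) (Fin n) F)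
    (h : ∀ u v : Fin n → F, u ⬝ᵥ (M *ᵥ (fun j => τ (v j))) = u ⬝ᵥ (N *ᵥ (fun j => τ (v j)))) : M = N := by
  classical
  ext i j
  have := h (Pi.single i 1) (Pi.single j 1)
  have e : (fun k => τ ((Pi.single j 1 : Fin n → F) k)) = (Pi.single j 1 : Fin n → F) := by
    ext k
    by_cases hk : k = j
    · subst hk; simp
    · simp [hk]
  rw [e] at this
  simpa using this

/-- transport of the Gram matrix along `s` -/
theorem ascform_transport (τ : F →+* F) (A s : Matrix (Fin n) (Fin n) F) (u v : Fin n → F) :
    (s *ᵥ u) ⬝ᵥ (A *ᵥ (fun j => τ ((s *ᵥ v) j))) =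
      u ⬝ᵥ ((sᵀ * A * s.map τ) *ᵥ (fun j => τ (v j))) := by
  have e : (fun j => τ ((s *ᵥ v) j)) = s.map τ *ᵥ (fun j => τ (v j)) := by
    ext j
    exact RingHom.map_mulVec τ s v j
  rw [e, ← Matrix.mulVec_mulVec, ← Matrix.mulVec_mulVec, Matrix.dotProduct_mulVec u,
    Matrix.vecMul_transpose]

/-- a Gram matrix with non-degenerate right radical is invertible -/
theorem ascform_gram_isUnit_det (τ : F ≃+* F) (A : Matrix (Fin n) (Fin n) F)
    (hnd : ∀ v : Fin n → F, v ≠ 0 → ∃ x : Fin n → F, x ⬝ᵥ (A *ᵥ (fun j => τ (v j))) ≠ 0) :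
    IsUnit A.det := by
  classical
  rw [isUnit_iff_ne_zero]
  intro h0
  obtain ⟨w, hw0, hw⟩ := Matrix.exists_mulVec_eq_zero_iff.mpr h0
  have hv0 : (fun j => τ.symm (w j)) ≠ 0 := by
    intro h
    apply hw0
    ext j
    have := congrFun h j
    simpa using this
  obtain ⟨x, hx⟩ := hnd _ hv0
  apply hx
  have e : (fun j => τ (τ.symm (w j))) = w := by
    ext j; simp
  rw [e, hw, dotProduct_zero]

end Cfsg.Agent.Lib.Helper27.ASC
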