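import Mathlib

set_option autoImplicit false

namespace Cfsg.Agent.Lib.Helper29

section ClassTwo

variable {G : Type*} [Group G]

/-- if `h * g = g * h * c` with `c` commuting with `h`, then `h ^ n * g = g * h ^ n * c ^ n` -/
theorem pow_mul_comm_of_central {g h c : G} (hc : h * g = g * h * c)
    (hch : Commute c h) (n : ℕ) : h ^ n * g = g * h ^ n * c ^ n := by
  induction n with
  | zero => simp
  | succ n ih =>
    calc h ^ (n + 1) * g = h * (h ^ n * g) := by rw [pow_succ']; group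
      _ = h * (g * h ^ n * c ^ n) := by rw [ih]
      _ = (h * g) * h ^ n * c ^ n := by group
      _ = (g * h * c) * h ^ n * c ^ n := by rw [hc]
      _ = g * h * (c * h ^ n) * c ^ n := by group
      _ = g * h * (h ^ n * c) * c ^ n := by rw [(hch.pow_right n).eq]
      _ = g * (h * h ^ n) * (c * c ^ n) := by group
      _ = g * h ^ (n + 1) * c ^ (n + 1) := by rw [← pow_succ', ← pow_succ']

/-- class two power formula -/
theorem mul_pow_of_central {g h c : G} (hc : h * g = g * h * c) (hcg : Commute c g)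
    (hch : Commute c h) (n : ℕ) : (g * h) ^ n = g ^ n * h ^ n * c ^ (n * (n - 1) / 2) := by
  induction n with
  | zero => simp
  | succ n ih =>
    have htri : (n + 1) * (n + 1 - 1) / 2 = n * (n - 1) / 2 + n := by
      have h2 : (n + 1) * (n + 1 - 1) = n * (n - 1) + 2 * n := by
        cases n with
        | zero => simp
        | succ m => simp only [Nat.add_sub_cancel]; ring
      rw [h2, Nat.add_mul_div_left _ _ (by norm_num : 0 < 2)]
    have h1 := pow_mul_comm_of_central hc hch n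
    have hT : c ^ ((n + 1) * (n + 1 - 1) / 2) = c ^ n * c ^ (n * (n - 1) / 2) := by
      rw [htri, add_comm, pow_add]
    rw [hT]
    have hcgn : Commute (c ^ (n * (n - 1) / 2)) g := hcg.pow_left _
    have hchn : Commute (c ^ (n * (n - 1) / 2)) h := hch.pow_left _
    have hcn : Commute (c ^ n) h := hch.pow_left n
    generalize c ^ (n * (n - 1) / 2) = t at ih hcgn hchn ⊢
    generalize c ^ n = u at h1 hcn ⊢
    calc (g * h) ^ (n + 1) = (g * h) ^ n * (g * h) := pow_succ _ _
      _ = g ^ n * h ^ n * t * (g * h) := by rw [ih]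
      _ = g ^ n * h ^ n * (t * g) * h := by group
      _ = g ^ n * h ^ n * (g * t) * h := by rw [hcgn.eq]
      _ = g ^ n * (h ^ n * g) * (t * h) := by group
      _ = g ^ n * (g * h ^ n * u) * (h * t) := by rw [h1, hchn.eq]
      _ = g ^ n * g * h ^ n * (u * h) * t := by group
      _ = g ^ n * g * h ^ n * (h * u) * t := by rw [hcn.eq]
      _ = (g ^ n * g) * (h ^ n * h) * (u * t) := by group
      _ = g ^ (n + 1) * h ^ (n + 1) * (u * t) := by rw [← pow_succ, ← pow_succ]

end ClassTwo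


section Cyclic

universe u

/-- facts on a subgroup of index `p` in a `p`-group -/
theorem index_p_facts {P : Type u} [Group P] [Finite P] {p : ℕ} [hp : Fact p.Prime] {k : ℕ}
    (hk : Nat.card P = p ^ k) (hk1 : 1 ≤ k) (M : Subgroup P) (hM : Nat.card M = p ^ (k - 1)) :
    M.Normal ∧ (∀ g : P, g ^ p ∈ M) ∧ ∀ g h : P, g * h * g⁻¹ * h⁻¹ ∈ M := by
  have hidx : M.index = p := by
    have h1 := M.card_mul_index
    rw [hM, hk] at h1
    have h2 : p ^ k = p ^ (k - 1) * p := by
      rw [← pow_succ]; congr 1; omega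
    rw [h2] at h1
    exact Nat.eq_of_mul_eq_mul_left (pow_pos hp.out.pos _) h1
  have hn : M.Normal := by
    apply Subgroup.normal_of_index_eq_minFac_card
    rw [hidx, hk, Nat.pow_minFac (by omega), Nat.Prime.minFac_eq hp.out]
  refine ⟨hn, ?_, ?_⟩
  · intro g
    have hc : Nat.card (P ⧸ M) = p := by rw [← Subgroup.index_eq_card]; exact hidx
    have := pow_card_eq_one' (G := P ⧸ M) (x := (g : P ⧸ M))
    rw [hc, ← QuotientGroup.mk_pow] at this
    exact (QuotientGroup.eq_one_iff _).1 this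
  · intro g h
    have hc : Nat.card (P ⧸ M) = p := by rw [← Subgroup.index_eq_card]; exact hidx
    have hcyc : IsCyclic (P ⧸ M) := isCyclic_of_prime_card hc
    have hcomm := hcyc.commGroup.mul_comm
    rw [← QuotientGroup.eq_one_iff]
    have e : ((g * h * g⁻¹ * h⁻¹ : P) : P ⧸ M)
        = (g : P ⧸ M) * (h : P ⧸ M) * (g : P ⧸ M)⁻¹ * (h : P ⧸ M)⁻¹ := by simp
    rw [e, hcomm (g : P ⧸ M) (h : P ⧸ M)]
    group

theorem isCyclic_of_unique_subgroup_odd_aux (p : ℕ) [hp : Fact p.Prime] (hp2 : p ≠ 2) :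
    ∀ (n : ℕ) (P : Type u) [Group P] [Finite P], Nat.card P = n → IsPGroup p P →
      (∀ H K : Subgroup P, Nat.card H = p → Nat.card K = p → H = K) → IsCyclic P := by
  intro n
  induction n using Nat.strong_induction_on with
  | _ n ih =>
  intro P _ _ hcard hP huniq
  obtain ⟨k, hk⟩ := IsPGroup.iff_card.1 hP
  by_contra hnc
  have hp1 : 1 < p := hp.out.one_lt
  have hk1 : 1 ≤ k := by
    by_contra h
    have hk0 : k = 0 := by omega
    rw [hk0, pow_zero] at hk
    have : Subsingleton P := (Nat.card_eq_one_iff_unique.1 hk).1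
    exact hnc inferInstance
  -- first maximal subgroup
  obtain ⟨M₁, hM₁⟩ := Sylow.exists_subgroup_card_pow_prime p (G := P) (n := k - 1)
    (by rw [hk]; exact pow_dvd_pow p (Nat.sub_le k 1))
  have hM₁top : M₁ ≠ ⊤ := by
    intro h
    rw [h, Subgroup.card_top, hk] at hM₁
    have := Nat.pow_right_injective hp.out.two_le hM₁
    omega
  obtain ⟨g, hg⟩ : ∃ g, g ∉ M₁ := by
    by_contra hcon
    push Not at hcon
    exact hM₁top (eq_top_iff.2 (fun x _ => hcon x))
  have hzg : Subgroup.zpowers g ≠ ⊤ := by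
    intro h
    apply hnc
    refine ⟨⟨g, fun x => ?_⟩⟩
    have : x ∈ (⊤ : Subgroup P) := Subgroup.mem_top x
    rwa [← h] at this
  obtain ⟨m, hm⟩ := IsPGroup.iff_card.1 (hP.to_subgroup (Subgroup.zpowers g))
  have hmk : m ≤ k - 1 := by
    have h1 : p ^ m ∣ p ^ k := by
      rw [← hm, ← hk]; exact Subgroup.card_subgroup_dvd_card _
    have h2 : m ≤ k := (Nat.pow_dvd_pow_iff_le_right hp1).1 h1
    have h3 : m ≠ k := by
      intro h
      apply hzg
      apply Subgroup.eq_top_of_card_eq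
      rw [hm, hk, h]
    omega
  obtain ⟨M₂, hM₂, hgM₂⟩ := Sylow.exists_subgroup_card_pow_prime_le p (G := P)
    (by rw [hk]; exact pow_dvd_pow p (Nat.sub_le k 1)) (Subgroup.zpowers g) hm hmk
  have hgM₂' : g ∈ M₂ := hgM₂ (Subgroup.mem_zpowers g)
  have hne : M₁ ≠ M₂ := fun h => hg (h ▸ hgM₂')
  obtain ⟨hn₁, hpow₁, hcomm₁⟩ := index_p_facts hk hk1 M₁ hM₁
  obtain ⟨hn₂, hpow₂, hcomm₂⟩ := index_p_facts hk hk1 M₂ hM₂
  -- the maximal subgroups are cyclic
  have hlt : ∀ M : Subgroup P, Nat.card M = p ^ (k - 1) → Nat.card M < n := by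
    intro M hM
    rw [hM, ← hcard, hk]
    exact Nat.pow_lt_pow_right hp1 (by omega)
  have hcyc : ∀ M : Subgroup P, Nat.card M = p ^ (k - 1) → IsCyclic ↥M := by
    intro M hM
    apply ih (Nat.card M) (hlt M hM) ↥M rfl (hP.to_subgroup M)
    intro H K hH hK
    apply Subgroup.map_injective M.subtype_injective
    apply huniq
    · rw [Subgroup.card_map_of_injective M.subtype_injective]; exact hH
    · rw [Subgroup.card_map_of_injective M.subtype_injective]; exact hK
  have hab : ∀ M : Subgroup P, Nat.card M = p ^ (k - 1) → ∀ a ∈ M, ∀ b ∈ M, a * b = b * a := by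
    intro M hM a ha b hb
    have := (hcyc M hM).commGroup.mul_comm ⟨a, ha⟩ ⟨b, hb⟩
    exact congrArg Subtype.val this
  -- M₁ ⊔ M₂ = ⊤
  have hsup : M₁ ⊔ M₂ = ⊤ := by
    obtain ⟨j, hj⟩ := IsPGroup.iff_card.1 (hP.to_subgroup (M₁ ⊔ M₂))
    have h1 : p ^ (k - 1) ∣ p ^ j := by
      rw [← hM₁, ← hj]; exact Subgroup.card_dvd_of_le le_sup_left
    have h2 : k - 1 ≤ j := (Nat.pow_dvd_pow_iff_le_right hp1).1 h1
    have h3 : p ^ j ∣ p ^ k := by
      rw [← hj, ← hk]; exact Subgroup.card_subgroup_dvd_card _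
    have h4 : j ≤ k := (Nat.pow_dvd_pow_iff_le_right hp1).1 h3
    have h5 : j ≠ k - 1 := by
      intro h
      apply hg
      have : M₁ = M₁ ⊔ M₂ := Subgroup.eq_of_le_of_card_ge le_sup_left (by rw [hj, hM₁, h])
      rw [this]
      exact (le_sup_right : M₂ ≤ M₁ ⊔ M₂) hgM₂'
    apply Subgroup.eq_top_of_card_eq
    rw [hj, hk]; congr 1; omega
  -- D = M₁ ⊓ M₂ is central
  have hDc : ∀ d ∈ M₁ ⊓ M₂, ∀ x : P, d * x = x * d := by
    intro d hd x
    have hx : x ∈ M₁ ⊔ M₂ := by rw [hsup]; exact Subgroup.mem_top x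
    obtain ⟨y, hy, z, hz, rfl⟩ := Subgroup.mem_sup_of_normal_right.1 hx
    have e1 := hab M₁ hM₁ d hd.1 y hy
    have e2 := hab M₂ hM₂ d hd.2 z hz
    calc d * (y * z) = (d * y) * z := by group
      _ = (y * d) * z := by rw [e1]
      _ = y * (d * z) := by group
      _ = y * (z * d) := by rw [e2]
      _ = y * z * d := by group
  have hpowD : ∀ x : P, x ^ p ∈ M₁ ⊓ M₂ := fun x => ⟨hpow₁ x, hpow₂ x⟩
  have hcommD : ∀ x y : P, x * y * x⁻¹ * y⁻¹ ∈ M₁ ⊓ M₂ := fun x y => ⟨hcomm₁ x y, hcomm₂ x y⟩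
  -- card D ≤ p ^ (k - 2)
  obtain ⟨j, hj⟩ := IsPGroup.iff_card.1 (hP.to_subgroup (M₁ ⊓ M₂))
  have hjk : j + 2 ≤ k := by
    have h1 : p ^ j ∣ p ^ (k - 1) := by
      rw [← hM₁, ← hj]; exact Subgroup.card_dvd_of_le inf_le_left
    have h2 : j ≤ k - 1 := (Nat.pow_dvd_pow_iff_le_right hp1).1 h1
    have h3 : j ≠ k - 1 := by
      intro h
      have e1 : M₁ ⊓ M₂ = M₁ := Subgroup.eq_of_le_of_card_ge inf_le_left (by rw [hj, hM₁, h])
      have e2 : M₁ ≤ M₂ := by rw [← e1]; exact inf_le_right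
      exact hne (Subgroup.eq_of_le_of_card_ge e2 (by rw [hM₁, hM₂]))
    omega
  -- the p-power map is a homomorphism
  obtain ⟨t, ht⟩ : ∃ t, p = 2 * t + 1 := by
    rcases hp.out.eq_two_or_odd' with h | h
    · exact absurd h hp2
    · exact h
  have htri : p * (p - 1) / 2 = p * t := by
    have : p - 1 = 2 * t := by omega
    rw [this, ← mul_assoc, mul_comm p 2, mul_assoc, Nat.mul_div_cancel_left _ (by norm_num : 0 < 2)]
  have hmul : ∀ x y : P, (x * y) ^ p = x ^ p * y ^ p := by
    intro x y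
    set c : P := y⁻¹ * x⁻¹ * y * x with hc
    have hcD : c ∈ M₁ ⊓ M₂ := by
      have := hcommD y⁻¹ x⁻¹
      simpa [hc] using this
    have hyx : y * x = x * y * c := by rw [hc]; group
    have hcx : Commute c x := hDc c hcD x
    have hcy : Commute c y := hDc c hcD y
    have hcp : c ^ p = 1 := by
      have h1 := pow_mul_comm_of_central hyx hcy p
      have h2 : y ^ p * x = x * y ^ p := hDc _ (hpowD y) x
      rw [h2] at h1
      exact (mul_eq_left.1 h1.symm)
    rw [mul_pow_of_central hyx hcx hcy p, htri, pow_mul, hcp, one_pow, mul_one]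
  let φ : P →* P := { toFun := fun x => x ^ p, map_one' := one_pow p, map_mul' := hmul }
  have hrange : φ.range ≤ M₁ ⊓ M₂ := by
    rintro _ ⟨x, rfl⟩
    exact hpowD x
  have hker : ∀ x, x ∈ φ.ker ↔ x ^ p = 1 := fun x => MonoidHom.mem_ker
  have hcardker : p ^ 2 ≤ Nat.card φ.ker := by
    have h1 := φ.ker.card_mul_index
    rw [Subgroup.index_ker, hk] at h1
    have h2 : Nat.card φ.range ≤ p ^ j := by
      rw [← hj]; exact Subgroup.card_le_of_le hrange
    by_contra hlt
    push Not at hlt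
    have h3 : Nat.card φ.ker * Nat.card φ.range < p ^ 2 * p ^ j :=
      Nat.mul_lt_mul_of_lt_of_le hlt h2 (pow_pos hp.out.pos _)
    rw [h1, ← pow_add] at h3
    have := Nat.pow_le_pow_right hp.out.pos (show 2 + j ≤ k by omega)
    omega
  -- contradiction: ker φ ≤ zpowers x
  have hne1 : φ.ker ≠ ⊥ := by
    intro h
    rw [h, Subgroup.card_bot] at hcardker
    have : 1 < p ^ 2 := Nat.one_lt_pow (by norm_num) hp1
    omega
  obtain ⟨x, hx, hx1⟩ : ∃ x ∈ φ.ker, x ≠ 1 := by
    rw [Ne, Subgroup.eq_bot_iff_forall] at hne1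
    push Not at hne1
    exact hne1
  have hox : orderOf x = p := orderOf_eq_prime ((hker x).1 hx) hx1
  have hle : φ.ker ≤ Subgroup.zpowers x := by
    intro y hy
    by_cases hy1 : y = 1
    · rw [hy1]; exact Subgroup.one_mem _
    · have hoy : orderOf y = p := orderOf_eq_prime ((hker y).1 hy) hy1
      have := huniq (Subgroup.zpowers y) (Subgroup.zpowers x) (by rw [Nat.card_zpowers, hoy])
        (by rw [Nat.card_zpowers, hox])
      rw [← this]; exact Subgroup.mem_zpowers y
  have := Subgroup.card_le_of_le hle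
  rw [Nat.card_zpowers, hox] at this
  have h2 : p < p ^ 2 := by
    calc p = p ^ 1 := (pow_one p).symm
      _ < p ^ 2 := Nat.pow_lt_pow_right hp1 (by norm_num)
  omega

/-- **Burnside**: for an odd prime `p`, a finite `p`-group with a unique subgroup of order `p`
is cyclic. -/
theorem isCyclic_of_unique_subgroup_odd {P : Type u} [Group P] [Finite P] (p : ℕ) [Fact p.Prime]
    (hp2 : p ≠ 2) (hP : IsPGroup p P)
    (huniq : ∀ H K : Subgroup P, Nat.card H = p → Nat.card K = p → H = K) : IsCyclic P :=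
  isCyclic_of_unique_subgroup_odd_aux p hp2 _ P rfl hP huniq

end Cyclic

end Cfsg.Agent.Lib.Helper29
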