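import Mathlib
import Cfsg.Agent.Lib.Helper28.BP2.Defs

/-!
# BP2 (designer helper28), row U6: `sylow_conj_PU` (verbatim).
-/

set_option autoImplicit false

namespace Cfsg.Agent.Lib.Helper28.BP2

open Cfsg.Agent.Lib.helper14

universe u

variable {F : Type u} [Field F] [Fintype F]

/-- `PU F` as a Sylow `p`-subgroup of `PSL₂(F)`: the image of `USSylow`. -/
noncomputable def bp2u6_PUSylow (p : ℕ) [Fact p.Prime] [CharP F p] : Sylow p (PSL2 F) :=
  (USSylow (F := F) p).mapSurjective (f := pr F) (QuotientGroup.mk'_surjective _)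

theorem bp2u6_coe_PUSylow (p : ℕ) [Fact p.Prime] [CharP F p] :
    ((bp2u6_PUSylow (F := F) p : Sylow p (PSL2 F)) : Subgroup (PSL2 F)) = PU F := rfl

/-- **U6**.  `PU F` is a Sylow `p`-subgroup (U4, U5) and Sylow subgroups are conjugate. -/
theorem sylow_conj_PU (p : ℕ) [Fact p.Prime] [CharP F p] (P : Sylow p (PSL2 F)) :
    ∃ g : PSL2 F, (P : Subgroup (PSL2 F)) = (PU F).map (MulAut.conj g).toMonoidHom := by
  obtain ⟨g, hg⟩ := MulAction.exists_smul_eq (PSL2 F) (bp2u6_PUSylow (F := F) p) P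
  refine ⟨g, ?_⟩
  rw [← hg, Sylow.coe_subgroup_smul, bp2u6_coe_PUSylow]
  rfl

end Cfsg.Agent.Lib.Helper28.BP2
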