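import Mathlib
import Cfsg.Agent.Lib.Helper11.LinCharDual
import Cfsg.Agent.Lib.Helper24.AFT2

set_option autoImplicit false
open scoped ComplexConjugate

namespace Cfsg.Agent.Lib.Helper29

section Dual

variable {W : Type*} [Group W]

/-- first orthogonality relation for linear characters -/
theorem afd_sum_elems [Fintype W] (η : W →* ℂˣ) [Decidable (η = 1)] :
    ∑ w, ((η w : ℂˣ) : ℂ) = if η = 1 then (Fintype.card W : ℂ) else 0 := by
  split_ifs with h
  · subst h
    simp
  · exact Cfsg.Agent.Lib.Helper11.sum_linChar_eq_zero η h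

theorem afd_card_dual [Finite W] (hcomm : ∀ a b : W, a * b = b * a) :
    Nat.card (W →* ℂˣ) = Nat.card W := by
  rw [Cfsg.Agent.Lib.Helper24.af_card_hom]
  have : commutator W = ⊥ := by
    rw [commutator_def, Subgroup.commutator_eq_bot_iff_le_centralizer]
    intro a _
    rw [Subgroup.mem_centralizer_iff]
    intro b _
    exact hcomm b a
  rw [this, Subgroup.index_bot]

/-- second orthogonality relation for linear characters of a finite abelian group -/
theorem afd_sum_chars [Finite W] (hcomm : ∀ a b : W, a * b = b * a) [Fintype (W →* ℂˣ)]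
    (w : W) [Decidable (w = 1)] :
    ∑ η : W →* ℂˣ, ((η w : ℂˣ) : ℂ) = if w = 1 then (Nat.card W : ℂ) else 0 := by
  split_ifs with h
  · subst h
    simp only [map_one, Units.val_one, Finset.sum_const, Finset.card_univ, nsmul_eq_mul, mul_one]
    rw [← afd_card_dual hcomm, Nat.card_eq_fintype_card]
  · obtain ⟨φ₀, -, h2⟩ := Cfsg.Agent.Lib.Helper11.exists_linChar_ne_one hcomm ⊥ w
      (by rw [Subgroup.mem_bot]; exact h)
    have := sum_hom_units_eq_zero
      ((Units.coeHom ℂ).comp ((MonoidHom.eval (N := ℂˣ)) w)) (by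
      intro hh
      apply h2
      have h3 := DFunLike.congr_fun hh φ₀
      simpa using h3)
    simpa using this

theorem afd_conj [Finite W] (η : W →* ℂˣ) (w : W) :
    conj ((η w : ℂˣ) : ℂ) = ((η w⁻¹ : ℂˣ) : ℂ) :=
  Cfsg.Agent.Lib.Helper11.linChar_conj' η w

/-- Fourier inversion on a finite abelian group -/
theorem afd_inversion [Fintype W] (hcomm : ∀ a b : W, a * b = b * a) [Fintype (W →* ℂˣ)]
    (f : W → ℂ) (w : W) :
    ∑ η : W →* ℂˣ, ((Nat.card W : ℂ)⁻¹ * ∑ w' : W, f w' * conj ((η w' : ℂˣ) : ℂ)) *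
      ((η w : ℂˣ) : ℂ) = f w := by
  classical
  have hne : (Nat.card W : ℂ) ≠ 0 := by exact_mod_cast Nat.card_pos.ne'
  have h1 : ∀ η : W →* ℂˣ, ((Nat.card W : ℂ)⁻¹ * ∑ w' : W, f w' * conj ((η w' : ℂˣ) : ℂ)) *
      ((η w : ℂˣ) : ℂ) = (Nat.card W : ℂ)⁻¹ * ∑ w' : W, f w' * ((η (w'⁻¹ * w) : ℂˣ) : ℂ) := by
    intro η
    rw [mul_assoc, Finset.sum_mul]
    congr 1
    apply Finset.sum_congr rfl
    intro w' _
    rw [afd_conj, map_mul, Units.val_mul]
    ring
  simp only [h1]
  rw [← Finset.mul_sum, Finset.sum_comm]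
  have h2 : ∀ w' : W, ∑ η : W →* ℂˣ, f w' * ((η (w'⁻¹ * w) : ℂˣ) : ℂ) =
      if w' = w then f w * (Nat.card W : ℂ) else 0 := by
    intro w'
    rw [← Finset.mul_sum, afd_sum_chars hcomm]
    by_cases hw : w' = w
    · subst hw
      simp
    · have : ¬ (w'⁻¹ * w = 1) := by
        intro h
        apply hw
        rw [inv_mul_eq_one] at h
        exact h
      rw [if_neg this, if_neg hw, mul_zero]
  simp only [h2]
  rw [Finset.sum_ite_eq' Finset.univ w, if_pos (Finset.mem_univ _)]
  field_simp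

/-- a linear character invariant under a fixed-point-free endomorphism is trivial -/
theorem afd_semiregular [Finite W] (hcomm : ∀ a b : W, a * b = b * a) (φ : W →* W)
    (hφ : ∀ w : W, φ w = w → w = 1) (ψ : W →* ℂˣ) (hψ : ∀ w : W, ψ (φ w) = ψ w) : ψ = 1 := by
  let θ : W →* W :=
    { toFun := fun w => w⁻¹ * φ w
      map_one' := by simp
      map_mul' := by
        intro a b
        simp only [map_mul, mul_inv_rev]
        calc b⁻¹ * a⁻¹ * (φ a * φ b) = b⁻¹ * (a⁻¹ * φ a) * φ b := by group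
          _ = (a⁻¹ * φ a) * b⁻¹ * φ b := by rw [hcomm b⁻¹ (a⁻¹ * φ a)]
          _ = a⁻¹ * φ a * (b⁻¹ * φ b) := by group }
  have hinj : Function.Injective θ := by
    rw [injective_iff_map_eq_one]
    intro w hw
    apply hφ
    have : w⁻¹ * φ w = 1 := hw
    rw [inv_mul_eq_one] at this
    exact this.symm
  have hsurj : Function.Surjective θ := Finite.surjective_of_injective hinj
  ext w
  obtain ⟨v, rfl⟩ := hsurj w
  have : ψ (θ v) = 1 := by
    show ψ (v⁻¹ * φ v) = 1
    rw [map_mul, map_inv, hψ, inv_mul_cancel]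
  rw [this]
  rfl

end Dual

end Cfsg.Agent.Lib.Helper29
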