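import Mathlib
import Cfsg.Prelude.Def_Local
import Cfsg.Prelude.Def_Blocks
import Cfsg.Agent.Lib.Helper22.Burnside
import Cfsg.Agent.Lib.Helper1.Cores

set_option autoImplicit false

namespace Cfsg.Agent.Lib.Helper29

variable {G : Type*} [Group G]

/-- conjugation by a normalizing element as an endomorphism of the subgroup -/
def afCj (P : Subgroup G) (n : G) (hn : n ∈ Subgroup.normalizer (P : Set G)) : ↥P →* ↥P where
  toFun w := ⟨n * w * n⁻¹, ((Subgroup.mem_normalizer_iff.mp hn) w).mp w.2⟩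
  map_one' := by
    apply Subtype.ext
    simp
  map_mul' a b := by
    apply Subtype.ext
    simp only [Subgroup.coe_mul]
    group

@[simp] theorem afCj_coe (P : Subgroup G) (n : G) (hn : n ∈ Subgroup.normalizer (P : Set G))
    (w : ↥P) : ((afCj P n hn w : ↥P) : G) = n * w * n⁻¹ := rfl

theorem afCj_mul (P : Subgroup G) (n n' : G) (hn : n ∈ Subgroup.normalizer (P : Set G))
    (hn' : n' ∈ Subgroup.normalizer (P : Set G)) (w : ↥P) :
    afCj P (n * n') ((Subgroup.normalizer (P : Set G)).mul_mem hn hn') w =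
      afCj P n hn (afCj P n' hn' w) := by
  apply Subtype.ext
  simp only [afCj_coe]
  group

theorem afCj_one (P : Subgroup G) (w : ↥P) :
    afCj P 1 ((Subgroup.normalizer (P : Set G)).one_mem) w = w := by
  apply Subtype.ext
  simp

theorem afCj_inv_cancel (P : Subgroup G) (n : G) (hn : n ∈ Subgroup.normalizer (P : Set G))
    (w : ↥P) :
    afCj P n⁻¹ ((Subgroup.normalizer (P : Set G)).inv_mem hn) (afCj P n hn w) = w := by
  apply Subtype.ext
  simp only [afCj_coe]
  group

theorem afCj_cancel_inv (P : Subgroup G) (n : G) (hn : n ∈ Subgroup.normalizer (P : Set G))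
    (w : ↥P) :
    afCj P n hn (afCj P n⁻¹ ((Subgroup.normalizer (P : Set G)).inv_mem hn) w) = w := by
  apply Subtype.ext
  simp only [afCj_coe]
  group

/-- the standing hypotheses: abelian Sylow subgroup whose normalizer acts
semiregularly on the non-identity elements -/
structure AFSetup (p : ℕ) [Fact p.Prime] (P : Sylow p G) : Prop where
  comm : ∀ a b : ↥(P : Subgroup G), a * b = b * a
  frob : ∀ y : G, y ∈ (P : Subgroup G) → y ≠ 1 →
    Subgroup.centralizer ({y} : Set G) ⊓ Subgroup.normalizer ((P : Subgroup G) : Set G) =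
      Subgroup.centralizer ((P : Subgroup G) : Set G)

variable {p : ℕ} [Fact p.Prime] {P : Sylow p G}

theorem AFSetup.comm' (h : AFSetup p P) {a b : G} (ha : a ∈ (P : Subgroup G))
    (hb : b ∈ (P : Subgroup G)) : a * b = b * a := by
  have := h.comm ⟨a, ha⟩ ⟨b, hb⟩
  exact congrArg Subtype.val this

theorem AFSetup.P_le_C (h : AFSetup p P) :
    (P : Subgroup G) ≤ Subgroup.centralizer ((P : Subgroup G) : Set G) := by
  intro a ha
  rw [Subgroup.mem_centralizer_iff]
  intro b hb
  exact h.comm' hb ha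

theorem AFSetup.P_le_cent (h : AFSetup p P) {y : G} (hy : y ∈ (P : Subgroup G)) :
    (P : Subgroup G) ≤ Subgroup.centralizer ({y} : Set G) := by
  intro a ha
  rw [Subgroup.mem_centralizer_singleton_iff]
  exact h.comm' ha hy

theorem AFSetup.conj_fix_iff (h : AFSetup p P) {y : G} (hy : y ∈ (P : Subgroup G)) (hy1 : y ≠ 1)
    {n : G} (hn : n ∈ Subgroup.normalizer ((P : Subgroup G) : Set G)) :
    n * y * n⁻¹ = y ↔ n ∈ Subgroup.centralizer ((P : Subgroup G) : Set G) := by
  constructor
  · intro hfix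
    rw [← h.frob y hy hy1]
    refine Subgroup.mem_inf.mpr ⟨?_, hn⟩
    rw [Subgroup.mem_centralizer_singleton_iff]
    calc n * y = n * y * n⁻¹ * n := by group
      _ = y * n := by rw [hfix]
  · intro hc
    rw [Subgroup.mem_centralizer_iff] at hc
    have := hc y hy
    calc n * y * n⁻¹ = y * n * n⁻¹ := by rw [this]
      _ = y := by group

theorem AFSetup.fusion [Finite G] (h : AFSetup p P) {y y' : G} (hy : y ∈ (P : Subgroup G))
    (hy' : y' ∈ (P : Subgroup G)) (hc : IsConj y y') :
    ∃ n ∈ Subgroup.normalizer ((P : Subgroup G) : Set G), y' = n * y * n⁻¹ := by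
  have : IsMulCommutative P := ⟨⟨fun a b => h.comm a b⟩⟩
  obtain ⟨g, hg⟩ := isConj_iff.mp hc
  have h1 : g⁻¹⁻¹ * y * g⁻¹ ∈ P := by
    rw [inv_inv, hg]
    exact hy'
  obtain ⟨n, hn, hn2⟩ := P.conj_eq_normalizer_conj_of_mem y g⁻¹ hy h1
  refine ⟨n⁻¹, Subgroup.inv_mem _ hn, ?_⟩
  rw [inv_inv] at hn2 ⊢
  rw [← hn2, hg]

/-- the centralizer of a non-identity element of `P` has a normal `p`-complement -/
theorem AFSetup.npc [Finite G] (h : AFSetup p P) {y : G} (hy : y ∈ (P : Subgroup G))
    (hy1 : y ≠ 1) :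
    (∃ k : ℕ, (Cfsg.pPrimeCore p (Subgroup.centralizer ({y} : Set G))).index = p ^ k) ∧
    (Nat.card (Subgroup.centralizer ({y} : Set G))).factorization p =
      (Nat.card G).factorization p ∧
    ∀ v : G, v ∈ Subgroup.centralizer ({y} : Set G) → ¬ p ∣ orderOf v →
      v ∈ Cfsg.centralizerPPrimeCore p y := by
  have hp : p.Prime := Fact.out
  set L := Subgroup.centralizer ({y} : Set G) with hL
  have hPL : (P : Subgroup G) ≤ L := h.P_le_cent hy
  obtain ⟨K, hKL, hKmem, hKcard, -⟩ := Cfsg.Agent.Lib.Helper22.burnside_sub p P L hPL (by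
    intro g hg hgN b hb
    have hgC : g ∈ Subgroup.centralizer ((P : Subgroup G) : Set G) := by
      rw [← h.frob y hy hy1]
      exact ⟨hg, hgN⟩
    rw [Subgroup.mem_centralizer_iff] at hgC
    exact (hgC b hb).symm)
  have hKcop : (Nat.card K).Coprime p := by
    rw [Nat.coprime_comm, Nat.Prime.coprime_iff_not_dvd hp]
    intro hdvd
    obtain ⟨x, hx⟩ := exists_prime_orderOf_dvd_card' p hdvd
    have hx2 : orderOf (x : G) = p := by rw [Subgroup.orderOf_coe]; exact hx
    have := ((hKmem (x : G)).mp x.2).2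
    rw [hx2, Nat.coprime_self] at this
    exact hp.one_lt.ne' this
  have hKn : (K.subgroupOf L).Normal := by
    constructor
    intro n hn g
    rw [Subgroup.mem_subgroupOf] at hn ⊢
    rw [hKmem] at hn ⊢
    simp only [Subgroup.coe_mul, Subgroup.coe_inv]
    refine ⟨Subgroup.mul_mem _ (Subgroup.mul_mem _ g.2 hn.1) (Subgroup.inv_mem _ g.2), ?_⟩
    have : orderOf ((g : G) * (n : G) * (g : G)⁻¹) = orderOf (n : G) := by
      have := MulEquiv.orderOf_eq (MulAut.conj (g : G)) (n : G)
      rwa [MulAut.conj_apply] at this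
    rw [this]
    exact hn.2
  have hKc : Nat.card (K.subgroupOf L) = Nat.card K :=
    Nat.card_congr (Subgroup.subgroupOfEquivOfLe hKL).toEquiv
  have hle : K.subgroupOf L ≤ Cfsg.pPrimeCore p L :=
    Cfsg.Agent.Lib.Helper1.le_pPrimeCore hKn (by rw [hKc]; exact hKcop)
  have hPcard : Nat.card (P : Subgroup G) = p ^ (Nat.card G).factorization p :=
    P.card_eq_multiplicity
  refine ⟨?_, ?_, ?_⟩
  · have hidx := Subgroup.index_dvd_of_le hle
    have hKidx : (K.subgroupOf L).index = p ^ (Nat.card G).factorization p := by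
      have h1 := (K.subgroupOf L).index_mul_card
      rw [hKc, ← hKcard, hPcard] at h1
      have hK0 : 0 < Nat.card K := Nat.card_pos
      have h2 : (K.subgroupOf L).index * Nat.card K =
          p ^ (Nat.card G).factorization p * Nat.card K := by rw [h1, mul_comm]
      exact Nat.eq_of_mul_eq_mul_right hK0 h2
    rw [hKidx] at hidx
    obtain ⟨k, _, hk⟩ := (Nat.dvd_prime_pow hp).mp hidx
    exact ⟨k, hk⟩
  · rw [← hKcard, hPcard, Nat.factorization_mul Nat.card_pos.ne' (pow_ne_zero _ hp.ne_zero)]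
    simp only [Finsupp.coe_add, Pi.add_apply]
    have h0 : (Nat.card K).factorization p = 0 := by
      apply Nat.factorization_eq_zero_of_not_dvd
      intro hd
      have := Nat.Coprime.eq_one_of_dvd hKcop.symm hd
      exact hp.one_lt.ne' this
    rw [h0, Nat.Prime.factorization_pow hp]
    simp
  · intro v hv hpv
    have hvK : v ∈ K := by
      rw [hKmem]
      refine ⟨hv, ?_⟩
      rw [Nat.coprime_comm, Nat.Prime.coprime_iff_not_dvd hp]
      exact hpv
    unfold Cfsg.centralizerPPrimeCore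
    rw [Subgroup.mem_map]
    refine ⟨⟨v, hv⟩, hle ?_, rfl⟩
    rw [Subgroup.mem_subgroupOf]
    exact hvK


theorem AFSetup.C_le_N (_h : AFSetup p P) :
    Subgroup.centralizer ((P : Subgroup G) : Set G) ≤
      Subgroup.normalizer ((P : Subgroup G) : Set G) :=
  Subgroup.centralizer_le_normalizer _

/-- number of normalizer elements carrying `y ≠ 1` to `y'` -/
theorem AFSetup.card_conj_fiber (h : AFSetup p P)
    [Fintype ↥(Subgroup.normalizer ((P : Subgroup G) : Set G))]
    [Fintype ↥(Subgroup.centralizer ((P : Subgroup G) : Set G))]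
    [DecidableEq ↥(P : Subgroup G)]
    (y y' : ↥(P : Subgroup G)) (hy1 : y ≠ 1)
    (hex : ∃ n : ↥(Subgroup.normalizer ((P : Subgroup G) : Set G)),
      afCj (P : Subgroup G) (n : G) n.2 y = y') :
    (Finset.univ.filter (fun n : ↥(Subgroup.normalizer ((P : Subgroup G) : Set G)) =>
      afCj (P : Subgroup G) (n : G) n.2 y = y')).card =
      Fintype.card ↥(Subgroup.centralizer ((P : Subgroup G) : Set G)) := by
  obtain ⟨n₀, hn₀⟩ := hex
  have hyG : (y : G) ≠ 1 := fun hh => hy1 (Subtype.ext hh)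
  have hn₀' : (n₀ : G) * (y : G) * (n₀ : G)⁻¹ = (y' : G) := congrArg Subtype.val hn₀
  rw [← Finset.card_univ]
  apply Finset.card_bij (fun (n : ↥(Subgroup.normalizer ((P : Subgroup G) : Set G))) hnf =>
    (⟨(n₀ : G)⁻¹ * (n : G), by
    have hn := (Finset.mem_filter.mp hnf).2
    have hn' : (n : G) * (y : G) * (n : G)⁻¹ = (y' : G) := congrArg Subtype.val hn
    rw [← h.conj_fix_iff y.2 hyG
      (Subgroup.mul_mem _ (Subgroup.inv_mem _ n₀.2) n.2)]
    calc (n₀ : G)⁻¹ * (n : G) * (y : G) * ((n₀ : G)⁻¹ * (n : G))⁻¹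
        = (n₀ : G)⁻¹ * ((n : G) * (y : G) * (n : G)⁻¹) * (n₀ : G) := by group
      _ = (n₀ : G)⁻¹ * ((n₀ : G) * (y : G) * (n₀ : G)⁻¹) * (n₀ : G) := by rw [hn', hn₀']
      _ = (y : G) := by group⟩ :
      ↥(Subgroup.centralizer ((P : Subgroup G) : Set G))))
  · intro n hn
    exact Finset.mem_univ _
  · intro a ha b hb hab
    have h1 : (n₀ : G)⁻¹ * (a : G) = (n₀ : G)⁻¹ * (b : G) := congrArg Subtype.val hab
    exact Subtype.ext (mul_left_cancel h1)
  · intro c _
    have hcN : (n₀ : G) * (c : G) ∈ Subgroup.normalizer ((P : Subgroup G) : Set G) :=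
      Subgroup.mul_mem _ n₀.2 (h.C_le_N c.2)
    refine ⟨⟨(n₀ : G) * (c : G), hcN⟩, ?_, ?_⟩
    · rw [Finset.mem_filter]
      refine ⟨Finset.mem_univ _, ?_⟩
      apply Subtype.ext
      simp only [afCj_coe]
      have hc := (h.conj_fix_iff y.2 hyG (h.C_le_N c.2)).mpr c.2
      calc (n₀ : G) * (c : G) * (y : G) * ((n₀ : G) * (c : G))⁻¹
          = (n₀ : G) * ((c : G) * (y : G) * (c : G)⁻¹) * (n₀ : G)⁻¹ := by group
        _ = (y' : G) := by rw [hc, hn₀']
    · apply Subtype.ext
      simp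

theorem AFSetup.card_N [Finite G] (_h : AFSetup p P) (m : ℕ)
    (hCN : (Subgroup.centralizer ((P : Subgroup G) : Set G)).relIndex
      (Subgroup.normalizer ((P : Subgroup G) : Set G)) = m) :
    Nat.card ↥(Subgroup.normalizer ((P : Subgroup G) : Set G)) =
      m * Nat.card ↥(Subgroup.centralizer ((P : Subgroup G) : Set G)) := by
  rw [← hCN, Subgroup.relIndex]
  have h1 := ((Subgroup.centralizer ((P : Subgroup G) : Set G)).subgroupOf
    (Subgroup.normalizer ((P : Subgroup G) : Set G))).index_mul_card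
  rw [Nat.card_congr (Subgroup.subgroupOfEquivOfLe
    (Subgroup.centralizer_le_normalizer ((P : Subgroup G) : Set G))).toEquiv] at h1
  exact h1.symm

end Cfsg.Agent.Lib.Helper29
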