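import Mathlib
import Cfsg.Prelude.Def_Characters
import Cfsg.Agent.Lib.helper7.Induction
import Cfsg.Agent.Lib.Helper11.IndNormal
import Cfsg.Agent.Lib.helper2.CharNat
import Cfsg.Agent.Lib.helper2.CharInd
import Cfsg.Agent.Lib.Helper25.CharOrth

/-!
Conjugation of functions on a subgroup `C` by elements normalizing `C`.
-/

set_option autoImplicit false
open scoped ComplexConjugate
open Classical

namespace Cfsg.Agent.Lib.Helper29

open Cfsg.Agent.Lib.helper7

section LeoConj

variable {G : Type*} [Group G] (C : Subgroup G)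

/-- conjugation automorphism `c ↦ n⁻¹ c n` of `C`, for `n` in the normalizer -/
def leoAut (n : G) (hn : n ∈ Subgroup.normalizer (C : Set G)) : ↥C ≃* ↥C where
  toFun c := ⟨n⁻¹ * (c : G) * n, by
    have h := (Subgroup.mem_normalizer_iff.mp (Subgroup.inv_mem _ hn) (c : G)).mp c.2
    simpa using h⟩
  invFun c := ⟨n * (c : G) * n⁻¹, (Subgroup.mem_normalizer_iff.mp hn (c : G)).mp c.2⟩
  left_inv c := by
    apply Subtype.ext
    simp only []
    group
  right_inv c := by
    apply Subtype.ext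
    simp only []
    group
  map_mul' a b := by
    apply Subtype.ext
    simp only [Subgroup.coe_mul]
    group

@[simp] theorem leoAut_coe (n : G) (hn : n ∈ Subgroup.normalizer (C : Set G)) (c : ↥C) :
    ((leoAut C n hn c : ↥C) : G) = n⁻¹ * (c : G) * n := rfl

@[simp] theorem leoAut_symm_coe (n : G) (hn : n ∈ Subgroup.normalizer (C : Set G)) (c : ↥C) :
    (((leoAut C n hn).symm c : ↥C) : G) = n * (c : G) * n⁻¹ := rfl

/-- conjugate of a function on `C` (meaningful for `n` normalizing `C`) -/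
noncomputable def leoCj (n : G) (f : ↥C → ℂ) : ↥C → ℂ :=
  fun c => Cfsg.extendByZero C f (n⁻¹ * (c : G) * n)

theorem leoCj_apply (n : G) (hn : n ∈ Subgroup.normalizer (C : Set G)) (f : ↥C → ℂ) (c : ↥C) :
    leoCj C n f c = f (leoAut C n hn c) := by
  unfold leoCj
  exact h7_extendByZero_coe C f (leoAut C n hn c)

theorem leoCj_one (f : ↥C → ℂ) : leoCj C 1 f = f := by
  funext c
  unfold leoCj
  have : (1 : G)⁻¹ * (c : G) * 1 = (c : G) := by group
  rw [this, h7_extendByZero_coe]

theorem leoCj_mul (n' n : G) (hn' : n' ∈ Subgroup.normalizer (C : Set G)) (f : ↥C → ℂ) :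
    leoCj C n' (leoCj C n f) = leoCj C (n' * n) f := by
  funext c
  rw [leoCj_apply C n' hn']
  unfold leoCj
  congr 1
  rw [leoAut_coe]
  group

theorem leoCj_add (n : G) (f g : ↥C → ℂ) : leoCj C n (f + g) = leoCj C n f + leoCj C n g := by
  funext c
  unfold leoCj
  by_cases hmem : n⁻¹ * (c : G) * n ∈ C
  · simp only [Pi.add_apply]
    rw [h7_extendByZero_mem _ _ _ hmem, h7_extendByZero_mem _ _ _ hmem,
      h7_extendByZero_mem _ _ _ hmem]
    rfl
  · simp only [Pi.add_apply]
    rw [h7_extendByZero_not_mem _ _ _ hmem, h7_extendByZero_not_mem _ _ _ hmem,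
      h7_extendByZero_not_mem _ _ _ hmem, add_zero]

theorem leoCj_sub (n : G) (f g : ↥C → ℂ) : leoCj C n (f - g) = leoCj C n f - leoCj C n g := by
  funext c
  unfold leoCj
  by_cases hmem : n⁻¹ * (c : G) * n ∈ C
  · simp only [Pi.sub_apply]
    rw [h7_extendByZero_mem _ _ _ hmem, h7_extendByZero_mem _ _ _ hmem,
      h7_extendByZero_mem _ _ _ hmem]
    rfl
  · simp only [Pi.sub_apply]
    rw [h7_extendByZero_not_mem _ _ _ hmem, h7_extendByZero_not_mem _ _ _ hmem,
      h7_extendByZero_not_mem _ _ _ hmem, sub_zero]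

theorem leoCj_mul_fun (n : G) (f g : ↥C → ℂ) :
    leoCj C n (fun c => f c * g c) = fun c => leoCj C n f c * leoCj C n g c := by
  funext c
  unfold leoCj
  by_cases hmem : n⁻¹ * (c : G) * n ∈ C
  · rw [h7_extendByZero_mem _ _ _ hmem, h7_extendByZero_mem _ _ _ hmem,
      h7_extendByZero_mem _ _ _ hmem]
  · rw [h7_extendByZero_not_mem _ _ _ hmem, h7_extendByZero_not_mem _ _ _ hmem,
      h7_extendByZero_not_mem _ _ _ hmem, mul_zero]

theorem leoCj_conj (n : G) (f : ↥C → ℂ) :
    leoCj C n (fun c => conj (f c)) = fun c => conj (leoCj C n f c) := by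
  funext c
  unfold leoCj
  by_cases hmem : n⁻¹ * (c : G) * n ∈ C
  · rw [h7_extendByZero_mem _ _ _ hmem, h7_extendByZero_mem _ _ _ hmem]
  · rw [h7_extendByZero_not_mem _ _ _ hmem, h7_extendByZero_not_mem _ _ _ hmem, map_zero]

/-- the restriction of a class function of `G` is invariant -/
theorem leoCj_res (n : G) (hn : n ∈ Subgroup.normalizer (C : Set G)) (η : G → ℂ)
    (hη : Cfsg.IsClassFunction G η) :
    leoCj C n (fun c : ↥C => η (c : G)) = fun c : ↥C => η (c : G) := by
  funext c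
  rw [leoCj_apply C n hn, leoAut_coe]
  have := hη (c : G) n⁻¹
  rw [inv_inv] at this
  exact this

/-- a class function of `C` is invariant under conjugation by elements of `C` -/
theorem leoCj_of_mem (n : G) (hn : n ∈ C) (f : ↥C → ℂ) (hf : Cfsg.IsClassFunction ↥C f) :
    leoCj C n f = f := by
  funext c
  unfold leoCj
  have hmem : n⁻¹ * (c : G) * n ∈ C := C.mul_mem (C.mul_mem (C.inv_mem hn) c.2) hn
  rw [h7_extendByZero_mem _ _ _ hmem]
  have := hf c (⟨n, hn⟩⁻¹)
  rw [← this]
  congr 1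
  apply Subtype.ext
  simp

theorem leoCj_irr (n : G) (hn : n ∈ Subgroup.normalizer (C : Set G)) (θ : ↥C → ℂ)
    (hθ : Cfsg.IsIrrCharacter ↥C θ) : Cfsg.IsIrrCharacter ↥C (leoCj C n θ) := by
  obtain ⟨k, ρ, hρ, hχ⟩ := hθ
  refine ⟨k, (ρ.comp (leoAut C n hn).toMonoidHom : Representation ℂ ↥C (Fin k → ℂ)),
    Cfsg.Agent.Lib.Helper11.isIrreducible_comp_equiv ρ (leoAut C n hn), ?_⟩
  funext c
  rw [leoCj_apply C n hn, ← hχ]
  rfl

theorem leoCj_classInner [Fintype G] (n : G) (hn : n ∈ Subgroup.normalizer (C : Set G))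
    (f g : ↥C → ℂ) :
    Cfsg.classInner (leoCj C n f) (leoCj C n g) = Cfsg.classInner f g := by
  unfold Cfsg.classInner
  congr 1
  have := Equiv.sum_comp (leoAut C n hn).toEquiv (fun c => f c * conj (g c))
  rw [← this]
  apply Finset.sum_congr rfl
  intro c _
  rw [leoCj_apply C n hn, leoCj_apply C n hn]
  rfl

theorem leoCj_inj (n : G) (hn : n ∈ Subgroup.normalizer (C : Set G)) (f g : ↥C → ℂ)
    (h : leoCj C n f = leoCj C n g) : f = g := by
  have h1 := congrArg (leoCj C n⁻¹) h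
  rw [leoCj_mul C n⁻¹ n (Subgroup.inv_mem _ hn), leoCj_mul C n⁻¹ n (Subgroup.inv_mem _ hn),
    inv_mul_cancel, leoCj_one, leoCj_one] at h1
  exact h1

end LeoConj

end Cfsg.Agent.Lib.Helper29
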