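import Mathlib
import Cfsg.Agent.Lib.Helper29.LeoConj

/-!
Abstract setting for the Brauer–Leonard argument and the TI formula for induction from `C`.
-/

set_option autoImplicit false
open scoped ComplexConjugate
open Classical

namespace Cfsg.Agent.Lib.Helper29

open Cfsg.Agent.Lib.helper7

section LeoTI

variable {G : Type*} [Group G]

/-- the abstract hypotheses: `P` central in `C`, `C ⊴ N`, `π : C → P` a retraction, the elements of
`C` outside `ker π` form a TI set with normalizer `N`, and `N/C` acts semiregularly on `P`. -/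
structure LeoSetup (p : ℕ) (C N P : Subgroup G) (hPC : P ≤ C) (π : ↥C →* ↥P) : Prop where
  hCN : C ≤ N
  hN : N ≤ Subgroup.normalizer (C : Set G)
  hNP : N ≤ Subgroup.normalizer (P : Set G)
  retract : ∀ x : ↥P, π (Subgroup.inclusion hPC x) = x
  central : ∀ x ∈ P, ∀ c ∈ C, x * c = c * x
  semi : ∀ n ∈ N, n ∉ C → ∀ x ∈ P, n * x * n⁻¹ = x → x = 1
  ti : ∀ g : G, ∀ c c' : ↥C, (c' : G) = g * (c : G) * g⁻¹ → π c ≠ 1 → g ∈ N
  pgroup : IsPGroup p P
  tisemi : ∀ g : G, g ∉ N → ∀ x ∈ P, g⁻¹ * x * g ∈ N → x = 1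

variable {p : ℕ} {C N P : Subgroup G} {hPC : P ≤ C} {π : ↥C →* ↥P}

/-- TI formula: a class function of `C` vanishing on `ker π` induces to a function whose
restriction to `C` is the `N`-orbit sum. -/
theorem leo_ind_apply [Fintype G] (h : LeoSetup p C N P hPC π) (β : ↥C → ℂ)
    (hβ : ∀ c : ↥C, π c = 1 → β c = 0) (c : ↥C) :
    Cfsg.indFun C β (c : G) = (Nat.card ↥C : ℂ)⁻¹ * ∑ n : ↥N, leoCj C (n : G) β c := by
  unfold Cfsg.indFun
  congr 1
  rw [← h7_sum_subgroup N (fun x : G => leoCj C x β c)]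
  apply Finset.sum_congr rfl
  intro x _
  by_cases hx : x ∈ N
  · rw [if_pos hx]
    rfl
  · rw [if_neg hx]
    by_cases hmem : x⁻¹ * (c : G) * x ∈ C
    · rw [h7_extendByZero_mem _ _ _ hmem]
      by_cases hπ : π ⟨x⁻¹ * (c : G) * x, hmem⟩ = 1
      · exact hβ _ hπ
      · exfalso
        apply hx
        refine h.ti x ⟨x⁻¹ * (c : G) * x, hmem⟩ c ?_ hπ
        simp only []
        group
    · exact h7_extendByZero_not_mem _ _ _ hmem

end LeoTI

end Cfsg.Agent.Lib.Helper29
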