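import Mathlib
import Cfsg.Agent.Lib.Helper29.LeoTI
import Cfsg.Agent.Lib.Helper29.AbFrobDual
import Cfsg.Agent.Lib.Helper29.AbFrobLocal
import Cfsg.Agent.Lib.helper7.CharCentral
import Cfsg.Agent.Lib.helper7.CharMul
import Cfsg.Agent.Lib.helper7.CharTools
import Cfsg.Agent.Lib.Helper25.CharQuot

/-!
Central characters of irreducible characters of `C` on the central subgroup `P`, twisting by
linear characters, conjugation on `Irr(C)`.
-/

set_option autoImplicit false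
open scoped ComplexConjugate
open Classical

namespace Cfsg.Agent.Lib.Helper29

open Cfsg.Agent.Lib.helper7 Cfsg.Agent.Lib.helper2 Cfsg.Agent.Lib.Helper25

section LeoCentral

variable {G : Type*} [Group G]
variable {p : ℕ} {C N P : Subgroup G} {hPC : P ≤ C} {π : ↥C →* ↥P}

/-- conjugation on irreducible characters of `C` by elements of `N` -/
noncomputable def leoCjI (h : LeoSetup p C N P hPC π) (n : ↥N) (θ : Cfsg.IrrCharacter ↥C) :
    Cfsg.IrrCharacter ↥C :=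
  ⟨leoCj C (n : G) θ, leoCj_irr C n (h.hN n.2) θ θ.2⟩

theorem leoCjI_coe (h : LeoSetup p C N P hPC π) (n : ↥N) (θ : Cfsg.IrrCharacter ↥C) :
    ((leoCjI h n θ : Cfsg.IrrCharacter ↥C) : ↥C → ℂ) = leoCj C (n : G) θ := rfl

theorem leoCjI_one (h : LeoSetup p C N P hPC π) (θ : Cfsg.IrrCharacter ↥C) :
    leoCjI h 1 θ = θ := by
  apply Subtype.ext
  rw [leoCjI_coe]
  exact leoCj_one C _

theorem leoCjI_mul (h : LeoSetup p C N P hPC π) (n' n : ↥N) (θ : Cfsg.IrrCharacter ↥C) :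
    leoCjI h n' (leoCjI h n θ) = leoCjI h (n' * n) θ := by
  apply Subtype.ext
  rw [leoCjI_coe, leoCjI_coe, leoCjI_coe]
  exact leoCj_mul C _ _ (h.hN n'.2) _

theorem leoCjI_inv_cancel (h : LeoSetup p C N P hPC π) (n : ↥N) (θ : Cfsg.IrrCharacter ↥C) :
    leoCjI h n⁻¹ (leoCjI h n θ) = θ := by
  rw [leoCjI_mul, inv_mul_cancel, leoCjI_one]

theorem leoCjI_cancel_inv (h : LeoSetup p C N P hPC π) (n : ↥N) (θ : Cfsg.IrrCharacter ↥C) :
    leoCjI h n (leoCjI h n⁻¹ θ) = θ := by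
  rw [leoCjI_mul, mul_inv_cancel, leoCjI_one]

theorem leoCjI_one_eval (h : LeoSetup p C N P hPC π) (n : ↥N) (θ : Cfsg.IrrCharacter ↥C) :
    (leoCjI h n θ : ↥C → ℂ) 1 = (θ : ↥C → ℂ) 1 := by
  rw [leoCjI_coe, leoCj_apply C _ (h.hN n.2), map_one]

theorem leo_comm (h : LeoSetup p C N P hPC π) (a b : ↥P) : a * b = b * a := by
  apply Subtype.ext
  exact h.central a a.2 b (hPC b.2)

theorem leo_incl_center (h : LeoSetup p C N P hPC π) (x : ↥P) :
    Subgroup.inclusion hPC x ∈ Subgroup.center ↥C := by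
  rw [Subgroup.mem_center_iff]
  intro c
  apply Subtype.ext
  simp only [Subgroup.coe_mul, Subgroup.coe_inclusion]
  exact (h.central x x.2 c c.2).symm

theorem leo_central_exists (h : LeoSetup p C N P hPC π) (θ : Cfsg.IrrCharacter ↥C) :
    ∃ ω : ↥P →* ℂˣ, ∀ (x : ↥P) (c : ↥C),
      (θ : ↥C → ℂ) (Subgroup.inclusion hPC x * c) = ((ω x : ℂˣ) : ℂ) * (θ : ↥C → ℂ) c := by
  have hex : ∀ x : ↥P, ∃ w : ℂ, ∀ c : ↥C,
      (θ : ↥C → ℂ) (Subgroup.inclusion hPC x * c) = w * (θ : ↥C → ℂ) c :=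
    fun x => h7_central_char θ.2 _ (leo_incl_center h x)
  choose w hw using hex
  have h1 : (θ : ↥C → ℂ) 1 ≠ 0 := irr_one_ne_zero θ
  have hw1 : w 1 = 1 := by
    have := hw 1 1
    rw [map_one, one_mul] at this
    have h2 : (1 - w 1) * (θ : ↥C → ℂ) 1 = 0 := by rw [sub_mul, one_mul, ← this, sub_self]
    rcases mul_eq_zero.mp h2 with h3 | h3
    · exact (sub_eq_zero.mp h3).symm
    · exact absurd h3 h1
  have hwmul : ∀ x y : ↥P, w (x * y) = w x * w y := by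
    intro x y
    have e1 := hw (x * y) 1
    have e2 := hw x (Subgroup.inclusion hPC y * 1)
    have e3 := hw y 1
    rw [map_mul, mul_assoc, e2, e3] at e1
    have h2 : (w (x * y) - w x * w y) * (θ : ↥C → ℂ) 1 = 0 := by
      rw [sub_mul, ← e1]
      ring
    rcases mul_eq_zero.mp h2 with h3 | h3
    · exact sub_eq_zero.mp h3
    · exact absurd h3 h1
  let ω₀ : ↥P →* ℂ := { toFun := w, map_one' := hw1, map_mul' := hwmul }
  refine ⟨ω₀.toHomUnits, fun x c => ?_⟩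
  rw [hw x c]
  rfl

/-- the central character of `θ` on `P` -/
noncomputable def leoOm (h : LeoSetup p C N P hPC π) (θ : Cfsg.IrrCharacter ↥C) : ↥P →* ℂˣ :=
  Classical.choose (leo_central_exists h θ)

theorem leoOm_spec (h : LeoSetup p C N P hPC π) (θ : Cfsg.IrrCharacter ↥C) (x : ↥P) (c : ↥C) :
    (θ : ↥C → ℂ) (Subgroup.inclusion hPC x * c) =
      ((leoOm h θ x : ℂˣ) : ℂ) * (θ : ↥C → ℂ) c :=
  Classical.choose_spec (leo_central_exists h θ) x c

theorem leoOm_apply_one (h : LeoSetup p C N P hPC π) (θ : Cfsg.IrrCharacter ↥C) (x : ↥P) :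
    (θ : ↥C → ℂ) (Subgroup.inclusion hPC x) = ((leoOm h θ x : ℂˣ) : ℂ) * (θ : ↥C → ℂ) 1 := by
  have := leoOm_spec h θ x 1
  rwa [mul_one] at this

theorem leoOm_unique (h : LeoSetup p C N P hPC π) (θ : Cfsg.IrrCharacter ↥C) (ω' : ↥P →* ℂˣ)
    (hω' : ∀ x : ↥P, (θ : ↥C → ℂ) (Subgroup.inclusion hPC x) =
      ((ω' x : ℂˣ) : ℂ) * (θ : ↥C → ℂ) 1) : leoOm h θ = ω' := by
  ext x
  have h1 : (θ : ↥C → ℂ) 1 ≠ 0 := irr_one_ne_zero θ
  have e1 := leoOm_apply_one h θ x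
  rw [hω' x] at e1
  exact (mul_right_cancel₀ h1 e1).symm

theorem leoOm_cj (h : LeoSetup p C N P hPC π) (n : ↥N) (θ : Cfsg.IrrCharacter ↥C) :
    leoOm h (leoCjI h n θ) =
      (leoOm h θ).comp (afCj P (n : G)⁻¹ (Subgroup.inv_mem _ (h.hNP n.2))) := by
  apply leoOm_unique
  intro x
  rw [leoCjI_one_eval, leoCjI_coe, leoCj_apply C _ (h.hN n.2)]
  have : leoAut C (n : G) (h.hN n.2) (Subgroup.inclusion hPC x) =
      Subgroup.inclusion hPC (afCj P (n : G)⁻¹ (Subgroup.inv_mem _ (h.hNP n.2)) x) := by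
    apply Subtype.ext
    simp only [leoAut_coe, Subgroup.coe_inclusion, afCj_coe, inv_inv]
  rw [this, leoOm_apply_one]
  rfl

/-- the stabilizer in `N` of a `P`-nontrivial irreducible character of `C` is `C` -/
theorem leo_stab [Finite G] (h : LeoSetup p C N P hPC π) (θ : Cfsg.IrrCharacter ↥C)
    (hθ : leoOm h θ ≠ 1)
    (n : ↥N) (hfix : leoCjI h n θ = θ) : (n : G) ∈ C := by
  by_contra hnC
  apply hθ
  have hninv : (n : G)⁻¹ ∉ C := fun hc => hnC (by simpa using C.inv_mem hc)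
  refine afd_semiregular (leo_comm h) (afCj P (n : G)⁻¹ (Subgroup.inv_mem _ (h.hNP n.2))) ?_
    (leoOm h θ) ?_
  · intro w hw
    have h1 : (n : G)⁻¹ * (w : G) * ((n : G)⁻¹)⁻¹ = (w : G) := congrArg Subtype.val hw
    have := h.semi (n : G)⁻¹ (N.inv_mem n.2) hninv (w : G) w.2 h1
    exact Subtype.ext this
  · intro w
    have := leoOm_cj h n θ
    rw [hfix] at this
    have h2 := DFunLike.congr_fun this w
    rw [MonoidHom.comp_apply] at h2
    exact h2.symm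

theorem leo_stab_of_mem (h : LeoSetup p C N P hPC π) (θ : Cfsg.IrrCharacter ↥C) (n : ↥N)
    (hn : (n : G) ∈ C) : leoCjI h n θ = θ := by
  apply Subtype.ext
  rw [leoCjI_coe]
  exact leoCj_of_mem C _ hn _ (isCharacter_isClassFunction (isCharacter_of_irr θ))

/-- twist of an irreducible character by a linear character -/
noncomputable def leoTw [Finite G] (ν : ↥C →* ℂˣ) (θ : Cfsg.IrrCharacter ↥C) :
    Cfsg.IrrCharacter ↥C :=
  ⟨fun c => ((ν c : ℂˣ) : ℂ) * (θ : ↥C → ℂ) c, by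
    have : Fintype ↥C := Fintype.ofFinite _
    have hchar : Cfsg.IsCharacter ↥C (fun c => ((ν c : ℂˣ) : ℂ) * (θ : ↥C → ℂ) c) :=
      h7_isCharacter_mul (isCharacter_of_irr (linIrr ν)) (isCharacter_of_irr θ)
    apply h7_irr_of_norm_one hchar
    have := h7_irr_norm θ.2
    rw [← this]
    unfold Cfsg.classInner
    congr 1
    apply Finset.sum_congr rfl
    intro c _
    rw [map_mul, Cfsg.Agent.Lib.Helper11.linChar_conj ν c]
    have : ((ν c : ℂˣ) : ℂ) * (((ν c)⁻¹ : ℂˣ) : ℂ) = 1 := by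
      rw [← Units.val_mul, mul_inv_cancel, Units.val_one]
    calc ((ν c : ℂˣ) : ℂ) * (θ : ↥C → ℂ) c * ((((ν c)⁻¹ : ℂˣ) : ℂ) * conj ((θ : ↥C → ℂ) c))
        = (((ν c : ℂˣ) : ℂ) * (((ν c)⁻¹ : ℂˣ) : ℂ)) * ((θ : ↥C → ℂ) c * conj ((θ : ↥C → ℂ) c)) := by
          ring
      _ = (θ : ↥C → ℂ) c * conj ((θ : ↥C → ℂ) c) := by rw [this, one_mul]⟩

theorem leoTw_apply [Finite G] (ν : ↥C →* ℂˣ) (θ : Cfsg.IrrCharacter ↥C) (c : ↥C) :
    (leoTw ν θ : ↥C → ℂ) c = ((ν c : ℂˣ) : ℂ) * (θ : ↥C → ℂ) c := rfl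

theorem leoTw_one [Finite G] (θ : Cfsg.IrrCharacter ↥C) : leoTw (1 : ↥C →* ℂˣ) θ = θ := by
  apply Subtype.ext
  funext c
  rw [leoTw_apply]
  simp

theorem leoTw_mul [Finite G] (ν ν' : ↥C →* ℂˣ) (θ : Cfsg.IrrCharacter ↥C) :
    leoTw ν (leoTw ν' θ) = leoTw (ν * ν') θ := by
  apply Subtype.ext
  funext c
  rw [leoTw_apply, leoTw_apply, leoTw_apply, MonoidHom.mul_apply, Units.val_mul, mul_assoc]

theorem leoOm_tw [Finite G] (h : LeoSetup p C N P hPC π) (lam : ↥P →* ℂˣ)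
    (θ : Cfsg.IrrCharacter ↥C) :
    leoOm h (leoTw (lam.comp π) θ) = lam * leoOm h θ := by
  apply leoOm_unique
  intro x
  rw [leoTw_apply, leoTw_apply, MonoidHom.comp_apply, MonoidHom.comp_apply, h.retract, map_one,
    map_one, Units.val_one, one_mul, leoOm_apply_one h θ x, MonoidHom.mul_apply, Units.val_mul,
    mul_assoc]

theorem leo_sum_P [Finite G] (h : LeoSetup p C N P hPC π) [Fintype ↥P]
    (θ : Cfsg.IrrCharacter ↥C) :
    ∑ x : ↥P, (θ : ↥C → ℂ) (Subgroup.inclusion hPC x) =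
      if leoOm h θ = 1 then (Nat.card ↥P : ℂ) * (θ : ↥C → ℂ) 1 else 0 := by
  simp only [leoOm_apply_one h θ]
  rw [← Finset.sum_mul, afd_sum_elems]
  split_ifs with h1
  · rw [Nat.card_eq_fintype_card]
  · rw [zero_mul]

end LeoCentral

end Cfsg.Agent.Lib.Helper29
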