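import Mathlib
import Cfsg.Agent.Lib.Helper29.LeoCentral
import Cfsg.Agent.Lib.Helper25.CharAbelian

/-!
Orbit counting for the `N`-action on `Irr(C)`; multiplicities of irreducible characters of `C`
in restrictions of characters of `G`.
-/

set_option autoImplicit false
open scoped ComplexConjugate
open Classical

namespace Cfsg.Agent.Lib.Helper29

open Cfsg.Agent.Lib.helper7 Cfsg.Agent.Lib.helper2 Cfsg.Agent.Lib.Helper25

section LeoOrbit

variable {G : Type*} [Group G] [Fintype G]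
variable {p : ℕ} {C N P : Subgroup G} {hPC : P ≤ C} {π : ↥C →* ↥P}

theorem leo_fiber_card (h : LeoSetup p C N P hPC π) (θ : Cfsg.IrrCharacter ↥C)
    (hθ : leoOm h θ ≠ 1) (n₀ : ↥N) :
    (Finset.univ.filter (fun n : ↥N => leoCjI h n θ = leoCjI h n₀ θ)).card = Nat.card ↥C := by
  rw [Nat.card_eq_fintype_card, ← Finset.card_univ]
  apply Finset.card_bij (fun (n : ↥N) hn => (⟨(n₀ : G)⁻¹ * (n : G), by
    have hn' := (Finset.mem_filter.mp hn).2
    have h1 : leoCjI h (n₀⁻¹ * n) θ = θ := by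
      rw [← leoCjI_mul, hn', leoCjI_inv_cancel]
    exact leo_stab h θ hθ (n₀⁻¹ * n) h1⟩ : ↥C))
  · intro n _
    exact Finset.mem_univ _
  · intro a _ b _ hab
    have h1 : (n₀ : G)⁻¹ * (a : G) = (n₀ : G)⁻¹ * (b : G) := congrArg Subtype.val hab
    exact Subtype.ext (mul_left_cancel h1)
  · intro c _
    refine ⟨⟨(n₀ : G) * (c : G), N.mul_mem n₀.2 (h.hCN c.2)⟩, ?_, ?_⟩
    · rw [Finset.mem_filter]
      refine ⟨Finset.mem_univ _, ?_⟩
      have h1 : (⟨(n₀ : G) * (c : G), N.mul_mem n₀.2 (h.hCN c.2)⟩ : ↥N) =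
          n₀ * ⟨(c : G), h.hCN c.2⟩ := rfl
      rw [h1, ← leoCjI_mul, leo_stab_of_mem h θ ⟨(c : G), h.hCN c.2⟩ c.2]
    · apply Subtype.ext
      simp

/-- the `N`-orbit of an irreducible character of `C` -/
noncomputable def leoOrb (h : LeoSetup p C N P hPC π) (θ : Cfsg.IrrCharacter ↥C) :
    Finset (Cfsg.IrrCharacter ↥C) :=
  haveI : Fintype (Cfsg.IrrCharacter ↥C) := Fintype.ofFinite _
  Finset.univ.image (fun n : ↥N => leoCjI h n θ)

theorem mem_leoOrb (h : LeoSetup p C N P hPC π) (θ θ' : Cfsg.IrrCharacter ↥C) :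
    θ' ∈ leoOrb h θ ↔ ∃ n : ↥N, leoCjI h n θ = θ' := by
  unfold leoOrb
  simp

theorem self_mem_leoOrb (h : LeoSetup p C N P hPC π) (θ : Cfsg.IrrCharacter ↥C) :
    θ ∈ leoOrb h θ := (mem_leoOrb h θ θ).mpr ⟨1, leoCjI_one h θ⟩

theorem leoOrb_symm (h : LeoSetup p C N P hPC π) {θ θ' : Cfsg.IrrCharacter ↥C}
    (hm : θ' ∈ leoOrb h θ) : θ ∈ leoOrb h θ' := by
  obtain ⟨n, hn⟩ := (mem_leoOrb h θ θ').mp hm
  exact (mem_leoOrb h θ' θ).mpr ⟨n⁻¹, by rw [← hn, leoCjI_inv_cancel]⟩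

theorem leo_orbit_sum (h : LeoSetup p C N P hPC π) (θ : Cfsg.IrrCharacter ↥C)
    (hθ : leoOm h θ ≠ 1) {M : Type*} [AddCommMonoid M] (g : Cfsg.IrrCharacter ↥C → M) :
    ∑ n : ↥N, g (leoCjI h n θ) = ∑ θ' ∈ leoOrb h θ, Nat.card ↥C • g θ' := by
  unfold leoOrb
  rw [Finset.sum_comp g (fun n : ↥N => leoCjI h n θ)]
  apply Finset.sum_congr rfl
  intro θ' hθ'
  obtain ⟨n₀, -, hn₀⟩ := Finset.mem_image.mp hθ'
  rw [← hn₀, leo_fiber_card h θ hθ n₀]

theorem leo_orbit_card (h : LeoSetup p C N P hPC π) (θ : Cfsg.IrrCharacter ↥C)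
    (hθ : leoOm h θ ≠ 1) : (leoOrb h θ).card * Nat.card ↥C = Nat.card ↥N := by
  have := leo_orbit_sum h θ hθ (fun _ => (1 : ℕ))
  simp only [Finset.sum_const, Finset.card_univ, smul_eq_mul, mul_one] at this
  rw [Nat.card_eq_fintype_card (α := ↥N), this]

theorem leoOm_ne_one_of_mem_orb (h : LeoSetup p C N P hPC π) {θ θ' : Cfsg.IrrCharacter ↥C}
    (hθ : leoOm h θ ≠ 1) (hm : θ' ∈ leoOrb h θ) : leoOm h θ' ≠ 1 := by
  obtain ⟨n, hn⟩ := (mem_leoOrb h θ θ').mp hm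
  intro h1
  apply hθ
  rw [← hn, leoOm_cj] at h1
  ext w
  have := DFunLike.congr_fun h1
    (afCj P (n : G) (h.hNP n.2) w)
  rw [MonoidHom.comp_apply] at this
  have h2 : afCj P (n : G)⁻¹ (Subgroup.inv_mem _ (h.hNP n.2)) (afCj P (n : G) (h.hNP n.2) w) = w :=
    afCj_inv_cancel P (n : G) (h.hNP n.2) w
  rw [h2] at this
  rw [this]
  rfl

/-! ### multiplicities -/

theorem leo_m_exists (C : Subgroup G) (η : G → ℂ) (hη : Cfsg.IsCharacter G η)
    (θ : Cfsg.IrrCharacter ↥C) :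
    ∃ k : ℕ, Cfsg.classInner (fun c : ↥C => η (c : G)) (θ : ↥C → ℂ) = (k : ℂ) :=
  classInner_character_nat (isCharacter_restrict hη C) (isCharacter_of_irr θ)

/-- multiplicity of `θ ∈ Irr(C)` in the restriction of the character `η` of `G` -/
noncomputable def leoM (C : Subgroup G) (η : G → ℂ) (θ : Cfsg.IrrCharacter ↥C) : ℕ :=
  if hη : Cfsg.IsCharacter G η then Classical.choose (leo_m_exists C η hη θ) else 0

theorem leoM_spec (C : Subgroup G) (η : G → ℂ) (hη : Cfsg.IsCharacter G η)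
    (θ : Cfsg.IrrCharacter ↥C) :
    Cfsg.classInner (fun c : ↥C => η (c : G)) (θ : ↥C → ℂ) = (leoM C η θ : ℂ) := by
  unfold leoM
  rw [dif_pos hη]
  exact Classical.choose_spec (leo_m_exists C η hη θ)

theorem leoM_cj (h : LeoSetup p C N P hPC π) (η : G → ℂ) (hη : Cfsg.IsCharacter G η)
    (n : ↥N) (θ : Cfsg.IrrCharacter ↥C) : leoM C η (leoCjI h n θ) = leoM C η θ := by
  have h1 := leoM_spec C η hη (leoCjI h n θ)
  have h2 := leoM_spec C η hη θ
  have h3 : Cfsg.classInner (fun c : ↥C => η (c : G)) ((leoCjI h n θ : Cfsg.IrrCharacter ↥C) : ↥C → ℂ)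
      = Cfsg.classInner (fun c : ↥C => η (c : G)) (θ : ↥C → ℂ) := by
    rw [leoCjI_coe]
    conv_lhs => rw [← leoCj_res C (n : G) (h.hN n.2) η (isCharacter_isClassFunction hη)]
    exact leoCj_classInner C (n : G) (h.hN n.2) _ _
  rw [h1, h2] at h3
  exact_mod_cast h3

theorem leo_res_expansion (C : Subgroup G) [Fintype (Cfsg.IrrCharacter ↥C)] (η : G → ℂ)
    (hη : Cfsg.IsCharacter G η) :
    (fun c : ↥C => η (c : G)) = ∑ θ : Cfsg.IrrCharacter ↥C, (leoM C η θ : ℂ) • (θ : ↥C → ℂ) := by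
  have := classFunction_expansion (fun c : ↥C => η (c : G))
    (isCharacter_isClassFunction (isCharacter_restrict hη C))
  simp only [leoM_spec C η hη] at this
  exact this

/-- the degree of an irreducible character as a natural number -/
noncomputable def leoDeg {H : Type*} [Group H] (θ : Cfsg.IrrCharacter H) : ℕ :=
  Classical.choose (irr_one_eq_finrank θ)

theorem leoDeg_pos {H : Type*} [Group H] (θ : Cfsg.IrrCharacter H) : 0 < leoDeg θ :=
  (Classical.choose_spec (irr_one_eq_finrank θ)).1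

theorem leoDeg_spec {H : Type*} [Group H] (θ : Cfsg.IrrCharacter H) :
    (θ : H → ℂ) 1 = (leoDeg θ : ℂ) :=
  (Classical.choose_spec (irr_one_eq_finrank θ)).2

theorem leoDeg_cj (h : LeoSetup p C N P hPC π) (n : ↥N) (θ : Cfsg.IrrCharacter ↥C) :
    leoDeg (leoCjI h n θ) = leoDeg θ := by
  have h1 := leoDeg_spec (leoCjI h n θ)
  rw [leoCjI_one_eval, leoDeg_spec] at h1
  exact_mod_cast h1.symm

theorem leoDeg_tw (ν : ↥C →* ℂˣ) (θ : Cfsg.IrrCharacter ↥C) :
    leoDeg (leoTw ν θ) = leoDeg θ := by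
  have h1 := leoDeg_spec (leoTw ν θ)
  rw [leoTw_apply, map_one, Units.val_one, one_mul, leoDeg_spec] at h1
  exact_mod_cast h1.symm

/-- degree formula -/
theorem leo_degree (C : Subgroup G) [Fintype (Cfsg.IrrCharacter ↥C)] (η : G → ℂ)
    (hη : Cfsg.IsCharacter G η) :
    η 1 = ((∑ θ : Cfsg.IrrCharacter ↥C, leoM C η θ * leoDeg θ : ℕ) : ℂ) := by
  have := congrFun (leo_res_expansion C η hη) 1
  simp only [Finset.sum_apply, Pi.smul_apply, smul_eq_mul, leoDeg_spec] at this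
  rw [show η 1 = η ((1 : ↥C) : G) from rfl, this]
  push_cast
  rfl

/-- sum of a character of `G` over `P`: counts the `P`-trivial constituents -/
theorem leo_sum_P_char (h : LeoSetup p C N P hPC π) [Fintype (Cfsg.IrrCharacter ↥C)]
    [Fintype ↥P] (η : G → ℂ) (hη : Cfsg.IsCharacter G η) :
    ∑ x : ↥P, η (x : G) = (Nat.card ↥P : ℂ) *
      ((∑ θ : Cfsg.IrrCharacter ↥C, if leoOm h θ = 1 then leoM C η θ * leoDeg θ else 0 : ℕ) : ℂ) := by
  have hexp := leo_res_expansion C η hη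
  have h1 : ∀ x : ↥P, η (x : G) = ∑ θ : Cfsg.IrrCharacter ↥C,
      (leoM C η θ : ℂ) * (θ : ↥C → ℂ) (Subgroup.inclusion hPC x) := by
    intro x
    have := congrFun hexp (Subgroup.inclusion hPC x)
    simp only [Finset.sum_apply, Pi.smul_apply, smul_eq_mul] at this
    rw [← this]
    rfl
  simp only [h1]
  rw [Finset.sum_comm]
  simp only [← Finset.mul_sum, leo_sum_P h]
  push_cast
  rw [Finset.mul_sum]
  apply Finset.sum_congr rfl
  intro θ _
  split_ifs with h2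
  · rw [leoDeg_spec]
    push_cast
    ring
  · simp

end LeoOrbit

end Cfsg.Agent.Lib.Helper29
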