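import Mathlib

set_option autoImplicit false
open Classical

namespace Cfsg.Agent.Lib.Helper29

section Comb

variable {K : Type*}

/-- integer indicator -/
noncomputable def afInd (k a : K) : ℤ := if k = a then 1 else 0

theorem afInd_self (a : K) : afInd a a = 1 := by
  unfold afInd
  rw [if_pos rfl]

theorem afInd_of_ne {k a : K} (h : k ≠ a) : afInd k a = 0 := by
  unfold afInd
  rw [if_neg h]

theorem afInd_cases (k a : K) : (afInd k a = 0 ∧ k ≠ a) ∨ (afInd k a = 1 ∧ k = a) := by
  by_cases h : k = a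
  · right
    exact ⟨by rw [h, afInd_self], h⟩
  · left
    exact ⟨afInd_of_ne h, h⟩

theorem afInd_eq_one_iff (k a : K) : afInd k a = 1 ↔ k = a := by
  rcases afInd_cases k a with ⟨h1, h2⟩ | ⟨h1, h2⟩
  · rw [h1]
    constructor
    · intro h
      omega
    · intro h
      exact absurd h h2
  · exact ⟨fun _ => h2, fun _ => h1⟩

variable [Fintype K]

/-- an integer vector of square norm 2 orthogonal to a positive vector is `e_a - e_b` -/
theorem afc_norm_two (d deg : K → ℤ) (hdeg : ∀ k, 0 < deg k) (h2 : ∑ k, d k ^ 2 = 2)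
    (h0 : ∑ k, d k * deg k = 0) :
    ∃ a b : K, a ≠ b ∧ ∀ k, d k = afInd k a - afInd k b := by
  have hle : ∀ k, d k ^ 2 ≤ 2 := by
    intro k
    rw [← h2]
    exact Finset.single_le_sum (f := fun k => d k ^ 2) (fun i _ => sq_nonneg _)
      (Finset.mem_univ k)
  have hval : ∀ k, d k = -1 ∨ d k = 0 ∨ d k = 1 := by
    intro k
    have := hle k
    have h1 : -1 ≤ d k := by nlinarith
    have h2 : d k ≤ 1 := by nlinarith
    omega
  have hsq : ∀ k, d k ^ 2 = if d k ≠ 0 then 1 else 0 := by
    intro k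
    rcases hval k with h | h | h <;> simp [h]
  have hS : (Finset.univ.filter (fun k => d k ≠ 0)).card = 2 := by
    have h3 : ∑ k, d k ^ 2 = ((Finset.univ.filter (fun k => d k ≠ 0)).card : ℤ) := by
      simp only [hsq]
      rw [Finset.sum_boole]
    rw [h2] at h3
    exact_mod_cast h3.symm
  obtain ⟨a, b, hab, hS'⟩ := Finset.card_eq_two.mp hS
  have ha : d a ≠ 0 := by
    have : a ∈ Finset.univ.filter (fun k => d k ≠ 0) := by
      rw [hS']
      simp
    exact (Finset.mem_filter.mp this).2
  have hb : d b ≠ 0 := by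
    have : b ∈ Finset.univ.filter (fun k => d k ≠ 0) := by
      rw [hS']
      simp
    exact (Finset.mem_filter.mp this).2
  have hother : ∀ k, k ≠ a → k ≠ b → d k = 0 := by
    intro k hka hkb
    by_contra hk
    have : k ∈ Finset.univ.filter (fun k => d k ≠ 0) :=
      Finset.mem_filter.mpr ⟨Finset.mem_univ _, hk⟩
    rw [hS'] at this
    simp only [Finset.mem_insert, Finset.mem_singleton] at this
    rcases this with h | h
    · exact hka h
    · exact hkb h
  have hsum : ∑ k, d k * deg k = d a * deg a + d b * deg b := by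
    rw [← Finset.sum_filter_of_ne (p := fun k => d k ≠ 0), hS', Finset.sum_pair hab]
    intro k _ hk hk0
    apply hk
    rw [hk0, zero_mul]
  rw [hsum] at h0
  have hda := hdeg a
  have hdb := hdeg b
  rcases hval a with h1 | h1 | h1
  · rcases hval b with h3 | h3 | h3
    · rw [h1, h3] at h0
      linarith
    · exact absurd h3 hb
    · refine ⟨b, a, hab.symm, ?_⟩
      intro k
      by_cases hka : k = a
      · subst hka
        rw [afInd_self, afInd_of_ne hab, h1]
        ring
      · by_cases hkb : k = b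
        · subst hkb
          rw [afInd_self, afInd_of_ne hka, h3]
          ring
        · rw [afInd_of_ne hka, afInd_of_ne hkb, hother k hka hkb]
          ring
  · exact absurd h1 ha
  · rcases hval b with h3 | h3 | h3
    · refine ⟨a, b, hab, ?_⟩
      intro k
      by_cases hka : k = a
      · subst hka
        rw [afInd_self, afInd_of_ne hab, h1]
        ring
      · by_cases hkb : k = b
        · subst hkb
          rw [afInd_self, afInd_of_ne hka, h3]
          ring
        · rw [afInd_of_ne hka, afInd_of_ne hkb, hother k hka hkb]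
          ring
    · exact absurd h3 hb
    · rw [h1, h3] at h0
      linarith

omit [Fintype K] in
/-- pairwise `e_a - e_b` differences force a common base vector -/
theorem afc_structure {J : Type*} (v : J → K → ℤ)
    (hshape : ∀ j j', v j = v j' ∨
      ∃ a b : K, a ≠ b ∧ ∀ k, v j k - v j' k = afInd k a - afInd k b)
    (hne : ∃ j j', v j ≠ v j') :
    ∃ (σ : ℤ) (base : K → ℤ) (e : J → K), (σ = 1 ∨ σ = -1) ∧
      ∀ j k, v j k = base k + σ * afInd k (e j) := by
  obtain ⟨j₀, j₁, h01⟩ := hne
  have h10 : v j₁ ≠ v j₀ := fun hh => h01 hh.symm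
  obtain ⟨α, β, hαβ, hα⟩ : ∃ a b : K, a ≠ b ∧
      ∀ k, v j₁ k - v j₀ k = afInd k a - afInd k b := by
    rcases hshape j₁ j₀ with hh | hh
    · exact absurd hh h10
    · exact hh
  have hab : ∀ j, ∃ a b : K, v j ≠ v j₀ →
      (a ≠ b ∧ ∀ k, v j k - v j₀ k = afInd k a - afInd k b) := by
    intro j
    rcases hshape j j₀ with hh | ⟨a, b, h1, h2⟩
    · exact ⟨α, β, fun hc => absurd hh hc⟩
    · exact ⟨a, b, fun _ => ⟨h1, h2⟩⟩
  choose a b hab using hab
  -- pairwise analysis
  have hpair : ∀ j j', v j ≠ v j₀ → v j' ≠ v j₀ → a j = a j' ∨ b j = b j' := by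
    intro j j' hj hj'
    by_contra hcon
    push_neg at hcon
    obtain ⟨hna, hnb⟩ := hcon
    obtain ⟨hAB, hA⟩ := hab j hj
    obtain ⟨hAB', hA'⟩ := hab j' hj'
    have e1 := hA (a j)
    have e2 := hA' (a j)
    have e3 := hA (b j')
    have e4 := hA' (b j')
    rw [afInd_self, afInd_of_ne hAB] at e1
    rw [afInd_of_ne hna] at e2
    rw [afInd_of_ne (Ne.symm hnb)] at e3
    rw [afInd_of_ne (Ne.symm hAB'), afInd_self] at e4
    rcases hshape j j' with heq | ⟨x, y, hxy, hk⟩
    · rw [heq] at e1
      rcases afInd_cases (a j) (b j') with ⟨h1, _⟩ | ⟨h1, _⟩ <;> omega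
    · have e5 := hk (a j)
      have e6 := hk (b j')
      rcases afInd_cases (a j) (b j') with ⟨h1, h1'⟩ | ⟨h1, h1'⟩
      · rcases afInd_cases (b j') (a j) with ⟨h2, _⟩ | ⟨_, h2'⟩
        · rcases afInd_cases (a j) x with ⟨h3, _⟩ | ⟨_, h3'⟩
          · rcases afInd_cases (a j) y with ⟨h4, _⟩ | ⟨h4, _⟩ <;> omega
          · rcases afInd_cases (b j') x with ⟨h5, _⟩ | ⟨_, h5'⟩
            · rcases afInd_cases (b j') y with ⟨h6, _⟩ | ⟨h6, _⟩ <;> omega
            · exact h1' (h3'.trans h5'.symm)
        · exact h1' h2'.symm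
      · rcases afInd_cases (a j) x with ⟨h3, _⟩ | ⟨h3, _⟩ <;>
        rcases afInd_cases (a j) y with ⟨h4, _⟩ | ⟨h4, _⟩ <;> omega
  have hα1 := hab j₁ h10
  -- common type
  have htype : (∀ j, v j ≠ v j₀ → a j = a j₁) ∨ (∀ j, v j ≠ v j₀ → b j = b j₁) := by
    by_contra hcon
    push_neg at hcon
    obtain ⟨⟨j₂, hj₂, ha₂⟩, ⟨j₃, hj₃, hb₃⟩⟩ := hcon
    have hb₂ : b j₂ = b j₁ := by
      rcases hpair j₂ j₁ hj₂ h10 with hh | hh
      · exact absurd hh ha₂
      · exact hh
    have ha₃ : a j₃ = a j₁ := by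
      rcases hpair j₃ j₁ hj₃ h10 with hh | hh
      · exact hh
      · exact absurd hh hb₃
    rcases hpair j₂ j₃ hj₂ hj₃ with hh | hh
    · exact ha₂ (hh.trans ha₃)
    · exact hb₃ (hh.symm.trans hb₂)
  rcases htype with hA | hB
  · refine ⟨-1, fun k => v j₀ k + afInd k (a j₁),
      fun j => if v j = v j₀ then a j₁ else b j, Or.inr rfl, ?_⟩
    intro j k
    by_cases hj : v j = v j₀
    · simp only [hj, if_true]
      ring
    · simp only [hj, if_false]
      have h1 := (hab j hj).2 k
      rw [hA j hj] at h1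
      linarith
  · refine ⟨1, fun k => v j₀ k - afInd k (b j₁),
      fun j => if v j = v j₀ then b j₁ else a j, Or.inl rfl, ?_⟩
    intro j k
    by_cases hj : v j = v j₀
    · simp only [hj, if_true]
      ring
    · simp only [hj, if_false]
      have h1 := (hab j hj).2 k
      rw [hB j hj] at h1
      linarith

end Comb

end Cfsg.Agent.Lib.Helper29
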