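import Mathlib
import Cfsg.Prelude.Def_Blocks
import Cfsg.Agent.Lib.Helper29.AbFrobLocal
import Cfsg.Agent.Lib.Helper25.CharOrth
import Cfsg.Agent.Lib.Helper25.CharLinear
import Cfsg.Agent.Lib.helper7.BlockInd2
import Cfsg.Agent.Lib.helper7.SecondMain5
import Cfsg.Agent.S0907
import Cfsg.Agent.S0925
import Cfsg.Agent.S0942
import Cfsg.Agent.S0947

set_option autoImplicit false
open scoped ComplexConjugate

namespace Cfsg.Agent.Lib.Helper29

theorem af_finsum_eq {α A : Type*} [AddCommMonoid A] (s : Set α) (t : Finset α)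
    (h : ∀ a, a ∈ t ↔ a ∈ s) (f : α → A) : ∑ᶠ a ∈ s, f a = ∑ a ∈ t, f a := by
  have : s = ↑t := by
    ext a
    simp [h]
  rw [this, finsum_mem_coe_finset]

section

variable {G : Type*} [Group G] [Finite G] {p : ℕ} [Fact p.Prime]

theorem af_order_pow (P : Sylow p G) {y : G} (hy : y ∈ (P : Subgroup G)) :
    ∃ k : ℕ, orderOf y = p ^ k := by
  obtain ⟨k, hk⟩ := (IsPGroup.iff_orderOf.mp P.2) ⟨y, hy⟩
  refine ⟨k, ?_⟩
  rw [← hk, Subgroup.orderOf_mk]

theorem af_p_dvd_order (P : Sylow p G) {y : G} (hy : y ∈ (P : Subgroup G)) (hy1 : y ≠ 1) :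
    p ∣ orderOf y := by
  obtain ⟨k, hk⟩ := af_order_pow P hy
  rw [hk]
  rcases Nat.eq_zero_or_pos k with h0 | h0
  · subst h0
    rw [pow_zero, orderOf_eq_one_iff] at hk
    exact absurd hk hy1
  · exact dvd_pow_self p h0.ne'

theorem af_isPPart_self (P : Sylow p G) {y : G} (hy : y ∈ (P : Subgroup G)) :
    Cfsg.IsPPart p y y := by
  have hp : p.Prime := Fact.out
  refine ⟨1, mul_one y, Commute.one_right y, af_order_pow P hy, ?_⟩
  rw [orderOf_one]
  exact hp.one_lt.ne' ∘ Nat.dvd_one.mp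

theorem af_principal_isPBlock (M : Ideal Cfsg.AlgInt) :
    Cfsg.IsPBlock M (Cfsg.principalBlock M G) :=
  ⟨Cfsg.Agent.Lib.Helper25.trivIrr G, rfl⟩

variable {M : Ideal Cfsg.AlgInt} (hM : Cfsg.IsPModular p M) {P : Sylow p G}
  (Bf : Finset (Cfsg.IrrCharacter G)) (hBf : ∀ χ, χ ∈ Bf ↔ χ ∈ Cfsg.principalBlock M G)

include hM hBf

theorem af_bt1 (g y : G) (hg : ¬ p ∣ orderOf g) (hy : y ∈ (P : Subgroup G)) (hy1 : y ≠ 1) :
    ∑ χ ∈ Bf, (χ : G → ℂ) g * conj ((χ : G → ℂ) y) = 0 := by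
  rw [← af_finsum_eq _ Bf hBf]
  exact Cfsg.Agent.S0907.result p M hM _ (af_principal_isPBlock M) g y hg
    (af_p_dvd_order P hy hy1)

theorem af_bt2 (y y' : G) (hy : y ∈ (P : Subgroup G)) (hy' : y' ∈ (P : Subgroup G))
    (hc : ¬ IsConj y y') :
    ∑ χ ∈ Bf, (χ : G → ℂ) y * conj ((χ : G → ℂ) y') = 0 := by
  rw [← af_finsum_eq _ Bf hBf]
  have := (Cfsg.Agent.S0925.result p M hM).2 y y' y y' (af_isPPart_self P hy)
    (af_isPPart_self P hy') hc _ (af_principal_isPBlock M)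
  simp only [Cfsg.Agent.Lib.Helper25.irr_inv] at this
  exact this

theorem af_bt3 (h : AFSetup p P) (y : G) (hy : y ∈ (P : Subgroup G)) (hy1 : y ≠ 1) :
    ∑ χ ∈ Bf, (χ : G → ℂ) y * conj ((χ : G → ℂ) y) = (Nat.card (P : Subgroup G) : ℂ) := by
  have hp : p.Prime := Fact.out
  rw [← af_finsum_eq _ Bf hBf]
  obtain ⟨h1, h2, -⟩ := h.npc hy hy1
  have h3 := (Cfsg.Agent.S0947.result p M hM y (af_order_pow P hy) hy1
    (1 : Subgroup.centralizer ({y} : Set G)) (by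
      rw [orderOf_one]
      exact hp.one_lt.ne' ∘ Nat.dvd_one.mp)).2 h1
  rw [h2, ← P.card_eq_multiplicity] at h3
  have h4 := Cfsg.Agent.Lib.helper7.h7_finsum_normsq (Cfsg.principalBlock M G)
    (fun ζ : Cfsg.IrrCharacter G => (ζ : G → ℂ) y)
  simp only [Subgroup.coe_one, mul_one] at h3
  rw [← h4, h3]
  simp

theorem af_bt4 (h : AFSetup p P) (z y : G) (hz : Cfsg.IsPPart p z y) (hy : y ∈ (P : Subgroup G))
    (hy1 : y ≠ 1) (χ : Cfsg.IrrCharacter G) (hχ : χ ∈ Bf) :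
    (χ : G → ℂ) z = (χ : G → ℂ) y := by
  obtain ⟨v, hv, hcomm, hord, hreg⟩ := hz
  have hvC : v ∈ Subgroup.centralizer ({y} : Set G) := by
    rw [Subgroup.mem_centralizer_singleton_iff]
    exact hcomm.eq.symm
  have := Cfsg.Agent.S0942.result p M hM y hord v ((h.npc hy hy1).2.2 v hvC hreg) χ
    ((hBf χ).mp hχ)
  rw [hv] at this
  exact this

theorem af_bt5 (h : AFSetup p P) (y : G) (hy : y ∈ (P : Subgroup G))
    (χ : Cfsg.IrrCharacter G) (hχ : χ ∈ Bf) : (χ : G → ℂ) y ≠ 0 := by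
  intro h0
  have hχ' : Cfsg.SameBlock M (fun _ : G => (1 : ℂ)) (χ : G → ℂ) := (hBf χ).mp hχ
  have h1 := hχ' y
  unfold Cfsg.centralChar at h1
  rw [h0, mul_zero, zero_div, sub_zero, mul_one, div_one] at h1
  rw [Cfsg.Agent.Lib.helper7.h7_memLocalIdeal_natCast_iff hM] at h1
  have h2 : (Subgroup.centralizer ({y} : Set G)).index ∣ (P : Subgroup G).index :=
    Subgroup.index_dvd_of_le (h.P_le_cent hy)
  exact P.not_dvd_index (h1.trans h2)

end

end Cfsg.Agent.Lib.Helper29
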