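import Mathlib
import Cfsg.Agent.Lib.Helper29.AbFrobBlock
import Cfsg.Agent.Lib.Helper29.AbFrobDual
import Cfsg.Agent.Lib.helper2.CharNat
import Cfsg.Agent.Lib.Helper24.AFT1

set_option autoImplicit false
open scoped ComplexConjugate
open Classical

namespace Cfsg.Agent.Lib.Helper29

section Mu

variable {G : Type*} [Group G]

theorem af_mu_exists (P : Subgroup G) [Fintype ↥P] (χ : Cfsg.IrrCharacter G) (ψ : ↥P →* ℂˣ) :
    ∃ k : ℕ, (k : ℂ) =
      (Nat.card ↥P : ℂ)⁻¹ * ∑ w : ↥P, (χ : G → ℂ) w * conj ((ψ w : ℂˣ) : ℂ) := by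
  obtain ⟨k, hk⟩ := Cfsg.Agent.Lib.helper2.classInner_character_nat
    (Cfsg.Agent.Lib.helper2.isCharacter_restrict (Cfsg.Agent.Lib.helper2.isCharacter_of_irr χ) P)
    (Cfsg.Agent.Lib.helper2.isCharacter_of_irr (Cfsg.Agent.Lib.Helper24.afLin ψ))
  refine ⟨k, ?_⟩
  rw [← hk]
  rfl

/-- the multiplicity of the linear character `ψ` of `P` in the restriction of `χ` -/
noncomputable def afMu [Finite G] (P : Subgroup G) (χ : Cfsg.IrrCharacter G) (ψ : ↥P →* ℂˣ) : ℕ :=
  haveI := Fintype.ofFinite ↥P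
  Classical.choose (af_mu_exists P χ ψ)

theorem afMu_spec [Finite G] (P : Subgroup G) [Fintype ↥P] (χ : Cfsg.IrrCharacter G)
    (ψ : ↥P →* ℂˣ) :
    (afMu P χ ψ : ℂ) =
      (Nat.card ↥P : ℂ)⁻¹ * ∑ w : ↥P, (χ : G → ℂ) w * conj ((ψ w : ℂˣ) : ℂ) := by
  have := Classical.choose_spec (@af_mu_exists _ _ P (Fintype.ofFinite ↥P) χ ψ)
  unfold afMu
  rw [this]
  congr 1
  apply Finset.sum_congr
  · ext
    simp
  · intro _ _
    rfl

theorem afMu_spec' [Finite G] (P : Subgroup G) [Fintype ↥P] (χ : Cfsg.IrrCharacter G)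
    (ψ : ↥P →* ℂˣ) :
    (afMu P χ ψ : ℂ) =
      (Nat.card ↥P : ℂ)⁻¹ * ∑ w : ↥P, conj ((χ : G → ℂ) w) * ((ψ w : ℂˣ) : ℂ) := by
  have h1 := congrArg conj (afMu_spec P χ ψ)
  rw [Complex.conj_natCast, map_mul, map_inv₀, Complex.conj_natCast, map_sum] at h1
  rw [h1]
  congr 1
  apply Finset.sum_congr rfl
  intro w _
  rw [map_mul, Complex.conj_conj]

/-- Fourier inversion for the restriction of `χ` to an abelian subgroup -/
theorem afMu_inversion [Finite G] (P : Subgroup G) [Fintype ↥P] [Fintype (↥P →* ℂˣ)]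
    (hcomm : ∀ a b : ↥P, a * b = b * a) (χ : Cfsg.IrrCharacter G) (w : ↥P) :
    ∑ ψ : ↥P →* ℂˣ, (afMu P χ ψ : ℂ) * ((ψ w : ℂˣ) : ℂ) = (χ : G → ℂ) w := by
  have := afd_inversion hcomm (fun w : ↥P => (χ : G → ℂ) w) w
  simp only [← afMu_spec] at this
  exact this

end Mu

section Orth

variable {W : Type*} [Group W] [Fintype W]

theorem afd_orth (ψ η : W →* ℂˣ) :
    ∑ w : W, conj ((ψ w : ℂˣ) : ℂ) * ((η w : ℂˣ) : ℂ) =
      if η = ψ then (Fintype.card W : ℂ) else 0 := by
  have h1 : ∀ w : W, conj ((ψ w : ℂˣ) : ℂ) * ((η w : ℂˣ) : ℂ) = (((ψ⁻¹ * η) w : ℂˣ) : ℂ) := by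
    intro w
    rw [afd_conj, map_inv, MonoidHom.mul_apply, MonoidHom.inv_apply, Units.val_mul]
  simp only [h1]
  rw [afd_sum_elems]
  by_cases hh : η = ψ
  · rw [if_pos hh, if_pos]
    rw [hh]
    ext w
    rw [MonoidHom.mul_apply, MonoidHom.inv_apply, inv_mul_cancel, MonoidHom.one_apply]
  · rw [if_neg hh, if_neg]
    intro h2
    apply hh
    ext w
    have h3 := DFunLike.congr_fun h2 w
    rw [MonoidHom.mul_apply, MonoidHom.inv_apply, MonoidHom.one_apply, inv_mul_eq_one] at h3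
    rw [h3]

end Orth

section Gram

variable {G : Type*} [Group G] [Finite G] {p : ℕ} [Fact p.Prime]
  {M : Ideal Cfsg.AlgInt} (hM : Cfsg.IsPModular p M) {P : Sylow p G}
  (Bf : Finset (Cfsg.IrrCharacter G)) (hBf : ∀ χ, χ ∈ Bf ↔ χ ∈ Cfsg.principalBlock M G)
  (h : AFSetup p P)
  [Fintype ↥(P : Subgroup G)] [Fintype (↥(P : Subgroup G) →* ℂˣ)]
  [Fintype ↥(Subgroup.normalizer ((P : Subgroup G) : Set G))]
  [Fintype ↥(Subgroup.centralizer ((P : Subgroup G) : Set G))]

include hM hBf h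

theorem af_S_eval (w w' : ↥(P : Subgroup G)) :
    ∑ χ ∈ Bf, (χ : G → ℂ) w * conj ((χ : G → ℂ) w') =
      (if w = 1 ∧ w' = 1 then ∑ χ ∈ Bf, (χ : G → ℂ) 1 * conj ((χ : G → ℂ) 1) else 0) +
      (if w = 1 then 0 else
        ((Nat.card ↥(P : Subgroup G) : ℂ) /
          (Fintype.card ↥(Subgroup.centralizer ((P : Subgroup G) : Set G)) : ℂ)) *
        ((Finset.univ.filter (fun n : ↥(Subgroup.normalizer ((P : Subgroup G) : Set G)) =>
          afCj (P : Subgroup G) (n : G) n.2 w = w')).card : ℂ)) := by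
  by_cases hw : w = 1
  · subst hw
    rw [if_pos rfl, add_zero]
    by_cases hw' : w' = 1
    · subst hw'
      rw [if_pos ⟨rfl, rfl⟩]
      rfl
    · rw [if_neg (fun hh => hw' hh.2)]
      apply af_bt2 hM Bf hBf _ _ (Subgroup.one_mem _) w'.2
      rw [isConj_one_right]
      intro hh
      exact hw' (Subtype.ext hh)
  · rw [if_neg (fun hh => hw hh.1), if_neg hw, zero_add]
    have hwG : (w : G) ≠ 1 := fun hh => hw (Subtype.ext hh)
    have hC0 : (Fintype.card ↥(Subgroup.centralizer ((P : Subgroup G) : Set G)) : ℂ) ≠ 0 := by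
      exact_mod_cast Fintype.card_ne_zero
    by_cases hex : ∃ n : ↥(Subgroup.normalizer ((P : Subgroup G) : Set G)),
        afCj (P : Subgroup G) (n : G) n.2 w = w'
    · rw [h.card_conj_fiber w w' hw hex]
      obtain ⟨n, hn⟩ := hex
      have hn' : (w' : G) = (n : G) * (w : G) * (n : G)⁻¹ := (congrArg Subtype.val hn).symm
      have h1 : ∀ χ : Cfsg.IrrCharacter G, (χ : G → ℂ) w' = (χ : G → ℂ) w := by
        intro χ
        rw [hn']
        exact Cfsg.Agent.Lib.Helper25.irr_conj_invariant χ _ _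
      simp only [h1]
      rw [af_bt3 hM Bf hBf h _ w.2 hwG]
      field_simp
    · have hempty : Finset.univ.filter
          (fun n : ↥(Subgroup.normalizer ((P : Subgroup G) : Set G)) =>
          afCj (P : Subgroup G) (n : G) n.2 w = w') = ∅ := by
        rw [Finset.filter_eq_empty_iff]
        intro n _ hn
        exact hex ⟨n, hn⟩
      rw [hempty, Finset.card_empty, Nat.cast_zero, mul_zero]
      apply af_bt2 hM Bf hBf _ _ w.2 w'.2
      intro hc
      obtain ⟨n, hn, hn2⟩ := h.fusion w.2 w'.2 hc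
      apply hex
      refine ⟨⟨n, hn⟩, ?_⟩
      apply Subtype.ext
      rw [afCj_coe]
      exact hn2.symm

omit hM hBf h [Finite G] [Fintype (↥(P : Subgroup G) →* ℂˣ)]
  [Fintype ↥(Subgroup.centralizer ((P : Subgroup G) : Set G))] in
theorem af_sum_ite_ne_one (g : ↥(P : Subgroup G) → ℂ) :
    ∑ w : ↥(P : Subgroup G), (if w = 1 then 0 else g w) = ∑ w : ↥(P : Subgroup G), g w - g 1 := by
  have h1 : ∀ w : ↥(P : Subgroup G), (if w = 1 then 0 else g w) =
      g w - (if w = 1 then g w else 0) := by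
    intro w
    split_ifs <;> ring
  simp only [h1]
  rw [Finset.sum_sub_distrib, Finset.sum_ite_eq' Finset.univ (1 : ↥(P : Subgroup G)),
    if_pos (Finset.mem_univ _)]

theorem af_gram (ψ ψ' : ↥(P : Subgroup G) →* ℂˣ) :
    ∑ χ ∈ Bf, (afMu (P : Subgroup G) χ ψ : ℂ) * (afMu (P : Subgroup G) χ ψ' : ℂ) =
      (∑ χ ∈ Bf, (χ : G → ℂ) 1 * conj ((χ : G → ℂ) 1)) / (Nat.card ↥(P : Subgroup G) : ℂ) ^ 2 -
      (Fintype.card ↥(Subgroup.normalizer ((P : Subgroup G) : Set G)) : ℂ) /
        ((Nat.card ↥(P : Subgroup G) : ℂ) *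
          (Fintype.card ↥(Subgroup.centralizer ((P : Subgroup G) : Set G)) : ℂ)) +
      ((Finset.univ.filter (fun n : ↥(Subgroup.normalizer ((P : Subgroup G) : Set G)) =>
          ψ'.comp (afCj (P : Subgroup G) (n : G) n.2) = ψ)).card : ℂ) /
        (Fintype.card ↥(Subgroup.centralizer ((P : Subgroup G) : Set G)) : ℂ) := by
  set q : ℂ := (Nat.card ↥(P : Subgroup G) : ℂ) with hq
  set cC : ℂ := (Fintype.card ↥(Subgroup.centralizer ((P : Subgroup G) : Set G)) : ℂ) with hcC
  set D : ℂ := ∑ χ ∈ Bf, (χ : G → ℂ) 1 * conj ((χ : G → ℂ) 1) with hD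
  have hq0 : q ≠ 0 := by
    rw [hq]
    exact_mod_cast Nat.card_pos.ne'
  have hqF : (Fintype.card ↥(P : Subgroup G) : ℂ) = q := by
    rw [hq, Nat.card_eq_fintype_card]
  have hC0 : cC ≠ 0 := by
    rw [hcC]
    exact_mod_cast Fintype.card_ne_zero
  set F : ↥(P : Subgroup G) → ↥(P : Subgroup G) → ℂ :=
    fun w w' => conj ((ψ w : ℂˣ) : ℂ) * ((ψ' w' : ℂˣ) : ℂ) with hF
  have hF11 : F 1 1 = 1 := by
    simp [hF]
  -- step 1
  have h1 : ∀ χ : Cfsg.IrrCharacter G,
      (afMu (P : Subgroup G) χ ψ : ℂ) * (afMu (P : Subgroup G) χ ψ' : ℂ) =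
      q⁻¹ * q⁻¹ * ∑ w : ↥(P : Subgroup G), ∑ w' : ↥(P : Subgroup G),
        ((χ : G → ℂ) w * conj ((χ : G → ℂ) w')) * F w w' := by
    intro χ
    rw [afMu_spec (P : Subgroup G) χ ψ, afMu_spec' (P : Subgroup G) χ ψ']
    rw [mul_mul_mul_comm, Finset.sum_mul_sum]
    congr 1
    apply Finset.sum_congr rfl
    intro w _
    apply Finset.sum_congr rfl
    intro w' _
    simp only [hF]
    ring
  simp only [h1]
  rw [← Finset.mul_sum, Finset.sum_comm]
  have h2 : ∀ w : ↥(P : Subgroup G), ∑ χ ∈ Bf, ∑ w' : ↥(P : Subgroup G),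
        ((χ : G → ℂ) w * conj ((χ : G → ℂ) w')) * F w w' =
      ∑ w' : ↥(P : Subgroup G),
        (∑ χ ∈ Bf, (χ : G → ℂ) w * conj ((χ : G → ℂ) w')) * F w w' := by
    intro w
    rw [Finset.sum_comm]
    apply Finset.sum_congr rfl
    intro w' _
    rw [Finset.sum_mul]
  simp only [h2, af_S_eval hM Bf hBf h]
  rw [← hD]
  set c : ℂ := q / cC with hc
  -- split
  have h3 : ∀ w w' : ↥(P : Subgroup G),
      ((if w = 1 ∧ w' = 1 then D else 0) +
        (if w = 1 then 0 else c *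
          ((Finset.univ.filter (fun n : ↥(Subgroup.normalizer ((P : Subgroup G) : Set G)) =>
            afCj (P : Subgroup G) (n : G) n.2 w = w')).card : ℂ))) * F w w' =
      (if w = 1 then (if w' = 1 then D * F 1 1 else 0) else 0) +
      (if w = 1 then 0 else c *
        ∑ n : ↥(Subgroup.normalizer ((P : Subgroup G) : Set G)),
          (if afCj (P : Subgroup G) (n : G) n.2 w = w' then F w w' else 0)) := by
    intro w w'
    by_cases hw : w = 1
    · subst hw
      by_cases hw' : w' = 1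
      · subst hw'
        simp
      · simp [hw']
    · simp only [hw, false_and, if_false, zero_add]
      rw [Finset.card_filter, Nat.cast_sum, mul_assoc, Finset.sum_mul]
      congr 1
      apply Finset.sum_congr rfl
      intro n _
      split_ifs <;> simp
  simp only [h3, Finset.sum_add_distrib]
  have h4 : ∑ w : ↥(P : Subgroup G), ∑ w' : ↥(P : Subgroup G),
      (if w = 1 then (if w' = 1 then D * F 1 1 else 0) else 0) = D := by
    rw [Finset.sum_eq_single (1 : ↥(P : Subgroup G))]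
    · simp only [if_true]
      rw [Finset.sum_ite_eq' Finset.univ (1 : ↥(P : Subgroup G)),
        if_pos (Finset.mem_univ _), hF11, mul_one]
    · intro w _ hw
      simp [hw]
    · intro hh
      exact absurd (Finset.mem_univ _) hh
  have h5 : ∀ w : ↥(P : Subgroup G), ∑ w' : ↥(P : Subgroup G),
      (if w = 1 then 0 else c *
        ∑ n : ↥(Subgroup.normalizer ((P : Subgroup G) : Set G)),
          (if afCj (P : Subgroup G) (n : G) n.2 w = w' then F w w' else 0)) =
      (if w = 1 then 0 else c *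
        ∑ n : ↥(Subgroup.normalizer ((P : Subgroup G) : Set G)),
          F w (afCj (P : Subgroup G) (n : G) n.2 w)) := by
    intro w
    by_cases hw : w = 1
    · simp [hw]
    · simp only [hw, if_false]
      rw [← Finset.mul_sum, Finset.sum_comm]
      congr 1
      apply Finset.sum_congr rfl
      intro n _
      rw [Finset.sum_ite_eq Finset.univ, if_pos (Finset.mem_univ _)]
  rw [h4]
  simp only [h5]
  rw [af_sum_ite_ne_one]
  have h6 : ∑ w : ↥(P : Subgroup G), c *
      ∑ n : ↥(Subgroup.normalizer ((P : Subgroup G) : Set G)),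
        F w (afCj (P : Subgroup G) (n : G) n.2 w) =
      c * (q * ((Finset.univ.filter
        (fun n : ↥(Subgroup.normalizer ((P : Subgroup G) : Set G)) =>
          ψ'.comp (afCj (P : Subgroup G) (n : G) n.2) = ψ)).card : ℂ)) := by
    rw [← Finset.mul_sum, Finset.sum_comm]
    congr 1
    have h7 : ∀ n : ↥(Subgroup.normalizer ((P : Subgroup G) : Set G)),
        ∑ w : ↥(P : Subgroup G), F w (afCj (P : Subgroup G) (n : G) n.2 w) =
        if ψ'.comp (afCj (P : Subgroup G) (n : G) n.2) = ψ then q else 0 := by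
      intro n
      have := afd_orth ψ (ψ'.comp (afCj (P : Subgroup G) (n : G) n.2))
      rw [hqF] at this
      rw [← this]
      rfl
    simp only [h7]
    rw [Finset.card_filter, Nat.cast_sum, Finset.mul_sum]
    apply Finset.sum_congr rfl
    intro n _
    split_ifs <;> simp
  have h8 : c * ∑ n : ↥(Subgroup.normalizer ((P : Subgroup G) : Set G)),
        F 1 (afCj (P : Subgroup G) (n : G) n.2 1) =
      c * (Fintype.card ↥(Subgroup.normalizer ((P : Subgroup G) : Set G)) : ℂ) := by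
    congr 1
    simp only [map_one, hF11]
    simp
  rw [h6, h8, hc]
  field_simp
  ring

end Gram

end Cfsg.Agent.Lib.Helper29
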