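import Mathlib
import Cfsg.Agent.Lib.Helper29.AbFrobGram

set_option autoImplicit false
open scoped ComplexConjugate
open Classical

namespace Cfsg.Agent.Lib.Helper29

section Rel

variable {G : Type*} [Group G]

/-- `ψ'` is the transport of `ψ` by some element of the normalizer (the statement's form) -/
def afRel (P : Subgroup G) (ψ ψ' : ↥P →* ℂˣ) : Prop :=
  ∃ n : G, n ∈ Subgroup.normalizer (P : Set G) ∧
    ∀ w w' : ↥P, (w' : G) = n * w * n⁻¹ → ψ' w' = ψ w

theorem afRel_iff (P : Subgroup G) (ψ ψ' : ↥P →* ℂˣ) :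
    afRel P ψ ψ' ↔ ∃ n : ↥(Subgroup.normalizer (P : Set G)), ψ'.comp (afCj P (n : G) n.2) = ψ := by
  constructor
  · rintro ⟨n, hn, hh⟩
    refine ⟨⟨n, hn⟩, ?_⟩
    ext w
    rw [MonoidHom.comp_apply, hh w (afCj P n hn w) rfl]
  · rintro ⟨n, hn⟩
    refine ⟨n, n.2, ?_⟩
    intro w w' hw
    have : w' = afCj P (n : G) n.2 w := Subtype.ext hw
    rw [this, ← hn]
    rfl

theorem afCj_comp_mul (P : Subgroup G) (ψ : ↥P →* ℂˣ) (n n' : G)
    (hn : n ∈ Subgroup.normalizer (P : Set G)) (hn' : n' ∈ Subgroup.normalizer (P : Set G))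
    (hnn : n * n' ∈ Subgroup.normalizer (P : Set G)) :
    ψ.comp (afCj P (n * n') hnn) = (ψ.comp (afCj P n hn)).comp (afCj P n' hn') := by
  ext w
  simp only [MonoidHom.comp_apply]
  rw [← afCj_mul P n n' hn hn' w]

theorem afCj_comp_inv_cancel (P : Subgroup G) (ψ : ↥P →* ℂˣ) (n : G)
    (hn : n ∈ Subgroup.normalizer (P : Set G)) (hn' : n⁻¹ ∈ Subgroup.normalizer (P : Set G)) :
    (ψ.comp (afCj P n hn)).comp (afCj P n⁻¹ hn') = ψ := by
  ext w
  simp only [MonoidHom.comp_apply]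
  rw [afCj_cancel_inv P n hn w]

theorem afCj_comp_cancel_inv (P : Subgroup G) (ψ : ↥P →* ℂˣ) (n : G)
    (hn : n ∈ Subgroup.normalizer (P : Set G)) (hn' : n⁻¹ ∈ Subgroup.normalizer (P : Set G)) :
    (ψ.comp (afCj P n⁻¹ hn')).comp (afCj P n hn) = ψ := by
  ext w
  simp only [MonoidHom.comp_apply]
  rw [afCj_inv_cancel P n hn w]

theorem afCj_comp_eq_one (P : Subgroup G) (ψ : ↥P →* ℂˣ) (n : G)
    (hn : n ∈ Subgroup.normalizer (P : Set G)) (h1 : ψ.comp (afCj P n hn) = 1) : ψ = 1 := by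
  have := afCj_comp_inv_cancel P ψ n hn (Subgroup.inv_mem _ hn)
  rw [← this, h1]
  ext w
  simp

theorem afRel_refl (P : Subgroup G) (ψ : ↥P →* ℂˣ) : afRel P ψ ψ := by
  rw [afRel_iff]
  refine ⟨1, ?_⟩
  ext w
  simp only [MonoidHom.comp_apply]
  rw [show afCj P ((1 : ↥(Subgroup.normalizer (P : Set G))) : G) _ w = w from afCj_one P w]

theorem afRel_ne_one (P : Subgroup G) (ψ ψ' : ↥P →* ℂˣ) (hr : afRel P ψ ψ') (hψ : ψ ≠ 1) :
    ψ' ≠ 1 := by
  rw [afRel_iff] at hr
  obtain ⟨n, hn⟩ := hr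
  intro h1
  apply hψ
  rw [← hn, h1]
  ext w
  simp

theorem afRel_ne_one' (P : Subgroup G) (ψ ψ' : ↥P →* ℂˣ) (hr : afRel P ψ ψ') (hψ' : ψ' ≠ 1) :
    ψ ≠ 1 := by
  rw [afRel_iff] at hr
  obtain ⟨n, hn⟩ := hr
  intro h1
  apply hψ'
  rw [h1] at hn
  exact afCj_comp_eq_one P ψ' n n.2 hn

end Rel

section Count

variable {G : Type*} [Group G] [Finite G] {p : ℕ} [Fact p.Prime] {P : Sylow p G}
  (h : AFSetup p P)

include h

theorem af_stab (ψ' : ↥(P : Subgroup G) →* ℂˣ) (hψ' : ψ' ≠ 1) (n : G)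
    (hn : n ∈ Subgroup.normalizer ((P : Subgroup G) : Set G))
    (hfix : ψ'.comp (afCj (P : Subgroup G) n hn) = ψ') :
    n ∈ Subgroup.centralizer ((P : Subgroup G) : Set G) := by
  by_contra hnC
  apply hψ'
  apply afd_semiregular h.comm (afCj (P : Subgroup G) n hn) ?_ ψ' ?_
  · intro w hw
    by_contra hw1
    have hwG : (w : G) ≠ 1 := fun hh => hw1 (Subtype.ext hh)
    exact hnC ((h.conj_fix_iff w.2 hwG hn).mp (congrArg Subtype.val hw))
  · intro w
    exact DFunLike.congr_fun hfix w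

theorem af_T_eval [Fintype ↥(Subgroup.normalizer ((P : Subgroup G) : Set G))]
    [Fintype ↥(Subgroup.centralizer ((P : Subgroup G) : Set G))]
    [DecidableEq (↥(P : Subgroup G) →* ℂˣ)]
    (ψ ψ' : ↥(P : Subgroup G) →* ℂˣ) (hne : ψ ≠ 1 ∨ ψ' ≠ 1) :
    (Finset.univ.filter (fun n : ↥(Subgroup.normalizer ((P : Subgroup G) : Set G)) =>
      ψ'.comp (afCj (P : Subgroup G) (n : G) n.2) = ψ)).card =
    if afRel (P : Subgroup G) ψ ψ' then
      Fintype.card ↥(Subgroup.centralizer ((P : Subgroup G) : Set G)) else 0 := by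
  by_cases hex : afRel (P : Subgroup G) ψ ψ'
  · rw [if_pos hex]
    have hψ' : ψ' ≠ 1 := by
      rcases hne with h1 | h1
      · exact afRel_ne_one _ _ _ hex h1
      · exact h1
    rw [afRel_iff] at hex
    obtain ⟨n₀, hn₀⟩ := hex
    rw [← Finset.card_univ]
    apply Finset.card_bij (fun (n : ↥(Subgroup.normalizer ((P : Subgroup G) : Set G))) hnf =>
      (⟨(n : G) * (n₀ : G)⁻¹, by
        have hn := (Finset.mem_filter.mp hnf).2
        have hmem : (n : G) * (n₀ : G)⁻¹ ∈ Subgroup.normalizer ((P : Subgroup G) : Set G) :=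
          Subgroup.mul_mem _ n.2 (Subgroup.inv_mem _ n₀.2)
        apply af_stab h ψ' hψ' _ hmem
        rw [afCj_comp_mul (P : Subgroup G) ψ' (n : G) (n₀ : G)⁻¹ n.2
          (Subgroup.inv_mem _ n₀.2) hmem, hn, ← hn₀]
        exact afCj_comp_inv_cancel (P : Subgroup G) ψ' (n₀ : G) n₀.2 _⟩ :
        ↥(Subgroup.centralizer ((P : Subgroup G) : Set G))))
    · intro n hn
      exact Finset.mem_univ _
    · intro a ha b hb hab
      have h1 : (a : G) * (n₀ : G)⁻¹ = (b : G) * (n₀ : G)⁻¹ := congrArg Subtype.val hab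
      exact Subtype.ext (mul_right_cancel h1)
    · intro c _
      have hcN : (c : G) * (n₀ : G) ∈ Subgroup.normalizer ((P : Subgroup G) : Set G) :=
        Subgroup.mul_mem _ (h.C_le_N c.2) n₀.2
      refine ⟨⟨(c : G) * (n₀ : G), hcN⟩, ?_, ?_⟩
      · rw [Finset.mem_filter]
        refine ⟨Finset.mem_univ _, ?_⟩
        rw [afCj_comp_mul (P : Subgroup G) ψ' (c : G) (n₀ : G) (h.C_le_N c.2) n₀.2 hcN]
        have hc1 : ψ'.comp (afCj (P : Subgroup G) (c : G) (h.C_le_N c.2)) = ψ' := by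
          ext w
          simp only [MonoidHom.comp_apply]
          congr 2
          apply Subtype.ext
          rw [afCj_coe]
          have := Subgroup.mem_centralizer_iff.mp c.2 (w : G) w.2
          calc (c : G) * (w : G) * (c : G)⁻¹ = (w : G) * (c : G) * (c : G)⁻¹ := by rw [this]
            _ = (w : G) := by group
        rw [hc1, hn₀]
      · apply Subtype.ext
        simp
  · rw [if_neg hex]
    rw [Finset.card_eq_zero, Finset.filter_eq_empty_iff]
    intro n _ hn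
    apply hex
    rw [afRel_iff]
    exact ⟨n, hn⟩

end Count

end Cfsg.Agent.Lib.Helper29
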