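import Mathlib
import Cfsg.Agent.Lib.Helper29.AbFrobOrbit

set_option autoImplicit false
open scoped ComplexConjugate
open Classical

namespace Cfsg.Agent.Lib.Helper29

section Facts

variable {G : Type*} [Group G] [Finite G] {p : ℕ} [Fact p.Prime]
  {M : Ideal Cfsg.AlgInt} (hM : Cfsg.IsPModular p M) {P : Sylow p G}
  (Bf : Finset (Cfsg.IrrCharacter G)) (hBf : ∀ χ, χ ∈ Bf ↔ χ ∈ Cfsg.principalBlock M G)
  (h : AFSetup p P)
  [Fintype ↥(P : Subgroup G)] [Fintype (↥(P : Subgroup G) →* ℂˣ)]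
  [Fintype ↥(Subgroup.normalizer ((P : Subgroup G) : Set G))]
  [Fintype ↥(Subgroup.centralizer ((P : Subgroup G) : Set G))]

/-- the constant term of the Gram matrix -/
noncomputable def afC0 (P : Sylow p G) (Bf : Finset (Cfsg.IrrCharacter G))
    [Fintype ↥(Subgroup.normalizer ((P : Subgroup G) : Set G))]
    [Fintype ↥(Subgroup.centralizer ((P : Subgroup G) : Set G))] : ℂ :=
  (∑ χ ∈ Bf, (χ : G → ℂ) 1 * conj ((χ : G → ℂ) 1)) / (Nat.card ↥(P : Subgroup G) : ℂ) ^ 2 -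
      (Fintype.card ↥(Subgroup.normalizer ((P : Subgroup G) : Set G)) : ℂ) /
        ((Nat.card ↥(P : Subgroup G) : ℂ) *
          (Fintype.card ↥(Subgroup.centralizer ((P : Subgroup G) : Set G)) : ℂ))

include hM hBf h

theorem af_gram_ne (ψ ψ' : ↥(P : Subgroup G) →* ℂˣ) (hne : ψ ≠ 1 ∨ ψ' ≠ 1) :
    ∑ χ ∈ Bf, (afMu (P : Subgroup G) χ ψ : ℂ) * (afMu (P : Subgroup G) χ ψ' : ℂ) =
      afC0 P Bf + (if afRel (P : Subgroup G) ψ ψ' then 1 else 0) := by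
  rw [af_gram hM Bf hBf h ψ ψ', af_T_eval h ψ ψ' hne]
  unfold afC0
  congr 1
  have hC0 : (Fintype.card ↥(Subgroup.centralizer ((P : Subgroup G) : Set G)) : ℂ) ≠ 0 := by
    exact_mod_cast Fintype.card_ne_zero
  split_ifs
  · rw [div_self hC0]
  · simp

theorem af_gram_one (m : ℕ)
    (hCN : (Subgroup.centralizer ((P : Subgroup G) : Set G)).relIndex
      (Subgroup.normalizer ((P : Subgroup G) : Set G)) = m) :
    ∑ χ ∈ Bf, (afMu (P : Subgroup G) χ 1 : ℂ) * (afMu (P : Subgroup G) χ 1 : ℂ) =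
      afC0 P Bf + (m : ℂ) := by
  rw [af_gram hM Bf hBf h 1 1]
  unfold afC0
  congr 1
  have hC0 : (Fintype.card ↥(Subgroup.centralizer ((P : Subgroup G) : Set G)) : ℂ) ≠ 0 := by
    exact_mod_cast Fintype.card_ne_zero
  have h1 : Finset.univ.filter (fun n : ↥(Subgroup.normalizer ((P : Subgroup G) : Set G)) =>
      (1 : ↥(P : Subgroup G) →* ℂˣ).comp (afCj (P : Subgroup G) (n : G) n.2) = 1) =
      Finset.univ := by
    rw [Finset.filter_eq_self]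
    intro n _
    ext w
    simp
  rw [h1, Finset.card_univ]
  have h2 := h.card_N m hCN
  rw [Nat.card_eq_fintype_card, Nat.card_eq_fintype_card] at h2
  rw [h2]
  push_cast
  field_simp

theorem af_F1 (ψ ψ' : ↥(P : Subgroup G) →* ℂˣ) (hψ : ψ ≠ 1) (hψ' : ψ' ≠ 1) :
    ∑ χ ∈ Bf, ((afMu (P : Subgroup G) χ ψ : ℤ) - (afMu (P : Subgroup G) χ ψ' : ℤ)) ^ 2 =
      if afRel (P : Subgroup G) ψ ψ' then 0 else 2 := by
  have h1 := af_gram_ne hM Bf hBf h ψ ψ (Or.inl hψ)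
  have h2 := af_gram_ne hM Bf hBf h ψ' ψ' (Or.inl hψ')
  have h3 := af_gram_ne hM Bf hBf h ψ ψ' (Or.inl hψ)
  rw [if_pos (afRel_refl _ _)] at h1 h2
  have h4 : ((∑ χ ∈ Bf, ((afMu (P : Subgroup G) χ ψ : ℤ) -
      (afMu (P : Subgroup G) χ ψ' : ℤ)) ^ 2 : ℤ) : ℂ) =
      ((if afRel (P : Subgroup G) ψ ψ' then 0 else 2 : ℤ) : ℂ) := by
    push_cast
    have h5 : ∀ χ : Cfsg.IrrCharacter G,
        ((afMu (P : Subgroup G) χ ψ : ℂ) - (afMu (P : Subgroup G) χ ψ' : ℂ)) ^ 2 =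
        (afMu (P : Subgroup G) χ ψ : ℂ) * (afMu (P : Subgroup G) χ ψ : ℂ) +
        (afMu (P : Subgroup G) χ ψ' : ℂ) * (afMu (P : Subgroup G) χ ψ' : ℂ) -
        2 * ((afMu (P : Subgroup G) χ ψ : ℂ) * (afMu (P : Subgroup G) χ ψ' : ℂ)) := by
      intro χ
      ring
    simp only [h5, Finset.sum_sub_distrib, Finset.sum_add_distrib, ← Finset.mul_sum]
    rw [h1, h2, h3]
    split_ifs <;> ring
  exact_mod_cast h4

theorem af_F2 (ψ ψ' : ↥(P : Subgroup G) →* ℂˣ) (hψ : ψ ≠ 1) (hψ' : ψ' ≠ 1) :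
    ∑ χ ∈ Bf, (afMu (P : Subgroup G) χ 1 : ℤ) * (afMu (P : Subgroup G) χ ψ : ℤ) =
    ∑ χ ∈ Bf, (afMu (P : Subgroup G) χ 1 : ℤ) * (afMu (P : Subgroup G) χ ψ' : ℤ) := by
  have h1 := af_gram_ne hM Bf hBf h 1 ψ (Or.inr hψ)
  have h2 := af_gram_ne hM Bf hBf h 1 ψ' (Or.inr hψ')
  rw [if_neg (fun hr => afRel_ne_one' _ _ _ hr hψ rfl)] at h1
  rw [if_neg (fun hr => afRel_ne_one' _ _ _ hr hψ' rfl)] at h2
  have h4 : ((∑ χ ∈ Bf, (afMu (P : Subgroup G) χ 1 : ℤ) * (afMu (P : Subgroup G) χ ψ : ℤ) : ℤ) : ℂ)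
      = ((∑ χ ∈ Bf, (afMu (P : Subgroup G) χ 1 : ℤ) * (afMu (P : Subgroup G) χ ψ' : ℤ) : ℤ) : ℂ) := by
    push_cast
    rw [h1, h2]
  exact_mod_cast h4

theorem af_F3 (ψ ψ' : ↥(P : Subgroup G) →* ℂˣ) (hψ : ψ ≠ 1) (hψ' : ψ' ≠ 1) :
    ∑ χ ∈ Bf, (afMu (P : Subgroup G) χ ψ : ℤ) * (afMu (P : Subgroup G) χ ψ : ℤ) =
    ∑ χ ∈ Bf, (afMu (P : Subgroup G) χ ψ' : ℤ) * (afMu (P : Subgroup G) χ ψ' : ℤ) := by
  have h1 := af_gram_ne hM Bf hBf h ψ ψ (Or.inl hψ)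
  have h2 := af_gram_ne hM Bf hBf h ψ' ψ' (Or.inl hψ')
  rw [if_pos (afRel_refl _ _)] at h1 h2
  have h4 : ((∑ χ ∈ Bf, (afMu (P : Subgroup G) χ ψ : ℤ) * (afMu (P : Subgroup G) χ ψ : ℤ) : ℤ) : ℂ)
      = ((∑ χ ∈ Bf, (afMu (P : Subgroup G) χ ψ' : ℤ) * (afMu (P : Subgroup G) χ ψ' : ℤ) : ℤ) : ℂ) := by
    push_cast
    rw [h1, h2]
  exact_mod_cast h4

theorem af_F4 (m : ℕ)
    (hCN : (Subgroup.centralizer ((P : Subgroup G) : Set G)).relIndex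
      (Subgroup.normalizer ((P : Subgroup G) : Set G)) = m)
    (ψ : ↥(P : Subgroup G) →* ℂˣ) (hψ : ψ ≠ 1) :
    ∑ χ ∈ Bf, ((afMu (P : Subgroup G) χ 1 : ℤ) - (afMu (P : Subgroup G) χ ψ : ℤ)) ^ 2 =
      (m : ℤ) + 1 := by
  have h1 := af_gram_one hM Bf hBf h m hCN
  have h2 := af_gram_ne hM Bf hBf h ψ ψ (Or.inl hψ)
  have h3 := af_gram_ne hM Bf hBf h 1 ψ (Or.inr hψ)
  rw [if_pos (afRel_refl _ _)] at h2
  rw [if_neg (fun hr => afRel_ne_one' _ _ _ hr hψ rfl)] at h3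
  have h4 : ((∑ χ ∈ Bf, ((afMu (P : Subgroup G) χ 1 : ℤ) -
      (afMu (P : Subgroup G) χ ψ : ℤ)) ^ 2 : ℤ) : ℂ) = (((m : ℤ) + 1 : ℤ) : ℂ) := by
    push_cast
    have h5 : ∀ χ : Cfsg.IrrCharacter G,
        ((afMu (P : Subgroup G) χ 1 : ℂ) - (afMu (P : Subgroup G) χ ψ : ℂ)) ^ 2 =
        (afMu (P : Subgroup G) χ 1 : ℂ) * (afMu (P : Subgroup G) χ 1 : ℂ) +
        (afMu (P : Subgroup G) χ ψ : ℂ) * (afMu (P : Subgroup G) χ ψ : ℂ) -
        2 * ((afMu (P : Subgroup G) χ 1 : ℂ) * (afMu (P : Subgroup G) χ ψ : ℂ)) := by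
      intro χ
      ring
    simp only [h5, Finset.sum_sub_distrib, Finset.sum_add_distrib, ← Finset.mul_sum]
    rw [h1, h2, h3]
    ring
  exact_mod_cast h4

omit hM hBf [Fintype ↥(P : Subgroup G)] in
theorem af_orbit_card (m : ℕ)
    (hCN : (Subgroup.centralizer ((P : Subgroup G) : Set G)).relIndex
      (Subgroup.normalizer ((P : Subgroup G) : Set G)) = m)
    (ψ₀ : ↥(P : Subgroup G) →* ℂˣ) (hψ₀ : ψ₀ ≠ 1) :
    (Finset.univ.filter (fun ψ' : ↥(P : Subgroup G) →* ℂˣ =>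
      afRel (P : Subgroup G) ψ₀ ψ')).card = m := by
  have hC0 : 0 < Fintype.card ↥(Subgroup.centralizer ((P : Subgroup G) : Set G)) :=
    Fintype.card_pos
  set f : ↥(Subgroup.normalizer ((P : Subgroup G) : Set G)) → (↥(P : Subgroup G) →* ℂˣ) :=
    fun n => ψ₀.comp (afCj (P : Subgroup G) (n : G)⁻¹ (Subgroup.inv_mem _ n.2)) with hf
  have h1 := Finset.card_eq_sum_card_fiberwise (s := (Finset.univ :
    Finset ↥(Subgroup.normalizer ((P : Subgroup G) : Set G))))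
    (t := (Finset.univ : Finset (↥(P : Subgroup G) →* ℂˣ))) (f := f)
    (fun n _ => Finset.mem_univ _)
  have h2 : ∀ ψ' : ↥(P : Subgroup G) →* ℂˣ,
      (Finset.univ.filter (fun n : ↥(Subgroup.normalizer ((P : Subgroup G) : Set G)) =>
        f n = ψ')).card =
      if afRel (P : Subgroup G) ψ₀ ψ' then
        Fintype.card ↥(Subgroup.centralizer ((P : Subgroup G) : Set G)) else 0 := by
    intro ψ'
    rw [← af_T_eval h ψ₀ ψ' (Or.inl hψ₀)]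
    congr 1
    apply Finset.filter_congr
    intro n _
    simp only [hf]
    constructor
    · intro hh
      rw [← hh]
      exact afCj_comp_cancel_inv (P : Subgroup G) ψ₀ (n : G) n.2 _
    · intro hh
      rw [← hh]
      exact afCj_comp_inv_cancel (P : Subgroup G) ψ' (n : G) n.2 _
  simp only [h2] at h1
  rw [Finset.card_univ, ← Finset.sum_filter, Finset.sum_const, smul_eq_mul] at h1
  have h3 := h.card_N m hCN
  rw [Nat.card_eq_fintype_card, Nat.card_eq_fintype_card] at h3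
  rw [h3] at h1
  exact (Nat.eq_of_mul_eq_mul_right hC0 h1).symm

end Facts

end Cfsg.Agent.Lib.Helper29
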