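import Mathlib
import Cfsg.Agent.Lib.Helper29.AbFrobFacts
import Cfsg.Agent.Lib.Helper29.AbFrobComb

set_option autoImplicit false
open scoped ComplexConjugate
open Classical

namespace Cfsg.Agent.Lib.Helper29

theorem afInd_subtype {K : Type*} {s : K → Prop} (k a : {x // s x}) :
    afInd (k : K) (a : K) = afInd k a := by
  unfold afInd
  by_cases hh : k = a
  · rw [if_pos hh, if_pos (congrArg Subtype.val hh)]
  · rw [if_neg hh, if_neg (fun h2 => hh (Subtype.ext h2))]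

section Struct

variable {G : Type*} [Group G] [Finite G] {p : ℕ} [Fact p.Prime]
  {M : Ideal Cfsg.AlgInt} (hM : Cfsg.IsPModular p M) {P : Sylow p G}
  (Bf : Finset (Cfsg.IrrCharacter G)) (hBf : ∀ χ, χ ∈ Bf ↔ χ ∈ Cfsg.principalBlock M G)
  (h : AFSetup p P)
  [Fintype ↥(P : Subgroup G)] [Fintype (↥(P : Subgroup G) →* ℂˣ)]
  [Fintype ↥(Subgroup.normalizer ((P : Subgroup G) : Set G))]
  [Fintype ↥(Subgroup.centralizer ((P : Subgroup G) : Set G))]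

include hM hBf

omit [Fintype (↥(P : Subgroup G) →* ℂˣ)]
  [Fintype ↥(Subgroup.normalizer ((P : Subgroup G) : Set G))]
  [Fintype ↥(Subgroup.centralizer ((P : Subgroup G) : Set G))] in
theorem af_E (g : G) (hg : ¬ p ∣ orderOf g) (ψ : ↥(P : Subgroup G) →* ℂˣ) :
    ∑ χ ∈ Bf, (χ : G → ℂ) g * (afMu (P : Subgroup G) χ ψ : ℂ) =
      (Nat.card ↥(P : Subgroup G) : ℂ)⁻¹ *
        ∑ χ ∈ Bf, (χ : G → ℂ) g * conj ((χ : G → ℂ) 1) := by
  simp only [afMu_spec' (P : Subgroup G) _ ψ]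
  have h1 : ∀ χ : Cfsg.IrrCharacter G, (χ : G → ℂ) g * ((Nat.card ↥(P : Subgroup G) : ℂ)⁻¹ *
      ∑ w : ↥(P : Subgroup G), conj ((χ : G → ℂ) w) * ((ψ w : ℂˣ) : ℂ)) =
      (Nat.card ↥(P : Subgroup G) : ℂ)⁻¹ * ∑ w : ↥(P : Subgroup G),
        ((χ : G → ℂ) g * conj ((χ : G → ℂ) w)) * ((ψ w : ℂˣ) : ℂ) := by
    intro χ
    rw [Finset.mul_sum, Finset.mul_sum, Finset.mul_sum]
    apply Finset.sum_congr rfl
    intro w _
    ring
  simp only [h1]
  rw [← Finset.mul_sum, Finset.sum_comm]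
  congr 1
  rw [Finset.sum_eq_single (1 : ↥(P : Subgroup G))]
  · simp
  · intro w _ hw
    rw [← Finset.sum_mul, af_bt1 hM Bf hBf g w hg w.2 (fun hh => hw (Subtype.ext hh)), zero_mul]
  · intro hh
    exact absurd (Finset.mem_univ _) hh

include h

theorem af_structure (m : ℕ)
    (hCN : (Subgroup.centralizer ((P : Subgroup G) : Set G)).relIndex
      (Subgroup.normalizer ((P : Subgroup G) : Set G)) = m)
    (hm : m + 1 < Nat.card ↥(P : Subgroup G)) :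
    ∃ (σ : ℤ) (base : Cfsg.IrrCharacter G → ℤ)
      (e : (↥(P : Subgroup G) →* ℂˣ) → Cfsg.IrrCharacter G),
      (σ = 1 ∨ σ = -1) ∧ (∀ ψ, ψ ≠ 1 → e ψ ∈ Bf) ∧
      ∀ ψ, ψ ≠ 1 → ∀ χ ∈ Bf,
        (afMu (P : Subgroup G) χ ψ : ℤ) = base χ + σ * afInd χ (e ψ) := by
  have hp : p.Prime := Fact.out
  have hdegs : ∀ χ : Cfsg.IrrCharacter G, ∃ n : ℕ, 0 < n ∧ (χ : G → ℂ) 1 = (n : ℂ) :=
    fun χ => Cfsg.Agent.Lib.Helper25.irr_one_eq_finrank χ
  choose deg hdegpos hdeg using hdegs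
  have hD : ∀ ψ ψ' : ↥(P : Subgroup G) →* ℂˣ,
      ∑ χ ∈ Bf, (afMu (P : Subgroup G) χ ψ : ℤ) * (deg χ : ℤ) =
      ∑ χ ∈ Bf, (afMu (P : Subgroup G) χ ψ' : ℤ) * (deg χ : ℤ) := by
    intro ψ ψ'
    have h1 := af_E hM Bf hBf 1 (by
      rw [orderOf_one]
      exact hp.one_lt.ne' ∘ Nat.dvd_one.mp) ψ
    have h2 := af_E hM Bf hBf 1 (by
      rw [orderOf_one]
      exact hp.one_lt.ne' ∘ Nat.dvd_one.mp) ψ'
    rw [← h2] at h1
    simp only [hdeg] at h1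
    have h3 : ((∑ χ ∈ Bf, (afMu (P : Subgroup G) χ ψ : ℤ) * (deg χ : ℤ) : ℤ) : ℂ) =
        ((∑ χ ∈ Bf, (afMu (P : Subgroup G) χ ψ' : ℤ) * (deg χ : ℤ) : ℤ) : ℂ) := by
      push_cast
      simp only [mul_comm (afMu (P : Subgroup G) _ _ : ℂ)]
      exact h1
    exact_mod_cast h3
  set v : {ψ : ↥(P : Subgroup G) →* ℂˣ // ψ ≠ 1} → {χ // χ ∈ Bf} → ℤ :=
    fun ψ χ => (afMu (P : Subgroup G) χ.1 ψ.1 : ℤ) with hv
  have hzero : ∀ j j' : {ψ : ↥(P : Subgroup G) →* ℂˣ // ψ ≠ 1},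
      afRel (P : Subgroup G) j.1 j'.1 → v j = v j' := by
    intro j j' hr
    have hF1 := af_F1 hM Bf hBf h j.1 j'.1 j.2 j'.2
    rw [if_pos hr] at hF1
    funext χ
    have := (Finset.sum_eq_zero_iff_of_nonneg (fun _ _ => sq_nonneg _)).mp hF1 χ.1 χ.2
    have h2 := pow_eq_zero_iff (two_ne_zero) |>.mp this
    exact sub_eq_zero.mp h2
  have hrel : ∀ j j' : {ψ : ↥(P : Subgroup G) →* ℂˣ // ψ ≠ 1},
      v j = v j' → afRel (P : Subgroup G) j.1 j'.1 := by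
    intro j j' hjj
    by_contra hr
    have hF1 := af_F1 hM Bf hBf h j.1 j'.1 j.2 j'.2
    rw [if_neg hr] at hF1
    have h0 : ∑ χ ∈ Bf, ((afMu (P : Subgroup G) χ j.1 : ℤ) -
        (afMu (P : Subgroup G) χ j'.1 : ℤ)) ^ 2 = 0 := by
      apply Finset.sum_eq_zero
      intro χ hχ
      have := congrFun hjj ⟨χ, hχ⟩
      simp only [hv] at this
      rw [this, sub_self]
      ring
    rw [h0] at hF1
    norm_num at hF1
  have hshape : ∀ j j', v j = v j' ∨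
      ∃ a b : {χ // χ ∈ Bf}, a ≠ b ∧ ∀ k, v j k - v j' k = afInd k a - afInd k b := by
    intro j j'
    by_cases hr : afRel (P : Subgroup G) j.1 j'.1
    · left
      exact hzero j j' hr
    · right
      have hF1 := af_F1 hM Bf hBf h j.1 j'.1 j.2 j'.2
      rw [if_neg hr] at hF1
      apply afc_norm_two (fun χ : {χ // χ ∈ Bf} => v j χ - v j' χ)
        (fun χ : {χ // χ ∈ Bf} => (deg χ.1 : ℤ))
      · intro χ
        exact_mod_cast hdegpos χ.1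
      · rw [← hF1]
        exact Finset.sum_coe_sort Bf (fun χ => ((afMu (P : Subgroup G) χ j.1 : ℤ) -
          (afMu (P : Subgroup G) χ j'.1 : ℤ)) ^ 2)
      · have h1 := hD j.1 j'.1
        have h2 : ∑ χ : {χ // χ ∈ Bf}, (v j χ - v j' χ) * (deg χ.1 : ℤ) =
            ∑ χ ∈ Bf, ((afMu (P : Subgroup G) χ j.1 : ℤ) -
              (afMu (P : Subgroup G) χ j'.1 : ℤ)) * (deg χ : ℤ) :=
          Finset.sum_coe_sort Bf (fun χ => ((afMu (P : Subgroup G) χ j.1 : ℤ) -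
            (afMu (P : Subgroup G) χ j'.1 : ℤ)) * (deg χ : ℤ))
        rw [h2]
        simp only [sub_mul, Finset.sum_sub_distrib]
        rw [h1, sub_self]
  have hne : ∃ j j', v j ≠ v j' := by
    by_contra hall
    push_neg at hall
    have hcardP : Fintype.card (↥(P : Subgroup G) →* ℂˣ) = Nat.card ↥(P : Subgroup G) := by
      rw [← Nat.card_eq_fintype_card]
      exact afd_card_dual h.comm
    have h1lt : 1 < Fintype.card (↥(P : Subgroup G) →* ℂˣ) := by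
      rw [hcardP]
      omega
    obtain ⟨ψ₀, hψ₀⟩ := Fintype.exists_ne_of_one_lt_card h1lt
      (1 : ↥(P : Subgroup G) →* ℂˣ)
    have horb := af_orbit_card h m hCN ψ₀ hψ₀
    have hsub : Finset.univ.filter (fun ψ' : ↥(P : Subgroup G) →* ℂˣ => ψ' ≠ 1) ⊆
        Finset.univ.filter (fun ψ' : ↥(P : Subgroup G) →* ℂˣ =>
          afRel (P : Subgroup G) ψ₀ ψ') := by
      intro ψ' hψ'
      rw [Finset.mem_filter] at hψ' ⊢
      exact ⟨Finset.mem_univ _, hrel ⟨ψ₀, hψ₀⟩ ⟨ψ', hψ'.2⟩ (hall _ _)⟩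
    have hle := Finset.card_le_card hsub
    rw [horb, Finset.filter_ne' Finset.univ (1 : ↥(P : Subgroup G) →* ℂˣ),
      Finset.card_erase_of_mem (Finset.mem_univ _), Finset.card_univ, hcardP] at hle
    omega
  obtain ⟨σ, base, e, hσ, hve⟩ := afc_structure v hshape hne
  refine ⟨σ, fun χ => if hχ : χ ∈ Bf then base ⟨χ, hχ⟩ else 0,
    fun ψ => if hψ : ψ ≠ 1 then (e ⟨ψ, hψ⟩).1 else Cfsg.Agent.Lib.Helper25.trivIrr G,
    hσ, ?_, ?_⟩
  · intro ψ hψ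
    beta_reduce
    rw [dif_pos hψ]
    exact (e ⟨ψ, hψ⟩).2
  · intro ψ hψ χ hχ
    beta_reduce
    rw [dif_pos hχ, dif_pos hψ]
    have := hve ⟨ψ, hψ⟩ ⟨χ, hχ⟩
    rw [← afInd_subtype] at this
    exact this

end Struct

end Cfsg.Agent.Lib.Helper29
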