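import Mathlib
import Cfsg.Agent.Lib.Helper29.AbFrobStruct
import Cfsg.Agent.Lib.helper7.BlockEval

set_option autoImplicit false
open scoped ComplexConjugate
open Classical

namespace Cfsg.Agent.Lib.Helper29

section Aux

variable {K : Type*}

theorem af_sum_mul_ind_int (s : Finset K) (f : K → ℤ) (a : K) (ha : a ∈ s) :
    ∑ k ∈ s, f k * afInd k a = f a := by
  rw [Finset.sum_eq_single a]
  · rw [afInd_self, mul_one]
  · intro k _ hk
    rw [afInd_of_ne hk, mul_zero]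
  · intro hh
    exact absurd ha hh

theorem af_sum_mul_ind_cpx (s : Finset K) (f : K → ℂ) (a : K) (ha : a ∈ s) :
    ∑ k ∈ s, f k * ((afInd k a : ℤ) : ℂ) = f a := by
  rw [Finset.sum_eq_single a]
  · rw [afInd_self]
    simp
  · intro k _ hk
    rw [afInd_of_ne hk]
    simp
  · intro hh
    exact absurd ha hh

theorem afInd_mul_self (k a : K) : afInd k a * afInd k a = afInd k a := by
  rcases afInd_cases k a with ⟨h1, _⟩ | ⟨h1, _⟩ <;> rw [h1] <;> norm_num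

theorem af_sum_ite_ne {α : Type*} [Fintype α] [DecidableEq α] (a : α) (g : α → ℂ) :
    ∑ x : α, (if x = a then 0 else g x) = ∑ x : α, g x - g a := by
  have h1 : ∀ x : α, (if x = a then 0 else g x) = g x - (if x = a then g x else 0) := by
    intro x
    split_ifs <;> ring
  simp only [h1]
  rw [Finset.sum_sub_distrib, Finset.sum_ite_eq' Finset.univ a, if_pos (Finset.mem_univ _)]

end Aux

section Cons

variable {G : Type*} [Group G] [Finite G] {p : ℕ} [Fact p.Prime]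
  {M : Ideal Cfsg.AlgInt} (hM : Cfsg.IsPModular p M) {P : Sylow p G}
  (Bf : Finset (Cfsg.IrrCharacter G)) (hBf : ∀ χ, χ ∈ Bf ↔ χ ∈ Cfsg.principalBlock M G)
  (h : AFSetup p P)
  [Fintype ↥(P : Subgroup G)] [Fintype (↥(P : Subgroup G) →* ℂˣ)]
  [Fintype ↥(Subgroup.normalizer ((P : Subgroup G) : Set G))]
  [Fintype ↥(Subgroup.centralizer ((P : Subgroup G) : Set G))]
  (σ : ℤ) (base : Cfsg.IrrCharacter G → ℤ)
  (e : (↥(P : Subgroup G) →* ℂˣ) → Cfsg.IrrCharacter G)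
  (hσ : σ = 1 ∨ σ = -1) (he : ∀ ψ, ψ ≠ 1 → e ψ ∈ Bf)
  (hv : ∀ ψ, ψ ≠ 1 → ∀ χ ∈ Bf,
    (afMu (P : Subgroup G) χ ψ : ℤ) = base χ + σ * afInd χ (e ψ))

include hM hBf h hσ he hv

/-- (C1) -/
theorem af_rel_iff_e (ψ ψ' : ↥(P : Subgroup G) →* ℂˣ) (hψ : ψ ≠ 1) (hψ' : ψ' ≠ 1) :
    afRel (P : Subgroup G) ψ ψ' ↔ e ψ = e ψ' := by
  have hσ0 : σ ≠ 0 := by
    rcases hσ with h1 | h1 <;> rw [h1] <;> norm_num
  have hF1 := af_F1 hM Bf hBf h ψ ψ' hψ hψ'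
  constructor
  · intro hr
    rw [if_pos hr] at hF1
    have := (Finset.sum_eq_zero_iff_of_nonneg (fun _ _ => sq_nonneg _)).mp hF1 (e ψ) (he ψ hψ)
    have h2 := sub_eq_zero.mp (pow_eq_zero_iff (two_ne_zero) |>.mp this)
    rw [hv ψ hψ _ (he ψ hψ), hv ψ' hψ' _ (he ψ hψ), afInd_self] at h2
    have h3 : σ * (afInd (e ψ) (e ψ') - 1) = 0 := by linarith
    rcases mul_eq_zero.mp h3 with h4 | h4
    · exact absurd h4 hσ0
    · exact (afInd_eq_one_iff _ _).mp (by linarith)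
  · intro hee
    by_contra hr
    rw [if_neg hr] at hF1
    have h0 : ∑ χ ∈ Bf, ((afMu (P : Subgroup G) χ ψ : ℤ) -
        (afMu (P : Subgroup G) χ ψ' : ℤ)) ^ 2 = 0 := by
      apply Finset.sum_eq_zero
      intro χ hχ
      rw [hv ψ hψ χ hχ, hv ψ' hψ' χ hχ, hee]
      ring
    rw [h0] at hF1
    norm_num at hF1

/-- (C2) -/
theorem af_const (ψ ψ' : ↥(P : Subgroup G) →* ℂˣ) (hψ : ψ ≠ 1) (hψ' : ψ' ≠ 1) :
    (afMu (P : Subgroup G) (e ψ) 1 : ℤ) = (afMu (P : Subgroup G) (e ψ') 1 : ℤ) ∧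
    base (e ψ) = base (e ψ') := by
  have hσ0 : σ ≠ 0 := by
    rcases hσ with h1 | h1 <;> rw [h1] <;> norm_num
  constructor
  · have hF2 := af_F2 hM Bf hBf h ψ ψ' hψ hψ'
    have hx : ∀ ψ₁ : ↥(P : Subgroup G) →* ℂˣ, ψ₁ ≠ 1 →
        ∑ χ ∈ Bf, (afMu (P : Subgroup G) χ 1 : ℤ) * (afMu (P : Subgroup G) χ ψ₁ : ℤ) =
        ∑ χ ∈ Bf, (afMu (P : Subgroup G) χ 1 : ℤ) * base χ +
          σ * (afMu (P : Subgroup G) (e ψ₁) 1 : ℤ) := by
      intro ψ₁ hψ₁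
      rw [← af_sum_mul_ind_int Bf (fun χ => (afMu (P : Subgroup G) χ 1 : ℤ)) (e ψ₁) (he ψ₁ hψ₁),
        Finset.mul_sum, ← Finset.sum_add_distrib]
      apply Finset.sum_congr rfl
      intro χ hχ
      rw [hv ψ₁ hψ₁ χ hχ]
      ring
    rw [hx ψ hψ, hx ψ' hψ'] at hF2
    have h3 : σ * ((afMu (P : Subgroup G) (e ψ) 1 : ℤ) -
        (afMu (P : Subgroup G) (e ψ') 1 : ℤ)) = 0 := by linarith
    rcases mul_eq_zero.mp h3 with h4 | h4
    · exact absurd h4 hσ0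
    · linarith
  · have hF3 := af_F3 hM Bf hBf h ψ ψ' hψ hψ'
    have hx : ∀ ψ₁ : ↥(P : Subgroup G) →* ℂˣ, ψ₁ ≠ 1 →
        ∑ χ ∈ Bf, (afMu (P : Subgroup G) χ ψ₁ : ℤ) * (afMu (P : Subgroup G) χ ψ₁ : ℤ) =
        ∑ χ ∈ Bf, base χ * base χ + 2 * σ * base (e ψ₁) + σ * σ := by
      intro ψ₁ hψ₁
      have h1 := af_sum_mul_ind_int Bf base (e ψ₁) (he ψ₁ hψ₁)
      have h2 := af_sum_mul_ind_int Bf (fun _ => (1 : ℤ)) (e ψ₁) (he ψ₁ hψ₁)
      have h3 : ∑ χ ∈ Bf, (afMu (P : Subgroup G) χ ψ₁ : ℤ) * (afMu (P : Subgroup G) χ ψ₁ : ℤ) =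
          ∑ χ ∈ Bf, (base χ * base χ + 2 * σ * (base χ * afInd χ (e ψ₁)) +
            σ * σ * (1 * afInd χ (e ψ₁))) := by
        apply Finset.sum_congr rfl
        intro χ hχ
        rw [hv ψ₁ hψ₁ χ hχ]
        have := afInd_mul_self χ (e ψ₁)
        linear_combination (σ * σ) * this
      rw [h3, Finset.sum_add_distrib, Finset.sum_add_distrib, ← Finset.mul_sum, ← Finset.mul_sum,
        h1, h2]
      ring
    rw [hx ψ hψ, hx ψ' hψ'] at hF3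
    have h3 : σ * (base (e ψ) - base (e ψ')) = 0 := by linarith
    rcases mul_eq_zero.mp h3 with h4 | h4
    · exact absurd h4 hσ0
    · linarith

omit [Fintype ↥(Subgroup.normalizer ((P : Subgroup G) : Set G))]
  [Fintype ↥(Subgroup.centralizer ((P : Subgroup G) : Set G))] hM hBf hσ he in
/-- (C3) -/
theorem af_values (χ : Cfsg.IrrCharacter G) (hχ : χ ∈ Bf) (w : ↥(P : Subgroup G)) (hw : w ≠ 1) :
    (χ : G → ℂ) w = (((afMu (P : Subgroup G) χ 1 : ℤ) - base χ : ℤ) : ℂ) +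
      (σ : ℂ) * ∑ ψ : ↥(P : Subgroup G) →* ℂˣ,
        (if ψ ≠ 1 ∧ e ψ = χ then ((ψ w : ℂˣ) : ℂ) else 0) := by
  rw [← afMu_inversion (P : Subgroup G) h.comm χ w]
  have h1 : ∀ ψ : ↥(P : Subgroup G) →* ℂˣ,
      (afMu (P : Subgroup G) χ ψ : ℂ) * ((ψ w : ℂˣ) : ℂ) =
      (if ψ = 1 then (afMu (P : Subgroup G) χ 1 : ℂ) else 0) +
      ((base χ : ℂ) * (if ψ = 1 then 0 else ((ψ w : ℂˣ) : ℂ)) +
       (σ : ℂ) * (if ψ ≠ 1 ∧ e ψ = χ then ((ψ w : ℂˣ) : ℂ) else 0)) := by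
    intro ψ
    by_cases hψ : ψ = 1
    · subst hψ
      simp
    · have h2 := hv ψ hψ χ hχ
      have h3 : (afMu (P : Subgroup G) χ ψ : ℂ) = (base χ : ℂ) + (σ : ℂ) * ((afInd χ (e ψ) : ℤ) : ℂ) := by
        exact_mod_cast h2
      rw [h3, if_neg hψ, if_neg hψ]
      rcases afInd_cases χ (e ψ) with ⟨h4, h5⟩ | ⟨h4, h5⟩
      · rw [h4, if_neg (fun hh => h5 hh.2.symm)]
        push_cast
        ring
      · rw [h4, if_pos ⟨hψ, h5.symm⟩]
        push_cast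
        ring
  simp only [h1]
  rw [Finset.sum_add_distrib, Finset.sum_add_distrib, ← Finset.mul_sum, ← Finset.mul_sum,
    Finset.sum_ite_eq' Finset.univ (1 : ↥(P : Subgroup G) →* ℂˣ), if_pos (Finset.mem_univ _),
    af_sum_ite_ne, afd_sum_chars h.comm w, if_neg hw]
  push_cast
  simp only [MonoidHom.one_apply, Units.val_one]
  ring

/-- (C4) -/
theorem af_identity (m : ℕ)
    (hCN : (Subgroup.centralizer ((P : Subgroup G) : Set G)).relIndex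
      (Subgroup.normalizer ((P : Subgroup G) : Set G)) = m)
    (ψ : ↥(P : Subgroup G) →* ℂˣ) (hψ : ψ ≠ 1) :
    ∑ χ ∈ Bf, (((afMu (P : Subgroup G) χ 1 : ℤ) - base χ) - σ * afInd χ (e ψ)) ^ 2 =
      (m : ℤ) + 1 := by
  rw [← af_F4 hM Bf hBf h m hCN ψ hψ]
  apply Finset.sum_congr rfl
  intro χ hχ
  rw [hv ψ hψ χ hχ]
  ring

omit hσ he hv in
theorem af_exists_nonrel (m : ℕ)
    (hCN : (Subgroup.centralizer ((P : Subgroup G) : Set G)).relIndex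
      (Subgroup.normalizer ((P : Subgroup G) : Set G)) = m)
    (hm : m + 1 < Nat.card ↥(P : Subgroup G))
    (ψ₀ : ↥(P : Subgroup G) →* ℂˣ) (hψ₀ : ψ₀ ≠ 1) :
    ∃ ψ' : ↥(P : Subgroup G) →* ℂˣ, ψ' ≠ 1 ∧ ¬ afRel (P : Subgroup G) ψ₀ ψ' := by
  by_contra hall
  push_neg at hall
  have hcardP : Fintype.card (↥(P : Subgroup G) →* ℂˣ) = Nat.card ↥(P : Subgroup G) := by
    rw [← Nat.card_eq_fintype_card]
    exact afd_card_dual h.comm
  have horb := af_orbit_card h m hCN ψ₀ hψ₀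
  have hsub : Finset.univ.filter (fun ψ' : ↥(P : Subgroup G) →* ℂˣ => ψ' ≠ 1) ⊆
      Finset.univ.filter (fun ψ' : ↥(P : Subgroup G) →* ℂˣ =>
        afRel (P : Subgroup G) ψ₀ ψ') := by
    intro ψ' hψ'
    rw [Finset.mem_filter] at hψ' ⊢
    exact ⟨Finset.mem_univ _, hall ψ' hψ'.2⟩
  have hle := Finset.card_le_card hsub
  rw [horb, Finset.filter_ne' Finset.univ (1 : ↥(P : Subgroup G) →* ℂˣ),
    Finset.card_erase_of_mem (Finset.mem_univ _), Finset.card_univ, hcardP] at hle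
  omega

end Cons

end Cfsg.Agent.Lib.Helper29
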