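import Mathlib
import Cfsg.Agent.Lib.Helper29.AbFrobCons

set_option autoImplicit false
open scoped ComplexConjugate
open Classical

namespace Cfsg.Agent.Lib.Helper29

section Cons2

variable {G : Type*} [Group G] [Finite G] {p : ℕ} [Fact p.Prime]
  {M : Ideal Cfsg.AlgInt} (hM : Cfsg.IsPModular p M) {P : Sylow p G}
  (Bf : Finset (Cfsg.IrrCharacter G)) (hBf : ∀ χ, χ ∈ Bf ↔ χ ∈ Cfsg.principalBlock M G)
  (h : AFSetup p P)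
  [Fintype ↥(P : Subgroup G)] [Fintype (↥(P : Subgroup G) →* ℂˣ)]
  [Fintype ↥(Subgroup.normalizer ((P : Subgroup G) : Set G))]
  [Fintype ↥(Subgroup.centralizer ((P : Subgroup G) : Set G))]
  (σ : ℤ) (base : Cfsg.IrrCharacter G → ℤ)
  (e : (↥(P : Subgroup G) →* ℂˣ) → Cfsg.IrrCharacter G)
  (hσ : σ = 1 ∨ σ = -1) (he : ∀ ψ, ψ ≠ 1 → e ψ ∈ Bf)
  (hv : ∀ ψ, ψ ≠ 1 → ∀ χ ∈ Bf,
    (afMu (P : Subgroup G) χ ψ : ℤ) = base χ + σ * afInd χ (e ψ))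

/-- the exceptional family -/
noncomputable def afY (e : (↥(P : Subgroup G) →* ℂˣ) → Cfsg.IrrCharacter G) :
    Finset (Cfsg.IrrCharacter G) :=
  (Finset.univ.filter (fun ψ : ↥(P : Subgroup G) →* ℂˣ => ψ ≠ 1)).image e

omit [Finite G] [Fintype ↥(Subgroup.normalizer ((P : Subgroup G) : Set G))]
  [Fintype ↥(Subgroup.centralizer ((P : Subgroup G) : Set G))] in
theorem mem_afY (η : Cfsg.IrrCharacter G) :
    η ∈ afY e ↔ ∃ ψ : ↥(P : Subgroup G) →* ℂˣ, ψ ≠ 1 ∧ e ψ = η := by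
  unfold afY
  rw [Finset.mem_image]
  constructor
  · rintro ⟨ψ, h1, h2⟩
    exact ⟨ψ, (Finset.mem_filter.mp h1).2, h2⟩
  · rintro ⟨ψ, h1, h2⟩
    exact ⟨ψ, Finset.mem_filter.mpr ⟨Finset.mem_univ _, h1⟩, h2⟩

omit [Fintype (↥(P : Subgroup G) →* ℂˣ)]
  [Fintype ↥(Subgroup.normalizer ((P : Subgroup G) : Set G))]
  [Fintype ↥(Subgroup.centralizer ((P : Subgroup G) : Set G))] in
theorem afMu_triv (ψ : ↥(P : Subgroup G) →* ℂˣ) (hψ : ψ ≠ 1) :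
    afMu (P : Subgroup G) (Cfsg.Agent.Lib.Helper25.trivIrr G) ψ = 0 := by
  have h1 := afMu_spec (P : Subgroup G) (Cfsg.Agent.Lib.Helper25.trivIrr G) ψ
  have h2 := afd_orth ψ (1 : ↥(P : Subgroup G) →* ℂˣ)
  rw [if_neg (fun hh => hψ hh.symm)] at h2
  have h3 : ∑ w : ↥(P : Subgroup G),
      (Cfsg.Agent.Lib.Helper25.trivIrr G : G → ℂ) w * conj ((ψ w : ℂˣ) : ℂ) = 0 := by
    rw [← h2]
    apply Finset.sum_congr rfl
    intro w _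
    simp [mul_comm]
  rw [h3, mul_zero] at h1
  exact_mod_cast h1

include hM hBf h hσ he hv

/-- (C5) -/
theorem af_card_Y (m : ℕ)
    (hCN : (Subgroup.centralizer ((P : Subgroup G) : Set G)).relIndex
      (Subgroup.normalizer ((P : Subgroup G) : Set G)) = m) :
    (afY e).card * m = Nat.card ↥(P : Subgroup G) - 1 := by
  have hcardP : Fintype.card (↥(P : Subgroup G) →* ℂˣ) = Nat.card ↥(P : Subgroup G) := by
    rw [← Nat.card_eq_fintype_card]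
    exact afd_card_dual h.comm
  have h1 := Finset.card_eq_sum_card_image e
    (Finset.univ.filter (fun ψ : ↥(P : Subgroup G) →* ℂˣ => ψ ≠ 1))
  rw [Finset.filter_ne' Finset.univ (1 : ↥(P : Subgroup G) →* ℂˣ),
    Finset.card_erase_of_mem (Finset.mem_univ _), Finset.card_univ, hcardP,
    ← Finset.filter_ne' Finset.univ (1 : ↥(P : Subgroup G) →* ℂˣ)] at h1
  rw [h1]
  have h2 : ∀ η ∈ (Finset.univ.filter (fun ψ : ↥(P : Subgroup G) →* ℂˣ => ψ ≠ 1)).image e,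
      ((Finset.univ.filter (fun ψ : ↥(P : Subgroup G) →* ℂˣ => ψ ≠ 1)).filter
        (fun ψ => e ψ = η)).card = m := by
    intro η hη
    obtain ⟨ψ₀, hψ₀, rfl⟩ := (mem_afY e η).mp hη
    rw [← af_orbit_card h m hCN ψ₀ hψ₀]
    congr 1
    ext ψ
    simp only [Finset.mem_filter, Finset.mem_univ, true_and]
    constructor
    · rintro ⟨h3, h4⟩
      exact (af_rel_iff_e hM Bf hBf h σ base e hσ he hv ψ₀ ψ hψ₀ h3).mpr h4.symm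
    · intro hr
      have h3 := afRel_ne_one _ _ _ hr hψ₀
      exact ⟨h3, ((af_rel_iff_e hM Bf hBf h σ base e hσ he hv ψ₀ ψ hψ₀ h3).mp hr).symm⟩
  rw [Finset.sum_congr rfl h2, Finset.sum_const, smul_eq_mul]
  rfl

/-- (C6) -/
theorem af_triv_not_mem (m : ℕ)
    (hCN : (Subgroup.centralizer ((P : Subgroup G) : Set G)).relIndex
      (Subgroup.normalizer ((P : Subgroup G) : Set G)) = m)
    (hm : m + 1 < Nat.card ↥(P : Subgroup G)) :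
    Cfsg.Agent.Lib.Helper25.trivIrr G ∉ afY e := by
  intro hmem
  obtain ⟨ψ₀, hψ₀, hτ⟩ := (mem_afY e _).mp hmem
  have hτB : Cfsg.Agent.Lib.Helper25.trivIrr G ∈ Bf := by
    rw [← hτ]
    exact he ψ₀ hψ₀
  obtain ⟨ψ', hψ', hnr⟩ := af_exists_nonrel hM Bf hBf h m hCN hm ψ₀ hψ₀
  have hne : e ψ₀ ≠ e ψ' := fun hh =>
    hnr ((af_rel_iff_e hM Bf hBf h σ base e hσ he hv ψ₀ ψ' hψ₀ hψ').mpr hh)
  have h1 := hv ψ₀ hψ₀ _ hτB
  have h2 := hv ψ' hψ' _ hτB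
  rw [afMu_triv ψ₀ hψ₀, ← hτ, afInd_self] at h1
  rw [afMu_triv ψ' hψ', ← hτ, afInd_of_ne hne] at h2
  rcases hσ with h3 | h3 <;> rw [h3] at h1 h2 <;> simp at h1 h2 <;> omega

/-- (C8) -/
theorem af_Y_regular (ψ ψ' : ↥(P : Subgroup G) →* ℂˣ) (hψ : ψ ≠ 1) (hψ' : ψ' ≠ 1)
    (g : G) (hg : ¬ p ∣ orderOf g) : (e ψ : G → ℂ) g = (e ψ' : G → ℂ) g := by
  have hσ0 : (σ : ℂ) ≠ 0 := by
    rcases hσ with h1 | h1 <;> rw [h1] <;> norm_num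
  have h1 := af_E hM Bf hBf g hg ψ
  have h2 := af_E hM Bf hBf g hg ψ'
  rw [← h2] at h1
  have hx : ∀ ψ₁ : ↥(P : Subgroup G) →* ℂˣ, ψ₁ ≠ 1 →
      ∑ χ ∈ Bf, (χ : G → ℂ) g * (afMu (P : Subgroup G) χ ψ₁ : ℂ) =
      ∑ χ ∈ Bf, (χ : G → ℂ) g * (base χ : ℂ) + (σ : ℂ) * (e ψ₁ : G → ℂ) g := by
    intro ψ₁ hψ₁
    rw [← af_sum_mul_ind_cpx Bf (fun χ => (χ : G → ℂ) g) (e ψ₁) (he ψ₁ hψ₁),
      Finset.mul_sum, ← Finset.sum_add_distrib]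
    apply Finset.sum_congr rfl
    intro χ hχ
    have h3 : (afMu (P : Subgroup G) χ ψ₁ : ℂ) =
        (base χ : ℂ) + (σ : ℂ) * ((afInd χ (e ψ₁) : ℤ) : ℂ) := by
      exact_mod_cast hv ψ₁ hψ₁ χ hχ
    rw [h3]
    ring
  rw [hx ψ hψ, hx ψ' hψ'] at h1
  have h4 : (σ : ℂ) * ((e ψ : G → ℂ) g - (e ψ' : G → ℂ) g) = 0 := by linear_combination h1
  rcases mul_eq_zero.mp h4 with h5 | h5
  · exact absurd h5 hσ0
  · exact sub_eq_zero.mp h5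

/-- (C9) -/
theorem af_X_regular (ψ : ↥(P : Subgroup G) →* ℂˣ) (hψ : ψ ≠ 1)
    (g : G) (hg : ¬ p ∣ orderOf g) :
    ∑ χ ∈ Bf, (((afMu (P : Subgroup G) χ 1 : ℤ) - base χ : ℤ) : ℂ) * (χ : G → ℂ) g =
      (σ : ℂ) * (e ψ : G → ℂ) g := by
  have h1 := af_E hM Bf hBf g hg ψ
  have h2 := af_E hM Bf hBf g hg (1 : ↥(P : Subgroup G) →* ℂˣ)
  rw [← h2] at h1
  have hx : ∑ χ ∈ Bf, (χ : G → ℂ) g * (afMu (P : Subgroup G) χ ψ : ℂ) =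
      ∑ χ ∈ Bf, (χ : G → ℂ) g * (base χ : ℂ) + (σ : ℂ) * (e ψ : G → ℂ) g := by
    rw [← af_sum_mul_ind_cpx Bf (fun χ => (χ : G → ℂ) g) (e ψ) (he ψ hψ),
      Finset.mul_sum, ← Finset.sum_add_distrib]
    apply Finset.sum_congr rfl
    intro χ hχ
    have h3 : (afMu (P : Subgroup G) χ ψ : ℂ) =
        (base χ : ℂ) + (σ : ℂ) * ((afInd χ (e ψ) : ℤ) : ℂ) := by
      exact_mod_cast hv ψ hψ χ hχ
    rw [h3]
    ring
  rw [hx] at h1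
  have h5 : ∑ χ ∈ Bf, (((afMu (P : Subgroup G) χ 1 : ℤ) - base χ : ℤ) : ℂ) * (χ : G → ℂ) g =
      ∑ χ ∈ Bf, (χ : G → ℂ) g * (afMu (P : Subgroup G) χ 1 : ℂ) -
      ∑ χ ∈ Bf, (χ : G → ℂ) g * (base χ : ℂ) := by
    rw [← Finset.sum_sub_distrib]
    apply Finset.sum_congr rfl
    intro χ _
    push_cast
    ring
  rw [h5]
  linear_combination -h1

omit [Fintype ↥(Subgroup.normalizer ((P : Subgroup G) : Set G))]
  [Fintype ↥(Subgroup.centralizer ((P : Subgroup G) : Set G))] hM hBf hσ he in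
/-- (C3X) -/
theorem af_values_X (χ : Cfsg.IrrCharacter G) (hχ : χ ∈ Bf) (hχY : χ ∉ afY e)
    (w : ↥(P : Subgroup G)) (hw : w ≠ 1) :
    (χ : G → ℂ) w = (((afMu (P : Subgroup G) χ 1 : ℤ) - base χ : ℤ) : ℂ) := by
  rw [af_values Bf h σ base e hv χ hχ w hw, Finset.sum_eq_zero, mul_zero, add_zero]
  intro ψ _
  rw [if_neg]
  rintro ⟨h1, h2⟩
  exact hχY ((mem_afY e χ).mpr ⟨ψ, h1, h2⟩)

/-- (C3Y) -/
theorem af_values_Y (ψ₀ : ↥(P : Subgroup G) →* ℂˣ) (hψ₀ : ψ₀ ≠ 1)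
    (w : ↥(P : Subgroup G)) (hw : w ≠ 1) :
    (e ψ₀ : G → ℂ) w = (((afMu (P : Subgroup G) (e ψ₀) 1 : ℤ) - base (e ψ₀) : ℤ) : ℂ) +
      (σ : ℂ) * ∑ᶠ ψ' ∈ {ψ' : ↥(P : Subgroup G) →* ℂˣ | afRel (P : Subgroup G) ψ₀ ψ'},
        ((ψ' w : ℂˣ) : ℂ) := by
  rw [af_values Bf h σ base e hv (e ψ₀) (he ψ₀ hψ₀) w hw]
  congr 2
  rw [af_finsum_eq _ (Finset.univ.filter (fun ψ' : ↥(P : Subgroup G) →* ℂˣ =>
    afRel (P : Subgroup G) ψ₀ ψ')) (by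
      intro ψ'
      simp), Finset.sum_filter]
  apply Finset.sum_congr rfl
  intro ψ _
  by_cases hr : afRel (P : Subgroup G) ψ₀ ψ
  · have h3 := afRel_ne_one _ _ _ hr hψ₀
    rw [if_pos hr, if_pos ⟨h3, ((af_rel_iff_e hM Bf hBf h σ base e hσ he hv ψ₀ ψ hψ₀ h3).mp hr).symm⟩]
  · rw [if_neg hr, if_neg]
    rintro ⟨h3, h4⟩
    exact hr ((af_rel_iff_e hM Bf hBf h σ base e hσ he hv ψ₀ ψ hψ₀ h3).mpr h4.symm)

end Cons2

end Cfsg.Agent.Lib.Helper29
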