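import Mathlib
import Cfsg.Agent.Lib.Helper29.LeoOrbit
import Cfsg.Agent.Lib.Helper29.AbFrobComb
import Cfsg.Agent.Lib.Helper11.IndTrans

/-!
Induction of differences of two members of a family `θ, θ·(λ∘π)`.
-/

set_option autoImplicit false
open scoped ComplexConjugate
open Classical

namespace Cfsg.Agent.Lib.Helper29

open Cfsg.Agent.Lib.helper7 Cfsg.Agent.Lib.helper2

section LeoNorm

variable {G : Type*} [Group G] [Fintype G]
variable {p : ℕ} {C N P : Subgroup G} {hPC : P ≤ C} {π : ↥C →* ↥P}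

/-- the difference function `θ·(λ∘π) - θ` -/
noncomputable def leoBeta (lam : ↥P →* ℂˣ) (θ : Cfsg.IrrCharacter ↥C) : ↥C → ℂ :=
  (leoTw (lam.comp π) θ : ↥C → ℂ) - (θ : ↥C → ℂ)

theorem leoBeta_vanish (lam : ↥P →* ℂˣ) (θ : Cfsg.IrrCharacter ↥C) (c : ↥C) (hc : π c = 1) :
    leoBeta (π := π) lam θ c = 0 := by
  unfold leoBeta
  rw [Pi.sub_apply, leoTw_apply, MonoidHom.comp_apply, hc, map_one, Units.val_one, one_mul,
    sub_self]

theorem leoBeta_one (lam : ↥P →* ℂˣ) (θ : Cfsg.IrrCharacter ↥C) :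
    leoBeta (π := π) lam θ 1 = 0 :=
  leoBeta_vanish lam θ 1 (map_one π)

theorem leo_ind_one (lam : ↥P →* ℂˣ) (θ : Cfsg.IrrCharacter ↥C) :
    Cfsg.indFun C (leoBeta (π := π) lam θ) 1 = 0 := by
  rw [h7_indFun_one, leoBeta_one, mul_zero]

theorem leo_ind_classFunction (lam : ↥P →* ℂˣ) (θ : Cfsg.IrrCharacter ↥C) :
    Cfsg.IsClassFunction G (Cfsg.indFun C (leoBeta (π := π) lam θ)) :=
  h7_indFun_isClassFunction _ _

/-- Frobenius reciprocity for the induced difference -/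
theorem leo_ind_inner (lam : ↥P →* ℂˣ) (θ : Cfsg.IrrCharacter ↥C) (η : G → ℂ)
    (hη : Cfsg.IsCharacter G η) :
    Cfsg.classInner (Cfsg.indFun C (leoBeta (π := π) lam θ)) η =
      (leoM C η (leoTw (lam.comp π) θ) : ℂ) - (leoM C η θ : ℂ) := by
  rw [h7_frobenius_reciprocity C _ η (isCharacter_isClassFunction hη)]
  unfold leoBeta
  rw [Cfsg.Agent.Lib.Helper25.classInner_sub_left,
    Cfsg.Agent.Lib.Helper25.classInner_conj_symm (fun c : ↥C => η (c : G)),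
    Cfsg.Agent.Lib.Helper25.classInner_conj_symm (fun c : ↥C => η (c : G)) (θ : ↥C → ℂ),
    leoM_spec C η hη, leoM_spec C η hη, Complex.conj_natCast, Complex.conj_natCast]

/-- restriction of the induced difference to `C` -/
theorem leo_ind_res (h : LeoSetup p C N P hPC π) (lam : ↥P →* ℂˣ) (θ : Cfsg.IrrCharacter ↥C)
    (hθ : leoOm h θ ≠ 1) (hθ' : lam * leoOm h θ ≠ 1) (c : ↥C) :
    Cfsg.indFun C (leoBeta (π := π) lam θ) (c : G) =
      ∑ ϑ ∈ leoOrb h (leoTw (lam.comp π) θ), (ϑ : ↥C → ℂ) c -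
        ∑ ϑ ∈ leoOrb h θ, (ϑ : ↥C → ℂ) c := by
  have hθ'' : leoOm h (leoTw (lam.comp π) θ) ≠ 1 := by rw [leoOm_tw]; exact hθ'
  rw [leo_ind_apply h _ (leoBeta_vanish lam θ) c]
  have hne : (Nat.card ↥C : ℂ) ≠ 0 := by exact_mod_cast Nat.card_pos.ne'
  have h1 : ∀ n : ↥N, leoCj C (n : G) (leoBeta (π := π) lam θ) c =
      (leoCjI h n (leoTw (lam.comp π) θ) : ↥C → ℂ) c - (leoCjI h n θ : ↥C → ℂ) c := by
    intro n
    unfold leoBeta
    rw [leoCj_sub]
    rfl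
  simp only [h1, Finset.sum_sub_distrib]
  rw [leo_orbit_sum h _ hθ'' (fun ϑ => (ϑ : ↥C → ℂ) c),
    leo_orbit_sum h _ hθ (fun ϑ => (ϑ : ↥C → ℂ) c)]
  simp only [nsmul_eq_mul, ← Finset.mul_sum]
  field_simp

/-- the induced difference sums to zero over `P` -/
theorem leo_ind_sum_P (h : LeoSetup p C N P hPC π) [Fintype ↥P] (lam : ↥P →* ℂˣ)
    (θ : Cfsg.IrrCharacter ↥C) (hθ : leoOm h θ ≠ 1) (hθ' : lam * leoOm h θ ≠ 1) :
    ∑ x : ↥P, Cfsg.indFun C (leoBeta (π := π) lam θ) (x : G) = 0 := by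
  have hθ'' : leoOm h (leoTw (lam.comp π) θ) ≠ 1 := by rw [leoOm_tw]; exact hθ'
  have h1 : ∀ x : ↥P, Cfsg.indFun C (leoBeta (π := π) lam θ) (x : G) =
      ∑ ϑ ∈ leoOrb h (leoTw (lam.comp π) θ), (ϑ : ↥C → ℂ) (Subgroup.inclusion hPC x) -
        ∑ ϑ ∈ leoOrb h θ, (ϑ : ↥C → ℂ) (Subgroup.inclusion hPC x) := by
    intro x
    exact leo_ind_res h lam θ hθ hθ' (Subgroup.inclusion hPC x)
  simp only [h1, Finset.sum_sub_distrib]
  rw [Finset.sum_comm, Finset.sum_comm (s := Finset.univ) (t := leoOrb h θ)]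
  rw [Finset.sum_eq_zero, Finset.sum_eq_zero, sub_zero]
  · intro ϑ hϑ
    rw [leo_sum_P h, if_neg (leoOm_ne_one_of_mem_orb h hθ hϑ)]
  · intro ϑ hϑ
    rw [leo_sum_P h, if_neg (leoOm_ne_one_of_mem_orb h hθ'' hϑ)]

theorem leo_classInner_irr_sum [Fintype (Cfsg.IrrCharacter ↥C)] (θ : Cfsg.IrrCharacter ↥C)
    (S : Finset (Cfsg.IrrCharacter ↥C)) :
    Cfsg.classInner (θ : ↥C → ℂ) (∑ ϑ ∈ S, (ϑ : ↥C → ℂ)) = if θ ∈ S then 1 else 0 := by
  rw [h7_classInner_sum_right]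
  simp only [Cfsg.Agent.Lib.Helper25.irr_classInner]
  rw [Finset.sum_ite_eq]

/-- the norm of the induced difference of two non-conjugate `P`-nontrivial members is 2 -/
theorem leo_ind_norm (h : LeoSetup p C N P hPC π) (lam : ↥P →* ℂˣ) (θ : Cfsg.IrrCharacter ↥C)
    (hθ : leoOm h θ ≠ 1) (hθ' : lam * leoOm h θ ≠ 1)
    (hnc : leoTw (lam.comp π) θ ∉ leoOrb h θ) :
    Cfsg.classInner (Cfsg.indFun C (leoBeta (π := π) lam θ))
      (Cfsg.indFun C (leoBeta (π := π) lam θ)) = 2 := by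
  have : Fintype (Cfsg.IrrCharacter ↥C) := Fintype.ofFinite _
  rw [h7_frobenius_reciprocity C _ _ (leo_ind_classFunction lam θ)]
  have hres : (fun c : ↥C => Cfsg.indFun C (leoBeta (π := π) lam θ) (c : G)) =
      ∑ ϑ ∈ leoOrb h (leoTw (lam.comp π) θ), (ϑ : ↥C → ℂ) - ∑ ϑ ∈ leoOrb h θ, (ϑ : ↥C → ℂ) := by
    funext c
    rw [leo_ind_res h lam θ hθ hθ' c]
    simp only [Pi.sub_apply, Finset.sum_apply]
  rw [hres]
  unfold leoBeta
  rw [Cfsg.Agent.Lib.Helper25.classInner_sub_left, h7_classInner_sub_right,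
    h7_classInner_sub_right, leo_classInner_irr_sum, leo_classInner_irr_sum,
    leo_classInner_irr_sum, leo_classInner_irr_sum]
  have hnc' : θ ∉ leoOrb h (leoTw (lam.comp π) θ) := fun hm => hnc (leoOrb_symm h hm)
  rw [if_pos (self_mem_leoOrb h _), if_neg hnc, if_neg hnc', if_pos (self_mem_leoOrb h _)]
  norm_num

/-- shape of the induced difference of two non-conjugate members -/
theorem leo_ind_shape (h : LeoSetup p C N P hPC π) (lam : ↥P →* ℂˣ) (θ : Cfsg.IrrCharacter ↥C)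
    (hθ : leoOm h θ ≠ 1) (hθ' : lam * leoOm h θ ≠ 1)
    (hnc : leoTw (lam.comp π) θ ∉ leoOrb h θ) :
    ∃ a b : Cfsg.IrrCharacter G, a ≠ b ∧
      (∀ η : Cfsg.IrrCharacter G, (leoM C (η : G → ℂ) (leoTw (lam.comp π) θ) : ℤ) -
        (leoM C (η : G → ℂ) θ : ℤ) = afInd η a - afInd η b) ∧
      Cfsg.indFun C (leoBeta (π := π) lam θ) = (a : G → ℂ) - (b : G → ℂ) := by
  have : Fintype (Cfsg.IrrCharacter G) := Fintype.ofFinite _
  set F := Cfsg.indFun C (leoBeta (π := π) lam θ) with hF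
  set d : Cfsg.IrrCharacter G → ℤ := fun η =>
    (leoM C (η : G → ℂ) (leoTw (lam.comp π) θ) : ℤ) - (leoM C (η : G → ℂ) θ : ℤ) with hd
  have hinner : ∀ η : Cfsg.IrrCharacter G, Cfsg.classInner F (η : G → ℂ) = (d η : ℂ) := by
    intro η
    rw [hF, leo_ind_inner lam θ _ (isCharacter_of_irr η), hd]
    push_cast
    rfl
  have hexp := Cfsg.Agent.Lib.Helper25.classFunction_expansion F (leo_ind_classFunction lam θ)
  simp only [hinner] at hexp
  have hnorm := leo_ind_norm h lam θ hθ hθ' hnc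
  rw [Cfsg.Agent.Lib.Helper25.classInner_parseval F (leo_ind_classFunction lam θ)] at hnorm
  simp only [hinner, map_intCast] at hnorm
  have h2 : ∑ η : Cfsg.IrrCharacter G, d η ^ 2 = 2 := by
    have : ((∑ η : Cfsg.IrrCharacter G, d η ^ 2 : ℤ) : ℂ) = 2 := by
      rw [← hnorm]
      push_cast
      apply Finset.sum_congr rfl
      intro η _
      ring
    exact_mod_cast this
  have h0 : ∑ η : Cfsg.IrrCharacter G, d η * (leoDeg η : ℤ) = 0 := by
    have h1 := congrFun hexp 1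
    rw [hF, leo_ind_one] at h1
    simp only [Finset.sum_apply, Pi.smul_apply, smul_eq_mul, leoDeg_spec] at h1
    have : ((∑ η : Cfsg.IrrCharacter G, d η * (leoDeg η : ℤ) : ℤ) : ℂ) = 0 := by
      rw [h1]
      push_cast
      rfl
    exact_mod_cast this
  obtain ⟨a, b, hab, hshape⟩ := afc_norm_two d (fun η => (leoDeg η : ℤ))
    (fun η => by exact_mod_cast leoDeg_pos η) h2 h0
  refine ⟨a, b, hab, hshape, ?_⟩
  rw [hexp]
  simp only [hshape]
  have h3 : ∀ η : Cfsg.IrrCharacter G, ((afInd η a - afInd η b : ℤ) : ℂ) • (η : G → ℂ) =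
      (if η = a then (η : G → ℂ) else 0) - (if η = b then (η : G → ℂ) else 0) := by
    intro η
    unfold afInd
    push_cast
    rw [sub_smul]
    congr 1 <;> split_ifs <;> simp
  simp only [h3, Finset.sum_sub_distrib, Finset.sum_ite_eq', Finset.mem_univ, if_true]

end LeoNorm

end Cfsg.Agent.Lib.Helper29
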