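import Mathlib
import Cfsg.Agent.Lib.Helper29.LeoNorm

/-!
Structure of the multiplicities of the members of a family in irreducible characters of `G`,
and the resulting "family lemma".
-/

set_option autoImplicit false
open scoped ComplexConjugate
open Classical

namespace Cfsg.Agent.Lib.Helper29

open Cfsg.Agent.Lib.helper7 Cfsg.Agent.Lib.helper2

section LeoStruct

variable {G : Type*} [Group G] [Fintype G]
variable {p : ℕ} {C N P : Subgroup G} {hPC : P ≤ C} {π : ↥C →* ↥P}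

theorem leoTw_comp_mul (lam lam' : ↥P →* ℂˣ) (θ : Cfsg.IrrCharacter ↥C) :
    leoTw ((lam * lam'⁻¹).comp π) (leoTw (lam'.comp π) θ) = leoTw (lam.comp π) θ := by
  rw [leoTw_mul]
  congr 1
  ext c
  simp

/-- pairwise shape of the multiplicity vectors of two `P`-nontrivial members of a family -/
theorem leo_fam_shape (h : LeoSetup p C N P hPC π) (θ : Cfsg.IrrCharacter ↥C)
    (lam lam' : ↥P →* ℂˣ) (hl : lam * leoOm h θ ≠ 1) (hl' : lam' * leoOm h θ ≠ 1) :
    (leoTw (lam.comp π) θ ∈ leoOrb h (leoTw (lam'.comp π) θ) ∧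
      ∀ η : Cfsg.IrrCharacter G, leoM C (η : G → ℂ) (leoTw (lam.comp π) θ) =
        leoM C (η : G → ℂ) (leoTw (lam'.comp π) θ)) ∨
    (leoTw (lam.comp π) θ ∉ leoOrb h (leoTw (lam'.comp π) θ) ∧
      ∃ a b : Cfsg.IrrCharacter G, a ≠ b ∧
      (∀ η : Cfsg.IrrCharacter G, (leoM C (η : G → ℂ) (leoTw (lam.comp π) θ) : ℤ) -
        (leoM C (η : G → ℂ) (leoTw (lam'.comp π) θ) : ℤ) = afInd η a - afInd η b) ∧
      ∀ [Fintype ↥P], ∑ x : ↥P, (a : G → ℂ) (x : G) = ∑ x : ↥P, (b : G → ℂ) (x : G)) := by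
  by_cases hm : leoTw (lam.comp π) θ ∈ leoOrb h (leoTw (lam'.comp π) θ)
  · left
    refine ⟨hm, fun η => ?_⟩
    obtain ⟨n, hn⟩ := (mem_leoOrb h _ _).mp hm
    rw [← hn, leoM_cj h _ (isCharacter_of_irr η)]
  · right
    refine ⟨hm, ?_⟩
    have hθ1 : leoOm h (leoTw (lam'.comp π) θ) ≠ 1 := by rw [leoOm_tw]; exact hl'
    have hθ2 : (lam * lam'⁻¹) * leoOm h (leoTw (lam'.comp π) θ) ≠ 1 := by
      rw [leoOm_tw]
      have : lam * lam'⁻¹ * (lam' * leoOm h θ) = lam * leoOm h θ := by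
        ext x
        simp [mul_assoc]
      rw [this]
      exact hl
    have hnc : leoTw ((lam * lam'⁻¹).comp π) (leoTw (lam'.comp π) θ) ∉
        leoOrb h (leoTw (lam'.comp π) θ) := by
      rw [leoTw_comp_mul]
      exact hm
    obtain ⟨a, b, hab, hshape, hexp⟩ := leo_ind_shape h (lam * lam'⁻¹) (leoTw (lam'.comp π) θ)
      hθ1 hθ2 hnc
    rw [leoTw_comp_mul] at hshape
    refine ⟨a, b, hab, hshape, ?_⟩
    intro _
    have hsum := leo_ind_sum_P h (lam * lam'⁻¹) (leoTw (lam'.comp π) θ) hθ1 hθ2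
    rw [hexp] at hsum
    simp only [Pi.sub_apply, Finset.sum_sub_distrib] at hsum
    exact sub_eq_zero.mp hsum

/-- structure theorem for a family containing two non-conjugate `P`-nontrivial members -/
theorem leo_structure (h : LeoSetup p C N P hPC π) (θ : Cfsg.IrrCharacter ↥C)
    (hne : ∃ lam lam' : ↥P →* ℂˣ, lam * leoOm h θ ≠ 1 ∧ lam' * leoOm h θ ≠ 1 ∧
      leoTw (lam.comp π) θ ∉ leoOrb h (leoTw (lam'.comp π) θ)) :
    ∃ (σ : ℤ) (base : Cfsg.IrrCharacter G → ℤ)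
      (e : {lam : ↥P →* ℂˣ // lam * leoOm h θ ≠ 1} → Cfsg.IrrCharacter G),
      (σ = 1 ∨ σ = -1) ∧
      ∀ (j : {lam : ↥P →* ℂˣ // lam * leoOm h θ ≠ 1}) (η : Cfsg.IrrCharacter G),
        (leoM C (η : G → ℂ) (leoTw ((j : ↥P →* ℂˣ).comp π) θ) : ℤ) = base η + σ * afInd η (e j) := by
  apply afc_structure (fun (j : {lam : ↥P →* ℂˣ // lam * leoOm h θ ≠ 1})
    (η : Cfsg.IrrCharacter G) => (leoM C (η : G → ℂ) (leoTw ((j : ↥P →* ℂˣ).comp π) θ) : ℤ))
  · intro j j'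
    rcases leo_fam_shape h θ j j' j.2 j'.2 with ⟨_, heq⟩ | ⟨_, a, b, hab, hshape, _⟩
    · left
      funext η
      rw [heq η]
    · right
      exact ⟨a, b, hab, hshape⟩
  · obtain ⟨lam, lam', hl, hl', hnc⟩ := hne
    refine ⟨⟨lam, hl⟩, ⟨lam', hl'⟩, ?_⟩
    intro heq
    rcases leo_fam_shape h θ lam lam' hl hl' with ⟨hm, _⟩ | ⟨_, a, b, hab, hshape, _⟩
    · exact hnc hm
    · have h1 := hshape a
      have h2 := congrFun heq a
      simp only [] at h2
      rw [h2, sub_self, afInd_self, afInd_of_ne hab] at h1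
      norm_num at h1

end LeoStruct

end Cfsg.Agent.Lib.Helper29
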