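import Mathlib
import Cfsg.Agent.Lib.Helper29.LeoStruct

/-!
The family lemma: two irreducible characters of `G` of degree `< |P| - 1` whose restrictions to
`C` contain `P`-nontrivial members of the same family have the same number of `P`-fixed points.
-/

set_option autoImplicit false
open scoped ComplexConjugate
open Classical

namespace Cfsg.Agent.Lib.Helper29

open Cfsg.Agent.Lib.helper7 Cfsg.Agent.Lib.helper2

section LeoFamily

variable {G : Type*} [Group G] [Fintype G]
variable {p : ℕ} {C N P : Subgroup G} {hPC : P ≤ C} {π : ↥C →* ↥P}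

theorem leoTw_comp_injective (h : LeoSetup p C N P hPC π) (θ : Cfsg.IrrCharacter ↥C) :
    Function.Injective (fun lam : ↥P →* ℂˣ => leoTw (lam.comp π) θ) := by
  intro lam lam' heq
  have h1 : leoOm h (leoTw (lam.comp π) θ) = leoOm h (leoTw (lam'.comp π) θ) := by
    simp only [] at heq
    rw [heq]
  rw [leoOm_tw, leoOm_tw] at h1
  ext x
  have := DFunLike.congr_fun h1 x
  simp only [MonoidHom.mul_apply] at this
  exact congrArg Units.val (mul_right_cancel this)

theorem leo_card_nontrivial [Fintype ↥P] [Fintype (↥P →* ℂˣ)] (h : LeoSetup p C N P hPC π)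
    (ω : ↥P →* ℂˣ) :
    (Finset.univ.filter (fun lam : ↥P →* ℂˣ => lam * ω ≠ 1)).card = Nat.card ↥P - 1 := by
  have h1 : Finset.univ.filter (fun lam : ↥P →* ℂˣ => lam * ω ≠ 1) = Finset.univ.erase ω⁻¹ := by
    ext lam
    simp only [Finset.mem_filter, Finset.mem_univ, true_and, Finset.mem_erase, and_true, ne_eq]
    constructor
    · intro hne heq
      apply hne
      rw [heq]
      ext x
      simp
    · intro hne heq
      apply hne
      ext x
      have := DFunLike.congr_fun heq x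
      simp only [MonoidHom.mul_apply, MonoidHom.one_apply] at this
      rw [MonoidHom.inv_apply]
      exact congrArg Units.val (eq_inv_of_mul_eq_one_left this)
  rw [h1, Finset.card_erase_of_mem (Finset.mem_univ _), Finset.card_univ,
    ← Nat.card_eq_fintype_card, afd_card_dual (leo_comm h)]

/-- degree bound: if all `P`-nontrivial members of a family occur in `η`, then `η(1) ≥ |P| - 1` -/
theorem leo_degree_bound [Fintype ↥P] [Fintype (↥P →* ℂˣ)] (h : LeoSetup p C N P hPC π)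
    (θ : Cfsg.IrrCharacter ↥C) (η : Cfsg.IrrCharacter G)
    (hall : ∀ lam : ↥P →* ℂˣ, lam * leoOm h θ ≠ 1 →
      0 < leoM C (η : G → ℂ) (leoTw (lam.comp π) θ)) :
    Nat.card ↥P - 1 ≤ leoDeg η := by
  have : Fintype (Cfsg.IrrCharacter ↥C) := Fintype.ofFinite _
  have hdeg := leo_degree C (η : G → ℂ) (isCharacter_of_irr η)
  rw [leoDeg_spec] at hdeg
  have hdeg' : leoDeg η = ∑ ϑ : Cfsg.IrrCharacter ↥C, leoM C (η : G → ℂ) ϑ * leoDeg ϑ := by
    exact_mod_cast hdeg
  rw [hdeg', ← leo_card_nontrivial h (leoOm h θ)]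
  set S := (Finset.univ.filter (fun lam : ↥P →* ℂˣ => lam * leoOm h θ ≠ 1)).image
    (fun lam : ↥P →* ℂˣ => leoTw (lam.comp π) θ) with hS
  have hcard : S.card = (Finset.univ.filter (fun lam : ↥P →* ℂˣ => lam * leoOm h θ ≠ 1)).card :=
    Finset.card_image_of_injective _ (leoTw_comp_injective h θ)
  rw [← hcard]
  calc S.card = ∑ ϑ ∈ S, 1 := by simp
    _ ≤ ∑ ϑ ∈ S, leoM C (η : G → ℂ) ϑ * leoDeg ϑ := by
        apply Finset.sum_le_sum
        intro ϑ hϑ
        obtain ⟨lam, hlam, rfl⟩ := Finset.mem_image.mp hϑ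
        have h1 := hall lam (Finset.mem_filter.mp hlam).2
        have h2 := leoDeg_pos (leoTw (lam.comp π) θ)
        exact Nat.mul_pos h1 h2
    _ ≤ ∑ ϑ : Cfsg.IrrCharacter ↥C, leoM C (η : G → ℂ) ϑ * leoDeg ϑ :=
        Finset.sum_le_sum_of_subset (Finset.subset_univ _)

/-- the family lemma -/
theorem leo_family [Fintype ↥P] [Fintype (↥P →* ℂˣ)] (h : LeoSetup p C N P hPC π)
    (θ : Cfsg.IrrCharacter ↥C)
    (hne : ∃ lam lam' : ↥P →* ℂˣ, lam * leoOm h θ ≠ 1 ∧ lam' * leoOm h θ ≠ 1 ∧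
      leoTw (lam.comp π) θ ∉ leoOrb h (leoTw (lam'.comp π) θ))
    (η η' : Cfsg.IrrCharacter G) (hη : leoDeg η + 1 < Nat.card ↥P)
    (hη' : leoDeg η' + 1 < Nat.card ↥P) (lam lam' : ↥P →* ℂˣ)
    (hl : lam * leoOm h θ ≠ 1) (hl' : lam' * leoOm h θ ≠ 1)
    (hm : 0 < leoM C (η : G → ℂ) (leoTw (lam.comp π) θ))
    (hm' : 0 < leoM C (η' : G → ℂ) (leoTw (lam'.comp π) θ)) :
    ∑ x : ↥P, (η : G → ℂ) (x : G) = ∑ x : ↥P, (η' : G → ℂ) (x : G) := by
  obtain ⟨σ, base, e, hσ, hform⟩ := leo_structure h θ hne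
  -- small degree characters meeting the family are exceptional
  have hexc : ∀ (ξ : Cfsg.IrrCharacter G), leoDeg ξ + 1 < Nat.card ↥P →
      ∀ (l : ↥P →* ℂˣ), l * leoOm h θ ≠ 1 → 0 < leoM C (ξ : G → ℂ) (leoTw (l.comp π) θ) →
      ∃ j, ξ = e j := by
    intro ξ hξ l hl0 hm0
    by_contra hcon
    push Not at hcon
    have hbase : ∀ j : {lam : ↥P →* ℂˣ // lam * leoOm h θ ≠ 1},
        (leoM C (ξ : G → ℂ) (leoTw ((j : ↥P →* ℂˣ).comp π) θ) : ℤ) = base ξ := by
      intro j
      rw [hform j ξ, afInd_of_ne (hcon j), mul_zero, add_zero]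
    have hb1 : 0 < base ξ := by
      rw [← hbase ⟨l, hl0⟩]
      exact_mod_cast hm0
    have hall : ∀ lam : ↥P →* ℂˣ, lam * leoOm h θ ≠ 1 →
        0 < leoM C (ξ : G → ℂ) (leoTw (lam.comp π) θ) := by
      intro lam0 hlam0
      have := hbase ⟨lam0, hlam0⟩
      have h2 : (0 : ℤ) < (leoM C (ξ : G → ℂ) (leoTw (lam0.comp π) θ) : ℤ) := by
        rw [this]; exact hb1
      exact_mod_cast h2
    have := leo_degree_bound h θ ξ hall
    omega
  obtain ⟨j, hj⟩ := hexc η hη lam hl hm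
  obtain ⟨j', hj'⟩ := hexc η' hη' lam' hl' hm'
  rw [hj, hj']
  rcases leo_fam_shape h θ j j' j.2 j'.2 with ⟨_, heq⟩ | ⟨_, a, b, hab, hshape, hsum⟩
  · have h1 : ∀ ξ : Cfsg.IrrCharacter G, afInd ξ (e j) = afInd ξ (e j') := by
      intro ξ
      have e1 := hform j ξ
      have e2 := hform j' ξ
      rw [heq ξ] at e1
      rw [e1] at e2
      rcases hσ with rfl | rfl <;> omega
    have h2 := h1 (e j)
    rw [afInd_self] at h2
    have h3 : e j = e j' := (afInd_eq_one_iff _ _).mp h2.symm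
    rw [h3]
  · have key : ∀ ξ : Cfsg.IrrCharacter G,
        σ * (afInd ξ (e j) - afInd ξ (e j')) = afInd ξ a - afInd ξ b := by
      intro ξ
      rw [← hshape ξ, hform j ξ, hform j' ξ]
      ring
    have ka := key a
    have kb := key b
    rw [afInd_self, afInd_of_ne hab] at ka
    rw [afInd_self, afInd_of_ne hab.symm] at kb
    rcases hσ with rfl | rfl
    · have ha : a = e j := by
        rcases afInd_cases a (e j) with ⟨h1, _⟩ | ⟨_, h2⟩
        · rcases afInd_cases a (e j') with ⟨h3, _⟩ | ⟨h3, _⟩ <;> omega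
        · exact h2
      have hb : b = e j' := by
        rcases afInd_cases b (e j') with ⟨h1, _⟩ | ⟨_, h2⟩
        · rcases afInd_cases b (e j) with ⟨h3, _⟩ | ⟨h3, _⟩ <;> omega
        · exact h2
      rw [← ha, ← hb]
      exact hsum
    · have ha : a = e j' := by
        rcases afInd_cases a (e j') with ⟨h1, _⟩ | ⟨_, h2⟩
        · rcases afInd_cases a (e j) with ⟨h3, _⟩ | ⟨h3, _⟩ <;> omega
        · exact h2
      have hb : b = e j := by
        rcases afInd_cases b (e j) with ⟨h1, _⟩ | ⟨_, h2⟩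
        · rcases afInd_cases b (e j') with ⟨h3, _⟩ | ⟨h3, _⟩ <;> omega
        · exact h2
      rw [← ha, ← hb]
      exact hsum.symm

end LeoFamily

end Cfsg.Agent.Lib.Helper29
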