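import Mathlib
import Cfsg.Agent.Lib.Helper25.AugNil

/-!
In the group algebra `k[P]` of a finite `p`-group over a field of characteristic `p`, every nonzero
element has a left multiple equal to the norm element `∑ x, x`.
-/

set_option autoImplicit false

namespace Cfsg.Agent.Lib.Helper29

open MonoidAlgebra

theorem tir_exists_mul_eq_norm {k : Type*} [Field k] (p : ℕ) [Fact p.Prime] [CharP k p]
    {P : Type*} [Group P] [Fintype P] (hP : IsPGroup p P) (a : MonoidAlgebra k P) (ha : a ≠ 0) :
    ∃ b : MonoidAlgebra k P, b * a = ∑ x : P, MonoidAlgebra.single x (1 : k) := by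
  classical
  obtain ⟨m, hm⟩ := Cfsg.Agent.Lib.Helper25.an_prod_aug_eq_zero (F := k) p (Nat.card P) P hP rfl
  let Q : ℕ → Prop := fun n => ∃ l : List P, l.length = n ∧
    (l.map (Cfsg.Agent.Lib.Helper25.an_aug k)).prod * a ≠ 0
  have hQ0 : Q 0 := ⟨[], rfl, by simpa using ha⟩
  have hQm : ∃ n, ¬ Q (n + 1) := by
    refine ⟨m, ?_⟩
    rintro ⟨l, hl, hne⟩
    apply hne
    rw [hm l (by omega), zero_mul]
  let n₀ := Nat.find hQm
  have hn₀ : ¬ Q (n₀ + 1) := Nat.find_spec hQm
  have hQn₀ : Q n₀ := by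
    rcases Nat.eq_zero_or_pos n₀ with h0 | hpos
    · rw [h0]; exact hQ0
    · have := Nat.find_min hQm (m := n₀ - 1) (by omega)
      rw [not_not] at this
      have e : n₀ - 1 + 1 = n₀ := by omega
      rw [e] at this
      exact this
  obtain ⟨l, hl, hv⟩ := hQn₀
  set v := (l.map (Cfsg.Agent.Lib.Helper25.an_aug k)).prod * a with hvdef
  have hfix : ∀ u : P, MonoidAlgebra.of k P u * v = v := by
    intro u
    have h1 : Cfsg.Agent.Lib.Helper25.an_aug k u * v = 0 := by
      by_contra hne
      apply hn₀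
      refine ⟨u :: l, by simp [hl], ?_⟩
      rw [List.map_cons, List.prod_cons, mul_assoc]
      exact hne
    unfold Cfsg.Agent.Lib.Helper25.an_aug at h1
    rw [sub_mul, one_mul, sub_eq_zero] at h1
    exact h1
  have hconst : ∀ x : P, v.coeff x = v.coeff 1 := by
    intro x
    have h1 := hfix x
    have h2 : (MonoidAlgebra.of k P x * v).coeff x = v.coeff 1 := by
      rw [MonoidAlgebra.of_apply, MonoidAlgebra.coeff_single_mul_apply, one_mul, inv_mul_cancel]
    rw [h1] at h2
    exact h2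
  have hv1 : v.coeff 1 ≠ 0 := by
    intro h0
    apply hv
    apply MonoidAlgebra.coeff_injective
    ext x
    rw [hconst x, h0]
    rfl
  refine ⟨(v.coeff 1)⁻¹ • (l.map (Cfsg.Agent.Lib.Helper25.an_aug k)).prod, ?_⟩
  rw [smul_mul_assoc, ← hvdef]
  apply MonoidAlgebra.coeff_injective
  ext x
  rw [MonoidAlgebra.coeff_smul_apply, hconst x, smul_eq_mul, inv_mul_cancel₀ hv1]
  rw [MonoidAlgebra.coeff_sum, Finsupp.finsetSum_apply]
  simp [MonoidAlgebra.coeff_single, Finsupp.single_apply]

end Cfsg.Agent.Lib.Helper29
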