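import Mathlib
import Cfsg.Agent.Lib.Helper29.TIResAlg

/-!
Over a local ring whose residue field has characteristic `p`: if a finite `p`-group `P` acts on a
module, `M` is a `P`-stable submodule and the translates of `m ∈ M` satisfy a linear relation with a
unit coefficient, then the norm `∑ x, x m` lies in `𝔪 • M`.
-/

set_option autoImplicit false

namespace Cfsg.Agent.Lib.Helper29

open MonoidAlgebra

theorem tir_norm_mem_smul {R : Type*} [CommRing R] [IsLocalRing R] (p : ℕ) [Fact p.Prime]
    (hp : (p : R) ∈ IsLocalRing.maximalIdeal R)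
    {P : Type*} [Group P] [Fintype P] (hP : IsPGroup p P)
    {W : Type*} [AddCommGroup W] [Module R W] (τ : P →* Module.End R W) (M : Submodule R W)
    (hM : ∀ x : P, ∀ m ∈ M, τ x m ∈ M) (m : W) (hm : m ∈ M)
    (c : P → R) (x₀ : P) (hc0 : IsUnit (c x₀)) (hrel : ∑ x : P, c x • τ x m = 0) :
    ∑ x : P, τ x m ∈ IsLocalRing.maximalIdeal R • M := by
  classical
  let k := IsLocalRing.ResidueField R
  let res : R →+* k := IsLocalRing.residue R
  have hpk : (p : k) = 0 := by
    have : res (p : R) = 0 := (IsLocalRing.residue_eq_zero_iff _).mpr hp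
    simpa using this
  haveI : CharP k p := (CharP.charP_iff_prime_eq_zero (Fact.out : p.Prime)).mpr hpk
  let a : MonoidAlgebra k P := ∑ x : P, MonoidAlgebra.single x (res (c x))
  have ha_coeff : ∀ x : P, a.coeff x = res (c x) := by
    intro x
    simp only [a]
    rw [MonoidAlgebra.coeff_sum, Finsupp.finsetSum_apply]
    simp [MonoidAlgebra.coeff_single, Finsupp.single_apply]
  have ha : a ≠ 0 := by
    intro h0
    have h1 : a.coeff x₀ = 0 := by rw [h0]; rfl
    rw [ha_coeff] at h1
    have h2 : c x₀ ∈ IsLocalRing.maximalIdeal R := (IsLocalRing.residue_eq_zero_iff _).mp h1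
    exact (IsLocalRing.mem_maximalIdeal _).mp h2 hc0
  obtain ⟨b, hb⟩ := tir_exists_mul_eq_norm p hP a ha
  have hsurj : Function.Surjective res := IsLocalRing.residue_surjective
  let bt : P → R := fun y => Classical.choose (hsurj (b.coeff y))
  have hbt : ∀ y, res (bt y) = b.coeff y := fun y => Classical.choose_spec (hsurj (b.coeff y))
  let ε : P → R := fun z => ∑ y : P, bt y * c (y⁻¹ * z) - 1
  have hε : ∀ z, ε z ∈ IsLocalRing.maximalIdeal R := by
    intro z
    rw [← IsLocalRing.residue_eq_zero_iff]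
    change res (∑ y : P, bt y * c (y⁻¹ * z) - 1) = 0
    rw [map_sub, map_one, map_sum]
    have h1 : (b * a).coeff z = 1 := by
      rw [hb, MonoidAlgebra.coeff_sum, Finsupp.finsetSum_apply]
      simp [MonoidAlgebra.coeff_single, Finsupp.single_apply]
    rw [MonoidAlgebra.coeff_mul_apply_left, Finsupp.sum_fintype _ _ (by intro i; simp)] at h1
    rw [sub_eq_zero, ← h1]
    refine Finset.sum_congr rfl fun y _ => ?_
    rw [map_mul, hbt, ha_coeff]
  have hcomp : ∑ y : P, bt y • τ y (∑ x : P, c x • τ x m) = 0 := by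
    rw [hrel]
    simp
  have hexp : ∑ y : P, bt y • τ y (∑ x : P, c x • τ x m) =
      ∑ z : P, τ z m + ∑ z : P, ε z • τ z m := by
    have h1 : ∀ y : P, bt y • τ y (∑ x : P, c x • τ x m) =
        ∑ z : P, (bt y * c (y⁻¹ * z)) • τ z m := by
      intro y
      rw [map_sum, Finset.smul_sum]
      refine Fintype.sum_equiv (Equiv.mulLeft y) _ _ fun x => ?_
      rw [Equiv.coe_mulLeft, inv_mul_cancel_left, map_smul, smul_smul, map_mul]
      rfl
    rw [Finset.sum_congr rfl fun y _ => h1 y, Finset.sum_comm, ← Finset.sum_add_distrib]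
    refine Finset.sum_congr rfl fun z _ => ?_
    rw [← Finset.sum_smul]
    have : ∑ y : P, bt y * c (y⁻¹ * z) = 1 + ε z := by simp only [ε]; ring
    rw [this, add_smul, one_smul]
  rw [hexp] at hcomp
  have hfin : ∑ z : P, τ z m = - ∑ z : P, ε z • τ z m := eq_neg_of_add_eq_zero_left hcomp
  rw [hfin]
  apply Submodule.neg_mem
  apply Submodule.sum_mem
  intro z _
  exact Submodule.smul_mem_smul (hε z) (hM z m hm)

end Cfsg.Agent.Lib.Helper29
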