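import Mathlib
import Cfsg.Agent.Lib.Helper29.TIResLocal

/-!
Valuation-subring version: for a valuation subring `R` of `ℂ` in which `p` is a non-unit, a finite
`p`-group `P` acting `ℂ`-linearly on `W` and a `P`-stable `R`-submodule `M`: if the norm of `m ∈ M`
is not in `𝔪 • M`, the translates of `m` are linearly independent over `ℂ`.
-/

set_option autoImplicit false

namespace Cfsg.Agent.Lib.Helper29

theorem tir_linIndep (R : ValuationSubring ℂ) (p : ℕ) [Fact p.Prime] (hp : (p : ℂ) ∈ R.nonunits)
    {P : Type*} [Group P] [Fintype P] (hP : IsPGroup p P)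
    {W : Type*} [AddCommGroup W] [Module ℂ W] (τ : P →* (W →ₗ[ℂ] W)) (M : Submodule R W)
    (hM : ∀ x : P, ∀ m ∈ M, τ x m ∈ M) (m : W) (hm : m ∈ M)
    (hnot : ∑ x : P, τ x m ∉ IsLocalRing.maximalIdeal R • M) :
    LinearIndependent ℂ (fun x : P => τ x m) := by
  classical
  rw [Fintype.linearIndependent_iff]
  intro c hrel
  by_contra hne
  push Not at hne
  obtain ⟨x₁, hx₁⟩ := hne
  obtain ⟨x₀, -, hmax⟩ := Finset.exists_max_image Finset.univ (fun x => R.valuation (c x))
    ⟨x₁, Finset.mem_univ _⟩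
  have hc0 : c x₀ ≠ 0 := by
    intro h0
    have h1 := hmax x₁ (Finset.mem_univ _)
    rw [h0, map_zero] at h1
    have h2 : R.valuation (c x₁) = 0 := le_antisymm h1 zero_le
    exact hx₁ ((map_eq_zero _).mp h2)
  have hmemR : ∀ x : P, c x / c x₀ ∈ R := by
    intro x
    rw [← ValuationSubring.valuation_le_one_iff, map_div₀]
    have hv0 : R.valuation (c x₀) ≠ 0 := (map_ne_zero _).mpr hc0
    rw [div_le_one₀ (zero_lt_iff.mpr hv0)]
    exact hmax x (Finset.mem_univ _)
  let c' : P → R := fun x => ⟨c x / c x₀, hmemR x⟩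
  let τ' : P →* Module.End R W :=
    { toFun := fun x => (τ x).restrictScalars R
      map_one' := by ext w; simp
      map_mul' := by intro x y; ext w; simp }
  have hτ' : ∀ x w, τ' x w = τ x w := fun x w => rfl
  have hpR : ((p : ℕ) : R) ∈ IsLocalRing.maximalIdeal R := by
    obtain ⟨h1, h2⟩ := (ValuationSubring.mem_nonunits_iff_exists_mem_maximalIdeal).mp hp
    have : (⟨(p : ℂ), h1⟩ : R) = ((p : ℕ) : R) := by
      apply Subtype.ext
      simp
    rw [← this]
    exact h2
  have hunit : IsUnit (c' x₀) := by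
    have : c' x₀ = 1 := by
      apply Subtype.ext
      simp only [c']
      rw [div_self hc0]
      rfl
    rw [this]
    exact isUnit_one
  have hrel' : ∑ x : P, c' x • τ' x m = 0 := by
    have h1 : ∀ x : P, c' x • τ' x m = (c x₀)⁻¹ • (c x • τ x m) := by
      intro x
      rw [hτ', smul_smul]
      change (c x / c x₀) • τ x m = _
      rw [div_eq_inv_mul]
    rw [Finset.sum_congr rfl fun x _ => h1 x, ← Finset.smul_sum, hrel, smul_zero]
  have := tir_norm_mem_smul p hpR hP τ' M (fun x m hm => hM x m hm) m hm c' x₀ hunit hrel'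
  exact hnot this

end Cfsg.Agent.Lib.Helper29
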