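import Mathlib

/-!
Sum over a finite set carrying a free action of a finite group `A`, of an `A`-equivariant function:
it is a norm `∑ a, T a m`.
-/

set_option autoImplicit false

namespace Cfsg.Agent.Lib.Helper29

theorem tir_orbit_sum {A : Type*} [Group A] [Fintype A] {X : Type*} [DecidableEq X]
    (act : A → X → X) (act_one : ∀ x, act 1 x = x)
    (act_mul : ∀ a b x, act (a * b) x = act a (act b x))
    {W : Type*} [AddCommGroup W] (T : A → W →+ W) (F : X → W)
    (hF : ∀ a x, F (act a x) = T a (F x)) (M : AddSubgroup W) :
    ∀ (n : ℕ) (S : Finset X), S.card = n → (∀ a, ∀ x ∈ S, act a x ∈ S) →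
      (∀ a, ∀ x ∈ S, act a x = x → a = 1) → (∀ x ∈ S, F x ∈ M) →
      ∃ m ∈ M, ∑ x ∈ S, F x = ∑ a : A, T a m := by
  intro n
  induction n using Nat.strong_induction_on with
  | _ n ih =>
    intro S hcard hstab hfree hFM
    rcases S.eq_empty_or_nonempty with hS | ⟨x, hx⟩
    · refine ⟨0, M.zero_mem, ?_⟩
      rw [hS]
      simp
    · let O : Finset X := Finset.univ.image (fun a : A => act a x)
      have hOS : O ⊆ S := by
        intro y hy
        obtain ⟨a, -, rfl⟩ := Finset.mem_image.mp hy
        exact hstab a x hx
      have hxO : x ∈ O := Finset.mem_image.mpr ⟨1, Finset.mem_univ _, act_one x⟩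
      have hinj : Function.Injective (fun a : A => act a x) := by
        intro a b hab
        have h1 : act (b⁻¹ * a) x = x := by
          rw [act_mul]
          change act b⁻¹ (act a x) = x
          have : act a x = act b x := hab
          rw [this, ← act_mul, inv_mul_cancel, act_one]
        have := hfree _ x hx h1
        exact (inv_mul_eq_one.mp this).symm
      have hsumO : ∑ y ∈ O, F y = ∑ a : A, T a (F x) := by
        rw [Finset.sum_image (fun a _ b _ hab => hinj hab)]
        exact Finset.sum_congr rfl fun a _ => hF a x
      let S' := S \ O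
      have hS'card : S'.card < n := by
        rw [← hcard]
        apply Finset.card_lt_card
        refine ⟨Finset.sdiff_subset, ?_⟩
        intro hsub
        have := hsub hx
        rw [Finset.mem_sdiff] at this
        exact this.2 hxO
      have hS'stab : ∀ a, ∀ y ∈ S', act a y ∈ S' := by
        intro a y hy
        rw [Finset.mem_sdiff] at hy ⊢
        refine ⟨hstab a y hy.1, ?_⟩
        intro hO
        obtain ⟨b, -, hb⟩ := Finset.mem_image.mp hO
        apply hy.2
        refine Finset.mem_image.mpr ⟨a⁻¹ * b, Finset.mem_univ _, ?_⟩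
        change act (a⁻¹ * b) x = y
        have hb' : act b x = act a y := hb
        rw [act_mul, hb', ← act_mul, inv_mul_cancel, act_one]
      have hS'free : ∀ a, ∀ y ∈ S', act a y = y → a = 1 := fun a y hy =>
        hfree a y (Finset.mem_sdiff.mp hy).1
      have hS'M : ∀ y ∈ S', F y ∈ M := fun y hy => hFM y (Finset.mem_sdiff.mp hy).1
      obtain ⟨m', hm', hsum'⟩ := ih S'.card hS'card S' rfl hS'stab hS'free hS'M
      refine ⟨F x + m', M.add_mem (hFM x hx) hm', ?_⟩
      rw [← Finset.sum_sdiff hOS, hsum', hsumO, ← Finset.sum_add_distrib]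
      refine Finset.sum_congr rfl fun a _ => ?_
      rw [map_add, add_comm]

end Cfsg.Agent.Lib.Helper29
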