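import Mathlib
import Cfsg.Agent.Lib.Helper29.TIResIndep
import Cfsg.Agent.Lib.Helper29.TIResOrbit

/-!
Main module-theoretic lemma: if a `p`-subgroup `P ≤ H` acts semiregularly on the nontrivial cosets
of `H` in `G`, and `W` is a complex `G`-module with `dim W - dim W^G < |P|`, then `W^H = W^G`.
-/

set_option autoImplicit false

namespace Cfsg.Agent.Lib.Helper29

theorem tir_exists_valuationSubring (p : ℕ) (hp : p.Prime) :
    ∃ R : ValuationSubring ℂ, (p : ℂ) ∈ R.nonunits := by
  let A : Subring ℂ := ⊥
  have hpA : (p : ℂ) ∈ A := natCast_mem A p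
  let I : Ideal A := Ideal.span {⟨(p : ℂ), hpA⟩}
  have hI : I ≠ ⊤ := by
    intro h
    rw [Ideal.eq_top_iff_one, Ideal.mem_span_singleton'] at h
    obtain ⟨a, ha⟩ := h
    obtain ⟨n, hn⟩ := Subring.mem_bot.mp a.2
    have h0 : (a : ℂ) * (p : ℂ) = 1 := congrArg Subtype.val ha
    have h1 : ((n * (p : ℤ) : ℤ) : ℂ) = 1 := by
      push_cast
      rw [hn]
      exact h0
    have h2 : n * (p : ℤ) = 1 := by exact_mod_cast h1
    have h3 : (p : ℤ) ∣ 1 := ⟨n, by rw [mul_comm]; exact h2.symm⟩
    have h4 : p ∣ 1 := by exact_mod_cast h3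
    exact hp.one_lt.ne' (Nat.dvd_one.mp h4)
  obtain ⟨B, -, hB⟩ := Ideal.image_subset_nonunits_valuationSubring I hI
  exact ⟨B, hB ⟨⟨(p : ℂ), hpA⟩, Ideal.subset_span rfl, rfl⟩⟩

theorem tir_invariants {G : Type*} [Group G] [Fintype G] (p : ℕ) [Fact p.Prime]
    (H P : Subgroup G) (hPH : P ≤ H) (hP : IsPGroup p P)
    (hsemi : ∀ g : G, g ∉ H → ∀ x ∈ P, g⁻¹ * x * g ∈ H → x = 1)
    {W : Type*} [AddCommGroup W] [Module ℂ W] [FiniteDimensional ℂ W] (σ : Representation ℂ G W)
    (hdim : Module.finrank ℂ W < Nat.card P + Module.finrank ℂ σ.invariants)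
    (f : W) (hf : ∀ h ∈ H, σ h f = f) : ∀ g : G, σ g f = f := by
  classical
  have hcardne : (Fintype.card G : ℂ) ≠ 0 := by
    exact_mod_cast Fintype.card_ne_zero
  haveI : Invertible (Fintype.card G : ℂ) := invertibleOfNonzero hcardne
  set e := σ.averageMap with he
  -- basic properties of the averaging map
  have he_inv : ∀ v, e v ∈ σ.invariants := σ.averageMap_invariant
  have he_id : ∀ v ∈ σ.invariants, e v = v := σ.averageMap_id
  have he_comp : ∀ g v, e (σ g v) = e v := by
    intro g v
    rw [he, Representation.averageMap, ← Representation.asAlgebraHom_single_one,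
      ← Module.End.mul_apply, ← map_mul (Representation.asAlgebraHom σ),
      GroupAlgebra.mul_average_right]
  have hsumG : ∀ v, ∑ g : G, σ g v = (Fintype.card G : ℂ) • e v := by
    intro v
    rw [he, Representation.averageMap, GroupAlgebra.average, map_smul, map_sum]
    simp only [MonoidAlgebra.of_apply, Representation.asAlgebraHom_single_one]
    rw [LinearMap.smul_apply, LinearMap.sum_apply, smul_smul, mul_invOf_self, one_smul]
  -- the vector w
  set w := f - e f with hw
  have hwH : ∀ h ∈ H, σ h w = w := by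
    intro h hh
    rw [hw, map_sub, hf h hh, he_inv (f) h]
  have hew : e w = 0 := by
    rw [hw, map_sub, he_id _ (he_inv f), sub_self]
  suffices hw0 : w = 0 by
    intro g
    have : f = e f := sub_eq_zero.mp hw0
    rw [this]
    exact he_inv f g
  -- the kernel of e has small dimension
  let K : Submodule ℂ W := LinearMap.ker e
  have hrange : LinearMap.range e = σ.invariants := by
    apply le_antisymm
    · rintro _ ⟨v, rfl⟩
      exact he_inv v
    · intro v hv
      exact ⟨v, he_id v hv⟩
  have hKdim : Module.finrank ℂ K < Nat.card P := by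
    have := LinearMap.finrank_range_add_finrank_ker e
    rw [hrange] at this
    change Module.finrank ℂ (LinearMap.ker e) < Nat.card P
    omega
  -- the valuation subring
  obtain ⟨R, hpR⟩ := tir_exists_valuationSubring p (Fact.out)
  -- the lattice
  let M : Submodule R W := Submodule.span R (Set.range fun g : G => σ g w)
  have hMstab : ∀ g : G, ∀ m ∈ M, σ g m ∈ M := by
    intro g m hm
    refine Submodule.span_induction (p := fun m _ => σ g m ∈ M) ?_ ?_ ?_ ?_ hm
    · rintro _ ⟨g', rfl⟩
      apply Submodule.subset_span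
      refine ⟨g * g', ?_⟩
      change σ (g * g') w = σ g (σ g' w)
      rw [map_mul]
      rfl
    · simp
    · intro a b _ _ ha hb
      rw [map_add]
      exact M.add_mem ha hb
    · intro r a _ ha
      have : σ g (r • a) = r • σ g a := by
        change σ g ((r : ℂ) • a) = (r : ℂ) • σ g a
        rw [map_smul]
      rw [this]
      exact M.smul_mem r ha
  have hMK : ∀ m ∈ M, m ∈ K := by
    intro m hm
    refine Submodule.span_induction (p := fun m _ => m ∈ K) ?_ ?_ ?_ ?_ hm
    · rintro _ ⟨g', rfl⟩
      change e (σ g' w) = 0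
      rw [he_comp, hew]
    · exact K.zero_mem
    · intro a b _ _ ha hb
      exact K.add_mem ha hb
    · intro r a _ ha
      exact K.smul_mem (r : ℂ) ha
  -- norms of elements of M lie in 𝔪 • M
  let τ : P →* (W →ₗ[ℂ] W) := σ.comp P.subtype
  have hτ : ∀ (x : P) (v : W), τ x v = σ (x : G) v := fun x v => rfl
  haveI : Fintype P := Fintype.ofFinite P
  have hnorm : ∀ m ∈ M, ∑ x : P, τ x m ∈ IsLocalRing.maximalIdeal R • M := by
    intro m hm
    by_contra hnot
    have hli := tir_linIndep R p hpR hP τ M (fun x m hm => hMstab (x : G) m hm) m hm hnot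
    let v' : P → K := fun x => ⟨τ x m, hMK _ (hMstab (x : G) m hm)⟩
    have hli' : LinearIndependent ℂ v' := by
      apply LinearIndependent.of_comp K.subtype
      exact hli
    have := hli'.fintype_card_le_finrank
    rw [Fintype.card_eq_nat_card] at this
    omega
  -- w is minus a norm
  have hwnorm : ∃ m ∈ M, w = - ∑ x : P, τ x m := by
    let act : (P × H) → G → G := fun a g => (a.1 : G) * g * ((a.2 : G))⁻¹
    let T : (P × H) → W →+ W := fun a => (σ (a.1 : G)).toAddMonoidHom
    let F : G → W := fun g => σ g w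
    let S : Finset G := Finset.univ.filter (fun g => g ∉ H)
    haveI : Fintype H := Fintype.ofFinite H
    have h1 := tir_orbit_sum (A := P × H) act (by intro x; simp [act])
      (by intro a b x; simp only [act, Prod.fst_mul, Prod.snd_mul, Subgroup.coe_mul, mul_inv_rev]
          group) T F
      (by
        intro a g
        simp only [act, F, T]
        rw [map_mul, map_mul]
        change σ (a.1 : G) (σ g (σ ((a.2 : G))⁻¹ w)) = σ (a.1 : G) (σ g w)
        rw [hwH _ (H.inv_mem a.2.2)])
      M.toAddSubgroup S.card S rfl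
      (by
        intro a g hg
        simp only [S, Finset.mem_filter, Finset.mem_univ, true_and] at hg ⊢
        intro hmem
        apply hg
        have h2 : g = ((a.1 : G))⁻¹ * ((a.1 : G) * g * ((a.2 : G))⁻¹) * (a.2 : G) := by group
        rw [h2]
        exact H.mul_mem (H.mul_mem (H.inv_mem (hPH a.1.2)) hmem) a.2.2)
      (by
        intro a g hg hfix
        simp only [S, Finset.mem_filter, Finset.mem_univ, true_and] at hg
        have h2 : g⁻¹ * (a.1 : G) * g = (a.2 : G) := by
          have : (a.1 : G) * g = g * (a.2 : G) := by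
            have h3 : (a.1 : G) * g * ((a.2 : G))⁻¹ = g := hfix
            calc (a.1 : G) * g = ((a.1 : G) * g * ((a.2 : G))⁻¹) * (a.2 : G) := by group
              _ = g * (a.2 : G) := by rw [h3]
          rw [mul_assoc, this]
          group
        have h4 : (a.1 : G) = 1 := hsemi g hg _ a.1.2 (by rw [h2]; exact a.2.2)
        have h5 : (a.2 : G) = 1 := by
          rw [← h2, h4]
          group
        apply Prod.ext
        · exact Subtype.ext h4
        · exact Subtype.ext h5)
      (by
        intro g _
        exact Submodule.subset_span ⟨g, rfl⟩)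
    obtain ⟨m, hm, hsum⟩ := h1
    refine ⟨m, hm, ?_⟩
    have hsplit : ∑ g : G, σ g w =
        ∑ g ∈ Finset.univ.filter (fun g => g ∈ H), σ g w + ∑ g ∈ S, σ g w := by
      rw [← Finset.sum_filter_add_sum_filter_not Finset.univ (fun g => g ∈ H)]
    have hH1 : ∑ g ∈ Finset.univ.filter (fun g => g ∈ H), σ g w = (Nat.card H : ℂ) • w := by
      rw [Finset.sum_congr rfl (fun g hg => hwH g (Finset.mem_filter.mp hg).2), Finset.sum_const,
        ← Nat.cast_smul_eq_nsmul ℂ]
      congr 2
      rw [Nat.card_eq_fintype_card, Fintype.card_subtype]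
    have hS1 : ∑ g ∈ S, σ g w = (Nat.card H : ℂ) • ∑ x : P, τ x m := by
      change ∑ g ∈ S, F g = _
      rw [hsum, Fintype.sum_prod_type]
      simp only [T]
      rw [Finset.smul_sum]
      refine Finset.sum_congr rfl fun x _ => ?_
      rw [Finset.sum_const, ← Nat.cast_smul_eq_nsmul ℂ, Finset.card_univ,
        Nat.card_eq_fintype_card]
      rfl
    rw [hsumG, hew, smul_zero, hH1, hS1, ← smul_add] at hsplit
    have hHne : (Nat.card H : ℂ) ≠ 0 := by
      exact_mod_cast Nat.card_pos.ne'
    have h6 : w + ∑ x : P, τ x m = 0 := by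
      rcases smul_eq_zero.mp hsplit.symm with h | h
      · exact absurd h hHne
      · exact h
    exact eq_neg_of_add_eq_zero_left h6
  obtain ⟨m₀, hm₀, hwm⟩ := hwnorm
  have hw_mem : w ∈ IsLocalRing.maximalIdeal R • M := by
    rw [hwm]
    exact Submodule.neg_mem _ (hnorm m₀ hm₀)
  -- 𝔪 • M is G-stable
  have hstab2 : ∀ g : G, ∀ y ∈ IsLocalRing.maximalIdeal R • M,
      σ g y ∈ IsLocalRing.maximalIdeal R • M := by
    intro g y hy
    refine Submodule.smul_induction_on hy ?_ ?_
    · intro r hr n hn
      have : σ g (r • n) = r • σ g n := by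
        change σ g ((r : ℂ) • n) = (r : ℂ) • σ g n
        rw [map_smul]
      rw [this]
      exact Submodule.smul_mem_smul hr (hMstab g n hn)
    · intro a b ha hb
      rw [map_add]
      exact Submodule.add_mem _ ha hb
  have hle : M ≤ IsLocalRing.maximalIdeal R • M := by
    apply Submodule.span_le.mpr
    rintro _ ⟨g, rfl⟩
    exact hstab2 g w hw_mem
  have hMbot : M = ⊥ := by
    apply Submodule.eq_bot_of_le_smul_of_le_jacobson_bot (IsLocalRing.maximalIdeal R) M
      (Submodule.fg_span (Set.finite_range _)) hle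
    rw [IsLocalRing.jacobson_eq_maximalIdeal ⊥ bot_ne_top]
  have hwM : w ∈ M := by
    apply Submodule.subset_span
    exact ⟨1, by simp⟩
  rw [hMbot] at hwM
  exact (Submodule.mem_bot R).mp hwM

end Cfsg.Agent.Lib.Helper29
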