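import Mathlib
import Cfsg.Prelude.Def_Characters
import Cfsg.Prelude.Def_Blocks
import Cfsg.Agent.Lib.Helper25.CharBasic
import Cfsg.Agent.Lib.Helper29.TIResMod

/-!
Character-theoretic wrapper: TI Sylow subgroup gives semiregular action; norms of characters as
dimensions of commutants.
-/

set_option autoImplicit false

namespace Cfsg.Agent.Lib.Helper29

open scoped Pointwise

theorem tir_semiregular {G : Type*} [Group G] [Finite G] (p : ℕ) [Fact p.Prime] (P : Sylow p G)
    (hTI : ∀ g : G, g ∉ Subgroup.normalizer ((P : Subgroup G) : Set G) →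
      (P : Subgroup G) ⊓ (MulAut.conj g • (P : Subgroup G)) = ⊥)
    (H : Subgroup G) (hH : Subgroup.normalizer ((P : Subgroup G) : Set G) ≤ H) :
    ∀ g : G, g ∉ H → ∀ x ∈ (P : Subgroup G), g⁻¹ * x * g ∈ H → x = 1 := by
  intro g hg x hx hy
  have hPH : (P : Subgroup G) ≤ H := le_trans Subgroup.le_normalizer hH
  let P' : Sylow p H := P.subtype hPH
  let Q' : Subgroup H := (MulAut.conj g⁻¹ • (P : Subgroup G)).subgroupOf H
  have hQ' : IsPGroup p Q' := by
    have h1 : IsPGroup p (MulAut.conj g⁻¹ • (P : Subgroup G) : Subgroup G) := by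
      have := (g⁻¹ • P).isPGroup'
      exact this
    exact h1.comap_subtype
  obtain ⟨S, hS⟩ := hQ'.exists_le_sylow
  obtain ⟨h, hh⟩ := MulAction.exists_smul_eq H P' S
  have hyQ : (⟨g⁻¹ * x * g, hy⟩ : H) ∈ Q' := by
    rw [Subgroup.mem_subgroupOf]
    change g⁻¹ * x * g ∈ MulAut.conj g⁻¹ • (P : Subgroup G)
    rw [Subgroup.mem_pointwise_smul_iff_inv_smul_mem]
    have : (MulAut.conj g⁻¹)⁻¹ • (g⁻¹ * x * g) = x := by
      simp only [MulAut.smul_def, ← map_inv, inv_inv, MulAut.conj_apply]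
      group
    rw [this]
    exact hx
  have hyS := hS hyQ
  rw [← hh] at hyS
  have hz : h⁻¹ * (⟨g⁻¹ * x * g, hy⟩ : H) * h ∈ (P' : Subgroup H) := by
    have h1 : (⟨g⁻¹ * x * g, hy⟩ : H) ∈ (MulAut.conj h • (P' : Subgroup H)) := hyS
    rw [Subgroup.mem_pointwise_smul_iff_inv_smul_mem] at h1
    simpa [MulAut.smul_def, MulAut.conj_apply] using h1
  have hz' : (h : G)⁻¹ * (g⁻¹ * x * g) * (h : G) ∈ (P : Subgroup G) := by
    have := hz
    rw [Sylow.coe_subtype, Subgroup.mem_subgroupOf] at this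
    simpa using this
  have hgh : g * (h : G) ∉ Subgroup.normalizer ((P : Subgroup G) : Set G) := by
    intro hn
    apply hg
    have h1 : g * (h : G) ∈ H := hH hn
    have h2 : g = g * (h : G) * (h : G)⁻¹ := by group
    rw [h2]
    exact H.mul_mem h1 (H.inv_mem h.2)
  have hbot := hTI _ hgh
  have hxmem : x ∈ (P : Subgroup G) ⊓ (MulAut.conj (g * (h : G)) • (P : Subgroup G)) := by
    refine Subgroup.mem_inf.mpr ⟨hx, ?_⟩
    rw [Subgroup.mem_pointwise_smul_iff_inv_smul_mem]
    have : (MulAut.conj (g * (h : G)))⁻¹ • x = (h : G)⁻¹ * (g⁻¹ * x * g) * (h : G) := by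
      simp only [MulAut.smul_def, ← map_inv, MulAut.conj_apply]
      group
    rw [this]
    exact hz'
  rw [hbot] at hxmem
  exact Subgroup.mem_bot.mp hxmem

theorem tir_classInner_self {G : Type*} [Group G] [Fintype G] {V : Type*} [AddCommGroup V]
    [Module ℂ V] [FiniteDimensional ℂ V] (ρ : Representation ℂ G V) :
    Cfsg.classInner ρ.character ρ.character =
      (Module.finrank ℂ (Representation.linHom ρ ρ).invariants : ℂ) := by
  haveI : Invertible (Nat.card G : ℂ) :=
    invertibleOfNonzero (by exact_mod_cast Nat.card_pos.ne')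
  rw [← Representation.card_inv_mul_sum_char_eq_finrank]
  unfold Cfsg.classInner
  congr 1
  refine Finset.sum_congr rfl fun g _ => ?_
  rw [Representation.char_linHom, ← Cfsg.Agent.Lib.Helper25.char_inv, mul_comm]

end Cfsg.Agent.Lib.Helper29
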