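import Mathlib
import Cfsg.Agent.Lib.Helper29.TIResMod

/-!
Commutant version of `tir_invariants`: if `(dim V)^2 ≤ |P|` then every `H`-endomorphism of `V` is a
`G`-endomorphism.
-/

set_option autoImplicit false

namespace Cfsg.Agent.Lib.Helper29

theorem tir_commutant {G : Type*} [Group G] [Fintype G] (p : ℕ) [Fact p.Prime]
    (H P : Subgroup G) (hPH : P ≤ H) (hP : IsPGroup p P)
    (hsemi : ∀ g : G, g ∉ H → ∀ x ∈ P, g⁻¹ * x * g ∈ H → x = 1)
    {V : Type*} [AddCommGroup V] [Module ℂ V] [FiniteDimensional ℂ V] (ρ : Representation ℂ G V)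
    (hdeg : (Module.finrank ℂ V) ^ 2 ≤ Nat.card P)
    (f : V →ₗ[ℂ] V) (hf : ∀ h ∈ H, ρ h ∘ₗ f = f ∘ₗ ρ h) : ∀ g : G, ρ g ∘ₗ f = f ∘ₗ ρ g := by
  classical
  set n := Module.finrank ℂ V with hn
  set σ := Representation.linHom ρ ρ with hσ
  have hfinW : Module.finrank ℂ (V →ₗ[ℂ] V) = n * n := by
    rw [Module.finrank_linearMap]
  have hcardP : 0 < Nat.card P := Nat.card_pos
  have hinvmul : ∀ g : G, ρ g ∘ₗ ρ g⁻¹ = LinearMap.id := by
    intro g
    have : ρ g * ρ g⁻¹ = 1 := by rw [← map_mul, mul_inv_cancel, map_one]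
    exact this
  have hdim : Module.finrank ℂ (V →ₗ[ℂ] V) < Nat.card P + Module.finrank ℂ σ.invariants := by
    rw [hfinW]
    rcases Nat.eq_zero_or_pos n with h0 | hpos
    · have : n * n = 0 := by simp [h0]
      omega
    · have hinv : 0 < Module.finrank ℂ σ.invariants := by
        have hidmem : (LinearMap.id : V →ₗ[ℂ] V) ∈ σ.invariants := by
          intro g
          rw [hσ, Representation.linHom_apply, LinearMap.id_comp]
          exact hinvmul g
        refine (Module.finrank_pos_iff_exists_ne_zero (R := ℂ) (M := σ.invariants)).mpr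
          ⟨(⟨LinearMap.id, hidmem⟩ : σ.invariants), ?_⟩
        intro h0
        have h1 : (LinearMap.id : V →ₗ[ℂ] V) = 0 := congrArg Subtype.val h0
        have hV : 0 < Module.finrank ℂ V := hpos
        obtain ⟨v, hv⟩ := (Module.finrank_pos_iff_exists_ne_zero (R := ℂ) (M := V)).mp hV
        apply hv
        have := LinearMap.congr_fun h1 v
        simpa using this
      have : n * n = n ^ 2 := by ring
      omega
  have hinvH : ∀ h ∈ H, σ h f = f := by
    intro h hh
    rw [hσ, Representation.linHom_apply, ← LinearMap.comp_assoc, hf h hh, LinearMap.comp_assoc,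
      hinvmul h, LinearMap.comp_id]
  have hall := tir_invariants p H P hPH hP hsemi σ hdim f hinvH
  intro g
  have h1 := hall g
  rw [hσ, Representation.linHom_apply] at h1
  have h2 : ρ g⁻¹ ∘ₗ ρ g = LinearMap.id := by
    have := hinvmul g⁻¹
    rwa [inv_inv] at this
  calc ρ g ∘ₗ f = ρ g ∘ₗ f ∘ₗ (ρ g⁻¹ ∘ₗ ρ g) := by rw [h2, LinearMap.comp_id]
    _ = (ρ g ∘ₗ f ∘ₗ ρ g⁻¹) ∘ₗ ρ g := by simp only [LinearMap.comp_assoc]
    _ = f ∘ₗ ρ g := by rw [h1]

end Cfsg.Agent.Lib.Helper29
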