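import Mathlib
import Cfsg.Agent.Lib.Helper29.LeoOrbit
import Cfsg.Agent.Lib.Helper29.TIResChar
import Cfsg.Agent.Lib.Helper29.TIResComm

/-!
Restriction of a small-degree irreducible character to `N` stays irreducible; consequence for the
multiplicities on `C`.
-/

set_option autoImplicit false
open scoped ComplexConjugate
open Classical

namespace Cfsg.Agent.Lib.Helper29

open Cfsg.Agent.Lib.helper7 Cfsg.Agent.Lib.helper2

section LeoRes

variable {G : Type*} [Group G] [Fintype G]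
variable {p : ℕ} {C N P : Subgroup G} {hPC : P ≤ C} {π : ↥C →* ↥P}

theorem leo_norm_res [Fact p.Prime] (h : LeoSetup p C N P hPC π) (χ : Cfsg.IrrCharacter G)
    (hdeg : leoDeg χ ^ 2 ≤ Nat.card ↥P) :
    Cfsg.classInner (fun n : ↥N => (χ : G → ℂ) (n : G)) (fun n : ↥N => (χ : G → ℂ) (n : G)) = 1 := by
  obtain ⟨k, ρ, hρ, hχ⟩ := χ.2
  have hk : Module.finrank ℂ (Fin k → ℂ) = leoDeg χ := by
    have h1 := leoDeg_spec χ
    rw [← hχ, Representation.char_one] at h1
    exact_mod_cast h1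
  set ρN : Representation ℂ ↥N (Fin k → ℂ) := ρ.comp N.subtype with hρN
  have hcharN : ρN.character = fun n : ↥N => (χ : G → ℂ) (n : G) := by
    funext n
    rw [← hχ]
    rfl
  have h1 := tir_classInner_self ρN
  have h2 := tir_classInner_self ρ
  rw [hcharN] at h1
  rw [hχ, h7_irr_norm χ.2] at h2
  rw [h1, h2]
  congr 1
  have hinvmul : ∀ g : G, ρ g ∘ₗ ρ g⁻¹ = LinearMap.id := by
    intro g
    have : ρ g * ρ g⁻¹ = 1 := by rw [← map_mul, mul_inv_cancel, map_one]
    exact this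
  have hmulinv : ∀ g : G, ρ g⁻¹ ∘ₗ ρ g = LinearMap.id := by
    intro g
    have : ρ g⁻¹ * ρ g = 1 := by rw [← map_mul, inv_mul_cancel, map_one]
    exact this
  have hsub : (Representation.linHom ρN ρN).invariants = (Representation.linHom ρ ρ).invariants := by
    ext f
    rw [Representation.mem_invariants, Representation.mem_invariants]
    constructor
    · intro hf
      have hcomm : ∀ n ∈ N, ρ n ∘ₗ f = f ∘ₗ ρ n := by
        intro n hn
        have h3 := hf ⟨n, hn⟩
        rw [Representation.linHom_apply] at h3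
        have h4 : ρ n ∘ₗ f ∘ₗ ρ n⁻¹ = f := h3
        calc ρ n ∘ₗ f = ρ n ∘ₗ f ∘ₗ (ρ n⁻¹ ∘ₗ ρ n) := by rw [hmulinv, LinearMap.comp_id]
          _ = (ρ n ∘ₗ f ∘ₗ ρ n⁻¹) ∘ₗ ρ n := by simp only [LinearMap.comp_assoc]
          _ = f ∘ₗ ρ n := by rw [h4]
      have hall := tir_commutant p N P (le_trans hPC h.hCN) h.pgroup h.tisemi ρ
        (by rw [hk]; exact hdeg) f hcomm
      intro g
      rw [Representation.linHom_apply, ← LinearMap.comp_assoc, hall g, LinearMap.comp_assoc,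
        hinvmul, LinearMap.comp_id]
    · intro hf n
      have := hf (n : G)
      rw [Representation.linHom_apply] at this ⊢
      exact this
  rw [hsub]

/-- the sum of squares of the multiplicities on `C` is at most `|N : C|` -/
theorem leo_mult_sq_le [Fact p.Prime] (h : LeoSetup p C N P hPC π)
    [Fintype (Cfsg.IrrCharacter ↥C)] (χ : Cfsg.IrrCharacter G)
    (hdeg : leoDeg χ ^ 2 ≤ Nat.card ↥P) :
    (∑ θ : Cfsg.IrrCharacter ↥C, leoM C (χ : G → ℂ) θ ^ 2) * Nat.card ↥C ≤ Nat.card ↥N := by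
  have hχ := isCharacter_of_irr χ
  have hN := leo_norm_res h χ hdeg
  have hC := Cfsg.Agent.Lib.Helper25.classInner_parseval (fun c : ↥C => (χ : G → ℂ) (c : G))
    (isCharacter_isClassFunction (isCharacter_restrict hχ C))
  simp only [leoM_spec C _ hχ, Complex.conj_natCast] at hC
  unfold Cfsg.classInner at hN hC
  have hNne : (Nat.card ↥N : ℂ) ≠ 0 := by exact_mod_cast Nat.card_pos.ne'
  have hCne : (Nat.card ↥C : ℂ) ≠ 0 := by exact_mod_cast Nat.card_pos.ne'
  have hN' : ∑ n : ↥N, (χ : G → ℂ) (n : G) * conj ((χ : G → ℂ) (n : G)) = (Nat.card ↥N : ℂ) := by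
    field_simp at hN
    exact hN
  have hC' : ∑ c : ↥C, (χ : G → ℂ) (c : G) * conj ((χ : G → ℂ) (c : G)) =
      (Nat.card ↥C : ℂ) * ∑ θ : Cfsg.IrrCharacter ↥C, ((leoM C (χ : G → ℂ) θ : ℕ) : ℂ) *
        ((leoM C (χ : G → ℂ) θ : ℕ) : ℂ) := by
    rw [← hC]
    field_simp
  -- pass to real numbers
  have hNr : ∑ n : ↥N, Complex.normSq ((χ : G → ℂ) (n : G)) = (Nat.card ↥N : ℝ) := by
    have := congrArg Complex.re hN'
    simp only [Complex.re_sum, Complex.mul_conj, Complex.ofReal_re, Complex.natCast_re] at this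
    exact this
  have hCr : ∑ c : ↥C, Complex.normSq ((χ : G → ℂ) (c : G)) =
      (Nat.card ↥C : ℝ) * ((∑ θ : Cfsg.IrrCharacter ↥C, leoM C (χ : G → ℂ) θ ^ 2 : ℕ) : ℝ) := by
    have := congrArg Complex.re hC'
    simp only [Complex.re_sum, Complex.mul_conj, Complex.ofReal_re] at this
    rw [this]
    have h3 : (∑ θ : Cfsg.IrrCharacter ↥C, ((leoM C (χ : G → ℂ) θ : ℕ) : ℂ) *
        ((leoM C (χ : G → ℂ) θ : ℕ) : ℂ)) =
        (((∑ θ : Cfsg.IrrCharacter ↥C, leoM C (χ : G → ℂ) θ ^ 2 : ℕ) : ℝ) : ℂ) := by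
      push_cast
      apply Finset.sum_congr rfl
      intro θ _
      ring
    rw [h3, ← Complex.ofReal_natCast (Nat.card ↥C), ← Complex.ofReal_mul, Complex.ofReal_re]
  have hle : ∑ c : ↥C, Complex.normSq ((χ : G → ℂ) (c : G)) ≤
      ∑ n : ↥N, Complex.normSq ((χ : G → ℂ) (n : G)) := by
    rw [← h7_sum_subgroup C (fun g : G => Complex.normSq ((χ : G → ℂ) g)),
      ← h7_sum_subgroup N (fun g : G => Complex.normSq ((χ : G → ℂ) g))]
    apply Finset.sum_le_sum
    intro g _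
    by_cases hg : g ∈ C
    · rw [if_pos hg, if_pos (h.hCN hg)]
    · rw [if_neg hg]
      split_ifs
      · exact Complex.normSq_nonneg _
      · exact le_refl _
  rw [hNr, hCr] at hle
  have : (((∑ θ : Cfsg.IrrCharacter ↥C, leoM C (χ : G → ℂ) θ ^ 2) * Nat.card ↥C : ℕ) : ℝ) ≤
      (Nat.card ↥N : ℝ) := by
    push_cast
    push_cast at hle
    linarith
  exact_mod_cast this

end LeoRes

end Cfsg.Agent.Lib.Helper29
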