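import Mathlib
import Cfsg.Agent.Lib.Helper29.LeoFamily
import Cfsg.Agent.Lib.Helper29.LeoRes
import Cfsg.Agent.Lib.Helper25.Gagola
import Cfsg.Agent.Lib.helper7.BSCore

/-!
First part of the main argument: nonprincipal characters have `P`-nontrivial constituents on `C`,
small-degree characters restrict to a single orbit sum, and existence of a "conjugate" character.
-/

set_option autoImplicit false
open scoped ComplexConjugate
open Classical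

namespace Cfsg.Agent.Lib.Helper29

open Cfsg.Agent.Lib.helper7 Cfsg.Agent.Lib.helper2 Cfsg.Agent.Lib.Helper25

section LeoMain1

variable {G : Type*} [Group G] [Fintype G]
variable {p : ℕ} {C N P : Subgroup G} {hPC : P ≤ C} {π : ↥C →* ↥P}

/-- a nonprincipal irreducible character has a `P`-nontrivial constituent on `C`, when no proper
normal subgroup contains `P` -/
theorem leo_NK (h : LeoSetup p C N P hPC π)
    (hnoK : ∀ K : Subgroup G, K.Normal → P ≤ K → K = ⊤) (η : Cfsg.IrrCharacter G)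
    (hη : η ≠ trivIrr G) :
    ∃ θ : Cfsg.IrrCharacter ↥C, leoOm h θ ≠ 1 ∧ 0 < leoM C (η : G → ℂ) θ := by
  have : Fintype (Cfsg.IrrCharacter ↥C) := Fintype.ofFinite _
  by_contra hcon
  push Not at hcon
  have hexp := leo_res_expansion C (η : G → ℂ) (isCharacter_of_irr η)
  have hP : ∀ x : ↥P, (η : G → ℂ) (x : G) = (η : G → ℂ) 1 := by
    intro x
    have e1 := congrFun hexp (Subgroup.inclusion hPC x)
    have e2 := congrFun hexp 1
    simp only [Finset.sum_apply, Pi.smul_apply, smul_eq_mul] at e1 e2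
    have e1' : (η : G → ℂ) (x : G) = ∑ θ : Cfsg.IrrCharacter ↥C,
        (leoM C (η : G → ℂ) θ : ℂ) * (θ : ↥C → ℂ) (Subgroup.inclusion hPC x) := e1
    have e2' : (η : G → ℂ) 1 = ∑ θ : Cfsg.IrrCharacter ↥C,
        (leoM C (η : G → ℂ) θ : ℂ) * (θ : ↥C → ℂ) 1 := e2
    rw [e1', e2']
    apply Finset.sum_congr rfl
    intro θ _
    by_cases hω : leoOm h θ = 1
    · rw [leoOm_apply_one h θ x, hω, MonoidHom.one_apply, Units.val_one, one_mul]
    · have := hcon θ hω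
      have h0 : leoM C (η : G → ℂ) θ = 0 := by omega
      rw [h0]
      simp
  have hle : P ≤ irrKer η := by
    intro x hx
    rw [mem_irrKer]
    exact hP ⟨x, hx⟩
  have htop := hnoK (irrKer η) inferInstance hle
  have hall : ∀ g : G, (η : G → ℂ) g = (η : G → ℂ) 1 := by
    intro g
    rw [← mem_irrKer, htop]
    exact Subgroup.mem_top g
  have h1 := h7_classInner_irr_triv η
  rw [if_neg hη] at h1
  unfold Cfsg.classInner at h1
  simp only [hall, map_one, mul_one, Finset.sum_const, Finset.card_univ, nsmul_eq_mul] at h1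
  rw [← Nat.card_eq_fintype_card] at h1
  have hne : (Nat.card G : ℂ) ≠ 0 := by exact_mod_cast Nat.card_pos.ne'
  rw [← mul_assoc, inv_mul_cancel₀ hne, one_mul] at h1
  exact irr_one_ne_zero η h1

/-- a small-degree irreducible character restricts to `C` as a single orbit sum -/
theorem leo_mult_orbit [Fact p.Prime] (h : LeoSetup p C N P hPC π) (χ : Cfsg.IrrCharacter G)
    (hdeg : leoDeg χ ^ 2 ≤ Nat.card ↥P) (θ₁ : Cfsg.IrrCharacter ↥C) (hθ₁ : leoOm h θ₁ ≠ 1)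
    (hm : 0 < leoM C (χ : G → ℂ) θ₁) (θ : Cfsg.IrrCharacter ↥C) :
    leoM C (χ : G → ℂ) θ = if θ ∈ leoOrb h θ₁ then 1 else 0 := by
  have : Fintype (Cfsg.IrrCharacter ↥C) := Fintype.ofFinite _
  set S := leoOrb h θ₁ with hS
  set m := leoM C (χ : G → ℂ) with hmdef
  have hS1 : ∀ ϑ ∈ S, 1 ≤ m ϑ ^ 2 := by
    intro ϑ hϑ
    obtain ⟨n, hn⟩ := (mem_leoOrb h θ₁ ϑ).mp hϑ
    have : m ϑ = m θ₁ := by rw [← hn, hmdef, leoM_cj h _ (isCharacter_of_irr χ)]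
    rw [this]
    exact Nat.one_le_pow _ _ hm
  have hsq := leo_mult_sq_le h χ hdeg
  rw [← leo_orbit_card h θ₁ hθ₁] at hsq
  have hCpos : 0 < Nat.card ↥C := Nat.card_pos
  have hle : ∑ ϑ : Cfsg.IrrCharacter ↥C, m ϑ ^ 2 ≤ S.card := Nat.le_of_mul_le_mul_right hsq hCpos
  have hsplit : ∑ ϑ ∈ Finset.univ \ S, m ϑ ^ 2 + ∑ ϑ ∈ S, m ϑ ^ 2 =
      ∑ ϑ : Cfsg.IrrCharacter ↥C, m ϑ ^ 2 := Finset.sum_sdiff (Finset.subset_univ S)
  have hS2 : S.card ≤ ∑ ϑ ∈ S, m ϑ ^ 2 := by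
    calc S.card = ∑ ϑ ∈ S, 1 := by simp
      _ ≤ ∑ ϑ ∈ S, m ϑ ^ 2 := Finset.sum_le_sum hS1
  have hout : ∑ ϑ ∈ Finset.univ \ S, m ϑ ^ 2 = 0 := by omega
  have hin : ∑ ϑ ∈ S, 1 = ∑ ϑ ∈ S, m ϑ ^ 2 := by
    have : ∑ ϑ ∈ S, (1 : ℕ) = S.card := by simp
    omega
  by_cases hθ : θ ∈ S
  · rw [if_pos hθ]
    have := (Finset.sum_eq_sum_iff_of_le hS1).mp hin θ hθ
    have h2 : m θ ^ 2 = 1 := this.symm
    exact (Nat.pow_eq_one.mp h2).resolve_right (by norm_num)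
  · rw [if_neg hθ]
    have hmem : θ ∈ Finset.univ \ S := Finset.mem_sdiff.mpr ⟨Finset.mem_univ _, hθ⟩
    have := (Finset.sum_eq_zero_iff.mp hout) θ hmem
    exact (pow_eq_zero_iff (by norm_num)).mp this

theorem leo_res_orbit (h : LeoSetup p C N P hPC π) (χ : Cfsg.IrrCharacter G)
    (θ₁ : Cfsg.IrrCharacter ↥C)
    (hmult : ∀ θ, leoM C (χ : G → ℂ) θ = if θ ∈ leoOrb h θ₁ then 1 else 0) (c : ↥C) :
    (χ : G → ℂ) (c : G) = ∑ ϑ ∈ leoOrb h θ₁, (ϑ : ↥C → ℂ) c := by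
  have : Fintype (Cfsg.IrrCharacter ↥C) := Fintype.ofFinite _
  have hexp := congrFun (leo_res_expansion C (χ : G → ℂ) (isCharacter_of_irr χ)) c
  simp only [Finset.sum_apply, Pi.smul_apply, smul_eq_mul, hmult] at hexp
  rw [hexp]
  have h2 : ∀ ϑ : Cfsg.IrrCharacter ↥C,
      (((if ϑ ∈ leoOrb h θ₁ then 1 else 0 : ℕ)) : ℂ) * (ϑ : ↥C → ℂ) c =
        if ϑ ∈ leoOrb h θ₁ then (ϑ : ↥C → ℂ) c else 0 := by
    intro ϑ
    split_ifs <;> simp
  simp only [h2]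
  rw [Finset.sum_ite_mem, Finset.univ_inter]

theorem leo_deg_orbit (h : LeoSetup p C N P hPC π) (χ : Cfsg.IrrCharacter G)
    (θ₁ : Cfsg.IrrCharacter ↥C)
    (hmult : ∀ θ, leoM C (χ : G → ℂ) θ = if θ ∈ leoOrb h θ₁ then 1 else 0) :
    leoDeg χ = (leoOrb h θ₁).card * leoDeg θ₁ := by
  have h1 := leo_res_orbit h χ θ₁ hmult 1
  have h2 : ∀ ϑ ∈ leoOrb h θ₁, (ϑ : ↥C → ℂ) 1 = (leoDeg θ₁ : ℂ) := by
    intro ϑ hϑ
    obtain ⟨n, hn⟩ := (mem_leoOrb h θ₁ ϑ).mp hϑ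
    rw [← hn, leoCjI_one_eval, leoDeg_spec]
  rw [Finset.sum_congr rfl h2, Finset.sum_const, nsmul_eq_mul] at h1
  have h3 : (χ : G → ℂ) ((1 : ↥C) : G) = (leoDeg χ : ℂ) := leoDeg_spec χ
  rw [h3] at h1
  exact_mod_cast h1

/-- choice of a twisting character outside a given small set -/
theorem leo_exists_outside [Fintype ↥P] [Fintype (↥P →* ℂˣ)] (h : LeoSetup p C N P hPC π)
    (ω : ↥P →* ℂˣ) (S : Finset (↥P →* ℂˣ)) (hS : S.card + 1 < Nat.card ↥P) :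
    ∃ lam : ↥P →* ℂˣ, lam * ω ≠ 1 ∧ lam * ω ∉ S := by
  have hcard : (Finset.univ : Finset (↥P →* ℂˣ)).card = Nat.card ↥P := by
    rw [Finset.card_univ, ← Nat.card_eq_fintype_card, afd_card_dual (leo_comm h)]
  have h1 : (insert (1 : ↥P →* ℂˣ) S).card < (Finset.univ : Finset (↥P →* ℂˣ)).card := by
    have := Finset.card_insert_le (1 : ↥P →* ℂˣ) S
    omega
  obtain ⟨μ, -, hμ⟩ := Finset.exists_mem_notMem_of_card_lt_card h1
  rw [Finset.mem_insert, not_or] at hμ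
  have hmul : μ * ω⁻¹ * ω = μ := by
    ext x
    simp [mul_assoc]
  exact ⟨μ * ω⁻¹, by rw [hmul]; exact hμ.1, by rw [hmul]; exact hμ.2⟩

theorem leo_exists_twist [Fintype ↥P] [Fintype (↥P →* ℂˣ)] (h : LeoSetup p C N P hPC π)
    (θ : Cfsg.IrrCharacter ↥C) (hcard : (leoOrb h θ).card + 1 < Nat.card ↥P) :
    ∃ lam : ↥P →* ℂˣ, lam * leoOm h θ ≠ 1 ∧ ∀ ϑ ∈ leoOrb h θ, leoOm h ϑ ≠ lam * leoOm h θ := by
  have hS : ((leoOrb h θ).image (leoOm h)).card + 1 < Nat.card ↥P := by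
    have := Finset.card_image_le (s := leoOrb h θ) (f := leoOm h)
    omega
  obtain ⟨lam, h1, h2⟩ := leo_exists_outside h (leoOm h θ) _ hS
  refine ⟨lam, h1, fun ϑ hϑ heq => h2 ?_⟩
  rw [← heq]
  exact Finset.mem_image_of_mem _ hϑ

theorem leo_twist_not_mem (h : LeoSetup p C N P hPC π) (θ : Cfsg.IrrCharacter ↥C)
    (lam : ↥P →* ℂˣ) (hlam : ∀ ϑ ∈ leoOrb h θ, leoOm h ϑ ≠ lam * leoOm h θ) :
    leoTw (lam.comp π) θ ∉ leoOrb h θ := by
  intro hm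
  exact hlam _ hm (leoOm_tw h lam θ)

/-- existence of the "conjugate" character whose restriction is the orbit sum of the twist -/
theorem leo_exists_conj_char (h : LeoSetup p C N P hPC π) (χ : Cfsg.IrrCharacter G)
    (θ₁ : Cfsg.IrrCharacter ↥C) (hθ₁ : leoOm h θ₁ ≠ 1)
    (hmult : ∀ θ, leoM C (χ : G → ℂ) θ = if θ ∈ leoOrb h θ₁ then 1 else 0)
    (lam : ↥P →* ℂˣ) (hl : lam * leoOm h θ₁ ≠ 1)
    (hnc : leoTw (lam.comp π) θ₁ ∉ leoOrb h θ₁) :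
    ∃ χ' : Cfsg.IrrCharacter G,
      (∀ c : ↥C, (χ' : G → ℂ) (c : G) =
        ∑ ϑ ∈ leoOrb h (leoTw (lam.comp π) θ₁), (ϑ : ↥C → ℂ) c) ∧
      (χ' : G → ℂ) 1 = (χ : G → ℂ) 1 := by
  obtain ⟨a, b, hab, hshape, hexp⟩ := leo_ind_shape h lam θ₁ hθ₁ hl hnc
  have h1 := hshape χ
  rw [hmult, hmult, if_neg hnc, if_pos (self_mem_leoOrb h θ₁)] at h1
  have hb : χ = b := by
    rcases afInd_cases χ b with ⟨h2, _⟩ | ⟨_, h2⟩
    · rcases afInd_cases χ a with ⟨h3, _⟩ | ⟨h3, _⟩ <;> (push_cast at h1; omega)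
    · exact h2
  have hval : ∀ g : G, (a : G → ℂ) g =
      Cfsg.indFun C (leoBeta (π := π) lam θ₁) g + (χ : G → ℂ) g := by
    intro g
    rw [hexp, hb]
    simp
  refine ⟨a, fun c => ?_, ?_⟩
  · rw [hval, leo_ind_res h lam θ₁ hθ₁ hl c, leo_res_orbit h χ θ₁ hmult c]
    ring
  · rw [hval, leo_ind_one, zero_add]

end LeoMain1

end Cfsg.Agent.Lib.Helper29
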