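import Mathlib
import Cfsg.Agent.Lib.Helper29.LeoMain1
import Cfsg.Agent.Lib.Helper29.AbFrobGram
import Cfsg.Agent.Lib.helper2.BergerG1

/-!
Bookkeeping lemmas for the final argument: sums over `P`, expansions of products.
-/

set_option autoImplicit false
open scoped ComplexConjugate
open Classical

namespace Cfsg.Agent.Lib.Helper29

open Cfsg.Agent.Lib.helper7 Cfsg.Agent.Lib.helper2 Cfsg.Agent.Lib.Helper25

section LeoMain2

variable {G : Type*} [Group G] [Fintype G]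
variable {p : ℕ} {C N P : Subgroup G} {hPC : P ≤ C} {π : ↥C →* ↥P}

theorem leo_sum_nat_ne_zero {ι : Type*} (s : Finset ι) (f : ι → ℂ)
    (hf : ∀ i ∈ s, ∃ k : ℕ, f i = (k : ℂ)) (i₀ : ι) (hi₀ : i₀ ∈ s) (h0 : f i₀ ≠ 0) :
    ∑ i ∈ s, f i ≠ 0 := by
  have hf' : ∀ i : ι, ∃ k : ℕ, i ∈ s → f i = (k : ℂ) := by
    intro i
    by_cases hi : i ∈ s
    · obtain ⟨k, hk⟩ := hf i hi
      exact ⟨k, fun _ => hk⟩
    · exact ⟨0, fun h => absurd h hi⟩
  choose k hk using hf'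
  have h1 : ∑ i ∈ s, f i = ((∑ i ∈ s, k i : ℕ) : ℂ) := by
    push_cast
    exact Finset.sum_congr rfl (fun i hi => hk i hi)
  rw [h1]
  have h2 : 0 < k i₀ := by
    rcases Nat.eq_zero_or_pos (k i₀) with h3 | h3
    · exfalso
      apply h0
      rw [hk i₀ hi₀, h3]
      simp
    · exact h3
  have h3 : k i₀ ≤ ∑ i ∈ s, k i := Finset.single_le_sum (fun _ _ => Nat.zero_le _) hi₀
  have h4 : 0 < ∑ i ∈ s, k i := by omega
  exact_mod_cast h4.ne'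

/-- number of `P`-fixed points of a character of `G` -/
noncomputable def leoA (h : LeoSetup p C N P hPC π) (η : G → ℂ) : ℕ :=
  haveI : Fintype (Cfsg.IrrCharacter ↥C) := Fintype.ofFinite _
  ∑ θ : Cfsg.IrrCharacter ↥C, if leoOm h θ = 1 then leoM C η θ * leoDeg θ else 0

theorem leo_sum_P_A (h : LeoSetup p C N P hPC π) (η : G → ℂ)
    (hη : Cfsg.IsCharacter G η) :
    ∑ x : ↥P, η (x : G) = (Nat.card ↥P : ℂ) * (leoA h η : ℂ) := by
  have : Fintype (Cfsg.IrrCharacter ↥C) := Fintype.ofFinite _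
  rw [leo_sum_P_char h η hη]
  unfold leoA
  congr 2
  apply Finset.sum_congr
  · ext; simp
  · intro θ _
    by_cases hc : leoOm h θ = 1 <;> simp [hc]

theorem leoA_pos_of (h : LeoSetup p C N P hPC π) (η : G → ℂ) (θ : Cfsg.IrrCharacter ↥C)
    (hθ : leoOm h θ = 1) (hm : 0 < leoM C η θ) : 0 < leoA h η := by
  letI : Fintype (Cfsg.IrrCharacter ↥C) := Fintype.ofFinite _
  unfold leoA
  refine lt_of_lt_of_le (Nat.mul_pos hm (leoDeg_pos θ)) ?_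
  have h1 : (if leoOm h θ = 1 then leoM C η θ * leoDeg θ else 0) ≤
      ∑ ϑ : Cfsg.IrrCharacter ↥C, if leoOm h ϑ = 1 then leoM C η ϑ * leoDeg ϑ else 0 :=
    Finset.single_le_sum (f := fun ϑ : Cfsg.IrrCharacter ↥C =>
      if leoOm h ϑ = 1 then leoM C η ϑ * leoDeg ϑ else 0) (fun _ _ => Nat.zero_le _)
      (Finset.mem_univ θ)
  rw [if_pos hθ] at h1
  exact h1

theorem leoA_triv (h : LeoSetup p C N P hPC π) :
    leoA h ((trivIrr G : Cfsg.IrrCharacter G) : G → ℂ) = 1 := by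
  have h1 := leo_sum_P_A h _ (isCharacter_of_irr (trivIrr G))
  simp only [trivIrr_apply, Finset.sum_const, Finset.card_univ, nsmul_eq_mul, mul_one] at h1
  rw [← Nat.card_eq_fintype_card] at h1
  have hne : (Nat.card ↥P : ℂ) ≠ 0 := by exact_mod_cast Nat.card_pos.ne'
  have h2 : (Nat.card ↥P : ℂ) * 1 = (Nat.card ↥P : ℂ) * (leoA h (trivIrr G : G → ℂ) : ℂ) := by
    rw [mul_one]; exact h1
  have h3 := mul_left_cancel₀ hne h2
  exact_mod_cast h3.symm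

/-- orthogonality of linear characters of `P` -/
theorem leo_orth_P (P : Subgroup G) (ω ω' : ↥P →* ℂˣ) :
    ∑ x : ↥P, ((ω x : ℂˣ) : ℂ) * conj ((ω' x : ℂˣ) : ℂ) =
      if ω = ω' then (Nat.card ↥P : ℂ) else 0 := by
  have := afd_orth ω' ω
  rw [← Nat.card_eq_fintype_card] at this
  rw [← this]
  apply Finset.sum_congr rfl
  intro x _
  ring

/-- sum over `P` of a product of two orbit-sum type functions -/
theorem leo_sum_P_prod (h : LeoSetup p C N P hPC π)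
    (S₁ S₂ : Finset (Cfsg.IrrCharacter ↥C)) :
    ∑ x : ↥P, (∑ ϑ ∈ S₁, (ϑ : ↥C → ℂ) (Subgroup.inclusion hPC x)) *
      conj (∑ ϑ' ∈ S₂, (ϑ' : ↥C → ℂ) (Subgroup.inclusion hPC x)) =
    (Nat.card ↥P : ℂ) * ((∑ ϑ ∈ S₁, ∑ ϑ' ∈ S₂,
      if leoOm h ϑ = leoOm h ϑ' then leoDeg ϑ * leoDeg ϑ' else 0 : ℕ) : ℂ) := by
  have key : ∀ ϑ ϑ' : Cfsg.IrrCharacter ↥C,
      ∑ x : ↥P, (ϑ : ↥C → ℂ) (Subgroup.inclusion hPC x) *
        conj ((ϑ' : ↥C → ℂ) (Subgroup.inclusion hPC x)) =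
      (Nat.card ↥P : ℂ) *
        (((if leoOm h ϑ = leoOm h ϑ' then leoDeg ϑ * leoDeg ϑ' else 0 : ℕ)) : ℂ) := by
    intro ϑ ϑ'
    simp only [leoOm_apply_one h, leoDeg_spec, map_mul, Complex.conj_natCast]
    have h1 : ∀ x : ↥P, ((leoOm h ϑ x : ℂˣ) : ℂ) * (leoDeg ϑ : ℂ) *
        (conj ((leoOm h ϑ' x : ℂˣ) : ℂ) * (leoDeg ϑ' : ℂ)) =
        ((leoDeg ϑ : ℂ) * (leoDeg ϑ' : ℂ)) *
          (((leoOm h ϑ x : ℂˣ) : ℂ) * conj ((leoOm h ϑ' x : ℂˣ) : ℂ)) := by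
      intro x
      ring
    simp only [h1]
    rw [← Finset.mul_sum, leo_orth_P]
    by_cases hc : leoOm h ϑ = leoOm h ϑ'
    · rw [if_pos hc, if_pos hc]
      push_cast
      ring
    · rw [if_neg hc, if_neg hc]
      simp
  have h2 : ∀ x : ↥P, (∑ ϑ ∈ S₁, (ϑ : ↥C → ℂ) (Subgroup.inclusion hPC x)) *
      conj (∑ ϑ' ∈ S₂, (ϑ' : ↥C → ℂ) (Subgroup.inclusion hPC x)) =
      ∑ ϑ ∈ S₁, ∑ ϑ' ∈ S₂, (ϑ : ↥C → ℂ) (Subgroup.inclusion hPC x) *
        conj ((ϑ' : ↥C → ℂ) (Subgroup.inclusion hPC x)) := by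
    intro x
    rw [map_sum, Finset.sum_mul_sum]
  simp only [h2]
  rw [Finset.sum_comm]
  have h3 : ∀ ϑ ∈ S₁, ∑ x : ↥P, ∑ ϑ' ∈ S₂, (ϑ : ↥C → ℂ) (Subgroup.inclusion hPC x) *
        conj ((ϑ' : ↥C → ℂ) (Subgroup.inclusion hPC x)) =
      ∑ ϑ' ∈ S₂, (Nat.card ↥P : ℂ) *
        (((if leoOm h ϑ = leoOm h ϑ' then leoDeg ϑ * leoDeg ϑ' else 0 : ℕ)) : ℂ) := by
    intro ϑ _
    rw [Finset.sum_comm]
    exact Finset.sum_congr rfl (fun ϑ' _ => key ϑ ϑ')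
  rw [Finset.sum_congr rfl h3]
  push_cast
  simp only [Finset.mul_sum]

/-- restriction multiplicities of an expanded character -/
theorem leo_expansion_res_inner [Fintype (Cfsg.IrrCharacter G)] (W : G → ℂ)
    (mW : Cfsg.IrrCharacter G → ℕ)
    (hexp : W = ∑ η : Cfsg.IrrCharacter G, (mW η : ℂ) • (η : G → ℂ))
    (θ : Cfsg.IrrCharacter ↥C) :
    Cfsg.classInner (fun c : ↥C => W (c : G)) (θ : ↥C → ℂ) =
      ∑ η : Cfsg.IrrCharacter G, ((mW η * leoM C (η : G → ℂ) θ : ℕ) : ℂ) := by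
  have h1 : (fun c : ↥C => W (c : G)) =
      ∑ η : Cfsg.IrrCharacter G, (mW η : ℂ) • (fun c : ↥C => (η : G → ℂ) (c : G)) := by
    funext c
    rw [hexp]
    simp only [Finset.sum_apply, Pi.smul_apply, smul_eq_mul]
  rw [h1, classInner_sum_left]
  apply Finset.sum_congr rfl
  intro η _
  rw [classInner_smul_left, leoM_spec C _ (isCharacter_of_irr η)]
  push_cast
  rfl

theorem leo_expansion_sum_P (h : LeoSetup p C N P hPC π)
    [Fintype (Cfsg.IrrCharacter G)] (W : G → ℂ) (mW : Cfsg.IrrCharacter G → ℕ)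
    (hexp : W = ∑ η : Cfsg.IrrCharacter G, (mW η : ℂ) • (η : G → ℂ)) :
    ∑ x : ↥P, W (x : G) = (Nat.card ↥P : ℂ) *
      ((∑ η : Cfsg.IrrCharacter G, mW η * leoA h (η : G → ℂ) : ℕ) : ℂ) := by
  have h1 : ∀ x : ↥P, W (x : G) = ∑ η : Cfsg.IrrCharacter G, (mW η : ℂ) * (η : G → ℂ) (x : G) := by
    intro x
    rw [hexp]
    simp only [Finset.sum_apply, Pi.smul_apply, smul_eq_mul]
  simp only [h1]
  rw [Finset.sum_comm]
  simp only [← Finset.mul_sum, leo_sum_P_A h _ (isCharacter_of_irr _)]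
  push_cast
  rw [Finset.mul_sum]
  apply Finset.sum_congr rfl
  intro η _
  ring

end LeoMain2

end Cfsg.Agent.Lib.Helper29
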