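import Mathlib
import Cfsg.Agent.Lib.Helper29.LeoMain2

/-!
The main abstract theorem of the Brauer–Leonard argument.
-/

set_option autoImplicit false
open scoped ComplexConjugate
open Classical

namespace Cfsg.Agent.Lib.Helper29

open Cfsg.Agent.Lib.helper7 Cfsg.Agent.Lib.helper2 Cfsg.Agent.Lib.Helper25

section LeoMain3

variable {G : Type*} [Group G] [Fintype G]
variable {p : ℕ} {C N P : Subgroup G} {hPC : P ≤ C} {π : ↥C →* ↥P}

/-- conjugates of members of two orbits have different central characters, when the base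
points were chosen so -/
theorem leo_orbits_disjoint_om (h : LeoSetup p C N P hPC π) (θ₁ : Cfsg.IrrCharacter ↥C)
    (lam : ↥P →* ℂˣ) (hav : ∀ ϑ ∈ leoOrb h θ₁, leoOm h ϑ ≠ lam * leoOm h θ₁)
    (ϑ ϑ' : Cfsg.IrrCharacter ↥C) (hϑ : ϑ ∈ leoOrb h θ₁)
    (hϑ' : ϑ' ∈ leoOrb h (leoTw (lam.comp π) θ₁)) : leoOm h ϑ ≠ leoOm h ϑ' := by
  intro heq
  obtain ⟨n, hn⟩ := (mem_leoOrb h _ ϑ').mp hϑ'
  obtain ⟨k, hk⟩ := (mem_leoOrb h _ ϑ).mp hϑ
  have h1 : leoOm h (leoCjI h n⁻¹ ϑ) = leoOm h (leoCjI h n⁻¹ ϑ') := by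
    rw [leoOm_cj, leoOm_cj, heq]
  rw [← hn, leoCjI_inv_cancel, leoOm_tw] at h1
  refine hav (leoCjI h n⁻¹ ϑ) ?_ h1
  rw [← hk, leoCjI_mul]
  exact (mem_leoOrb h _ _).mpr ⟨n⁻¹ * k, rfl⟩

theorem leo_prod_isCharacter (χ : G → ℂ) (hχ : Cfsg.IsCharacter G χ) (ϑ : Cfsg.IrrCharacter ↥C) :
    Cfsg.IsCharacter ↥C (fun c : ↥C => χ (c : G) * conj ((ϑ : ↥C → ℂ) c)) :=
  h7_isCharacter_mul (isCharacter_restrict hχ C) (bg_isCharacter_conj (isCharacter_of_irr ϑ))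

set_option maxHeartbeats 1600000 in
theorem leo_main [Fact p.Prime] [Fintype (↥P →* ℂˣ)] (h : LeoSetup p C N P hPC π)
    (hnoK : ∀ K : Subgroup G, K.Normal → P ≤ K → K = ⊤)
    (χ : Cfsg.IrrCharacter G) (hχ : χ ≠ trivIrr G) (hdeg : leoDeg χ ^ 2 + 2 ≤ Nat.card ↥P) :
    Nat.card ↥N = Nat.card ↥C ∧ leoDeg χ = 1 := by
  have : Fintype (Cfsg.IrrCharacter G) := Fintype.ofFinite _
  have : Fintype (Cfsg.IrrCharacter ↥C) := Fintype.ofFinite _
  have hfpos : 0 < leoDeg χ := leoDeg_pos χ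
  obtain ⟨θ₁, hθ₁, hm₁⟩ := leo_NK h hnoK χ hχ
  have hmult := leo_mult_orbit h χ (by omega) θ₁ hθ₁ hm₁
  have hdegorb := leo_deg_orbit h χ θ₁ hmult
  have hd₁ : 0 < leoDeg θ₁ := leoDeg_pos θ₁
  have he : 0 < (leoOrb h θ₁).card := Finset.card_pos.mpr ⟨θ₁, self_mem_leoOrb h θ₁⟩
  have hecard := leo_orbit_card h θ₁ hθ₁
  have hef : (leoOrb h θ₁).card ≤ leoDeg χ := by
    rw [hdegorb]; exact Nat.le_mul_of_pos_right _ hd₁
  have hff : leoDeg χ ≤ leoDeg χ ^ 2 := by nlinarith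
  have hqne : (Nat.card ↥P : ℂ) ≠ 0 := by exact_mod_cast Nat.card_pos.ne'
  -- key claim
  have hkey : (leoOrb h θ₁).card * leoDeg θ₁ ^ 2 < 2 := by
    by_contra hcon
    push Not at hcon
    obtain ⟨lam₂, hl₂, hav⟩ := leo_exists_twist h θ₁ (by omega)
    have hnc₂ := leo_twist_not_mem h θ₁ lam₂ hav
    have hθ₂ : leoOm h (leoTw (lam₂.comp π) θ₁) ≠ 1 := by rw [leoOm_tw]; exact hl₂
    obtain ⟨χ', hres', hdeg'⟩ := leo_exists_conj_char h χ θ₁ hθ₁ hmult lam₂ hl₂ hnc₂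
    have hχC := leo_res_orbit h χ θ₁ hmult
    have hW : Cfsg.IsCharacter G (fun g => (χ : G → ℂ) g * conj ((χ : G → ℂ) g)) :=
      h7_isCharacter_mul (isCharacter_of_irr χ) (bg_isCharacter_conj (isCharacter_of_irr χ))
    have hW' : Cfsg.IsCharacter G (fun g => (χ : G → ℂ) g * conj ((χ' : G → ℂ) g)) :=
      h7_isCharacter_mul (isCharacter_of_irr χ) (bg_isCharacter_conj (isCharacter_of_irr χ'))
    obtain ⟨mW, hmW, hWexp⟩ := isCharacter_expansion hW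
    obtain ⟨mW', hmW', hW'exp⟩ := isCharacter_expansion hW'
    -- sums over P
    have hsumW : ∑ x : ↥P, (fun g => (χ : G → ℂ) g * conj ((χ : G → ℂ) g)) (x : G) =
        (Nat.card ↥P : ℂ) * ((∑ ϑ ∈ leoOrb h θ₁, ∑ ϑ' ∈ leoOrb h θ₁,
          if leoOm h ϑ = leoOm h ϑ' then leoDeg ϑ * leoDeg ϑ' else 0 : ℕ) : ℂ) := by
      rw [← leo_sum_P_prod h (leoOrb h θ₁) (leoOrb h θ₁)]
      apply Finset.sum_congr rfl
      intro x _
      rw [← hχC (Subgroup.inclusion hPC x)]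
      rfl
    have hsumW' : ∑ x : ↥P, (fun g => (χ : G → ℂ) g * conj ((χ' : G → ℂ) g)) (x : G) =
        (Nat.card ↥P : ℂ) * ((∑ ϑ ∈ leoOrb h θ₁, ∑ ϑ' ∈ leoOrb h (leoTw (lam₂.comp π) θ₁),
          if leoOm h ϑ = leoOm h ϑ' then leoDeg ϑ * leoDeg ϑ' else 0 : ℕ) : ℂ) := by
      rw [← leo_sum_P_prod h (leoOrb h θ₁) (leoOrb h (leoTw (lam₂.comp π) θ₁))]
      apply Finset.sum_congr rfl
      intro x _
      rw [← hχC (Subgroup.inclusion hPC x), ← hres' (Subgroup.inclusion hPC x)]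
      rfl
    have hAW := leo_expansion_sum_P h _ mW hWexp
    have hAW' := leo_expansion_sum_P h _ mW' hW'exp
    have hnatW : ∑ η : Cfsg.IrrCharacter G, mW η * leoA h (η : G → ℂ) =
        ∑ ϑ ∈ leoOrb h θ₁, ∑ ϑ' ∈ leoOrb h θ₁,
          if leoOm h ϑ = leoOm h ϑ' then leoDeg ϑ * leoDeg ϑ' else 0 := by
      rw [hsumW] at hAW
      have := mul_left_cancel₀ hqne hAW
      exact_mod_cast this.symm
    have hnatW' : ∑ η : Cfsg.IrrCharacter G, mW' η * leoA h (η : G → ℂ) = 0 := by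
      rw [hsumW'] at hAW'
      have h1 := mul_left_cancel₀ hqne hAW'
      have h2 : ∑ ϑ ∈ leoOrb h θ₁, ∑ ϑ' ∈ leoOrb h (leoTw (lam₂.comp π) θ₁),
          (if leoOm h ϑ = leoOm h ϑ' then leoDeg ϑ * leoDeg ϑ' else 0) = 0 := by
        apply Finset.sum_eq_zero
        intro ϑ hϑ
        apply Finset.sum_eq_zero
        intro ϑ' hϑ'
        rw [if_neg (leo_orbits_disjoint_om h θ₁ lam₂ hav ϑ ϑ' hϑ hϑ')]
      rw [h2] at h1
      exact_mod_cast h1.symm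
    -- lower bound for the diagonal
    have hdiag : (leoOrb h θ₁).card * leoDeg θ₁ ^ 2 ≤
        ∑ ϑ ∈ leoOrb h θ₁, ∑ ϑ' ∈ leoOrb h θ₁,
          if leoOm h ϑ = leoOm h ϑ' then leoDeg ϑ * leoDeg ϑ' else 0 := by
      calc (leoOrb h θ₁).card * leoDeg θ₁ ^ 2 = ∑ ϑ ∈ leoOrb h θ₁, leoDeg θ₁ ^ 2 := by
            rw [Finset.sum_const, smul_eq_mul]
        _ ≤ _ := by
            apply Finset.sum_le_sum
            intro ϑ hϑ
            have h1 : (if leoOm h ϑ = leoOm h ϑ then leoDeg ϑ * leoDeg ϑ else 0) ≤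
                ∑ ϑ' ∈ leoOrb h θ₁,
                  if leoOm h ϑ = leoOm h ϑ' then leoDeg ϑ * leoDeg ϑ' else 0 :=
              Finset.single_le_sum (f := fun ϑ' : Cfsg.IrrCharacter ↥C =>
                if leoOm h ϑ = leoOm h ϑ' then leoDeg ϑ * leoDeg ϑ' else 0)
                (fun _ _ => Nat.zero_le _) hϑ
            rw [if_pos rfl] at h1
            obtain ⟨n, hn⟩ := (mem_leoOrb h θ₁ ϑ).mp hϑ
            have h2 : leoDeg ϑ = leoDeg θ₁ := by rw [← hn, leoDeg_cj]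
            calc leoDeg θ₁ ^ 2 = leoDeg ϑ * leoDeg ϑ := by rw [h2]; ring
              _ ≤ _ := h1
    -- the trivial character occurs once in W
    have hmWtriv : mW (trivIrr G) = 1 := by
      have h1 := hmW (trivIrr G)
      have h2 : Cfsg.classInner (fun g => (χ : G → ℂ) g * conj ((χ : G → ℂ) g))
          ((trivIrr G : Cfsg.IrrCharacter G) : G → ℂ) = Cfsg.classInner (χ : G → ℂ) (χ : G → ℂ) := by
        unfold Cfsg.classInner
        congr 1
        apply Finset.sum_congr rfl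
        intro g _
        rw [trivIrr_apply, map_one, mul_one]
      rw [h2, h7_irr_norm χ.2] at h1
      exact_mod_cast h1.symm
    have hsplit : ∑ η : Cfsg.IrrCharacter G, mW η * leoA h (η : G → ℂ) =
        1 + ∑ η ∈ Finset.univ.erase (trivIrr G), mW η * leoA h (η : G → ℂ) := by
      rw [← Finset.add_sum_erase _ _ (Finset.mem_univ (trivIrr G)), hmWtriv, leoA_triv, one_mul]
    have hpos : ∑ η ∈ Finset.univ.erase (trivIrr G), mW η * leoA h (η : G → ℂ) ≠ 0 := by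
      omega
    obtain ⟨η, hηmem, hηne0⟩ := Finset.exists_ne_zero_of_sum_ne_zero hpos
    have hηne : η ≠ trivIrr G := (Finset.mem_erase.mp hηmem).1
    have hmWη : 0 < mW η := Nat.pos_of_ne_zero (fun h0 => hηne0 (by rw [h0, zero_mul]))
    have hAη : 0 < leoA h (η : G → ℂ) := Nat.pos_of_ne_zero (fun h0 => hηne0 (by rw [h0, mul_zero]))
    -- degree of η
    have hW1 : (fun g => (χ : G → ℂ) g * conj ((χ : G → ℂ) g)) 1 =
        ((leoDeg χ * leoDeg χ : ℕ) : ℂ) := by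
      simp only [leoDeg_spec, Complex.conj_natCast]
      push_cast
      rfl
    have hdη0 := isCharacter_degree_ge hW η (mW η) (leoDeg χ * leoDeg χ) (leoDeg η) (hmW η) hW1
      (leoDeg_spec η)
    have hdη : leoDeg η + 1 < Nat.card ↥P := by
      have : leoDeg η ≤ mW η * leoDeg η := Nat.le_mul_of_pos_left _ hmWη
      have h3 : leoDeg χ * leoDeg χ = leoDeg χ ^ 2 := by ring
      omega
    obtain ⟨θ₃, hθ₃, hm₃⟩ := leo_NK h hnoK η hηne
    -- θ₃ occurs in the restriction of W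
    have hin1 : Cfsg.classInner (fun c : ↥C => (fun g => (χ : G → ℂ) g * conj ((χ : G → ℂ) g)) (c : G))
        (θ₃ : ↥C → ℂ) ≠ 0 := by
      rw [leo_expansion_res_inner _ mW hWexp θ₃]
      apply leo_sum_nat_ne_zero Finset.univ _ (fun i _ => ⟨_, rfl⟩) η (Finset.mem_univ _)
      exact_mod_cast (Nat.mul_pos hmWη hm₃).ne'
    have hresW : (fun c : ↥C => (fun g => (χ : G → ℂ) g * conj ((χ : G → ℂ) g)) (c : G)) =
        ∑ ϑ' ∈ leoOrb h θ₁, (fun c : ↥C => (χ : G → ℂ) (c : G) * conj ((ϑ' : ↥C → ℂ) c)) := by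
      funext c
      have h1 : conj ((χ : G → ℂ) (c : G)) = ∑ ϑ' ∈ leoOrb h θ₁, conj ((ϑ' : ↥C → ℂ) c) := by
        rw [hχC c, map_sum]
      simp only [Finset.sum_apply]
      rw [h1, Finset.mul_sum]
    rw [hresW, classInner_sum_left] at hin1
    obtain ⟨ϑ₁, hϑ₁mem, hϑ₁ne⟩ := Finset.exists_ne_zero_of_sum_ne_zero hin1
    obtain ⟨n, hn⟩ := (mem_leoOrb h θ₁ ϑ₁).mp hϑ₁mem
    -- conjugate by n⁻¹
    have hX : Cfsg.classInner (fun c : ↥C => (χ : G → ℂ) (c : G) * conj ((θ₁ : ↥C → ℂ) c))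
        ((leoCjI h n⁻¹ θ₃ : Cfsg.IrrCharacter ↥C) : ↥C → ℂ) ≠ 0 := by
      have h1 := leoCj_classInner C ((n⁻¹ : ↥N) : G) (h.hN (n⁻¹).2)
        (fun c : ↥C => (χ : G → ℂ) (c : G) * conj ((ϑ₁ : ↥C → ℂ) c)) (θ₃ : ↥C → ℂ)
      rw [← h1] at hϑ₁ne
      have e1 : leoCj C ((n⁻¹ : ↥N) : G)
          (fun c : ↥C => (χ : G → ℂ) (c : G) * conj ((ϑ₁ : ↥C → ℂ) c)) =
          fun c : ↥C => (χ : G → ℂ) (c : G) * conj ((θ₁ : ↥C → ℂ) c) := by
        rw [leoCj_mul_fun, leoCj_res C _ (h.hN (n⁻¹).2) _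
          (isCharacter_isClassFunction (isCharacter_of_irr χ)), leoCj_conj]
        have e2 : leoCj C ((n⁻¹ : ↥N) : G) (ϑ₁ : ↥C → ℂ) = (θ₁ : ↥C → ℂ) := by
          rw [← hn, ← leoCjI_coe h n⁻¹, leoCjI_inv_cancel]
        rw [e2]
      rw [e1] at hϑ₁ne
      exact hϑ₁ne
    have hθ₃' : leoOm h (leoCjI h n⁻¹ θ₃) ≠ 1 :=
      leoOm_ne_one_of_mem_orb h hθ₃ ((mem_leoOrb h θ₃ _).mpr ⟨n⁻¹, rfl⟩)
    have hm₃' : 0 < leoM C (η : G → ℂ) (leoCjI h n⁻¹ θ₃) := by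
      rw [leoM_cj h _ (isCharacter_of_irr η)]; exact hm₃
    -- twist
    have hX' : Cfsg.classInner (fun c : ↥C => (χ : G → ℂ) (c : G) *
          conj (((leoTw (lam₂.comp π) θ₁ : Cfsg.IrrCharacter ↥C) : ↥C → ℂ) c))
        ((leoTw (lam₂⁻¹.comp π) (leoCjI h n⁻¹ θ₃) : Cfsg.IrrCharacter ↥C) : ↥C → ℂ) ≠ 0 := by
      have e3 : Cfsg.classInner (fun c : ↥C => (χ : G → ℂ) (c : G) *
            conj (((leoTw (lam₂.comp π) θ₁ : Cfsg.IrrCharacter ↥C) : ↥C → ℂ) c))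
          ((leoTw (lam₂⁻¹.comp π) (leoCjI h n⁻¹ θ₃) : Cfsg.IrrCharacter ↥C) : ↥C → ℂ) =
          Cfsg.classInner (fun c : ↥C => (χ : G → ℂ) (c : G) * conj ((θ₁ : ↥C → ℂ) c))
            ((leoCjI h n⁻¹ θ₃ : Cfsg.IrrCharacter ↥C) : ↥C → ℂ) := by
        unfold Cfsg.classInner
        congr 1
        apply Finset.sum_congr rfl
        intro c _
        simp only [leoTw_apply, map_mul, MonoidHom.comp_apply, MonoidHom.inv_apply]
        have hνν : conj (((lam₂ (π c) : ℂˣ) : ℂ)) * conj ((((lam₂ (π c))⁻¹ : ℂˣ) : ℂ)) = 1 := by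
          rw [← map_mul, ← Units.val_mul, mul_inv_cancel, Units.val_one, map_one]
        have key : ∀ a b c' d e' : ℂ, d * e' = 1 → a * (d * b) * (e' * c') = a * b * c' := by
          intro a b c' d e' hde
          calc a * (d * b) * (e' * c') = (d * e') * (a * b * c') := by ring
            _ = a * b * c' := by rw [hde, one_mul]
        exact key _ _ _ _ _ hνν
      rw [e3]
      exact hX
    -- the twisted character occurs in the restriction of W'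
    have hresW' : (fun c : ↥C => (fun g => (χ : G → ℂ) g * conj ((χ' : G → ℂ) g)) (c : G)) =
        ∑ ϑ' ∈ leoOrb h (leoTw (lam₂.comp π) θ₁),
          (fun c : ↥C => (χ : G → ℂ) (c : G) * conj ((ϑ' : ↥C → ℂ) c)) := by
      funext c
      have h1 : conj ((χ' : G → ℂ) (c : G)) =
          ∑ ϑ' ∈ leoOrb h (leoTw (lam₂.comp π) θ₁), conj ((ϑ' : ↥C → ℂ) c) := by
        rw [hres' c, map_sum]
      simp only [Finset.sum_apply]
      rw [h1, Finset.mul_sum]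
    have hin2 : Cfsg.classInner
        (fun c : ↥C => (fun g => (χ : G → ℂ) g * conj ((χ' : G → ℂ) g)) (c : G))
        ((leoTw (lam₂⁻¹.comp π) (leoCjI h n⁻¹ θ₃) : Cfsg.IrrCharacter ↥C) : ↥C → ℂ) ≠ 0 := by
      rw [hresW', classInner_sum_left]
      refine leo_sum_nat_ne_zero _ _ (fun ϑ' _ => ?_) _ (self_mem_leoOrb h _) hX'
      exact classInner_character_nat (leo_prod_isCharacter _ (isCharacter_of_irr χ) ϑ')
        (isCharacter_of_irr _)
    rw [leo_expansion_res_inner _ mW' hW'exp] at hin2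
    obtain ⟨η', -, hη'ne⟩ := Finset.exists_ne_zero_of_sum_ne_zero hin2
    have hη'ne' : mW' η' * leoM C (η' : G → ℂ)
        (leoTw (lam₂⁻¹.comp π) (leoCjI h n⁻¹ θ₃)) ≠ 0 := by
      intro h0
      apply hη'ne
      rw [h0]
      simp
    have hmW'η' : 0 < mW' η' := Nat.pos_of_ne_zero (fun h0 => hη'ne' (by rw [h0, zero_mul]))
    have hm₅ : 0 < leoM C (η' : G → ℂ) (leoTw (lam₂⁻¹.comp π) (leoCjI h n⁻¹ θ₃)) :=
      Nat.pos_of_ne_zero (fun h0 => hη'ne' (by rw [h0, mul_zero]))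
    have hAη' : leoA h (η' : G → ℂ) = 0 := by
      have h1 := (Finset.sum_eq_zero_iff.mp hnatW') η' (Finset.mem_univ _)
      rcases Nat.mul_eq_zero.mp h1 with h2 | h2
      · omega
      · exact h2
    have hθ₅ : leoOm h (leoTw (lam₂⁻¹.comp π) (leoCjI h n⁻¹ θ₃)) ≠ 1 := by
      intro h1
      have := leoA_pos_of h (η' : G → ℂ) _ h1 hm₅
      omega
    -- degree of η'
    have hW'1 : (fun g => (χ : G → ℂ) g * conj ((χ' : G → ℂ) g)) 1 =
        ((leoDeg χ * leoDeg χ : ℕ) : ℂ) := by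
      simp only [hdeg', leoDeg_spec, Complex.conj_natCast]
      push_cast
      rfl
    have hdη'0 := isCharacter_degree_ge hW' η' (mW' η') (leoDeg χ * leoDeg χ) (leoDeg η') (hmW' η')
      hW'1 (leoDeg_spec η')
    have hdη' : leoDeg η' + 1 < Nat.card ↥P := by
      have : leoDeg η' ≤ mW' η' * leoDeg η' := Nat.le_mul_of_pos_left _ hmW'η'
      have h3 : leoDeg χ * leoDeg χ = leoDeg χ ^ 2 := by ring
      omega
    -- the family of θ₃' has two nonconjugate members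
    have horb₃ : (leoOrb h (leoCjI h n⁻¹ θ₃)).card = (leoOrb h θ₁).card := by
      have h1 := leo_orbit_card h _ hθ₃'
      exact Nat.eq_of_mul_eq_mul_right Nat.card_pos (h1.trans hecard.symm)
    obtain ⟨lam₄, hl₄, hav₄⟩ := leo_exists_twist h (leoCjI h n⁻¹ θ₃) (by omega)
    have hnc₄ := leo_twist_not_mem h _ lam₄ hav₄
    have hone : leoTw ((1 : ↥P →* ℂˣ).comp π) (leoCjI h n⁻¹ θ₃) = leoCjI h n⁻¹ θ₃ := by
      rw [MonoidHom.one_comp, leoTw_one]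
    have hone' : (1 : ↥P →* ℂˣ) * leoOm h (leoCjI h n⁻¹ θ₃) ≠ 1 := by
      intro h1
      apply hθ₃'
      ext x
      have := DFunLike.congr_fun h1 x
      simpa using this
    have hl₅ : lam₂⁻¹ * leoOm h (leoCjI h n⁻¹ θ₃) ≠ 1 := by
      rw [← leoOm_tw]; exact hθ₅
    have hfam := leo_family h (leoCjI h n⁻¹ θ₃)
      ⟨lam₄, 1, hl₄, hone', by rw [hone]; exact hnc₄⟩ η η' hdη hdη' 1 lam₂⁻¹ hone' hl₅
      (by rw [hone]; exact hm₃') hm₅
    rw [leo_sum_P_A h _ (isCharacter_of_irr η), leo_sum_P_A h _ (isCharacter_of_irr η'), hAη'] at hfam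
    have h9 := mul_left_cancel₀ hqne hfam
    have h10 : leoA h (η : G → ℂ) = 0 := by exact_mod_cast h9
    omega
  -- conclusion
  have he1 : (leoOrb h θ₁).card = 1 := by
    have h1 : 1 ≤ leoDeg θ₁ ^ 2 := Nat.one_le_pow _ _ hd₁
    have h2 : (leoOrb h θ₁).card * 1 ≤ (leoOrb h θ₁).card * leoDeg θ₁ ^ 2 :=
      Nat.mul_le_mul_left _ h1
    omega
  have hd1 : leoDeg θ₁ = 1 := by
    rw [he1, one_mul] at hkey
    have h1 : leoDeg θ₁ ≤ leoDeg θ₁ ^ 2 := by nlinarith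
    omega
  refine ⟨?_, ?_⟩
  · rw [← hecard, he1, one_mul]
  · rw [hdegorb, he1, hd1]

end LeoMain3

end Cfsg.Agent.Lib.Helper29
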