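import Mathlib
import Cfsg.Agent.Lib.Helper29.LeoMain3

/-!
From the uniform-centralizer hypothesis to the abstract setting.
-/

set_option autoImplicit false
open scoped ComplexConjugate Pointwise
open Classical

namespace Cfsg.Agent.Lib.Helper29

section LeoConcrete

variable {G : Type*} [Group G] [Finite G] {p : ℕ} [Fact p.Prime] (P : Sylow p G)

/-- the uniform centralizer hypothesis -/
def LeoStar (P : Sylow p G) : Prop :=
  ∀ x ∈ (P : Subgroup G), x ≠ 1 →
    Subgroup.centralizer ({x} : Set G) = Subgroup.centralizer ((P : Subgroup G) : Set G)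

variable {P}

theorem leoc_comm (hstar : LeoStar P) {a b : G} (ha : a ∈ (P : Subgroup G))
    (hb : b ∈ (P : Subgroup G)) : a * b = b * a := by
  by_cases ha1 : a = 1
  · rw [ha1, one_mul, mul_one]
  · have h1 : a ∈ Subgroup.centralizer ({a} : Set G) := by
      rw [Subgroup.mem_centralizer_singleton_iff]
    rw [hstar a ha ha1, Subgroup.mem_centralizer_iff] at h1
    exact (h1 b hb).symm

theorem leoc_P_le_C (hstar : LeoStar P) :
    (P : Subgroup G) ≤ Subgroup.centralizer ((P : Subgroup G) : Set G) := by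
  intro a ha
  rw [Subgroup.mem_centralizer_iff]
  intro b hb
  exact leoc_comm hstar hb ha

/-- `p`-elements of `C_G(P)` lie in `P` -/
theorem leoc_pel {z : G} (hz : z ∈ Subgroup.centralizer ((P : Subgroup G) : Set G))
    (hzp : IsPGroup p (Subgroup.zpowers z)) : z ∈ (P : Subgroup G) := by
  have hle : Subgroup.zpowers z ≤ Subgroup.normalizer ((P : Subgroup G) : Set G) := by
    rw [Subgroup.zpowers_le]
    exact Subgroup.centralizer_le_normalizer _ hz
  have hsup := IsPGroup.to_sup_of_normal_right' hzp P.2 hle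
  have := P.is_maximal' hsup le_sup_right
  rw [← this]
  exact (le_sup_left : Subgroup.zpowers z ≤ _) (Subgroup.mem_zpowers z)

theorem leoc_isPGroup_zpowers {z : G} (k : ℕ) (hz : orderOf z = p ^ k) :
    IsPGroup p (Subgroup.zpowers z) :=
  IsPGroup.of_card (n := k) (by rw [Nat.card_zpowers, hz])

/-- the trivial intersection property -/
theorem leoc_ti (hstar : LeoStar P) {g x : G} (hx : x ∈ (P : Subgroup G)) (hx1 : x ≠ 1)
    (hgx : g * x * g⁻¹ ∈ (P : Subgroup G)) :
    g ∈ Subgroup.normalizer ((P : Subgroup G) : Set G) := by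
  have hy1 : g * x * g⁻¹ ≠ 1 := by
    intro h1
    apply hx1
    have : x = g⁻¹ * (g * x * g⁻¹) * g := by group
    rw [this, h1]
    group
  have hcent := hstar _ hgx hy1
  have hclaim : ∀ w ∈ (P : Subgroup G), g * w * g⁻¹ ∈ (P : Subgroup G) := by
    intro w hw
    apply leoc_pel
    · rw [← hcent, Subgroup.mem_centralizer_singleton_iff]
      have := leoc_comm hstar hw hx
      calc g * w * g⁻¹ * (g * x * g⁻¹) = g * (w * x) * g⁻¹ := by group
        _ = g * (x * w) * g⁻¹ := by rw [this]
        _ = g * x * g⁻¹ * (g * w * g⁻¹) := by group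
    · obtain ⟨k, hk⟩ := (IsPGroup.iff_orderOf.mp P.2) ⟨w, hw⟩
      have h2 : orderOf (g * w * g⁻¹) = orderOf w := by
        have := MulEquiv.orderOf_eq (MulAut.conj g) w
        rwa [MulAut.conj_apply] at this
      have h3 : orderOf w = p ^ k := by
        rw [← hk, Subgroup.orderOf_mk]
      exact leoc_isPGroup_zpowers k (h2.trans h3)
  suffices hsm : g • P = P from Sylow.smul_eq_iff_mem_normalizer.mp hsm
  apply Sylow.ext
  have hle : ((g • P : Sylow p G) : Subgroup G) ≤ (P : Subgroup G) := by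
    intro z hz
    rw [Sylow.coe_subgroup_smul, Subgroup.mem_pointwise_smul_iff_inv_smul_mem] at hz
    have h1 : (MulAut.conj g)⁻¹ • z = g⁻¹ * z * g := by
      simp only [MulAut.smul_def, ← map_inv, MulAut.conj_apply, inv_inv]
    rw [h1] at hz
    have := hclaim _ hz
    have h2 : g * (g⁻¹ * z * g) * g⁻¹ = z := by group
    rwa [h2] at this
  exact ((g • P).is_maximal' P.2 hle).symm

theorem leoc_TI (hstar : LeoStar P) :
    ∀ g : G, g ∉ Subgroup.normalizer ((P : Subgroup G) : Set G) →
      (P : Subgroup G) ⊓ (MulAut.conj g • (P : Subgroup G)) = ⊥ := by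
  intro g hg
  rw [eq_bot_iff]
  intro z hz
  rw [Subgroup.mem_bot]
  by_contra hz1
  obtain ⟨hzP, hzg⟩ := Subgroup.mem_inf.mp hz
  rw [Subgroup.mem_pointwise_smul_iff_inv_smul_mem] at hzg
  have h1 : (MulAut.conj g)⁻¹ • z = g⁻¹ * z * (g⁻¹)⁻¹ := by
    simp only [MulAut.smul_def, ← map_inv, MulAut.conj_apply, inv_inv]
  rw [h1] at hzg
  have := leoc_ti hstar hzP hz1 hzg
  exact hg (by simpa using Subgroup.inv_mem _ this)

theorem leoc_N_le (P : Sylow p G) :
    Subgroup.normalizer ((P : Subgroup G) : Set G) ≤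
      Subgroup.normalizer ((Subgroup.centralizer ((P : Subgroup G) : Set G) : Subgroup G) : Set G) := by
  intro n hn
  have key : ∀ m ∈ Subgroup.normalizer ((P : Subgroup G) : Set G),
      ∀ c ∈ Subgroup.centralizer ((P : Subgroup G) : Set G),
      m * c * m⁻¹ ∈ Subgroup.centralizer ((P : Subgroup G) : Set G) := by
    intro m hm c hc
    rw [Subgroup.mem_centralizer_iff] at hc ⊢
    intro x hx
    have hx' : m⁻¹ * x * m ∈ (P : Subgroup G) := by
      have := (Subgroup.mem_normalizer_iff.mp (Subgroup.inv_mem _ hm) x).mp hx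
      simpa using this
    have := hc _ hx'
    calc x * (m * c * m⁻¹) = m * ((m⁻¹ * x * m) * c) * m⁻¹ := by group
      _ = m * (c * (m⁻¹ * x * m)) * m⁻¹ := by rw [this]
      _ = m * c * m⁻¹ * x := by group
  rw [Subgroup.mem_normalizer_iff]
  intro c
  constructor
  · exact key n hn c
  · intro hc
    have := key n⁻¹ (Subgroup.inv_mem _ hn) _ hc
    have h2 : n⁻¹ * (n * c * n⁻¹) * n⁻¹⁻¹ = c := by group
    rwa [h2] at this

end LeoConcrete

end Cfsg.Agent.Lib.Helper29
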