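import Mathlib
import Cfsg.Agent.Lib.Helper29.LeoConcrete

/-!
The retraction `C_G(P) → P` (from Burnside's transfer) and the concrete setup.
-/

set_option autoImplicit false
open scoped ComplexConjugate Pointwise
open Classical

namespace Cfsg.Agent.Lib.Helper29

section LeoConcrete2

variable {G : Type*} [Group G] [Finite G] {p : ℕ} [Fact p.Prime] {P : Sylow p G}

theorem leoc_exists_pi (hstar : LeoStar P) :
    ∃ π : ↥(Subgroup.centralizer ((P : Subgroup G) : Set G)) →* ↥(P : Subgroup G),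
      ∀ x : ↥(P : Subgroup G), π (Subgroup.inclusion (leoc_P_le_C hstar) x) = x := by
  have hp : p.Prime := Fact.out
  set C := Subgroup.centralizer ((P : Subgroup G) : Set G) with hC
  have hPC : (P : Subgroup G) ≤ C := leoc_P_le_C hstar
  let P' : Sylow p ↥C := P.subtype hPC
  have hmemP' : ∀ y : ↥C, y ∈ (P' : Subgroup ↥C) ↔ (y : G) ∈ (P : Subgroup G) := fun y => Iff.rfl
  have hP' : Subgroup.normalizer ((P' : Subgroup ↥C) : Set ↥C) ≤
      Subgroup.centralizer ((P' : Subgroup ↥C) : Set ↥C) := by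
    intro g _
    rw [Subgroup.mem_centralizer_iff]
    intro y hy
    apply Subtype.ext
    have hyP : (y : G) ∈ (P : Subgroup G) := (hmemP' y).mp hy
    exact (Subgroup.mem_centralizer_iff.mp g.2) (y : G) hyP
  let τ : ↥C →* ↥(P' : Subgroup ↥C) := MonoidHom.transferSylow P' hP'
  set k := (P' : Subgroup ↥C).index with hk
  have hkp : ¬ p ∣ k := P'.not_dvd_index
  set q := Nat.card ↥(P : Subgroup G) with hq
  obtain ⟨m, hm⟩ := IsPGroup.iff_card.mp P.2
  have hcop : Nat.Coprime k q := by
    rw [hq, hm]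
    apply Nat.Coprime.pow_right
    rw [Nat.coprime_comm, Nat.Prime.coprime_iff_not_dvd hp]
    exact hkp
  have hcommP : ∀ a b : ↥(P : Subgroup G), Commute a b := by
    intro a b
    exact Subtype.ext (leoc_comm hstar a.2 b.2)
  -- inverse exponent
  obtain ⟨k', hk'⟩ : ∃ k' : ℕ, ∀ x : ↥(P : Subgroup G), (x ^ k) ^ k' = x := by
    rcases Nat.lt_or_ge 1 q with h1 | h1
    · obtain ⟨k', -, hk'⟩ := Nat.exists_mul_mod_eq_one_of_coprime hcop h1
      refine ⟨k', fun x => ?_⟩
      rw [← pow_mul, ← pow_mod_natCard, ← hq, hk', pow_one]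
    · refine ⟨0, fun x => ?_⟩
      have hq1 : q = 1 := by
        have : 0 < q := Nat.card_pos
        omega
      have : Subsingleton ↥(P : Subgroup G) := (Nat.card_eq_one_iff_unique.mp hq1).1
      exact Subsingleton.elim _ _
  let ε : ↥(P' : Subgroup ↥C) → ↥(P : Subgroup G) := fun y => ⟨((y : ↥C) : G), (hmemP' y).mp y.2⟩
  have hεmul : ∀ a b, ε (a * b) = ε a * ε b := fun a b => Subtype.ext rfl
  have hεone : ε 1 = 1 := Subtype.ext rfl
  let π : ↥C →* ↥(P : Subgroup G) :=
    { toFun := fun c => (ε (τ c)) ^ k'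
      map_one' := by rw [map_one, hεone, one_pow]
      map_mul' := fun a b => by rw [map_mul, hεmul, (hcommP _ _).mul_pow] }
  refine ⟨π, fun x => ?_⟩
  have hxP' : Subgroup.inclusion hPC x ∈ (P' : Subgroup ↥C) := (hmemP' _).mpr x.2
  have h1 : τ (Subgroup.inclusion hPC x) = ⟨(Subgroup.inclusion hPC x) ^ k, _⟩ :=
    MonoidHom.transferSylow_eq_pow P' hP' (Subgroup.inclusion hPC x) hxP'
  have h2 : ε (τ (Subgroup.inclusion hPC x)) = x ^ k := by
    rw [h1]
    apply Subtype.ext
    simp [ε]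
  show (ε (τ (Subgroup.inclusion hPC x))) ^ k' = x
  rw [h2, hk']

theorem leoc_pi_eq_one (π : ↥(Subgroup.centralizer ((P : Subgroup G) : Set G)) →* ↥(P : Subgroup G))
    (c : ↥(Subgroup.centralizer ((P : Subgroup G) : Set G))) (hc : ¬ p ∣ orderOf (c : G)) :
    π c = 1 := by
  have hp : p.Prime := Fact.out
  have h1 : orderOf (π c) ∣ orderOf c := orderOf_map_dvd π c
  rw [← Subgroup.orderOf_coe c] at h1
  obtain ⟨j, hj⟩ := (IsPGroup.iff_orderOf.mp P.2) (π c)
  rcases Nat.eq_zero_or_pos j with h0 | hpos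
  · rw [h0, pow_zero] at hj
    exact orderOf_eq_one_iff.mp hj
  · exfalso
    apply hc
    have : p ∣ orderOf (π c) := by rw [hj]; exact dvd_pow_self p hpos.ne'
    exact dvd_trans this h1

theorem leoc_setup (hstar : LeoStar P)
    (π : ↥(Subgroup.centralizer ((P : Subgroup G) : Set G)) →* ↥(P : Subgroup G))
    (hπ : ∀ x : ↥(P : Subgroup G), π (Subgroup.inclusion (leoc_P_le_C hstar) x) = x) :
    LeoSetup p (Subgroup.centralizer ((P : Subgroup G) : Set G))
      (Subgroup.normalizer ((P : Subgroup G) : Set G)) (P : Subgroup G) (leoc_P_le_C hstar) π := by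
  have hp : p.Prime := Fact.out
  refine ⟨Subgroup.centralizer_le_normalizer _, leoc_N_le P, le_refl _, hπ, ?_, ?_, ?_, P.2,
    tir_semiregular p P (leoc_TI hstar) _ le_rfl⟩
  · intro x hx c hc
    exact (Subgroup.mem_centralizer_iff.mp hc) x hx
  · intro n _ hnC x hx hfix
    by_contra hx1
    apply hnC
    rw [← hstar x hx hx1, Subgroup.mem_centralizer_singleton_iff]
    calc n * x = n * x * n⁻¹ * n := by group
      _ = x * n := by rw [hfix]
  · intro g c c' hcc' hπc
    have hdvd : p ∣ orderOf (c : G) := by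
      by_contra hnd
      exact hπc (leoc_pi_eq_one π c hnd)
    have hne0 : orderOf (c : G) ≠ 0 := (orderOf_pos (c : G)).ne'
    set m := orderOf (c : G) / p with hm
    have hxo : orderOf ((c : G) ^ m) = p := orderOf_pow_orderOf_div hne0 hdvd
    have hxC : (c : G) ^ m ∈ Subgroup.centralizer ((P : Subgroup G) : Set G) :=
      Subgroup.pow_mem _ c.2 m
    have hxP : (c : G) ^ m ∈ (P : Subgroup G) :=
      leoc_pel hxC (leoc_isPGroup_zpowers 1 (by rw [hxo, pow_one]))
    have hx1 : (c : G) ^ m ≠ 1 := by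
      intro h1
      rw [h1, orderOf_one] at hxo
      exact hp.one_lt.ne hxo
    have hconj : g * (c : G) ^ m * g⁻¹ = (c' : G) ^ m := by
      rw [hcc', conj_pow]
    have hyo : orderOf ((c' : G) ^ m) = p := by
      rw [← hconj]
      have := MulEquiv.orderOf_eq (MulAut.conj g) ((c : G) ^ m)
      rw [MulAut.conj_apply] at this
      rw [this, hxo]
    have hyC : (c' : G) ^ m ∈ Subgroup.centralizer ((P : Subgroup G) : Set G) :=
      Subgroup.pow_mem _ c'.2 m
    have hyP : (c' : G) ^ m ∈ (P : Subgroup G) :=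
      leoc_pel hyC (leoc_isPGroup_zpowers 1 (by rw [hyo, pow_one]))
    rw [← hconj] at hyP
    exact leoc_ti hstar hxP hx1 hyP

end LeoConcrete2

end Cfsg.Agent.Lib.Helper29
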