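import Mathlib
import Cfsg.Agent.Lib.Helper29.LeoConcrete2

/-!
Faithful characters of small degree under the uniform centralizer hypothesis: `P` is normal.
-/

set_option autoImplicit false
open scoped ComplexConjugate Pointwise commutatorElement
open Classical

namespace Cfsg.Agent.Lib.Helper29

open Cfsg.Agent.Lib.helper2 Cfsg.Agent.Lib.Helper25

universe u

/-- the uniform centralizer hypothesis passes to subgroups containing `P` -/
theorem leoStar_subtype {G : Type u} [Group G] {p : ℕ} (P : Sylow p G) (hstar : LeoStar P)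
    (K : Subgroup G) (hPK : (P : Subgroup G) ≤ K) : LeoStar (P.subtype hPK) := by
  intro x hx hx1
  have hxP : (x : G) ∈ (P : Subgroup G) := hx
  have hx1' : (x : G) ≠ 1 := fun h => hx1 (Subtype.ext h)
  have h1 := hstar (x : G) hxP hx1'
  ext k
  rw [Subgroup.mem_centralizer_singleton_iff, Subgroup.mem_centralizer_iff]
  have h2 : (k : G) ∈ Subgroup.centralizer ({(x : G)} : Set G) ↔
      (k : G) ∈ Subgroup.centralizer ((P : Subgroup G) : Set G) := by rw [h1]
  rw [Subgroup.mem_centralizer_singleton_iff, Subgroup.mem_centralizer_iff] at h2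
  constructor
  · intro hk y hy
    have hyP : (y : G) ∈ (P : Subgroup G) := hy
    have h3 := h2.mp (congrArg Subtype.val hk) (y : G) hyP
    exact Subtype.ext h3
  · intro hk
    apply Subtype.ext
    apply h2.mpr
    intro y hy
    have := hk ⟨y, hPK hy⟩ hy
    exact congrArg Subtype.val this

theorem leo_faithful_normal : ∀ (m : ℕ) (G : Type u) [Group G] [Finite G], Nat.card G = m →
    ∀ (p : ℕ) [Fact p.Prime] (P : Sylow p G), LeoStar P → ∀ (χ : G → ℂ), Cfsg.IsCharacter G χ →
    (∀ g : G, χ g = χ 1 → g = 1) → ∀ d : ℕ, χ 1 = (d : ℂ) →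
    d ^ 2 + 2 ≤ Nat.card ↥(P : Subgroup G) → (P : Subgroup G).Normal := by
  intro m
  induction m using Nat.strong_induction_on with
  | _ m ih =>
  intro G _ _ hm p _ P hstar χ hχ hfaith d hd hdeg
  by_cases hK : ∃ K : Subgroup G, K.Normal ∧ K ≠ ⊤ ∧ (P : Subgroup G) ≤ K
  · obtain ⟨K, hKn, hKtop, hPK⟩ := hK
    have hcardK : Nat.card ↥K < m := by
      rw [← hm]
      have hle := Subgroup.card_le_card_group K
      rcases Nat.lt_or_ge (Nat.card ↥K) (Nat.card G) with h1 | h1
      · exact h1
      · exact absurd ((Subgroup.card_eq_iff_eq_top K).mp (le_antisymm hle h1)) hKtop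
    have hcardP : Nat.card ↥((P.subtype hPK : Sylow p ↥K) : Subgroup ↥K) =
        Nat.card ↥(P : Subgroup G) :=
      Nat.card_congr (Subgroup.subgroupOfEquivOfLe hPK).toEquiv
    have hnorm := ih (Nat.card ↥K) hcardK ↥K rfl p (P.subtype hPK) (leoStar_subtype P hstar K hPK)
      (fun k : ↥K => χ (k : G)) (isCharacter_restrict hχ K)
      (fun k hk => Subtype.ext (hfaith (k : G) hk)) d hd (by rw [hcardP]; exact hdeg)
    haveI := hKn
    haveI : ((P.subtype hPK : Sylow p ↥K) : Subgroup ↥K).Characteristic :=
      Sylow.characteristic_of_normal (P.subtype hPK) hnorm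
    have hmap : (((P.subtype hPK : Sylow p ↥K) : Subgroup ↥K).map K.subtype).Normal :=
      inferInstance
    have heq : ((P.subtype hPK : Sylow p ↥K) : Subgroup ↥K).map K.subtype = (P : Subgroup G) :=
      Subgroup.map_subgroupOf_eq_of_le hPK
    rw [heq] at hmap
    exact hmap
  · push Not at hK
    have hnoK : ∀ K : Subgroup G, K.Normal → (P : Subgroup G) ≤ K → K = ⊤ :=
      fun K hKn hle => by_contra fun hne => hK K hKn hne hle
    haveI : Fintype G := Fintype.ofFinite G
    haveI : Fintype (Cfsg.IrrCharacter G) := Fintype.ofFinite _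
    obtain ⟨π, hπ⟩ := leoc_exists_pi hstar
    have hsetup := leoc_setup hstar π hπ
    haveI : Finite (↥(P : Subgroup G) →* ℂˣ) := Nat.finite_of_card_ne_zero (by
      rw [afd_card_dual (leo_comm hsetup)]
      exact Nat.card_pos.ne')
    haveI : Fintype (↥(P : Subgroup G) →* ℂˣ) := Fintype.ofFinite _
    obtain ⟨mm, hmm, hexp⟩ := isCharacter_expansion hχ
    -- all constituents are linear
    have hlin : ∀ η : Cfsg.IrrCharacter G, mm η ≠ 0 → (η : G → ℂ) 1 = 1 := by
      intro η hη
      by_cases htriv : η = trivIrr G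
      · rw [htriv]
        rfl
      · have hdη := isCharacter_degree_ge hχ η (mm η) d (leoDeg η) (hmm η) hd (leoDeg_spec η)
        have hle : leoDeg η ≤ d := by
          have : leoDeg η ≤ mm η * leoDeg η :=
            Nat.le_mul_of_pos_left _ (Nat.pos_of_ne_zero hη)
          omega
        have hsq : leoDeg η ^ 2 ≤ d ^ 2 := Nat.pow_le_pow_left hle 2
        obtain ⟨-, h1⟩ := leo_main hsetup hnoK η htriv (by omega)
        rw [leoDeg_spec, h1]
        simp
    -- the commutator subgroup is trivial
    have hcomm : commutator G = ⊥ := by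
      rw [eq_bot_iff]
      intro g hg
      rw [Subgroup.mem_bot]
      apply hfaith
      have h1 := congrFun hexp g
      have h2 := congrFun hexp 1
      rw [h1, h2]
      simp only [Finset.sum_apply, Pi.smul_apply, smul_eq_mul]
      apply Finset.sum_congr rfl
      intro η _
      by_cases hη : mm η = 0
      · rw [hη]
        simp
      · rw [irr_linear_commutator η (hlin η hη) hg, hlin η hη]
    constructor
    intro x hx g
    have h1 : ⁅g, x⁆ ∈ commutator G := by
      rw [commutator_def]
      exact Subgroup.commutator_mem_commutator (Subgroup.mem_top g) (Subgroup.mem_top x)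
    rw [hcomm, Subgroup.mem_bot, commutatorElement_def] at h1
    have h2 : g * x * g⁻¹ = x := by
      have : g * x * g⁻¹ = (g * x * g⁻¹ * x⁻¹) * x := by group
      rw [this, h1, one_mul]
    rw [h2]
    exact hx

end Cfsg.Agent.Lib.Helper29
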