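import Mathlib
import Cfsg.Agent.Lib.helper7.BD.Defs

/-!
# Project BD (helper7), piece IDX : a homomorphism which is a trace from a subgroup of index
invertible in `F` is a trace from the trivial subgroup
-/

set_option autoImplicit false
set_option linter.unusedVariables false
set_option linter.unusedSectionVars false
set_option linter.style.haveILetI false

namespace Cfsg.Agent.Lib.helper7.BD

universe u v w

/-- coset regrouping of a sum over a finite group -/
theorem bdidx_sum_eq {G : Type*} [Group G] [Fintype G] (N : Subgroup G) [Fintype ↥N]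
    [Fintype (G ⧸ N)] {M : Type*} [AddCommMonoid M] (c : G → M) :
    ∑ g : G, c g = ∑ q : G ⧸ N, ∑ n : ↥N, c (Quotient.out q * (n : G)) := by
  rw [← Fintype.sum_prod_type']
  symm
  refine Fintype.sum_bijective (fun x : (G ⧸ N) × ↥N => Quotient.out x.1 * (x.2 : G)) ?_ _ _
    (fun x => rfl)
  have hmk : ∀ (q : G ⧸ N) (n : ↥N), (QuotientGroup.mk (Quotient.out q * (n : G)) : G ⧸ N) = q := by
    intro q n
    rw [QuotientGroup.mk_mul_of_mem _ n.2]
    exact QuotientGroup.out_eq' q
  constructor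
  · rintro ⟨q, n⟩ ⟨q', n'⟩ h
    have h' : Quotient.out q * (n : G) = Quotient.out q' * (n' : G) := h
    have hq : q = q' := by
      rw [← hmk q n, ← hmk q' n', h']
    subst hq
    have hn : (n : G) = (n' : G) := mul_left_cancel h'
    rw [Subtype.ext hn]
  · intro g
    have hmem : (Quotient.out (QuotientGroup.mk g : G ⧸ N))⁻¹ * g ∈ N := by
      rw [← QuotientGroup.eq]
      exact QuotientGroup.out_eq' _
    refine ⟨⟨QuotientGroup.mk g, ⟨_, hmem⟩⟩, ?_⟩
    show Quotient.out (QuotientGroup.mk g : G ⧸ N) * ((Quotient.out (QuotientGroup.mk g : G ⧸ N))⁻¹ * g) = g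
    rw [mul_inv_cancel_left]

section A
variable {F : Type*} [Field F] {G : Type u} [Group G] [Fintype G]
variable {V : Type*} [AddCommGroup V] [Module F V] {W : Type*} [AddCommGroup W] [Module F W]

/-- IDX (a) -/
theorem projHom_of_index {N : Subgroup G} [Fintype ↥N] (hidx : ((N.index : ℕ) : F) ≠ 0)
    (ρ : Representation F G V) (σ : Representation F G W) (f : V →ₗ[F] W) (hf : IsHom ρ σ f)
    (hproj : IsProjHom (ρ.comp N.subtype) (σ.comp N.subtype) f) : IsProjHom ρ σ f := by
  classical
  obtain ⟨ψ, hψ⟩ := hproj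
  haveI : Fintype (G ⧸ N) := Fintype.ofFinite _
  have key : tr1 ρ σ ψ = ((N.index : ℕ) : F) • f := by
    refine LinearMap.ext fun v => ?_
    rw [tr1_apply, LinearMap.smul_apply, bdidx_sum_eq N]
    have hq : ∀ q : G ⧸ N,
        ∑ n : ↥N, σ (Quotient.out q * (n : G)) (ψ (ρ (Quotient.out q * (n : G))⁻¹ v)) = f v := by
      intro q
      have h1 : ∀ n : ↥N, σ (Quotient.out q * (n : G)) (ψ (ρ (Quotient.out q * (n : G))⁻¹ v)) =
          σ (Quotient.out q) ((σ.comp N.subtype) n (ψ ((ρ.comp N.subtype) n⁻¹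
            (ρ (Quotient.out q)⁻¹ v)))) := by
        intro n
        rw [map_mul, Module.End.mul_apply, _root_.mul_inv_rev, map_mul, Module.End.mul_apply]
        rfl
      rw [Finset.sum_congr rfl (fun n _ => h1 n), ← map_sum, ← tr1_apply, ← hψ, ← hf.apply,
        ← Module.End.mul_apply, ← map_mul, mul_inv_cancel, map_one, Module.End.one_apply]
    rw [Finset.sum_congr rfl (fun q _ => hq q), Finset.sum_const, Finset.card_univ,
      ← Nat.card_eq_fintype_card, ← Subgroup.index, Nat.cast_smul_eq_nsmul]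
  refine ⟨(((N.index : ℕ) : F))⁻¹ • ψ, ?_⟩
  rw [tr1_smul, key, smul_smul, inv_mul_cancel₀ hidx, one_smul]

/-- IDX (b) -/
theorem projHom_of_le {P N : Subgroup G} [Fintype ↥P] [Fintype ↥N] (hPN : P ≤ N)
    (hidx : ((P.relIndex N : ℕ) : F) ≠ 0)
    (ρ : Representation F G V) (σ : Representation F G W) (f : V →ₗ[F] W)
    (hf : IsHom (ρ.comp N.subtype) (σ.comp N.subtype) f)
    (hproj : IsProjHom (ρ.comp P.subtype) (σ.comp P.subtype) f) :
    IsProjHom (ρ.comp N.subtype) (σ.comp N.subtype) f := by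
  classical
  haveI : Fintype ↥(P.subgroupOf N) := Fintype.ofFinite _
  refine projHom_of_index (N := P.subgroupOf N) hidx (ρ.comp N.subtype) (σ.comp N.subtype) f hf ?_
  obtain ⟨ψ, hψ⟩ := hproj
  refine ⟨ψ, ?_⟩
  rw [hψ]
  refine LinearMap.ext fun v => ?_
  rw [tr1_apply, tr1_apply]
  symm
  refine Fintype.sum_equiv (Subgroup.subgroupOfEquivOfLe hPN).toEquiv _ _ (fun y => ?_)
  rfl

end A

end Cfsg.Agent.Lib.helper7.BD
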