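import Mathlib
import Cfsg.Agent.Lib.helper7.BD.Defs

/-!
# Project BD (helper7), piece SCH0 : Schur's lemma in the `IsHom` language
-/

set_option autoImplicit false
set_option linter.unusedVariables false
set_option linter.unusedSectionVars false

namespace Cfsg.Agent.Lib.helper7.BD

universe u v w

section C
variable {F : Type*} [Field F] {G : Type u} [Group G] [Fintype G]
variable {V : Type*} [AddCommGroup V] [Module F V] {W : Type*} [AddCommGroup W] [Module F W]

/-- SCH0 : Schur's lemma in the `IsHom` language -/
theorem schur_scalar [IsAlgClosed F] {V : Type v} [AddCommGroup V] [Module F V] [FiniteDimensional F V]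
    (ρ : Representation F G V) [ρ.IsIrreducible] (Φ : V →ₗ[F] V) (hΦ : IsHom ρ ρ Φ) :
    ∃ c : F, Φ = c • LinearMap.id := by
  have hirr : ρ.IsIrreducible := inferInstance
  have hnt : Nontrivial V := by
    by_contra hcon
    rw [not_nontrivial_iff_subsingleton] at hcon
    have hbt : (⊥ : Subrepresentation ρ) ≠ ⊤ := bot_ne_top
    apply hbt
    apply Subrepresentation.toSubmodule_injective
    exact Subsingleton.elim _ _
  obtain ⟨c, hc⟩ := Module.End.exists_eigenvalue Φ
  refine ⟨c, ?_⟩
  obtain ⟨v, hv⟩ := hc.exists_hasEigenvector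
  let K : Subrepresentation ρ :=
    { toSubmodule := LinearMap.ker (Φ - c • LinearMap.id)
      apply_mem_toSubmodule := fun g y hy => by
        rw [LinearMap.mem_ker] at hy ⊢
        rw [LinearMap.sub_apply, LinearMap.smul_apply, LinearMap.id_apply] at hy ⊢
        rw [hΦ.apply, ← map_smul, ← map_sub, hy, map_zero] }
  have hvK : v ∈ K.toSubmodule := by
    show v ∈ LinearMap.ker (Φ - c • LinearMap.id)
    rw [LinearMap.mem_ker, LinearMap.sub_apply, LinearMap.smul_apply, LinearMap.id_apply,
      hv.apply_eq_smul, sub_self]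
  have hKne : K ≠ ⊥ := by
    intro hK
    have : v ∈ (⊥ : Subrepresentation ρ).toSubmodule := by rw [← hK]; exact hvK
    have h2 : v ∈ (⊥ : Submodule F V) := this
    exact hv.2 ((Submodule.mem_bot F).mp h2)
  have hKtop : K = ⊤ := (hirr.eq_bot_or_eq_top K).resolve_left hKne
  refine LinearMap.ext fun y => ?_
  have hy : y ∈ K.toSubmodule := by rw [hKtop]; trivial
  have hy' : y ∈ LinearMap.ker (Φ - c • LinearMap.id) := hy
  rw [LinearMap.mem_ker, LinearMap.sub_apply, sub_eq_zero] at hy'
  exact hy'

end C

end Cfsg.Agent.Lib.helper7.BD
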