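import Mathlib
import Cfsg.Agent.Lib.helper7.BD.Defs
import Cfsg.Agent.Lib.Helper29.BDSCH0
import Cfsg.Agent.Lib.Helper29.BDIDX

/-!
# Project BD (helper7), piece NAGAO : on a simple `G`-module with a non-projective `N`-map to a linear
character trivial on `C_G(P)`, every class function acts by its augmentation
-/

set_option autoImplicit false
set_option linter.unusedVariables false
set_option linter.unusedSectionVars false
set_option linter.style.haveILetI false

namespace Cfsg.Agent.Lib.helper7.BD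

universe u v w

/-- partition of unity for a conjugation action: a function `w` whose sum over every free orbit is `1` -/
theorem bdnagao_exists_w {F : Type*} [Semiring F] {G : Type*} [Group G] {Q : Type*} [Group Q] [Fintype Q]
    (j : Q →* G) :
    ∃ w : G → F, ∀ g : G, (∀ x : Q, j x * g * (j x)⁻¹ = g → x = 1) →
      ∑ x : Q, w (j x * g * (j x)⁻¹) = 1 := by
  classical
  let r : Setoid G :=
    { r := fun g g' => ∃ x : Q, j x * g * (j x)⁻¹ = g'
      iseqv :=
        ⟨fun g => ⟨1, by simp⟩,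
         fun {g g'} hx => by
          obtain ⟨x, hx⟩ := hx
          exact ⟨x⁻¹, by rw [← hx, map_inv]; group⟩,
         fun {g g' g''} hx hy => by
          obtain ⟨x, hx⟩ := hx
          obtain ⟨y, hy⟩ := hy
          exact ⟨y * x, by rw [← hy, ← hx, map_mul]; group⟩⟩ }
  let rep : G → G := fun g => Quotient.out (Quotient.mk r g)
  have hrep1 : ∀ g, ∃ x : Q, j x * g * (j x)⁻¹ = rep g := fun g => by
    have h1 : r.r (rep g) g := Quotient.exact (Quotient.out_eq (Quotient.mk r g))
    exact r.iseqv.symm h1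
  have hrep2 : ∀ (g : G) (x : Q), rep (j x * g * (j x)⁻¹) = rep g := fun g x => by
    show Quotient.out (Quotient.mk r _) = Quotient.out (Quotient.mk r g)
    congr 1
    exact Quotient.sound (r.iseqv.symm ⟨x, rfl⟩)
  refine ⟨fun g => if rep g = g then 1 else 0, fun g hfree => ?_⟩
  obtain ⟨x₀, hx₀⟩ := hrep1 g
  rw [Finset.sum_eq_single x₀]
  · show (if rep (j x₀ * g * (j x₀)⁻¹) = j x₀ * g * (j x₀)⁻¹ then (1 : F) else 0) = 1
    rw [hrep2, if_pos hx₀.symm]
  · intro x _ hx
    show (if rep (j x * g * (j x)⁻¹) = j x * g * (j x)⁻¹ then (1 : F) else 0) = 0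
    rw [hrep2, if_neg]
    intro hh
    apply hx
    have h2 : j x * g * (j x)⁻¹ = j x₀ * g * (j x₀)⁻¹ := hh.symm.trans hx₀.symm
    have h3 : j (x₀⁻¹ * x) * g * (j (x₀⁻¹ * x))⁻¹ = g := by
      rw [map_mul, map_inv]
      calc (j x₀)⁻¹ * j x * g * ((j x₀)⁻¹ * j x)⁻¹
          = (j x₀)⁻¹ * (j x * g * (j x)⁻¹) * j x₀ := by group
        _ = (j x₀)⁻¹ * (j x₀ * g * (j x₀)⁻¹) * j x₀ := by rw [h2]
        _ = g := by group
    have h4 := hfree _ h3
    exact (inv_mul_eq_one.mp h4).symm
  · intro hh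
    exact absurd (Finset.mem_univ _) hh

/-- conjugation reindexing -/
theorem bdnagao_sum_conj {G : Type*} [Group G] [Fintype G] {M : Type*} [AddCommMonoid M] (k : G)
    (c : G → M) : ∑ g : G, c (k * g * k⁻¹) = ∑ g : G, c g :=
  Fintype.sum_equiv (MulAut.conj k).toEquiv _ _ (fun g => rfl)

/-- the sum of a function invariant under a free conjugation action of a group of order divisible
by the characteristic is zero -/
theorem bdnagao_sum_zero {F : Type*} [Field F] {p : ℕ} [CharP F p] {G : Type*} [Group G] [Fintype G]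
    {Q : Type*} [Group Q] [Fintype Q] (j : Q →* G) (hQ : p ∣ Fintype.card Q)
    (z' : G → F) (hz' : ∀ (x : Q) (g : G), z' (j x * g * (j x)⁻¹) = z' g)
    (w : G → F) (hw : ∀ g, z' g ≠ 0 → ∑ x : Q, w (j x * g * (j x)⁻¹) = 1) :
    ∑ g : G, z' g = 0 := by
  have h1 : ∀ g, z' g = ∑ x : Q, w (j x * g * (j x)⁻¹) * z' (j x * g * (j x)⁻¹) := by
    intro g
    by_cases hg : z' g = 0
    · rw [hg]
      symm
      refine Finset.sum_eq_zero fun x _ => ?_
      rw [hz', hg, mul_zero]
    · rw [Finset.sum_congr rfl (fun x _ => by rw [hz'] :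
        ∀ x ∈ Finset.univ, w (j x * g * (j x)⁻¹) * z' (j x * g * (j x)⁻¹) = w (j x * g * (j x)⁻¹) * z' g),
        ← Finset.sum_mul, hw g hg, one_mul]
  rw [Finset.sum_congr rfl (fun g _ => h1 g), Finset.sum_comm]
  rw [Finset.sum_congr rfl (fun x _ => bdnagao_sum_conj (j x) (fun g => w g * z' g))]
  rw [Finset.sum_const, Finset.card_univ, ← Nat.cast_smul_eq_nsmul F, (CharP.cast_eq_zero_iff F p _).mpr hQ,
    zero_smul]

/-- the trace formula -/
theorem bdnagao_proj {F : Type*} [Field F] {G : Type*} [Group G] [Fintype G] {Q : Type*} [Group Q]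
    [Fintype Q] (j : Q →* G) {V X : Type*} [AddCommGroup V] [Module F V] [AddCommGroup X] [Module F X]
    (ρ : Representation F G V) (τ : Representation F Q X) (f : V →ₗ[F] X) (hf : IsHom (ρ.comp j) τ f)
    (z' : G → F) (hz' : ∀ (x : Q) (g : G), z' (j x * g * (j x)⁻¹) = z' g)
    (w : G → F) (hw : ∀ g, z' g ≠ 0 → ∑ x : Q, w (j x * g * (j x)⁻¹) = 1) :
    IsProjHom (ρ.comp j) τ (f ∘ₗ ∑ g : G, z' g • ρ g) := by
  refine ⟨f ∘ₗ ∑ g : G, (w g * z' g) • ρ g, ?_⟩
  refine LinearMap.ext fun v => ?_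
  rw [tr1_apply, LinearMap.comp_apply, LinearMap.sum_apply, map_sum]
  -- reindex the trace by inversion
  rw [← Equiv.sum_comp (Equiv.inv Q)]
  have h1 : ∀ x : Q, τ ((Equiv.inv Q) x) ((f ∘ₗ ∑ g : G, (w g * z' g) • ρ g)
      ((ρ.comp j) ((Equiv.inv Q) x)⁻¹ v)) =
      ∑ g : G, (w (j x * g * (j x)⁻¹) * z' g) • f (ρ g v) := by
    intro x
    rw [Equiv.inv_apply, inv_inv, LinearMap.comp_apply, ← hf.apply, LinearMap.sum_apply, map_sum, map_sum]
    rw [← bdnagao_sum_conj (j x)]
    refine Finset.sum_congr rfl fun g _ => ?_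
    rw [hz', LinearMap.smul_apply, map_smul, map_smul]
    congr 1
    show f (ρ (j x⁻¹) (ρ (j x * g * (j x)⁻¹) (ρ (j x) v))) = f (ρ g v)
    rw [← Module.End.mul_apply, ← Module.End.mul_apply, ← map_mul, ← map_mul, map_inv]
    congr 3
    group
  rw [Finset.sum_congr rfl (fun x _ => h1 x), Finset.sum_comm]
  refine Finset.sum_congr rfl fun g _ => ?_
  rw [LinearMap.smul_apply, map_smul, ← Finset.sum_smul, ← Finset.sum_mul]
  by_cases hg : z' g = 0
  · rw [hg, mul_zero, zero_smul]
  · rw [hw g hg, one_mul]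

section E1
variable {F : Type*} [Field F] {G : Type u} [Group G] [Fintype G]

/-- NAGAO : on a simple `G`-module with a non-projective `N`-map to a linear character trivial on `C_G(P)`,
every class function acts by its augmentation. -/
theorem classfn_acts_by_aug [IsAlgClosed F] {p : ℕ} [Fact p.Prime] [CharP F p] {P N : Subgroup G}
    (h : TISetup p P N) [Fintype ↥N] {V : Type v} [AddCommGroup V] [Module F V] [FiniteDimensional F V]
    (ρ : Representation F G V) [ρ.IsIrreducible] (μ : ↥N →* Fˣ)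
    (hμ : ∀ c : ↥N, (c : G) ∈ Subgroup.centralizer (P : Set G) → μ c = 1)
    (f : V →ₗ[F] F) (hf : IsHom (ρ.comp N.subtype) (linRep μ) f)
    (hnp : ¬ IsProjHom (ρ.comp N.subtype) (linRep μ) f)
    (z : G → F) (hz : ∀ g k : G, z (k * g * k⁻¹) = z g) :
    ∑ g : G, z g • ρ g = (∑ g : G, z g) • LinearMap.id := by
  classical
  have hCN : ∀ g : G, g ∈ Subgroup.centralizer (P : Set G) → g ∈ N := by
    intro g hg
    apply h.ti
    intro x hx
    have h1 : x * g = g * x := (Subgroup.mem_centralizer_iff.mp hg) x hx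
    have e : g⁻¹ * x * g = x := by rw [mul_assoc, h1, inv_mul_cancel_left]
    rw [e]
    exact h.P_le_N hx
  -- the class sum is a scalar
  have hZ : IsHom ρ ρ (∑ g : G, z g • ρ g) := by
    rw [isHom_iff]
    intro k v
    rw [LinearMap.sum_apply, LinearMap.sum_apply, map_sum]
    rw [← bdnagao_sum_conj k]
    refine Finset.sum_congr rfl fun g _ => ?_
    rw [hz, LinearMap.smul_apply, LinearMap.smul_apply, map_smul]
    congr 1
    rw [← Module.End.mul_apply, ← Module.End.mul_apply, ← map_mul, ← map_mul]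
    congr 2
    group
  obtain ⟨c, hc⟩ := schur_scalar ρ _ hZ
  -- the subgroup `P` inside `N`
  set P' : Subgroup ↥N := P.subgroupOf N with hP'
  haveI : Fintype ↥P' := Fintype.ofFinite _
  set j : ↥P' →* G := N.subtype.comp P'.subtype with hj
  have hjP : ∀ x : ↥P', j x ∈ P := fun x => Subgroup.mem_subgroupOf.mp x.2
  have hcardP' : Fintype.card ↥P' = p := by
    rw [← Nat.card_eq_fintype_card, Nat.card_congr (Subgroup.subgroupOfEquivOfLe h.P_le_N).toEquiv,
      h.card_P]
  -- conjugation by `P` preserves the centralizer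
  have hconj1 : ∀ a ∈ P, ∀ g ∈ Subgroup.centralizer (P : Set G),
      a * g * a⁻¹ ∈ Subgroup.centralizer (P : Set G) := by
    intro a ha g hg
    rw [Subgroup.mem_centralizer_iff] at hg ⊢
    intro y hy
    have hy' : a⁻¹ * y * a ∈ P := P.mul_mem (P.mul_mem (P.inv_mem ha) hy) ha
    have e1 : y * (a * g * a⁻¹) = a * ((a⁻¹ * y * a) * g) * a⁻¹ := by group
    have e2 : a * g * a⁻¹ * y = a * (g * (a⁻¹ * y * a)) * a⁻¹ := by group
    rw [e1, e2, hg _ hy']
  have hconjC : ∀ (x : ↥P') (g : G), (j x * g * (j x)⁻¹ ∈ Subgroup.centralizer (P : Set G) ↔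
      g ∈ Subgroup.centralizer (P : Set G)) := by
    intro x g
    constructor
    · intro hh
      have := hconj1 (j x)⁻¹ (P.inv_mem (hjP x)) _ hh
      have e : (j x)⁻¹ * (j x * g * (j x)⁻¹) * (j x)⁻¹⁻¹ = g := by group
      rwa [e] at this
    · intro hg
      exact hconj1 (j x) (hjP x) g hg
  set z' : G → F := fun g => if g ∈ Subgroup.centralizer (P : Set G) then 0 else z g with hz'def
  set zC : G → F := fun g => if g ∈ Subgroup.centralizer (P : Set G) then z g else 0 with hzCdef
  have hzz : ∀ g, z g = zC g + z' g := by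
    intro g
    by_cases hg : g ∈ Subgroup.centralizer (P : Set G)
    · simp [hz'def, hzCdef, hg]
    · simp [hz'def, hzCdef, hg]
  have hz'inv : ∀ (x : ↥P') (g : G), z' (j x * g * (j x)⁻¹) = z' g := by
    intro x g
    by_cases hg : g ∈ Subgroup.centralizer (P : Set G)
    · have := (hconjC x g).mpr hg
      simp [hz'def, hg, this]
    · have : ¬ (j x * g * (j x)⁻¹ ∈ Subgroup.centralizer (P : Set G)) := fun hh => hg ((hconjC x g).mp hh)
      simp only [hz'def, if_neg hg, if_neg this]
      exact hz g (j x)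
  -- freeness
  have hfree : ∀ g : G, z' g ≠ 0 → ∀ x : ↥P', j x * g * (j x)⁻¹ = g → x = 1 := by
    intro g hg x hx
    have hgC : g ∉ Subgroup.centralizer (P : Set G) := by
      intro hh
      apply hg
      simp only [hz'def, if_pos hh]
    by_contra hne
    apply hgC
    have hx1 : (⟨j x, hjP x⟩ : ↥P) ≠ 1 := by
      intro h1
      apply hne
      have h2 : j x = 1 := congrArg Subtype.val h1
      apply Subtype.ext
      apply Subtype.ext
      exact h2
    have hcomm : Commute (j x) g := by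
      show j x * g = g * j x
      calc j x * g = j x * g * (j x)⁻¹ * j x := by group
        _ = g * j x := by rw [hx]
    rw [Subgroup.mem_centralizer_iff]
    intro y hy
    have hmem := mem_zpowers_of_prime_card (G := ↥P) h.card_P hx1 (g' := ⟨y, hy⟩)
    obtain ⟨k, hk⟩ := Subgroup.mem_zpowers_iff.mp hmem
    have hk' : (j x) ^ k = y := by
      have := congrArg Subtype.val hk
      simpa using this
    rw [← hk']
    exact (hcomm.zpow_left k).eq
  obtain ⟨w, hw⟩ := bdnagao_exists_w (F := F) j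
  have hw' : ∀ g, z' g ≠ 0 → ∑ x : ↥P', w (j x * g * (j x)⁻¹) = 1 := fun g hg => hw g (hfree g hg)
  have hsum0 : ∑ g : G, z' g = 0 :=
    bdnagao_sum_zero (p := p) j (by rw [hcardP']) z' hz'inv w hw'
  have hf' : IsHom (ρ.comp j) ((linRep μ).comp P'.subtype) f := fun x => hf (x : ↥N)
  have hproj := bdnagao_proj j ρ ((linRep μ).comp P'.subtype) f hf' z' hz'inv w hw'
  have hidx : ((P'.index : ℕ) : F) ≠ 0 := by
    intro h0
    exact h.idxN ((CharP.cast_eq_zero_iff F p _).mp h0)
  -- `f ∘ R' = (c - cC) • f`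
  have hfρ : ∀ g ∈ Subgroup.centralizer (P : Set G), ∀ v : V, f (ρ g v) = f v := by
    intro g hg v
    have h1 := hf.apply ⟨g, hCN g hg⟩ v
    rw [linRep_apply, hμ ⟨g, hCN g hg⟩ hg, Units.val_one, one_mul] at h1
    exact h1
  have hfR : f ∘ₗ ∑ g : G, z' g • ρ g = (c - ∑ g : G, zC g) • f := by
    have h1 : f ∘ₗ ∑ g : G, z g • ρ g = c • f := by
      rw [hc, LinearMap.comp_smul, LinearMap.comp_id]
    have h2 : ∑ g : G, z g • ρ g = ∑ g : G, zC g • ρ g + ∑ g : G, z' g • ρ g := by
      rw [← Finset.sum_add_distrib]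
      refine Finset.sum_congr rfl fun g _ => ?_
      rw [hzz g, add_smul]
    have h3 : f ∘ₗ ∑ g : G, zC g • ρ g = (∑ g : G, zC g) • f := by
      refine LinearMap.ext fun v => ?_
      rw [LinearMap.comp_apply, LinearMap.sum_apply, map_sum, LinearMap.smul_apply, Finset.sum_smul]
      refine Finset.sum_congr rfl fun g _ => ?_
      rw [LinearMap.smul_apply, map_smul]
      by_cases hg : g ∈ Subgroup.centralizer (P : Set G)
      · rw [hfρ g hg]
      · simp only [hzCdef, if_neg hg, zero_smul]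
    rw [h2, LinearMap.comp_add, h3] at h1
    have h4 : (c - ∑ g : G, zC g) • f = c • f - (∑ g : G, zC g) • f := by
      refine LinearMap.ext fun v => ?_
      rw [LinearMap.sub_apply, LinearMap.smul_apply, LinearMap.smul_apply, LinearMap.smul_apply, sub_smul]
    rw [h4, ← h1, add_sub_cancel_left]
  have hcC : c = ∑ g : G, zC g := by
    by_contra hne
    have hne' : c - ∑ g : G, zC g ≠ 0 := sub_ne_zero.mpr hne
    apply hnp
    have hhom : IsHom (ρ.comp N.subtype) (linRep μ) (f ∘ₗ ∑ g : G, z' g • ρ g) := by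
      rw [hfR]
      exact hf.smul _
    have h3 : IsProjHom (ρ.comp N.subtype) (linRep μ) (f ∘ₗ ∑ g : G, z' g • ρ g) :=
      projHom_of_index (N := P') hidx (ρ.comp N.subtype) (linRep μ) _ hhom hproj
    rw [hfR] at h3
    have h4 := h3.smul (c - ∑ g : G, zC g)⁻¹
    rwa [smul_smul, inv_mul_cancel₀ hne', one_smul] at h4
  rw [hc, hcC]
  congr 1
  rw [Finset.sum_congr rfl (fun g _ => hzz g), Finset.sum_add_distrib, hsum0, add_zero]

end E1

end Cfsg.Agent.Lib.helper7.BD
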