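import Mathlib
import Cfsg.Agent.Lib.Helper29.LeoFaithful
import Cfsg.Agent.Lib.helper15.BH.Defs

/-!
# Project BH (S4503, Brauer 1942) : piece AVG
-/

set_option autoImplicit false
set_option linter.unusedVariables false
set_option linter.unusedSectionVars false
open scoped ComplexConjugate
open Classical

namespace Cfsg.Agent.Lib.helper15.BH

open Cfsg.Agent.Lib.helper7 Cfsg.Agent.Lib.helper2 Cfsg.Agent.Lib.Helper25 Cfsg.Agent.Lib.Helper29

universe u

section abstract

variable {G : Type u} [Group G] [Fintype G]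
variable {p : ℕ} {C N P : Subgroup G} {hPC : P ≤ C} {π : ↥C →* ↥P}

/-- a character without `P`-fixed points has no `P`-trivial constituents on `C` -/
theorem bhavg_mult_zero (h : LeoSetup p C N P hPC π) (η : G → ℂ)
    (hA : leoA h η = 0) (θ : Cfsg.IrrCharacter ↥C) (hθ : leoOm h θ = 1) :
    leoM C η θ = 0 := by
  by_contra hne
  have := leoA_pos_of h η θ hθ (Nat.pos_of_ne_zero hne)
  omega

/-- AVG : a character without `P`-fixed points has vanishing `P`-averages on `C` -/
theorem avg_of_leoA_zero (h : LeoSetup p C N P hPC π) (η : Cfsg.IrrCharacter G)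
    (hA : leoA h (η : G → ℂ) = 0) (c : ↥C) :
    ∑ x : ↥P, (η : G → ℂ) ((x : G) * (c : G)) = 0 := by
  have : Fintype (Cfsg.IrrCharacter ↥C) := Fintype.ofFinite _
  have hexp := leo_res_expansion C (η : G → ℂ) (isCharacter_of_irr η)
  have h1 : ∀ x : ↥P, (η : G → ℂ) ((x : G) * (c : G)) = ∑ θ : Cfsg.IrrCharacter ↥C,
      ((leoM C (η : G → ℂ) θ : ℂ) * (θ : ↥C → ℂ) c) * ((leoOm h θ x : ℂˣ) : ℂ) := by
    intro x
    have e1 := congrFun hexp (Subgroup.inclusion hPC x * c)
    simp only [Finset.sum_apply, Pi.smul_apply, smul_eq_mul] at e1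
    have e2 : (η : G → ℂ) ((x : G) * (c : G)) =
        (η : G → ℂ) ((Subgroup.inclusion hPC x * c : ↥C) : G) := rfl
    rw [e2, e1]
    apply Finset.sum_congr rfl
    intro θ _
    rw [leoOm_spec h θ x c]
    ring
  simp only [h1]
  rw [Finset.sum_comm]
  apply Finset.sum_eq_zero
  intro θ _
  rw [← Finset.mul_sum, afd_sum_elems]
  by_cases hθ : leoOm h θ = 1
  · rw [bhavg_mult_zero h _ hA θ hθ]
    simp
  · rw [if_neg hθ, mul_zero]

end abstract

end Cfsg.Agent.Lib.helper15.BH
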