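import Mathlib
import Cfsg.Agent.Lib.Helper29.LeoFaithful
import Cfsg.Agent.Lib.helper15.BH.Defs

/-!
# Project BH (S4503, Brauer 1942) : piece NOFIX
-/

set_option autoImplicit false
set_option linter.unusedVariables false
set_option linter.unusedSectionVars false
open scoped ComplexConjugate
open Classical

namespace Cfsg.Agent.Lib.helper15.BH

open Cfsg.Agent.Lib.helper7 Cfsg.Agent.Lib.helper2 Cfsg.Agent.Lib.Helper25 Cfsg.Agent.Lib.Helper29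

universe u

section abstract

variable {G : Type u} [Group G] [Fintype G]
variable {p : ℕ} {C N P : Subgroup G} {hPC : P ≤ C} {π : ↥C →* ↥P}

/-- NOFIX : the constituents of `χ · conj χ'` have no `P`-fixed points -/
theorem conj_prod_no_fixed (h : LeoSetup p C N P hPC π) (χ χ' : Cfsg.IrrCharacter G)
    (θ₁ θ₂ : Cfsg.IrrCharacter ↥C)
    (hres : ∀ c : ↥C, (χ : G → ℂ) (c : G) = ∑ ϑ ∈ leoOrb h θ₁, (ϑ : ↥C → ℂ) c)
    (hres' : ∀ c : ↥C, (χ' : G → ℂ) (c : G) = ∑ ϑ ∈ leoOrb h θ₂, (ϑ : ↥C → ℂ) c)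
    (hdis : ∀ ϑ ∈ leoOrb h θ₁, ∀ ϑ' ∈ leoOrb h θ₂, leoOm h ϑ ≠ leoOm h ϑ')
    (η : Cfsg.IrrCharacter G)
    (hη : Cfsg.classInner (fun g => (χ : G → ℂ) g * conj ((χ' : G → ℂ) g)) (η : G → ℂ) ≠ 0) :
    leoA h (η : G → ℂ) = 0 := by
  have : Fintype (Cfsg.IrrCharacter G) := Fintype.ofFinite _
  have hqne : (Nat.card ↥P : ℂ) ≠ 0 := by exact_mod_cast Nat.card_pos.ne'
  have hW' : Cfsg.IsCharacter G (fun g => (χ : G → ℂ) g * conj ((χ' : G → ℂ) g)) :=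
    h7_isCharacter_mul (isCharacter_of_irr χ) (bg_isCharacter_conj (isCharacter_of_irr χ'))
  obtain ⟨mW', hmW', hW'exp⟩ := isCharacter_expansion hW'
  have hsumW' : ∑ x : ↥P, (fun g => (χ : G → ℂ) g * conj ((χ' : G → ℂ) g)) (x : G) =
      (Nat.card ↥P : ℂ) * ((∑ ϑ ∈ leoOrb h θ₁, ∑ ϑ' ∈ leoOrb h θ₂,
        if leoOm h ϑ = leoOm h ϑ' then leoDeg ϑ * leoDeg ϑ' else 0 : ℕ) : ℂ) := by
    rw [← leo_sum_P_prod h (leoOrb h θ₁) (leoOrb h θ₂)]
    apply Finset.sum_congr rfl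
    intro x _
    rw [← hres (Subgroup.inclusion hPC x), ← hres' (Subgroup.inclusion hPC x)]
    rfl
  have hAW' := leo_expansion_sum_P h _ mW' hW'exp
  have hnatW' : ∑ η : Cfsg.IrrCharacter G, mW' η * leoA h (η : G → ℂ) = 0 := by
    rw [hsumW'] at hAW'
    have h1 := mul_left_cancel₀ hqne hAW'
    have h2 : ∑ ϑ ∈ leoOrb h θ₁, ∑ ϑ' ∈ leoOrb h θ₂,
        (if leoOm h ϑ = leoOm h ϑ' then leoDeg ϑ * leoDeg ϑ' else 0) = 0 := by
      apply Finset.sum_eq_zero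
      intro ϑ hϑ
      apply Finset.sum_eq_zero
      intro ϑ' hϑ'
      rw [if_neg (hdis ϑ hϑ ϑ' hϑ')]
    rw [h2] at h1
    exact_mod_cast h1.symm
  have h3 := (Finset.sum_eq_zero_iff.mp hnatW') η (Finset.mem_univ _)
  rcases Nat.mul_eq_zero.mp h3 with h4 | h4
  · exfalso
    apply hη
    rw [hmW' η, h4, Nat.cast_zero]
  · exact h4

end abstract

end Cfsg.Agent.Lib.helper15.BH
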