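import Mathlib
import Cfsg.Agent.Lib.Helper29.LeoFaithful
import Cfsg.Agent.Lib.helper15.BH.Defs
import Cfsg.Agent.Lib.Helper29.BHAVG

/-!
# Project BH (S4503, Brauer 1942) : piece XMINUS
-/

set_option autoImplicit false
set_option linter.unusedVariables false
set_option linter.unusedSectionVars false
open scoped ComplexConjugate
open Classical

namespace Cfsg.Agent.Lib.helper15.BH

open Cfsg.Agent.Lib.helper7 Cfsg.Agent.Lib.helper2 Cfsg.Agent.Lib.Helper25 Cfsg.Agent.Lib.Helper29

universe u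

section abstract

variable {G : Type u} [Group G] [Fintype G]
variable {p : ℕ} {C N P : Subgroup G} {hPC : P ≤ C} {π : ↥C →* ↥P}

/-- if the `P`-average of `f` on the coset `P c` (`c ∈ ker π`) vanishes and `f = v` off `ker π`, then
`f c = -(|P| - 1) v` -/
theorem bhxm_coset_value (h : LeoSetup p C N P hPC π) (f : G → ℂ) (v : ℂ)
    (hval : ∀ c : ↥C, π c ≠ 1 → f (c : G) = v) (c : ↥C) (hc : π c = 1)
    (hsum : ∑ x : ↥P, f ((x : G) * (c : G)) = 0) :
    f (c : G) + ((Nat.card ↥P : ℂ) - 1) * v = 0 := by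
  rw [← Finset.add_sum_erase _ _ (Finset.mem_univ (1 : ↥P))] at hsum
  have h1 : ∀ x ∈ (Finset.univ : Finset ↥P).erase 1, f ((x : G) * (c : G)) = v := by
    intro x hx
    have hx1 : x ≠ 1 := (Finset.mem_erase.mp hx).1
    have e1 : f ((x : G) * (c : G)) = f ((Subgroup.inclusion hPC x * c : ↥C) : G) := rfl
    rw [e1]
    apply hval
    rw [map_mul, h.retract, hc, mul_one]
    exact hx1
  rw [Finset.sum_congr rfl h1, Finset.sum_const, Finset.card_erase_of_mem (Finset.mem_univ _),
    Finset.card_univ, ← Nat.card_eq_fintype_card, nsmul_eq_mul] at hsum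
  have hpos : 1 ≤ Nat.card ↥P := Nat.card_pos
  rw [Nat.cast_sub hpos] at hsum
  simp only [Subgroup.coe_one, one_mul, Nat.cast_one] at hsum
  exact hsum

/-- XMINUS : a character with value `-1` off `ker π` and without `P`-fixed points has degree `|P| - 1` and
contains `ker π` in its kernel -/
theorem xminus (h : LeoSetup p C N P hPC π) (η : Cfsg.IrrCharacter G)
    (hval : ∀ c : ↥C, π c ≠ 1 → (η : G → ℂ) (c : G) = -1)
    (hA : leoA h (η : G → ℂ) = 0) :
    leoDeg η + 1 = Nat.card ↥P ∧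
      ∑ y : ↥(kerG π), (η : G → ℂ) (y : G) = (leoDeg η : ℂ) * (Nat.card ↥(kerG π) : ℂ) := by
  have hker : ∀ c : ↥C, π c = 1 → (η : G → ℂ) (c : G) = (Nat.card ↥P : ℂ) - 1 := by
    intro c hc
    have := bhxm_coset_value h (η : G → ℂ) (-1) hval c hc (avg_of_leoA_zero h η hA c)
    linear_combination this
  have hdeg : leoDeg η + 1 = Nat.card ↥P := by
    have h1 := hker 1 (map_one π)
    have h2 : (η : G → ℂ) ((1 : ↥C) : G) = (leoDeg η : ℂ) := leoDeg_spec η
    rw [h2] at h1
    have h3 : ((leoDeg η + 1 : ℕ) : ℂ) = (Nat.card ↥P : ℂ) := by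
      push_cast
      linear_combination h1
    exact_mod_cast h3
  refine ⟨hdeg, ?_⟩
  have h4 : ∀ y : ↥(kerG π), (η : G → ℂ) (y : G) = (leoDeg η : ℂ) := by
    intro y
    obtain ⟨c, hc, hcy⟩ := (mem_kerG (π := π) (y : G)).mp y.2
    rw [← hcy, hker c hc, ← hdeg]
    push_cast
    ring
  rw [Finset.sum_congr rfl (fun y _ => h4 y), Finset.sum_const, Finset.card_univ,
    ← Nat.card_eq_fintype_card, nsmul_eq_mul]
  ring

end abstract

end Cfsg.Agent.Lib.helper15.BH
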