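import Mathlib
import Cfsg.Agent.Lib.Helper29.LeoFaithful
import Cfsg.Agent.Lib.helper15.BH.Defs

/-!
# Project BH (S4503, Brauer 1942) : piece XPLUS
-/

set_option autoImplicit false
set_option linter.unusedVariables false
set_option linter.unusedSectionVars false
open scoped ComplexConjugate
open Classical

namespace Cfsg.Agent.Lib.helper15.BH

open Cfsg.Agent.Lib.helper7 Cfsg.Agent.Lib.helper2 Cfsg.Agent.Lib.Helper25 Cfsg.Agent.Lib.Helper29

universe u

section abstract

variable {G : Type u} [Group G] [Fintype G]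
variable {p : ℕ} {C N P : Subgroup G} {hPC : P ≤ C} {π : ↥C →* ↥P}

/-- a nonprincipal irreducible character is not constant on `P`, when no proper normal subgroup contains `P` -/
theorem bhxp_not_const (hnoK : ∀ K : Subgroup G, K.Normal → P ≤ K → K = ⊤) (η : Cfsg.IrrCharacter G)
    (hη : η ≠ trivIrr G) (hP : ∀ x : ↥P, (η : G → ℂ) (x : G) = (η : G → ℂ) 1) : False := by
  have hle : P ≤ irrKer η := by
    intro x hx
    rw [mem_irrKer]
    exact hP ⟨x, hx⟩
  have htop := hnoK (irrKer η) inferInstance hle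
  have hall : ∀ g : G, (η : G → ℂ) g = (η : G → ℂ) 1 := by
    intro g
    rw [← mem_irrKer, htop]
    exact Subgroup.mem_top g
  have h1 := h7_classInner_irr_triv η
  rw [if_neg hη] at h1
  unfold Cfsg.classInner at h1
  simp only [hall, map_one, mul_one, Finset.sum_const, Finset.card_univ, nsmul_eq_mul] at h1
  rw [← Nat.card_eq_fintype_card] at h1
  have hne : (Nat.card G : ℂ) ≠ 0 := by exact_mod_cast Nat.card_pos.ne'
  rw [← mul_assoc, inv_mul_cancel₀ hne, one_mul] at h1
  exact irr_one_ne_zero η h1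

/-- XPLUS : a nonprincipal character with value `1` off `ker π` has degree at least `|P| + 1`, when no
proper normal subgroup contains `P` -/
theorem xplus (h : LeoSetup p C N P hPC π)
    (hnoK : ∀ K : Subgroup G, K.Normal → P ≤ K → K = ⊤) (η : Cfsg.IrrCharacter G)
    (hη : η ≠ trivIrr G) (hval : ∀ c : ↥C, π c ≠ 1 → (η : G → ℂ) (c : G) = 1) :
    Nat.card ↥P + 1 ≤ leoDeg η := by
  have hx : ∀ x : ↥P, x ≠ 1 → (η : G → ℂ) (x : G) = 1 := by
    intro x hx1
    have e1 : (η : G → ℂ) (x : G) = (η : G → ℂ) ((Subgroup.inclusion hPC x : ↥C) : G) := rfl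
    rw [e1]
    apply hval
    rw [h.retract]
    exact hx1
  have hsum := leo_sum_P_A h (η : G → ℂ) (isCharacter_of_irr η)
  rw [← Finset.add_sum_erase _ _ (Finset.mem_univ (1 : ↥P))] at hsum
  have h1 : ∀ x ∈ (Finset.univ : Finset ↥P).erase 1, (η : G → ℂ) (x : G) = 1 :=
    fun x hx' => hx x (Finset.mem_erase.mp hx').1
  rw [Finset.sum_congr rfl h1, Finset.sum_const, Finset.card_erase_of_mem (Finset.mem_univ _),
    Finset.card_univ, ← Nat.card_eq_fintype_card, nsmul_eq_mul, mul_one] at hsum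
  have hpos : 1 ≤ Nat.card ↥P := Nat.card_pos
  have h2 : (η : G → ℂ) ((1 : ↥P) : G) = (leoDeg η : ℂ) := leoDeg_spec η
  rw [h2] at hsum
  have h3 : leoDeg η + (Nat.card ↥P - 1) = Nat.card ↥P * leoA h (η : G → ℂ) := by
    exact_mod_cast hsum
  have hdpos := leoDeg_pos η
  -- the degree is not `1`
  have hne1 : leoDeg η ≠ 1 := by
    intro hd
    apply bhxp_not_const hnoK η hη
    intro x
    by_cases hx1 : x = 1
    · rw [hx1]; rfl
    · rw [hx x hx1, leoDeg_spec, hd, Nat.cast_one]
  set A := leoA h (η : G → ℂ) with hAdef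
  set q := Nat.card ↥P with hq
  rcases Nat.lt_or_ge A 2 with hA | hA
  · interval_cases A
    · rw [mul_zero] at h3; omega
    · rw [mul_one] at h3; omega
  · have : q * 2 ≤ q * A := Nat.mul_le_mul_left q hA
    omega

end abstract

end Cfsg.Agent.Lib.helper15.BH
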