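import Mathlib
import Cfsg.Agent.Lib.Helper29.LeoFaithful
import Cfsg.Agent.Lib.helper15.BH.Defs

/-!
# Project BH (S4503, Brauer 1942) : piece YDEG
-/

set_option autoImplicit false
set_option linter.unusedVariables false
set_option linter.unusedSectionVars false
open scoped ComplexConjugate
open Classical

namespace Cfsg.Agent.Lib.helper15.BH

open Cfsg.Agent.Lib.helper7 Cfsg.Agent.Lib.helper2 Cfsg.Agent.Lib.Helper25 Cfsg.Agent.Lib.Helper29

universe u

section abstract

variable {G : Type u} [Group G] [Fintype G]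
variable {p : ℕ} {C N P : Subgroup G} {hPC : P ≤ C} {π : ↥C →* ↥P}

/-- YDEG : a character whose values off `ker π` on `P` sum to `-ε f` and without `P`-fixed points -/
theorem ydeg (h : LeoSetup p C N P hPC π) (η : Cfsg.IrrCharacter G) (s : ℤ)
    (hsum : ∑ x : ↥P, (η : G → ℂ) (x : G) = (η : G → ℂ) 1 - (s : ℂ))
    (hA : leoA h (η : G → ℂ) = 0) : (leoDeg η : ℤ) = s := by
  have h1 := leo_sum_P_A h (η : G → ℂ) (isCharacter_of_irr η)
  rw [hA, Nat.cast_zero, mul_zero] at h1
  rw [h1, leoDeg_spec] at hsum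
  have h2 : ((leoDeg η : ℤ) : ℂ) = (s : ℂ) := by
    push_cast
    linear_combination -hsum
  exact_mod_cast h2

end abstract

end Cfsg.Agent.Lib.helper15.BH
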