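import Mathlib
import Cfsg.Agent.Lib.helper7.BD.D1Defs
import Cfsg.Agent.Lib.helper7.BD.D1Defs2
import Cfsg.Agent.Lib.Helper27.BD3LAM
import Cfsg.Agent.Lib.Helper1.BD3BLK

/-!
# Project BD (helper7), stage B, wave 4, piece SUMB : the sum of the members of `b` vanishes on the
`p`-singular elements of `C`.
-/

set_option autoImplicit false
set_option linter.unusedVariables false
set_option linter.unusedSectionVars false

namespace Cfsg.Agent.Lib.helper7.BD

open Cfsg.Agent.Lib.helper7

universe u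

/-- an element of order `p` centralizing a Sylow `p`-subgroup lies in it -/
theorem bd4sumb_mem_sylow {G : Type u} [Group G] {p : ℕ} [Fact p.Prime] (P : Sylow p G) (x : G)
    (hx : x ^ p = 1) (hc : x ∈ Subgroup.centralizer ((P : Subgroup G) : Set G)) :
    x ∈ (P : Subgroup G) := by
  have hpp : p.Prime := Fact.out
  have hxp : IsPGroup p (Subgroup.zpowers x) := by
    intro y
    obtain ⟨k, hk⟩ := Subgroup.mem_zpowers_iff.1 y.2
    refine ⟨1, ?_⟩
    apply Subtype.ext
    rw [pow_one, Subgroup.coe_pow, Subgroup.coe_one, ← hk, ← zpow_natCast, ← zpow_mul, mul_comm,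
      zpow_mul, zpow_natCast, hx, one_zpow]
  have hnorm : Subgroup.zpowers x ≤ Subgroup.normalizer ((P : Subgroup G) : Set G) := by
    rw [Subgroup.zpowers_le]
    exact Subgroup.centralizer_le_normalizer _ hc
  have hQ : IsPGroup p (Subgroup.zpowers x ⊔ (P : Subgroup G) : Subgroup G) :=
    IsPGroup.to_sup_of_normal_right' hxp P.2 hnorm
  have hle : (P : Subgroup G) ≤ Subgroup.zpowers x ⊔ (P : Subgroup G) := le_sup_right
  have heq := P.is_maximal' hQ hle
  have : x ∈ Subgroup.zpowers x ⊔ (P : Subgroup G) :=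
    (le_sup_left : Subgroup.zpowers x ≤ _) (Subgroup.mem_zpowers x)
  rw [heq] at this
  exact this

section root

variable {G : Type u} [Group G] [Fintype G] {M : Ideal Cfsg.AlgInt} {p : ℕ} [Fact p.Prime]
  {P : Sylow p G} {B : Set (Cfsg.IrrCharacter G)}
  {b : Set (Cfsg.IrrCharacter (Subgroup.centralizer ((P : Subgroup G) : Set G)))}
  {θ : Cfsg.IrrCharacter (Subgroup.centralizer ((P : Subgroup G) : Set G))} {T : Subgroup G}

/-- SUMB : the sum of the members of `b` vanishes on the `p`-singular elements of `C` -/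
theorem root_sum_block_sing (h : RootHyp p M P B b θ T)
    (c : ↥(Subgroup.centralizer ((P : Subgroup G) : Set G))) (hc : p ∣ orderOf c) :
    ∑ᶠ ξ ∈ b, (ξ : ↥(Subgroup.centralizer ((P : Subgroup G) : Set G)) → ℂ) c = 0 := by
  have hpp : p.Prime := Fact.out
  obtain ⟨Λ, hΛ1, hΛ2, hΛ3⟩ := root_exists_Lambda (G := G) P h.card_P
  obtain ⟨ξ, hinj, hrange, hval⟩ := root_block_param h Λ hΛ1 hΛ2 hΛ3
  -- `Λ c ≠ 1`
  have hΛc : ((Λ c : ℂˣ) : ℂ) ≠ 1 := by
    intro h1
    have h1' : Λ c = 1 := Units.ext h1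
    obtain ⟨o', ho'⟩ := hc
    have hopos : 0 < orderOf c := orderOf_pos c
    have ho'pos : 0 < o' := by
      rcases Nat.eq_zero_or_pos o' with h0 | h0
      · rw [h0, mul_zero] at ho'; omega
      · exact h0
    have hlt : o' < orderOf c := by
      rw [ho']
      have := hpp.two_le
      nlinarith
    have hx1 : c ^ o' ≠ 1 := pow_ne_one_of_lt_orderOf ho'pos.ne' hlt
    have hxp : (c ^ o') ^ p = 1 := by
      rw [← pow_mul, mul_comm, ← ho', pow_orderOf_eq_one]
    have hxP : ((c ^ o' : ↥(Subgroup.centralizer ((P : Subgroup G) : Set G))) : G) ∈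
        (P : Subgroup G) := by
      apply bd4sumb_mem_sylow P
      · have := congrArg Subtype.val hxp
        simpa using this
      · exact (c ^ o').2
    apply hΛ2 (c ^ o') hxP hx1
    rw [map_pow, h1', one_pow]
  have hgeom : ∑ a ∈ Finset.range p, ((Λ c : ℂˣ) : ℂ) ^ a = 0 := by
    have h2 := geom_sum_mul ((Λ c : ℂˣ) : ℂ) p
    have h3 : ((Λ c : ℂˣ) : ℂ) ^ p = 1 := by
      have := congrArg Units.val (hΛ3 c)
      simpa using this
    rw [h3, sub_self] at h2
    rcases mul_eq_zero.1 h2 with h4 | h4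
    · exact h4
    · exact absurd (sub_eq_zero.1 h4) hΛc
  rw [← hrange, finsum_mem_range hinj, finsum_eq_sum_of_fintype]
  simp only [hval]
  rw [← Finset.sum_mul, Fin.sum_univ_eq_sum_range (fun a => ((Λ c : ℂˣ) : ℂ) ^ a) p, hgeom,
    zero_mul]

end root

end Cfsg.Agent.Lib.helper7.BD
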