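import Mathlib
import Cfsg.Agent.Lib.helper7.BD.D1Defs
import Cfsg.Agent.Lib.helper7.BD.D1Defs2

/-!
# Project BD (helper7), stage B, piece IND1 : an induced function is a class function
-/

set_option autoImplicit false
set_option linter.unusedVariables false
set_option linter.unusedSectionVars false

namespace Cfsg.Agent.Lib.helper7.BD

universe u

variable {G : Type u} [Group G] [Fintype G] (C N : Subgroup G) [Fintype ↥C] [Fintype ↥N]

/-- IND1 : an induced function is a class function -/
theorem indCN_isClassFunction (φ : ↥C → ℂ) : Cfsg.IsClassFunction ↥N (indCN C N φ) := by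
  intro g h
  unfold indCN
  congr 1
  have h1 := Equiv.sum_comp (Equiv.mulLeft h⁻¹)
    (fun m : ↥N => Cfsg.extendByZero C φ ((m : G)⁻¹ * (g : G) * (m : G)))
  rw [← h1]
  apply Finset.sum_congr rfl
  intro m _
  congr 1
  simp only [Equiv.coe_mulLeft, Subgroup.coe_mul, Subgroup.coe_inv]
  group

end Cfsg.Agent.Lib.helper7.BD
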