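import Mathlib
import Cfsg.Agent.Lib.helper7.BD.D1Defs
import Cfsg.Agent.Lib.helper7.BD.D1Defs2
import Cfsg.Agent.Lib.helper7.Induction

/-!
# Project BD (helper7), stage B, piece IND2 : Frobenius reciprocity for `indCN`
-/

set_option autoImplicit false
set_option linter.unusedVariables false
set_option linter.unusedSectionVars false

namespace Cfsg.Agent.Lib.helper7.BD

open Cfsg.Agent.Lib.helper7
open scoped ComplexConjugate

universe u

variable {G : Type u} [Group G] [Fintype G] (C N : Subgroup G) [Fintype ↥C] [Fintype ↥N]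

/-- a sum over `N` against an extension by zero from `C ≤ N` is a sum over `C` -/
theorem bd3ind2_sum_ext (hCN : C ≤ N) (φ : ↥C → ℂ) (w : ↥N → ℂ) :
    ∑ n : ↥N, Cfsg.extendByZero C φ (n : G) * w n =
      ∑ c : ↥C, φ c * w (Subgroup.inclusion hCN c) := by
  classical
  symm
  rw [← Finset.sum_subset (Finset.subset_univ (Finset.univ.image (Subgroup.inclusion hCN)))]
  · rw [Finset.sum_image (fun a _ b _ h => Subgroup.inclusion_injective hCN h)]
    apply Finset.sum_congr rfl
    intro c _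
    rw [Subgroup.coe_inclusion, h7_extendByZero_coe]
  · intro n _ hn
    have : (n : G) ∉ C := by
      intro h
      apply hn
      rw [Finset.mem_image]
      exact ⟨⟨n, h⟩, Finset.mem_univ _, Subtype.ext rfl⟩
    rw [h7_extendByZero_not_mem _ _ _ this, zero_mul]

/-- IND2 : Frobenius reciprocity -/
theorem indCN_frobenius (hCN : C ≤ N) (φ : ↥C → ℂ) (ψ : ↥N → ℂ) (hψ : Cfsg.IsClassFunction ↥N ψ) :
    Cfsg.classInner (indCN C N φ) ψ =
      Cfsg.classInner φ (fun c : ↥C => ψ (Subgroup.inclusion hCN c)) := by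
  classical
  unfold Cfsg.classInner indCN
  have hN : (Nat.card N : ℂ) ≠ 0 := by exact_mod_cast Nat.card_pos.ne'
  have hC : (Nat.card C : ℂ) ≠ 0 := by exact_mod_cast Nat.card_pos.ne'
  have key : ∑ n : ↥N, ((Nat.card C : ℂ)⁻¹ *
        ∑ m : ↥N, Cfsg.extendByZero C φ ((m : G)⁻¹ * (n : G) * (m : G))) * conj (ψ n)
      = (Nat.card C : ℂ)⁻¹ * ((Nat.card N : ℂ) *
        ∑ c : ↥C, φ c * conj (ψ (Subgroup.inclusion hCN c))) := by
    have h0 : ∑ n : ↥N, ((Nat.card C : ℂ)⁻¹ *
          ∑ m : ↥N, Cfsg.extendByZero C φ ((m : G)⁻¹ * (n : G) * (m : G))) * conj (ψ n)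
        = (Nat.card C : ℂ)⁻¹ * ∑ m : ↥N, ∑ n : ↥N,
          Cfsg.extendByZero C φ ((m : G)⁻¹ * (n : G) * (m : G)) * conj (ψ n) := by
      rw [Finset.sum_comm, Finset.mul_sum]
      apply Finset.sum_congr rfl
      intro n _
      rw [mul_assoc, Finset.sum_mul]
    rw [h0]
    congr 1
    have h1 : ∀ m : ↥N, ∑ n : ↥N,
        Cfsg.extendByZero C φ ((m : G)⁻¹ * (n : G) * (m : G)) * conj (ψ n) =
        ∑ c : ↥C, φ c * conj (ψ (Subgroup.inclusion hCN c)) := by
      intro m
      have h2 : ∀ n : ↥N, ψ n = ψ (m⁻¹ * n * m) := by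
        intro n
        have := hψ n m⁻¹
        simpa using this.symm
      have h3 : ∑ n : ↥N,
          Cfsg.extendByZero C φ ((m : G)⁻¹ * (n : G) * (m : G)) * conj (ψ n) =
          ∑ n : ↥N, Cfsg.extendByZero C φ (((m⁻¹ * n * m : ↥N) : G)) *
            conj (ψ (m⁻¹ * n * m)) := by
        apply Finset.sum_congr rfl
        intro n _
        rw [← h2 n]
        rfl
      rw [h3]
      have h4 := Equiv.sum_comp ((Equiv.mulLeft m⁻¹).trans (Equiv.mulRight m))
        (fun y : ↥N => Cfsg.extendByZero C φ (y : G) * conj (ψ y))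
      simp only [Equiv.trans_apply, Equiv.coe_mulLeft, Equiv.coe_mulRight] at h4
      rw [h4]
      exact bd3ind2_sum_ext C N hCN φ (fun y => conj (ψ y))
    simp only [h1, Finset.sum_const, Finset.card_univ, nsmul_eq_mul, Nat.card_eq_fintype_card]
  rw [key]
  field_simp

end Cfsg.Agent.Lib.helper7.BD
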