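import Mathlib
import Cfsg.Agent.Lib.helper7.BD.D1Defs
import Cfsg.Agent.Lib.helper7.BD.D1Defs2
import Cfsg.Agent.Lib.Helper29.BD3IND1
import Cfsg.Agent.Lib.Helper29.BD3IND2

/-!
# Project BD (helper7), stage B, piece IND3 : the inner product of two induced functions
-/

set_option autoImplicit false
set_option linter.unusedVariables false
set_option linter.unusedSectionVars false

namespace Cfsg.Agent.Lib.helper7.BD

open scoped ComplexConjugate

universe u

variable {G : Type u} [Group G] [Fintype G] (C N : Subgroup G) [Fintype ↥C] [Fintype ↥N]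

/-- IND3 : the inner product of two induced functions, for `C ⊴ N` -/
theorem indCN_inner (hCN : C ≤ N) (φ φ' : ↥C → ℂ) :
    Cfsg.classInner (indCN C N φ) (indCN C N φ') =
      (Nat.card C : ℂ)⁻¹ * ∑ m : ↥N, Cfsg.classInner φ
        (fun c : ↥C => Cfsg.extendByZero C φ' ((m : G)⁻¹ * (c : G) * (m : G))) := by
  rw [indCN_frobenius C N hCN φ (indCN C N φ') (indCN_isClassFunction C N φ')]
  unfold Cfsg.classInner indCN
  simp only [Subgroup.coe_inclusion, map_mul, map_inv₀, Complex.conj_natCast, map_sum]
  simp only [Finset.mul_sum]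
  rw [Finset.sum_comm]
  apply Finset.sum_congr rfl
  intro m _
  apply Finset.sum_congr rfl
  intro c _
  ring

end Cfsg.Agent.Lib.helper7.BD
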