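import Mathlib
import Cfsg.Agent.Lib.helper7.BD.D1Defs
import Cfsg.Agent.Lib.helper7.BD.D1Defs2
import Cfsg.Agent.Lib.helper7.Induction

/-!
# Project BD (helper7), stage B, piece IND5 : the conjugate of an irreducible character as a function
-/

set_option autoImplicit false
set_option linter.unusedVariables false
set_option linter.unusedSectionVars false

namespace Cfsg.Agent.Lib.helper7.BD

open Cfsg.Agent.Lib.helper7

universe u

variable {G : Type u} [Group G] [Fintype G] (C N : Subgroup G) [Fintype ↥C] [Fintype ↥N]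

/-- IND5 : the conjugate of an irreducible character as a function -/
theorem extendByZero_conj_eq_cjIrr {m : G} (hm : m ∈ Subgroup.normalizer (C : Set G))
    (ξ : Cfsg.IrrCharacter C) (c : ↥C) :
    Cfsg.extendByZero C (ξ : ↥C → ℂ) (m⁻¹ * (c : G) * m) = (cjIrr C m ξ : ↥C → ℂ) c := by
  have hmem : m⁻¹ * (c : G) * m ∈ C := by
    have := (Subgroup.mem_normalizer_iff.1 (Subgroup.inv_mem _ hm) (c : G)).1 c.2
    rwa [inv_inv] at this
  rw [h7_extendByZero_mem C _ _ hmem]
  symm
  apply cjIrr_conj C hm ξ ⟨m⁻¹ * (c : G) * m, hmem⟩ c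
  show (c : G) = m * (m⁻¹ * (c : G) * m) * m⁻¹
  group

end Cfsg.Agent.Lib.helper7.BD
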