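import Mathlib
import Cfsg.Agent.Lib.helper7.BD.D1Defs
import Cfsg.Agent.Lib.helper7.BD.D1Defs2
import Cfsg.Agent.Lib.helper7.Induction

/-!
# Project BD (helper7), stage B, piece IND4 : support of an induced function
-/

set_option autoImplicit false
set_option linter.unusedVariables false
set_option linter.unusedSectionVars false

namespace Cfsg.Agent.Lib.helper7.BD

open Cfsg.Agent.Lib.helper7

universe u

variable {G : Type u} [Group G] [Fintype G] (C N : Subgroup G) [Fintype ↥C] [Fintype ↥N]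

/-- IND4 : support of an induced function, for `C ⊴ N` -/
theorem indCN_support (hnorm : ∀ n ∈ N, ∀ c ∈ C, n * c * n⁻¹ ∈ C) (p : ℕ) (φ : ↥C → ℂ)
    (hφ : ∀ c : ↥C, ¬ p ∣ orderOf c → φ c = 0) (n : ↥N) (hn : (n : G) ∉ singSet p C) :
    indCN C N φ n = 0 := by
  unfold indCN
  rw [Finset.sum_eq_zero, mul_zero]
  intro m _
  by_cases hmem : (m : G)⁻¹ * (n : G) * (m : G) ∈ C
  · rw [h7_extendByZero_mem C φ _ hmem]
    apply hφ
    intro hdvd
    apply hn
    have hnC : (n : G) ∈ C := by
      have := hnorm (m : G) m.2 _ hmem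
      have e : (m : G) * ((m : G)⁻¹ * (n : G) * (m : G)) * (m : G)⁻¹ = (n : G) := by group
      rwa [e] at this
    refine ⟨hnC, ?_⟩
    have h1 : orderOf (⟨(m : G)⁻¹ * (n : G) * (m : G), hmem⟩ : ↥C) =
        orderOf ((m : G)⁻¹ * (n : G) * (m : G)) := by
      rw [← Subgroup.orderOf_coe]
    have h2 : orderOf ((m : G)⁻¹ * (n : G) * (m : G)) = orderOf (n : G) := by
      have := MulEquiv.orderOf_eq (MulAut.conj (m : G)⁻¹) (n : G)
      rw [MulAut.conj_apply, inv_inv] at this
      exact this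
    rw [h1, h2] at hdvd
    exact hdvd
  · exact h7_extendByZero_not_mem C φ _ hmem

end Cfsg.Agent.Lib.helper7.BD
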