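import Mathlib

/-!
# Project BD (helper7), stage B, piece CYC0 : an integral relation between the powers of a primitive
`p`-th root of unity has constant coefficients.
-/

set_option autoImplicit false
set_option linter.unusedVariables false

namespace Cfsg.Agent.Lib.helper7.BD

open Polynomial

/-- the polynomial `∑ m_a X^a` -/
noncomputable def bd3cyc0_poly {p : ℕ} (m : Fin p → ℤ) : ℤ[X] :=
  ∑ a : Fin p, C (m a) * X ^ (a : ℕ)

theorem bd3cyc0_coeff {p : ℕ} (m : Fin p → ℤ) (a : Fin p) :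
    (bd3cyc0_poly m).coeff (a : ℕ) = m a := by
  unfold bd3cyc0_poly
  rw [finsetSum_coeff]
  rw [Finset.sum_eq_single a]
  · rw [coeff_C_mul, coeff_X_pow, if_pos rfl, mul_one]
  · intro b _ hb
    rw [coeff_C_mul, coeff_X_pow, if_neg, mul_zero]
    intro h
    exact hb (Fin.ext h.symm)
  · intro h
    exact absurd (Finset.mem_univ a) h

theorem bd3cyc0_natDegree {p : ℕ} (hp : 0 < p) (m : Fin p → ℤ) :
    (bd3cyc0_poly m).natDegree ≤ p - 1 := by
  unfold bd3cyc0_poly
  apply natDegree_sum_le_of_forall_le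
  intro a _
  refine (natDegree_C_mul_X_pow_le _ _).trans ?_
  have := a.2
  omega

theorem bd3cyc0_geom_coeff (p : ℕ) (k : ℕ) (hk : k < p) :
    (∑ i ∈ Finset.range p, (X : ℤ[X]) ^ i).coeff k = 1 := by
  rw [finsetSum_coeff]
  rw [Finset.sum_eq_single k]
  · rw [coeff_X_pow, if_pos rfl]
  · intro b _ hb
    rw [coeff_X_pow, if_neg]
    intro h
    exact hb h.symm
  · intro h
    exact absurd (Finset.mem_range.2 hk) h

/-- CYC0 : an integral relation between the powers of a primitive `p`-th root of unity -/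
theorem prime_root_sum_eq_zero {p : ℕ} [Fact p.Prime] (ζ : ℂ) (hζ : ζ ^ p = 1) (hζ1 : ζ ≠ 1)
    (m : Fin p → ℤ) (h : ∑ a : Fin p, ((m a : ℤ) : ℂ) * ζ ^ (a : ℕ) = 0) : ∀ a a', m a = m a' := by
  have hpp : p.Prime := Fact.out
  have hprim : IsPrimitiveRoot ζ p := by
    have := IsPrimitiveRoot.orderOf ζ
    rwa [orderOf_eq_prime hζ hζ1] at this
  have hcyc : cyclotomic p ℤ = minpoly ℤ ζ := cyclotomic_eq_minpoly hprim hpp.pos
  have haeval : aeval ζ (bd3cyc0_poly m) = 0 := by
    unfold bd3cyc0_poly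
    rw [map_sum]
    rw [← h]
    apply Finset.sum_congr rfl
    intro a _
    rw [map_mul, aeval_C, map_pow, aeval_X]
    rfl
  have hdvd : cyclotomic p ℤ ∣ bd3cyc0_poly m := by
    rw [hcyc]
    exact minpoly.isIntegrallyClosed_dvd (hprim.isIntegral hpp.pos) haeval
  obtain ⟨g, hg⟩ := hdvd
  -- `g` is a constant
  have hgc : g = C (g.coeff 0) := by
    by_cases hg0 : g = 0
    · rw [hg0]; simp
    · apply eq_C_of_natDegree_eq_zero
      have hc0 : cyclotomic p ℤ ≠ 0 := cyclotomic_ne_zero p ℤ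
      have hdeg : (bd3cyc0_poly m).natDegree = (cyclotomic p ℤ).natDegree + g.natDegree := by
        rw [hg]; exact natDegree_mul hc0 hg0
      rw [natDegree_cyclotomic, Nat.totient_prime hpp] at hdeg
      have := bd3cyc0_natDegree hpp.pos m
      omega
  have key : ∀ a : Fin p, m a = g.coeff 0 := by
    intro a
    rw [← bd3cyc0_coeff m a, hg, hgc, cyclotomic_prime, mul_comm, coeff_C_mul,
      bd3cyc0_geom_coeff p a a.2, mul_one]
    simp
  intro a a'
  rw [key a, key a']

end Cfsg.Agent.Lib.helper7.BD
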