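import Mathlib
import Cfsg.Agent.Lib.helper15.PSL.Defs
import Cfsg.Agent.S0840
import Cfsg.Agent.Lib.Helper25.CharOrth

/-!
# Project PSL (S4504), piece DECOMP : if the degrees of some constituents add up to the degree, the character is
their sum
-/

set_option autoImplicit false
set_option linter.unusedVariables false
set_option linter.unusedSectionVars false
open scoped ComplexConjugate
open Classical

namespace Cfsg.Agent.Lib.helper15.PSL

open Cfsg.Agent.Lib.helper7 Cfsg.Agent.Lib.helper7.BR Cfsg.Agent.Lib.helper2 Cfsg.Agent.Lib.Helper25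
  Cfsg.Agent.Lib.Helper29 Cfsg.Agent.Lib.helper15.BH

universe u

variable {G : Type u} [Group G] [Fintype G] {p : ℕ} [Fact p.Prime]

/-- DECOMP : if the degrees of some constituents add up to the degree, the character is their sum -/
theorem decomp_of_degree {Ψ : G → ℂ} (hΨ : Cfsg.IsCharacter G Ψ) (S : Finset (Cfsg.IrrCharacter G))
    (hS : ∀ ξ ∈ S, Cfsg.classInner Ψ (ξ : G → ℂ) ≠ 0) (d : ℕ) (hd : Ψ 1 = (d : ℂ))
    (hdeg : ∑ ξ ∈ S, leoDeg ξ = d) : ∀ g : G, Ψ g = ∑ ξ ∈ S, (ξ : G → ℂ) g := by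
  have : Fintype (Cfsg.IrrCharacter G) := Fintype.ofFinite _
  obtain ⟨m, hm, hexp⟩ := isCharacter_expansion hΨ
  have hval : ∀ g : G, Ψ g = ∑ χ : Cfsg.IrrCharacter G, (m χ : ℂ) * (χ : G → ℂ) g := by
    intro g
    have := congrFun hexp g
    rw [this, Finset.sum_apply]
    simp only [Pi.smul_apply, smul_eq_mul]
  -- the degree equation
  have h1 : (d : ℂ) = ((∑ χ : Cfsg.IrrCharacter G, m χ * leoDeg χ : ℕ) : ℂ) := by
    rw [← hd, hval 1]
    push_cast
    exact Finset.sum_congr rfl fun χ _ => by rw [leoDeg_spec]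
  have h1' : d = ∑ χ : Cfsg.IrrCharacter G, m χ * leoDeg χ := by exact_mod_cast h1
  have hmS : ∀ ξ ∈ S, 1 ≤ m ξ := by
    intro ξ hξ
    have h := hS ξ hξ
    rw [hm ξ] at h
    have : m ξ ≠ 0 := by exact_mod_cast h
    omega
  have hsplit : ∑ χ : Cfsg.IrrCharacter G, m χ * leoDeg χ =
      ∑ χ ∈ S, m χ * leoDeg χ + ∑ χ ∈ Sᶜ, m χ * leoDeg χ :=
    (Finset.sum_add_sum_compl S _).symm
  have hle : ∑ χ ∈ S, leoDeg χ ≤ ∑ χ ∈ S, m χ * leoDeg χ :=
    Finset.sum_le_sum fun ξ hξ => Nat.le_mul_of_pos_left _ (hmS ξ hξ)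
  have hc0 : ∑ χ ∈ Sᶜ, m χ * leoDeg χ = 0 := by omega
  have hS1 : ∑ χ ∈ S, m χ * leoDeg χ = ∑ χ ∈ S, leoDeg χ := by omega
  have hm0 : ∀ χ, χ ∉ S → m χ = 0 := by
    intro χ hχ
    have := (Finset.sum_eq_zero_iff.mp hc0) χ (Finset.mem_compl.mpr hχ)
    rcases Nat.mul_eq_zero.mp this with h | h
    · exact h
    · exact absurd h (leoDeg_pos χ).ne'
  have hm1 : ∀ ξ ∈ S, m ξ = 1 := by
    intro ξ hξ
    by_contra hne
    have h2 : 2 ≤ m ξ := by
      have := hmS ξ hξ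
      omega
    have hlt : ∑ χ ∈ S, leoDeg χ < ∑ χ ∈ S, m χ * leoDeg χ := by
      apply Finset.sum_lt_sum (fun χ hχ => Nat.le_mul_of_pos_left _ (hmS χ hχ))
      refine ⟨ξ, hξ, ?_⟩
      have := leoDeg_pos ξ
      nlinarith
    omega
  intro g
  rw [hval g, ← Finset.sum_subset (Finset.subset_univ S)
    (fun χ _ hχ => by rw [hm0 χ hχ]; simp)]
  exact Finset.sum_congr rfl fun ξ hξ => by rw [hm1 ξ hξ]; simp

end Cfsg.Agent.Lib.helper15.PSL
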