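import Mathlib

/-!
# Project PSL (S4504), piece ALGB : the algebra of case B (pure algebra over `ℂ`, `ℝ`)
-/

set_option autoImplicit false
set_option linter.unusedVariables false
set_option linter.unusedSectionVars false
open scoped ComplexConjugate
open Classical

namespace Cfsg.Agent.Lib.helper15.PSL

/-- ALGB : the algebra of case B -/
theorem caseB_alg (f : ℕ) (hf : 2 ≤ f) (w y : ℂ)
    (h1 : (1 + (w * conj w - 1 - conj y) / ((2 * f + 1 : ℕ) + 1 : ℂ) +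
      w * conj w / ((2 * f + 1 : ℕ) - 1 : ℂ) + ((f : ℂ) + 1) * conj y / ((f + 1 : ℕ) : ℂ)).im = 0)
    (h3 : (1 + (w * conj w - 1 - conj y) / ((2 * f + 1 : ℕ) + 1 : ℂ) +
      w * conj w / ((2 * f + 1 : ℕ) - 1 : ℂ) - (f : ℂ) * conj y / ((f + 1 : ℕ) : ℂ)).im = 0)
    (h5 : ‖conj (w * y) / ((2 * f + 1 : ℕ) + 1 : ℂ) + conj (w * (y - 1)) / ((2 * f + 1 : ℕ) - 1 : ℂ) +
        ((f : ℂ) + 1) * conj w / (f : ℂ)‖ ≤
      (1 + (w * conj w - 1 - conj y) / ((2 * f + 1 : ℕ) + 1 : ℂ) +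
        w * conj w / ((2 * f + 1 : ℕ) - 1 : ℂ) + ((f : ℂ) + 1) * conj y / ((f + 1 : ℕ) : ℂ)).re)
    (h6 : ‖conj (w * y) / ((2 * f + 1 : ℕ) + 1 : ℂ) + conj (w * (y - 1)) / ((2 * f + 1 : ℕ) - 1 : ℂ) -
        (f : ℂ) * conj w / (f : ℂ)‖ ≤
      (1 + (w * conj w - 1 - conj y) / ((2 * f + 1 : ℕ) + 1 : ℂ) +
        w * conj w / ((2 * f + 1 : ℕ) - 1 : ℂ) - (f : ℂ) * conj y / ((f + 1 : ℕ) : ℂ)).re)
    (hyle : Complex.normSq y ≤ ((f : ℝ) + 1) ^ 2)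
    (hle : Complex.normSq w ≤ (f : ℝ) ^ 2) :
    Complex.normSq w ≤ 1 ∨ Complex.normSq w = (f : ℝ) ^ 2 := by
  have hf0 : (0 : ℝ) < f := by exact_mod_cast (by omega : 0 < f)
  have hfC : (f : ℂ) ≠ 0 := by exact_mod_cast (by omega : f ≠ 0)
  have hf1 : (2 : ℝ) ≤ f := by exact_mod_cast hf
  obtain ⟨a, b⟩ := y
  have hd1 : ((2 * f + 1 : ℕ) + 1 : ℂ) = ((2 * (f : ℝ) + 2 : ℝ) : ℂ) := by push_cast; ring
  have hd2 : ((2 * f + 1 : ℕ) - 1 : ℂ) = ((2 * (f : ℝ) : ℝ) : ℂ) := by push_cast; ring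
  have hN : w * conj w = ((Complex.normSq w : ℝ) : ℂ) := Complex.mul_conj w
  have hc : conj (⟨a, b⟩ : ℂ) = ⟨a, -b⟩ := rfl
  -- the imaginary part: `b = 0`
  have hb : b = 0 := by
    rw [hd1, hd2, hN, hc] at h1
    simp only [Complex.add_im, Complex.add_re, Complex.sub_im, Complex.sub_re, Complex.div_ofReal_im,
      Complex.div_ofReal_re, Complex.one_im, Complex.one_re, Complex.ofReal_im, Complex.ofReal_re,
      Complex.mul_im, Complex.mul_re, Complex.natCast_im, Complex.natCast_re, Complex.div_natCast_re,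
      Complex.div_natCast_im] at h1
    have hf1' : ((f + 1 : ℕ) : ℝ) = (f : ℝ) + 1 := by push_cast; ring
    rw [hf1'] at h1
    have e : 0 + (0 - 0 - -b) / (2 * (f : ℝ) + 2) + 0 / (2 * (f : ℝ)) +
        (((f : ℝ) + 1) * -b + (0 + 0) * a) / ((f : ℝ) + 1) =
        -(b * (2 * (f : ℝ) + 1)) / (2 * (f : ℝ) + 2) := by
      field_simp
      ring
    rw [e, div_eq_zero_iff] at h1
    rcases h1 with h | h
    · have : b * (2 * (f : ℝ) + 1) = 0 := by linarith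
      rcases mul_eq_zero.mp this with h' | h'
      · exact h'
      · exfalso; linarith
    · exfalso; linarith
  subst hb
  clear h1 h3
  have hya : (⟨a, 0⟩ : ℂ) = ((a : ℝ) : ℂ) := rfl
  rw [hya] at h5 h6 hyle
  rw [Complex.normSq_ofReal] at hyle
  set c : ℝ := ‖w‖ with hcdef
  have hc0 : 0 ≤ c := norm_nonneg w
  have hcsq : Complex.normSq w = c ^ 2 := Complex.normSq_eq_norm_sq w
  have hfC1 : ((f + 1 : ℕ) : ℂ) = (((f : ℝ) + 1 : ℝ) : ℂ) := by push_cast; ring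
  have hfr : (f : ℂ) = ((f : ℝ) : ℂ) := by push_cast; rfl
  -- the two vectors
  have hV5 : conj (w * ((a : ℝ) : ℂ)) / ((2 * f + 1 : ℕ) + 1 : ℂ) +
      conj (w * (((a : ℝ) : ℂ) - 1)) / ((2 * f + 1 : ℕ) - 1 : ℂ) + ((f : ℂ) + 1) * conj w / (f : ℂ) =
      (((2 * (f : ℝ) + 1) * (a + f + 1) / (2 * (f : ℝ) * ((f : ℝ) + 1)) : ℝ) : ℂ) * conj w := by
    simp only [map_mul, map_sub, map_one, Complex.conj_ofReal]
    rw [hd1, hd2]
    have h2f : (2 * (f : ℂ) + 2) ≠ 0 := by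
      have : (2 * (f : ℂ) + 2) = ((2 * (f : ℝ) + 2 : ℝ) : ℂ) := by push_cast; ring
      rw [this]
      exact_mod_cast (by positivity : (2 * (f : ℝ) + 2) ≠ 0)
    have hf1C : ((f : ℂ) + 1) ≠ 0 := by
      have : ((f : ℂ) + 1) = (((f : ℝ) + 1 : ℝ) : ℂ) := by push_cast; ring
      rw [this]
      exact_mod_cast (by positivity : ((f : ℝ) + 1) ≠ 0)
    push_cast
    field_simp
    ring
  have hV6 : conj (w * ((a : ℝ) : ℂ)) / ((2 * f + 1 : ℕ) + 1 : ℂ) +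
      conj (w * (((a : ℝ) : ℂ) - 1)) / ((2 * f + 1 : ℕ) - 1 : ℂ) - (f : ℂ) * conj w / (f : ℂ) =
      (((2 * (f : ℝ) + 1) * (a - f - 1) / (2 * (f : ℝ) * ((f : ℝ) + 1)) : ℝ) : ℂ) * conj w := by
    simp only [map_mul, map_sub, map_one, Complex.conj_ofReal]
    rw [hd1, hd2]
    have h2f : (2 * (f : ℂ) + 2) ≠ 0 := by
      have : (2 * (f : ℂ) + 2) = ((2 * (f : ℝ) + 2 : ℝ) : ℂ) := by push_cast; ring
      rw [this]
      exact_mod_cast (by positivity : (2 * (f : ℝ) + 2) ≠ 0)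
    have hf1C : ((f : ℂ) + 1) ≠ 0 := by
      have : ((f : ℂ) + 1) = (((f : ℝ) + 1 : ℝ) : ℂ) := by push_cast; ring
      rw [this]
      exact_mod_cast (by positivity : ((f : ℝ) + 1) ≠ 0)
    push_cast
    field_simp
    ring
  -- the real parts
  have hR5 : (1 + (w * conj w - 1 - conj ((a : ℝ) : ℂ)) / ((2 * f + 1 : ℕ) + 1 : ℂ) +
      w * conj w / ((2 * f + 1 : ℕ) - 1 : ℂ) + ((f : ℂ) + 1) * conj ((a : ℝ) : ℂ) / ((f + 1 : ℕ) : ℂ)).re =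
      (2 * (f : ℝ) + 1) * (c ^ 2 + f * a + f) / (2 * (f : ℝ) * ((f : ℝ) + 1)) := by
    rw [hd1, hd2, hN, hcsq, Complex.conj_ofReal, hfC1, hfr]
    have : (1 + (((c ^ 2 : ℝ) : ℂ) - 1 - ((a : ℝ) : ℂ)) / ((2 * (f : ℝ) + 2 : ℝ) : ℂ) +
        ((c ^ 2 : ℝ) : ℂ) / ((2 * (f : ℝ) : ℝ) : ℂ) +
        ((((f : ℝ) : ℝ) : ℂ) + 1) * ((a : ℝ) : ℂ) / (((f : ℝ) + 1 : ℝ) : ℂ)) =
        (((1 + (c ^ 2 - 1 - a) / (2 * (f : ℝ) + 2) + c ^ 2 / (2 * (f : ℝ)) +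
          ((f : ℝ) + 1) * a / ((f : ℝ) + 1) : ℝ)) : ℂ) := by
      push_cast
      ring
    rw [this, Complex.ofReal_re]
    field_simp
    ring
  have hR6 : (1 + (w * conj w - 1 - conj ((a : ℝ) : ℂ)) / ((2 * f + 1 : ℕ) + 1 : ℂ) +
      w * conj w / ((2 * f + 1 : ℕ) - 1 : ℂ) - (f : ℂ) * conj ((a : ℝ) : ℂ) / ((f + 1 : ℕ) : ℂ)).re =
      (2 * (f : ℝ) + 1) * (c ^ 2 - f * a + f) / (2 * (f : ℝ) * ((f : ℝ) + 1)) := by
    rw [hd1, hd2, hN, hcsq, Complex.conj_ofReal, hfC1, hfr]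
    have : (1 + (((c ^ 2 : ℝ) : ℂ) - 1 - ((a : ℝ) : ℂ)) / ((2 * (f : ℝ) + 2 : ℝ) : ℂ) +
        ((c ^ 2 : ℝ) : ℂ) / ((2 * (f : ℝ) : ℝ) : ℂ) -
        (((f : ℝ) : ℝ) : ℂ) * ((a : ℝ) : ℂ) / (((f : ℝ) + 1 : ℝ) : ℂ)) =
        (((1 + (c ^ 2 - 1 - a) / (2 * (f : ℝ) + 2) + c ^ 2 / (2 * (f : ℝ)) -
          (f : ℝ) * a / ((f : ℝ) + 1) : ℝ)) : ℂ) := by
      push_cast
      ring
    rw [this, Complex.ofReal_re]
    field_simp
    ring
  rw [hV5, hR5, norm_mul, Complex.norm_real, Real.norm_eq_abs, RCLike.norm_conj] at h5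
  rw [hV6, hR6, norm_mul, Complex.norm_real, Real.norm_eq_abs, RCLike.norm_conj] at h6
  rw [← hcdef] at h5 h6
  have hpos : (0 : ℝ) < 2 * (f : ℝ) * ((f : ℝ) + 1) := by positivity
  have hpos2 : (0 : ℝ) < 2 * (f : ℝ) + 1 := by positivity
  -- `|a| ≤ f + 1`
  have ha1 : -((f : ℝ) + 1) ≤ a := by
    by_contra hneg
    rw [not_le] at hneg
    nlinarith
  have ha2 : a ≤ (f : ℝ) + 1 := by
    by_contra hneg
    rw [not_le] at hneg
    nlinarith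
  have habs5 : |(2 * (f : ℝ) + 1) * (a + f + 1) / (2 * (f : ℝ) * ((f : ℝ) + 1))| =
      (2 * (f : ℝ) + 1) * (a + f + 1) / (2 * (f : ℝ) * ((f : ℝ) + 1)) := by
    apply abs_of_nonneg
    apply div_nonneg _ hpos.le
    apply mul_nonneg hpos2.le
    linarith
  have habs6 : |(2 * (f : ℝ) + 1) * (a - f - 1) / (2 * (f : ℝ) * ((f : ℝ) + 1))| =
      (2 * (f : ℝ) + 1) * (f + 1 - a) / (2 * (f : ℝ) * ((f : ℝ) + 1)) := by
    rw [abs_of_nonpos]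
    · ring
    · apply div_nonpos_of_nonpos_of_nonneg _ hpos.le
      apply mul_nonpos_of_nonneg_of_nonpos hpos2.le
      linarith
  rw [habs5] at h5
  rw [habs6] at h6
  have k5 : (a + f + 1) * c ≤ c ^ 2 + f * a + f := by
    have h := h5
    rw [div_mul_eq_mul_div, div_le_div_iff_of_pos_right hpos] at h
    nlinarith
  have k6 : (f + 1 - a) * c ≤ c ^ 2 - f * a + f := by
    have h := h6
    rw [div_mul_eq_mul_div, div_le_div_iff_of_pos_right hpos] at h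
    nlinarith
  rw [hcsq] at hle ⊢
  have hcf : c ≤ f := by
    by_contra hneg
    rw [not_le] at hneg
    nlinarith
  rcases hcf.lt_or_eq with hlt | heq
  · left
    have e5 : 0 ≤ (c - f) * (c - a - 1) := by nlinarith
    have e6 : 0 ≤ (c - f) * (c - 1 + a) := by nlinarith
    have g5 : c - a - 1 ≤ 0 := by
      by_contra hneg
      rw [not_le] at hneg
      nlinarith
    have g6 : c - 1 + a ≤ 0 := by
      by_contra hneg
      rw [not_le] at hneg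
      nlinarith
    have hc1 : c ≤ 1 := by linarith
    calc c ^ 2 ≤ 1 ^ 2 := pow_le_pow_left₀ hc0 hc1 2
      _ = 1 := one_pow 2
  · right
    rw [heq]

end Cfsg.Agent.Lib.helper15.PSL
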