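import Mathlib
import Cfsg.Agent.Lib.helper15.PSL.Defs
import Cfsg.Agent.Lib.helper15.BH.Main

/-!
# Project PSL (S4504) : pieces M2MINUS and M2PLUS (Skeleton2)

The passages `hE1` / `hXminus` / `hdegminus` / `hdegplus` of `core_big` (project BH), in the vocabulary of
`M1Out` and `PB0`.
-/

set_option autoImplicit false
set_option linter.unusedVariables false
set_option linter.unusedSectionVars false
open scoped ComplexConjugate
open Classical

namespace Cfsg.Agent.Lib.helper15.PSL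

open Cfsg.Agent.Lib.helper7 Cfsg.Agent.Lib.helper7.BR Cfsg.Agent.Lib.helper2 Cfsg.Agent.Lib.Helper25
  Cfsg.Agent.Lib.Helper29 Cfsg.Agent.Lib.helper15.BH

universe u

section abstract

variable {G : Type u} [Group G] [Fintype G]
variable {p : ℕ} {C N P : Subgroup G} {hPC : P ≤ C} {π : ↥C →* ↥P}

/-- the difference of the multiplicities of a member of `X` in `χ conj χ` and `χ conj χ'` is its sign -/
theorem pslm2_inner_diff (h : LeoSetup p C N P hPC π) {f : ℕ} {χ χ' : Cfsg.IrrCharacter G}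
    {θ₁ θ₂ : Cfsg.IrrCharacter ↥C} (hM : M1Out h f χ χ' θ₁ θ₂)
    {X Y : Finset (Cfsg.IrrCharacter G)} {a : Cfsg.IrrCharacter G → ℤ} {ε : ℤ}
    (hB0 : PB0 p f P X Y a ε) (ξ : Cfsg.IrrCharacter G) (hξ : ξ ∈ X) :
    Cfsg.classInner (fun g => (χ : G → ℂ) g * conj ((χ : G → ℂ) g)) (ξ : G → ℂ) -
      Cfsg.classInner (fun g => (χ : G → ℂ) g * conj ((χ' : G → ℂ) g)) (ξ : G → ℂ) = (a ξ : ℂ) := by
  have := inner_diff_of_const_sing p χ χ' hM.hne hM.hreg (ξ : G → ℂ) (a ξ : ℂ) (hB0.valX ξ hξ)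
  rw [this]
  simp

/-- M2MINUS : a member of `X` with sign `-1` is a constituent of `χ conj χ'`, has degree `|P| - 1` and contains
`ker π` in its kernel -/
theorem m2_minus (h : LeoSetup p C N P hPC π)
    (hsingC : ∀ c : ↥C, π c ≠ 1 → p ∣ orderOf (c : G)) {f : ℕ} {χ χ' : Cfsg.IrrCharacter G}
    {θ₁ θ₂ : Cfsg.IrrCharacter ↥C} (hM : M1Out h f χ χ' θ₁ θ₂)
    {X Y : Finset (Cfsg.IrrCharacter G)} {a : Cfsg.IrrCharacter G → ℤ} {ε : ℤ}
    (hB0 : PB0 p f P X Y a ε) :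
    ∀ ξ ∈ X, a ξ = -1 → leoDeg ξ + 1 = Nat.card ↥P ∧
      ∑ y : ↥(kerG π), (ξ : G → ℂ) (y : G) = (leoDeg ξ : ℂ) * (Nat.card ↥(kerG π) : ℂ) ∧
      Cfsg.classInner (fun g => (χ : G → ℂ) g * conj ((χ' : G → ℂ) g)) (ξ : G → ℂ) ≠ 0 := by
  intro ξ hξ haξ
  have hW : Cfsg.IsCharacter G (fun g => (χ : G → ℂ) g * conj ((χ : G → ℂ) g)) :=
    h7_isCharacter_mul (isCharacter_of_irr χ) (bg_isCharacter_conj (isCharacter_of_irr χ))
  have hne0 : Cfsg.classInner (fun g => (χ : G → ℂ) g * conj ((χ' : G → ℂ) g)) (ξ : G → ℂ) ≠ 0 := by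
    intro h0
    have h1 := pslm2_inner_diff h hM hB0 ξ hξ
    obtain ⟨m, hm⟩ := classInner_character_nat hW (isCharacter_of_irr ξ)
    rw [h0, hm, haξ, sub_zero] at h1
    have : ((m : ℤ) : ℂ) = ((-1 : ℤ) : ℂ) := by push_cast; push_cast at h1; exact h1
    have h2 : (m : ℤ) = -1 := by exact_mod_cast this
    omega
  have hA : leoA h (ξ : G → ℂ) = 0 :=
    conj_prod_no_fixed h χ χ' θ₁ θ₂ hM.hres hM.hres' hM.hdis ξ hne0
  have hx := xminus h ξ (fun c hc => by rw [hB0.valX ξ hξ _ (hsingC c hc), haξ]; simp) hA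
  exact ⟨hx.1, hx.2, hne0⟩

/-- M2PLUS : a member of `X` with sign `+1` is a constituent of `χ conj χ`, of degree at least `|P| + 1` if it is not
the principal character -/
theorem m2_plus (h : LeoSetup p C N P hPC π)
    (hsingC : ∀ c : ↥C, π c ≠ 1 → p ∣ orderOf (c : G))
    (hnoK : ∀ K : Subgroup G, K.Normal → P ≤ K → K = ⊤) {f : ℕ} {χ χ' : Cfsg.IrrCharacter G}
    {θ₁ θ₂ : Cfsg.IrrCharacter ↥C} (hM : M1Out h f χ χ' θ₁ θ₂)
    {X Y : Finset (Cfsg.IrrCharacter G)} {a : Cfsg.IrrCharacter G → ℤ} {ε : ℤ}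
    (hB0 : PB0 p f P X Y a ε) :
    ∀ ξ ∈ X, a ξ = 1 →
      Cfsg.classInner (fun g => (χ : G → ℂ) g * conj ((χ : G → ℂ) g)) (ξ : G → ℂ) ≠ 0 ∧
      (ξ ≠ trivIrr G → Nat.card ↥P + 1 ≤ leoDeg ξ) := by
  intro ξ hξ haξ
  have hW' : Cfsg.IsCharacter G (fun g => (χ : G → ℂ) g * conj ((χ' : G → ℂ) g)) :=
    h7_isCharacter_mul (isCharacter_of_irr χ) (bg_isCharacter_conj (isCharacter_of_irr χ'))
  refine ⟨?_, ?_⟩
  · intro h0
    have h1 := pslm2_inner_diff h hM hB0 ξ hξ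
    obtain ⟨m, hm⟩ := classInner_character_nat hW' (isCharacter_of_irr ξ)
    rw [h0, hm, haξ, zero_sub] at h1
    have : ((-(m : ℤ) : ℤ) : ℂ) = ((1 : ℤ) : ℂ) := by push_cast; push_cast at h1; exact h1
    have h2 : -(m : ℤ) = 1 := by exact_mod_cast this
    omega
  · intro hne'
    exact xplus h hnoK ξ hne' (fun c hc => by rw [hB0.valX ξ hξ _ (hsingC c hc), haξ]; simp)

end abstract

end Cfsg.Agent.Lib.helper15.PSL
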