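import Mathlib
import Cfsg.Agent.Lib.helper17.OMP.Defs

/-!
# Project OMP (designer helper17), row A13 core (helper29): roots with an index to spare.

`ompa13_PP_core`, `ompa13_NN_core`: the two statements of A13 with the statement of A4 `yy_comm_blk` as a hypothesis
(`ompa13_Mv1_tv` = the statement of E6 `Mv1_tv`, proved here under an own name).
-/

set_option autoImplicit false

namespace Cfsg.Agent.Lib.helper17.OMP

open Matrix Cfsg.Agent.Lib.helper14.CTE Cfsg.Agent.Lib.helper14.CTA Cfsg.Agent.Lib.helper17.SLN Cfsg.Agent.Lib.Helper28.CTD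
  Cfsg.Agent.Lib.Lead.STD

universe u v w

section A

variable {F : Type u} [Field F] {G : Type v} [Group G] {ι : Type w} [Fintype ι] [DecidableEq ι]

/-- own-name copy of E6 `Mv1_tv`. -/
theorem ompa13_Mv1_tv (i j a : ι) (hij : i ≠ j) (hai : a ≠ i) (haj : a ≠ j) (t : F) :
    Mv1 (tv i j t : Matrix.SpecialLinearGroup ι F) a a := by
  refine ⟨?_, ?_⟩
  · rw [tv_mulVec i j hij, Pi.single_eq_of_ne (Ne.symm haj), mul_zero, Pi.single_zero, add_zero]
  · rw [vecMul_tv i j hij, Pi.single_eq_of_ne (Ne.symm hai), mul_zero, Pi.single_zero, add_zero]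

/-- conjugation by an element commuting with `c` preserves commutation with `c`. -/
theorem ompa13_comm_conj {c z x : G} (hz : Commute z c) (hx : Commute c x) : Commute c (z * x * z⁻¹) := by
  have h1 : Commute c z := hz.symm
  exact (h1.mul_right hx).mul_right h1.inv_right

theorem ompa13_PP_core (p : Pts ι) (Φ : Matrix.SpecialLinearGroup ι F →* G) (y : G)
    (hblk : ∀ (i j : ι), i ≠ j → ∀ g : Matrix.SpecialLinearGroup ι F, Mv g i j i j → Commute (yy p Φ y i j) (Φ g))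
    (a b k i j : ι) (hbk : b ≠ k) (hij : i ≠ j) (hib : i ≠ b) (hjb : j ≠ b) (hik : i ≠ k) (hjk : j ≠ k) (hja : j ≠ a) (s t : F) :
    Commute (Φ (tv i j s)) (PP p Φ y a b k t) := by
  unfold PP
  have hM : Mv (tv i j s : Matrix.SpecialLinearGroup ι F) b k b k :=
    (Mv_iff _ _ _ _ _).2 ⟨ompa13_Mv1_tv i j b hij (Ne.symm hib) (Ne.symm hjb) s,
      ompa13_Mv1_tv i j k hij (Ne.symm hik) (Ne.symm hjk) s⟩
  have h1 : Commute (yy p Φ y b k) (Φ (tv i j s)) := hblk b k hbk _ hM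
  have h2 : Commute (Φ (tv i j s)) (Φ (tv a k t)) := by
    show Φ (tv i j s) * Φ (tv a k t) = Φ (tv a k t) * Φ (tv i j s)
    rw [← map_mul, ← map_mul, tv_comm i j a k hik hja]
  exact ompa13_comm_conj h1 h2

theorem ompa13_NN_core (p : Pts ι) (Φ : Matrix.SpecialLinearGroup ι F →* G) (y : G)
    (hblk : ∀ (i j : ι), i ≠ j → ∀ g : Matrix.SpecialLinearGroup ι F, Mv g i j i j → Commute (yy p Φ y i j) (Φ g))
    (a b k i j : ι) (hbk : b ≠ k) (hij : i ≠ j) (hib : i ≠ b) (hjb : j ≠ b) (hik : i ≠ k) (hjk : j ≠ k) (hia : i ≠ a) (s t : F) :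
    Commute (Φ (tv i j s)) (NN p Φ y a b k t) := by
  unfold NN
  have hM : Mv (tv i j s : Matrix.SpecialLinearGroup ι F) b k b k :=
    (Mv_iff _ _ _ _ _).2 ⟨ompa13_Mv1_tv i j b hij (Ne.symm hib) (Ne.symm hjb) s,
      ompa13_Mv1_tv i j k hij (Ne.symm hik) (Ne.symm hjk) s⟩
  have h1 : Commute (yy p Φ y b k) (Φ (tv i j s)) := hblk b k hbk _ hM
  have h2 : Commute (Φ (tv i j s)) (Φ (tv k a t)) := by
    show Φ (tv i j s) * Φ (tv k a t) = Φ (tv k a t) * Φ (tv i j s)
    rw [← map_mul, ← map_mul, tv_comm i j k a hia hjk]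
  exact ompa13_comm_conj h1 h2

end A

end Cfsg.Agent.Lib.helper17.OMP
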