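import Mathlib
import Cfsg.Agent.Lib.helper17.OMP.Defs
import Cfsg.Agent.Lib.helper17.OMPA4
import Cfsg.Agent.Lib.Helper29.OMPA13core

/-!
# Project OMP (designer helper17), row A13 (helper29): `tv_comm_PP`, `tv_comm_NN` (verbatim): roots with an index to spare.
-/

set_option autoImplicit false

namespace Cfsg.Agent.Lib.helper17.OMP

open Matrix Cfsg.Agent.Lib.helper14.CTE Cfsg.Agent.Lib.helper14.CTA Cfsg.Agent.Lib.helper17.SLN Cfsg.Agent.Lib.Helper28.CTD
  Cfsg.Agent.Lib.helper3.STC Cfsg.Agent.Lib.Lead.STD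

universe u v w

section A

variable {F : Type u} [Field F] {G : Type v} [Group G] {ι : Type w} [Fintype ι] [DecidableEq ι]

/-- A13 [S-M] (two statements, one file)  roots with an index to spare. -/
theorem tv_comm_PP (h4 : 4 ≤ Fintype.card ι) (p : Pts ι) (Φ : Matrix.SpecialLinearGroup ι F →* G) (y : G) (H : OG p Φ y)
    (a b k i j : ι) (hbk : b ≠ k) (hij : i ≠ j) (hib : i ≠ b) (hjb : j ≠ b) (hik : i ≠ k) (hjk : j ≠ k) (hja : j ≠ a) (s t : F) :
    Commute (Φ (tv i j s)) (PP p Φ y a b k t) :=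
  ompa13_PP_core p Φ y (fun i j hij g hg => yy_comm_blk h4 p Φ y H.cB i j hij g hg) a b k i j hbk hij hib hjb hik hjk hja s t

theorem tv_comm_NN (h4 : 4 ≤ Fintype.card ι) (p : Pts ι) (Φ : Matrix.SpecialLinearGroup ι F →* G) (y : G) (H : OG p Φ y)
    (a b k i j : ι) (hbk : b ≠ k) (hij : i ≠ j) (hib : i ≠ b) (hjb : j ≠ b) (hik : i ≠ k) (hjk : j ≠ k) (hia : i ≠ a) (s t : F) :
    Commute (Φ (tv i j s)) (NN p Φ y a b k t) :=
  ompa13_NN_core p Φ y (fun i j hij g hg => yy_comm_blk h4 p Φ y H.cB i j hij g hg) a b k i j hbk hij hib hjb hik hjk hia s t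

end A

end Cfsg.Agent.Lib.helper17.OMP
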