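import Mathlib
import Cfsg.Agent.Lib.helper17.OMP.Defs
import Cfsg.Agent.Lib.Helper18.SP4T3

/-!
# Project OMP (designer helper17), row A14 core (helper29): type I' when `|ι| = 4`, base case with all parameters.

`ompa14_core`: the statement of A14 `one_all` with `H.one h4` and the cited statements (A6 `PP_indep NN_indep`, A9 `PP_conj NN_conj`,
A10 `hE_PP_fst hE_PP_snd hE_NN_fst hE_NN_snd`, E3 `hE_conj_tv`, E4 `hE_chain hE_swap`, E6 `Mv1_wE Mv1_wE_of_ne`, E8 `wE_conj_tv_ab`)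
as hypotheses.
-/

set_option autoImplicit false

namespace Cfsg.Agent.Lib.helper17.OMP

open Matrix Cfsg.Agent.Lib.helper14.CTE Cfsg.Agent.Lib.helper14.CTA Cfsg.Agent.Lib.helper17.SLN Cfsg.Agent.Lib.Helper28.CTD
  Cfsg.Agent.Lib.Lead.STD

universe u v w

section A

variable {F : Type u} [Field F] {G : Type v} [Group G] {ι : Type w} [Fintype ι] [DecidableEq ι]

/-- conjugation transports commutation -/
theorem ompa14_conj_comm {g a b a' b' : G} (ha : g * a * g⁻¹ = a') (hb : g * b * g⁻¹ = b') (h : Commute a b) :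
    Commute a' b' := by
  rw [← ha, ← hb]
  show g * a * g⁻¹ * (g * b * g⁻¹) = g * b * g⁻¹ * (g * a * g⁻¹)
  have h' : a * b = b * a := h
  calc g * a * g⁻¹ * (g * b * g⁻¹) = g * (a * b) * g⁻¹ := by group
    _ = g * (b * a) * g⁻¹ := by rw [h']
    _ = g * b * g⁻¹ * (g * a * g⁻¹) := by group

/-- conjugation by a product -/
theorem ompa14_conj_mul {g1 g2 a b c : G} (h2 : g2 * a * g2⁻¹ = b) (h1 : g1 * b * g1⁻¹ = c) :
    (g1 * g2) * a * (g1 * g2)⁻¹ = c := by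
  rw [← h1, ← h2]
  group

/-- an additive family commuting with `c` at the squares of the units commutes with `c` everywhere (`sq_span`) -/
theorem ompa14_span [Fintype F] (X : F → G) (hadd : ∀ a b : F, X (a + b) = X a * X b) (c : G)
    (hsq : ∀ s : F, s ≠ 0 → Commute (X (s * s)) c) (t : F) : Commute (X t) c := by
  have h0 : X 0 = 1 := by
    have h := hadd 0 0
    rw [add_zero] at h
    exact (mul_eq_left (a := X 0)).mp h.symm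
  have hneg : ∀ a : F, X (-a) = (X a)⁻¹ := by
    intro a
    have h := hadd a (-a)
    rw [add_neg_cancel, h0] at h
    exact (eq_inv_of_mul_eq_one_right h.symm)
  let A : AddSubgroup F :=
    { carrier := {t | Commute (X t) c}
      zero_mem' := by
        show Commute (X 0) c
        rw [h0]
        exact Commute.one_left c
      add_mem' := by
        intro a b ha hb
        show Commute (X (a + b)) c
        rw [hadd]
        exact Commute.mul_left ha hb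
      neg_mem' := by
        intro a ha
        show Commute (X (-a)) c
        rw [hneg]
        exact Commute.inv_left ha }
  have hA : A = ⊤ := by
    rw [eq_top_iff, ← Cfsg.Agent.Lib.helper3.SP4.sq_span]
    apply (AddSubgroup.closure_le _).2
    rintro _ ⟨s, rfl⟩
    show Commute (X ((s : F) ^ 2)) c
    rw [sq]
    exact hsq _ s.ne_zero
  have : t ∈ A := by rw [hA]; exact AddSubgroup.mem_top t
  exact this

theorem ompa14_core [Fintype F] (p : Pts ι) (Φ : Matrix.SpecialLinearGroup ι F →* G) (y : G)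
    (hone : Commute (Φ (tv p.o2 p.o3 1)) (PP p Φ y p.o0 p.o1 p.o2 1) ∧
      Commute (Φ (tv p.o2 p.o3 1)) (NN p Φ y p.o0 p.o1 p.o2 1))
    (hPi : ∀ (a b k k' : ι), a ≠ b → a ≠ k → b ≠ k → a ≠ k' → b ≠ k' → ∀ t : F, PP p Φ y a b k t = PP p Φ y a b k' t)
    (hNi : ∀ (a b k k' : ι), a ≠ b → a ≠ k → b ≠ k → a ≠ k' → b ≠ k' → ∀ t : F, NN p Φ y a b k t = NN p Φ y a b k' t)
    (hPc : ∀ (g : Matrix.SpecialLinearGroup ι F) (a b k a' b' k' : ι), a ≠ b → a ≠ k → b ≠ k → a' ≠ b' → a' ≠ k' → b' ≠ k' →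
      Mv1 g a a' → Mv1 g b b' → Mv1 g k k' → ∀ t : F, Φ g * PP p Φ y a b k t * (Φ g)⁻¹ = PP p Φ y a' b' k' t)
    (hNc : ∀ (g : Matrix.SpecialLinearGroup ι F) (a b k a' b' k' : ι), a ≠ b → a ≠ k → b ≠ k → a' ≠ b' → a' ≠ k' → b' ≠ k' →
      Mv1 g a a' → Mv1 g b b' → Mv1 g k k' → ∀ t : F, Φ g * NN p Φ y a b k t * (Φ g)⁻¹ = NN p Φ y a' b' k' t)
    (hPf : ∀ (a b k m : ι), a ≠ b → a ≠ k → b ≠ k → m ≠ a → m ≠ b → ∀ s : F, s ≠ 0 → ∀ t : F,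
      Φ (hE a m s) * PP p Φ y a b k t * (Φ (hE a m s))⁻¹ = PP p Φ y a b k (s * t))
    (hPs : ∀ (a b k m : ι), a ≠ b → a ≠ k → b ≠ k → m ≠ a → m ≠ b → ∀ s : F, s ≠ 0 → ∀ t : F,
      Φ (hE b m s) * PP p Φ y a b k t * (Φ (hE b m s))⁻¹ = PP p Φ y a b k (s * t))
    (hNf : ∀ (a b k m : ι), a ≠ b → a ≠ k → b ≠ k → m ≠ a → m ≠ b → ∀ s : F, s ≠ 0 → ∀ t : F,
      Φ (hE a m s) * NN p Φ y a b k t * (Φ (hE a m s))⁻¹ = NN p Φ y a b k (s⁻¹ * t))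
    (hNs : ∀ (a b k m : ι), a ≠ b → a ≠ k → b ≠ k → m ≠ a → m ≠ b → ∀ s : F, s ≠ 0 → ∀ t : F,
      Φ (hE b m s) * NN p Φ y a b k t * (Φ (hE b m s))⁻¹ = NN p Φ y a b k (s⁻¹ * t))
    (hEc : ∀ (i j : ι), i ≠ j → ∀ s : F, s ≠ 0 → ∀ (a b : ι), a ≠ b → ∀ t : F,
      (hE i j s : Matrix.SpecialLinearGroup ι F) * tv a b t * (hE i j s)⁻¹ =
        tv a b ((if a = i then s else if a = j then s⁻¹ else 1) * (if b = i then s else if b = j then s⁻¹ else 1)⁻¹ * t))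
    (hch : ∀ (i j m : ι), i ≠ j → i ≠ m → j ≠ m → ∀ s : F, s ≠ 0 →
      (hE i j s : Matrix.SpecialLinearGroup ι F) = hE i m s * hE m j s)
    (hsw : ∀ (i j : ι), i ≠ j → ∀ s : F, s ≠ 0 → (hE j i s : Matrix.SpecialLinearGroup ι F) = hE i j s⁻¹)
    (hMw : ∀ (i j : ι), i ≠ j → Mv1 (wE i j : Matrix.SpecialLinearGroup ι F) j i)
    (hMwn : ∀ (i j a : ι), i ≠ j → a ≠ i → a ≠ j → Mv1 (wE i j : Matrix.SpecialLinearGroup ι F) a a)
    (hWab : ∀ (a b : ι), a ≠ b → ∀ t : F,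
      (wE a b : Matrix.SpecialLinearGroup ι F) * tv a b t * (wE a b)⁻¹ = tv b a (-t))
    (t u : F) :
    (Commute (Φ (tv p.o2 p.o3 t)) (PP p Φ y p.o0 p.o1 p.o2 u) ∧ Commute (Φ (tv p.o3 p.o2 t)) (PP p Φ y p.o0 p.o1 p.o2 u)) ∧
      (Commute (Φ (tv p.o2 p.o3 t)) (NN p Φ y p.o0 p.o1 p.o2 u) ∧ Commute (Φ (tv p.o3 p.o2 t)) (NN p Φ y p.o0 p.o1 p.o2 u)) := by
  have h01 := p.h01
  have h02 := p.h02
  have h03 := p.h03
  have h12 := p.h12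
  have h13 := p.h13
  have h23 := p.h23
  -- conjugation of homomorphic images
  have hΦc : ∀ g a b : Matrix.SpecialLinearGroup ι F, g * a * g⁻¹ = b → Φ g * Φ a * (Φ g)⁻¹ = Φ b := by
    intro g a b h
    rw [← h, map_mul, map_mul, map_inv]
  -- Step A: `h_{23}(s)` fixes `P u`, `N u`
  have e23 : ∀ s : F, s ≠ 0 →
      (hE p.o2 p.o3 s : Matrix.SpecialLinearGroup ι F) = hE p.o1 p.o2 s⁻¹ * hE p.o1 p.o3 s := by
    intro s hs
    rw [hch p.o2 p.o3 p.o1 h23 h12.symm h13.symm s hs, hsw p.o1 p.o2 h12 s hs]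
  have hAP : ∀ s : F, s ≠ 0 → ∀ u : F, Φ (hE p.o2 p.o3 s) * PP p Φ y p.o0 p.o1 p.o2 u * (Φ (hE p.o2 p.o3 s))⁻¹ =
      PP p Φ y p.o0 p.o1 p.o2 u := by
    intro s hs u
    rw [e23 s hs, map_mul]
    have e1 := hPs p.o0 p.o1 p.o2 p.o3 h01 h02 h12 h03.symm h13.symm s hs u
    have e2 := hPs p.o0 p.o1 p.o2 p.o2 h01 h02 h12 h02.symm h12.symm s⁻¹ (inv_ne_zero hs) (s * u)
    rw [inv_mul_cancel_left₀ hs] at e2
    exact ompa14_conj_mul e1 e2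
  have hAN : ∀ s : F, s ≠ 0 → ∀ u : F, Φ (hE p.o2 p.o3 s) * NN p Φ y p.o0 p.o1 p.o2 u * (Φ (hE p.o2 p.o3 s))⁻¹ =
      NN p Φ y p.o0 p.o1 p.o2 u := by
    intro s hs u
    rw [e23 s hs, map_mul]
    have e1 := hNs p.o0 p.o1 p.o2 p.o3 h01 h02 h12 h03.symm h13.symm s hs u
    have e2 := hNs p.o0 p.o1 p.o2 p.o2 h01 h02 h12 h02.symm h12.symm s⁻¹ (inv_ne_zero hs) (s⁻¹ * u)
    rw [inv_inv, mul_inv_cancel_left₀ hs] at e2
    exact ompa14_conj_mul e1 e2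
  -- Step B: `h_{23}(s)` on `x_{23}`
  have hBX : ∀ s : F, s ≠ 0 → ∀ t : F,
      Φ (hE p.o2 p.o3 s) * Φ (tv p.o2 p.o3 t) * (Φ (hE p.o2 p.o3 s))⁻¹ = Φ (tv p.o2 p.o3 (s * s * t)) := by
    intro s hs t
    apply hΦc
    rw [hEc p.o2 p.o3 h23 s hs p.o2 p.o3 h23 t, if_pos rfl, if_neg h23.symm, if_pos rfl, inv_inv]
  -- additivity
  have hXadd : ∀ (i j : ι) (a b : F), Φ (tv i j (a + b)) = Φ (tv i j a) * Φ (tv i j b) := by
    intro i j a b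
    rw [tv_add, map_mul]
  -- Step C: all `t` at `u = 1`
  have hCP : ∀ t : F, Commute (Φ (tv p.o2 p.o3 t)) (PP p Φ y p.o0 p.o1 p.o2 1) := by
    intro t
    refine ompa14_span (fun t => Φ (tv p.o2 p.o3 t)) (hXadd _ _) _ ?_ t
    intro s hs
    have h := ompa14_conj_comm (hBX s hs 1) (hAP s hs 1) hone.1
    rwa [mul_one] at h
  have hCN : ∀ t : F, Commute (Φ (tv p.o2 p.o3 t)) (NN p Φ y p.o0 p.o1 p.o2 1) := by
    intro t
    refine ompa14_span (fun t => Φ (tv p.o2 p.o3 t)) (hXadd _ _) _ ?_ t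
    intro s hs
    have h := ompa14_conj_comm (hBX s hs 1) (hAN s hs 1) hone.2
    rwa [mul_one] at h
  -- Step D: the Weyl element `w_{23}`
  have hW0 : Mv1 (wE p.o2 p.o3 : Matrix.SpecialLinearGroup ι F) p.o0 p.o0 := hMwn p.o2 p.o3 p.o0 h23 h02 h03
  have hW1 : Mv1 (wE p.o2 p.o3 : Matrix.SpecialLinearGroup ι F) p.o1 p.o1 := hMwn p.o2 p.o3 p.o1 h23 h12 h13
  have hW3 : Mv1 (wE p.o2 p.o3 : Matrix.SpecialLinearGroup ι F) p.o3 p.o2 := hMw p.o2 p.o3 h23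
  have hDP : ∀ u : F, Φ (wE p.o2 p.o3) * PP p Φ y p.o0 p.o1 p.o2 u * (Φ (wE p.o2 p.o3))⁻¹ =
      PP p Φ y p.o0 p.o1 p.o2 u := by
    intro u
    have h := hPc (wE p.o2 p.o3) p.o0 p.o1 p.o3 p.o0 p.o1 p.o2 h01 h03 h13 h01 h02 h12 hW0 hW1 hW3 u
    rwa [hPi p.o0 p.o1 p.o3 p.o2 h01 h03 h13 h02 h12 u] at h
  have hDN : ∀ u : F, Φ (wE p.o2 p.o3) * NN p Φ y p.o0 p.o1 p.o2 u * (Φ (wE p.o2 p.o3))⁻¹ =
      NN p Φ y p.o0 p.o1 p.o2 u := by
    intro u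
    have h := hNc (wE p.o2 p.o3) p.o0 p.o1 p.o3 p.o0 p.o1 p.o2 h01 h03 h13 h01 h02 h12 hW0 hW1 hW3 u
    rwa [hNi p.o0 p.o1 p.o3 p.o2 h01 h03 h13 h02 h12 u] at h
  have hDX : ∀ t : F, Φ (wE p.o2 p.o3) * Φ (tv p.o2 p.o3 t) * (Φ (wE p.o2 p.o3))⁻¹ = Φ (tv p.o3 p.o2 (-t)) := by
    intro t
    apply hΦc
    exact hWab p.o2 p.o3 h23 t
  have hCP' : ∀ t : F, Commute (Φ (tv p.o3 p.o2 t)) (PP p Φ y p.o0 p.o1 p.o2 1) := by
    intro t
    have h := ompa14_conj_comm (hDX (-t)) (hDP 1) (hCP (-t))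
    rwa [neg_neg] at h
  have hCN' : ∀ t : F, Commute (Φ (tv p.o3 p.o2 t)) (NN p Φ y p.o0 p.o1 p.o2 1) := by
    intro t
    have h := ompa14_conj_comm (hDX (-t)) (hDN 1) (hCN (-t))
    rwa [neg_neg] at h
  -- Step E: the torus element `h_{02}(s)`
  have hEX : ∀ s : F, s ≠ 0 → ∀ t : F,
      Φ (hE p.o0 p.o2 s) * Φ (tv p.o2 p.o3 t) * (Φ (hE p.o0 p.o2 s))⁻¹ = Φ (tv p.o2 p.o3 (s⁻¹ * t)) := by
    intro s hs t
    apply hΦc
    rw [hEc p.o0 p.o2 h02 s hs p.o2 p.o3 h23 t, if_neg h02.symm, if_pos rfl, if_neg h03.symm, if_neg h23.symm,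
      inv_one, mul_one]
  have hEX' : ∀ s : F, s ≠ 0 → ∀ t : F,
      Φ (hE p.o0 p.o2 s) * Φ (tv p.o3 p.o2 t) * (Φ (hE p.o0 p.o2 s))⁻¹ = Φ (tv p.o3 p.o2 (s * t)) := by
    intro s hs t
    apply hΦc
    rw [hEc p.o0 p.o2 h02 s hs p.o3 p.o2 h23.symm t, if_neg h03.symm, if_neg h23.symm, if_neg h02.symm, if_pos rfl,
      inv_inv, one_mul]
  have hEP : ∀ s : F, s ≠ 0 → Φ (hE p.o0 p.o2 s) * PP p Φ y p.o0 p.o1 p.o2 1 * (Φ (hE p.o0 p.o2 s))⁻¹ =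
      PP p Φ y p.o0 p.o1 p.o2 s := by
    intro s hs
    have h := hPf p.o0 p.o1 p.o2 p.o2 h01 h02 h12 h02.symm h12.symm s hs 1
    rwa [mul_one] at h
  have hEN : ∀ s : F, s ≠ 0 → Φ (hE p.o0 p.o2 s) * NN p Φ y p.o0 p.o1 p.o2 1 * (Φ (hE p.o0 p.o2 s))⁻¹ =
      NN p Φ y p.o0 p.o1 p.o2 s⁻¹ := by
    intro s hs
    have h := hNf p.o0 p.o1 p.o2 p.o2 h01 h02 h12 h02.symm h12.symm s hs 1
    rwa [mul_one] at h
  -- `u = 0`
  have htv0 : ∀ i j : ι, (tv i j (0 : F) : Matrix.SpecialLinearGroup ι F) = 1 := by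
    intro i j
    have h := tv_add (F := F) i j 0 0
    rw [add_zero] at h
    exact (mul_eq_left (a := (tv i j (0 : F) : Matrix.SpecialLinearGroup ι F))).mp h.symm
  by_cases hu : u = 0
  · subst hu
    have eP : PP p Φ y p.o0 p.o1 p.o2 0 = 1 := by
      unfold PP
      rw [htv0, map_one, mul_one, mul_inv_cancel]
    have eN : NN p Φ y p.o0 p.o1 p.o2 0 = 1 := by
      unfold NN
      rw [htv0, map_one, mul_one, mul_inv_cancel]
    rw [eP, eN]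
    exact ⟨⟨Commute.one_right _, Commute.one_right _⟩, ⟨Commute.one_right _, Commute.one_right _⟩⟩
  · refine ⟨⟨?_, ?_⟩, ⟨?_, ?_⟩⟩
    · have h := ompa14_conj_comm (hEX u hu (u * t)) (hEP u hu) (hCP (u * t))
      rwa [inv_mul_cancel_left₀ hu] at h
    · have h := ompa14_conj_comm (hEX' u hu (u⁻¹ * t)) (hEP u hu) (hCP' (u⁻¹ * t))
      rwa [mul_inv_cancel_left₀ hu] at h
    · have hu' : u⁻¹ ≠ 0 := inv_ne_zero hu
      have h := ompa14_conj_comm (hEX u⁻¹ hu' (u⁻¹ * t)) (hEN u⁻¹ hu') (hCN (u⁻¹ * t))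
      rwa [inv_inv, mul_inv_cancel_left₀ hu] at h
    · have hu' : u⁻¹ ≠ 0 := inv_ne_zero hu
      have h := ompa14_conj_comm (hEX' u⁻¹ hu' (u * t)) (hEN u⁻¹ hu') (hCN' (u * t))
      rwa [inv_inv, inv_mul_cancel_left₀ hu] at h

end A

end Cfsg.Agent.Lib.helper17.OMP
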