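import Mathlib
import Cfsg.Agent.Lib.helper17.SLP.Defs
import Cfsg.Agent.Lib.helper17.SL3.Defs
import Cfsg.Agent.Lib.helper17.SL3.Defs2
import Cfsg.Agent.Lib.Helper18.SL3C11
import Cfsg.Agent.Lib.helper4.SL3T1
import Cfsg.Agent.Lib.Helper9.SL3T8

/-!
# Project SL3 (S2287, designer helper17), rows C12 (`row_four`) and C14 (`cmm_four`): cores.

The cores take the statements of C5 (`commute_all4`) resp. C7 (`cm_all4`), specialised to the given
`F`, `G`, `ζ`, as a hypothesis.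
-/

set_option autoImplicit false

namespace Cfsg.Agent.Lib.helper17.SL3

open Cfsg.Agent.Lib.helper17.SLP
open Polynomial

universe u v

section C

variable {F : Type u} [Field F] [Fintype F] {G : Type v} [Group G]

/-- a field with four elements has characteristic two. -/
theorem sl3c12_two (hq : Fintype.card F = 4) : (1 : F) + 1 = 0 := by
  have h4 : ((Fintype.card F : ℕ) : F) = 0 := Nat.cast_card_eq_zero F
  rw [hq] at h4
  have h22 : (2 : F) ^ 2 = 0 := by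
    push_cast at h4
    linear_combination h4
  have h2 : (2 : F) = 0 := by
    rcases pow_eq_zero_iff (two_ne_zero) |>.mp h22 with h
    exact h
  linear_combination h2

theorem sl3c12_order (hq : Fintype.card F = 4) (ζ : Fˣ) (hζ : ∀ y : Fˣ, y ∈ Subgroup.zpowers ζ) :
    orderOf ζ = 3 := by
  classical
  rw [orderOf_eq_card_of_forall_mem_zpowers hζ, Nat.card_eq_fintype_card, Fintype.card_units, hq]

theorem sl3c12_ne_one (hq : Fintype.card F = 4) (ζ : Fˣ) (hζ : ∀ y : Fˣ, y ∈ Subgroup.zpowers ζ) :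
    (ζ : F) ≠ 1 := by
  intro h
  have h1 : ζ = 1 := Units.ext (by simpa using h)
  have := sl3c12_order hq ζ hζ
  rw [h1, orderOf_one] at this
  omega

theorem sl3c12_inv_sq_ne_one (hq : Fintype.card F = 4) (ζ : Fˣ)
    (hζ : ∀ y : Fˣ, y ∈ Subgroup.zpowers ζ) : ((ζ ^ (-2 : ℤ) : Fˣ) : F) ≠ 1 := by
  intro h
  have h1 : ζ ^ (-2 : ℤ) = 1 := Units.ext (by simpa using h)
  have h2 : ζ ^ 2 = 1 := by
    have := congrArg (fun y : Fˣ => y⁻¹) h1
    simpa [zpow_neg] using this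
  have hd : orderOf ζ ∣ 2 := orderOf_dvd_of_pow_eq_one h2
  rw [sl3c12_order hq ζ hζ] at hd
  omega

/-- in characteristic two all `x t` are involutions. -/
theorem sl3c12_sq (hq : Fintype.card F = 4) (ζ : Fˣ) (x : F → G) (d w c : G) (H : Hyp ζ x d w c)
    (t : F) : x t * x t = 1 := by
  obtain ⟨hx0, -, -, -⟩ := hyp_basic ζ x d w c H
  have h2 := sl3c12_two hq
  have : t + t = 0 := by linear_combination t * h2
  rw [← H.add, this, hx0]

omit [Fintype F] in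
/-- `r02 (x 1) w c = x02 x w c 1`. -/
theorem sl3c12_r02 (ζ : Fˣ) (x : F → G) (d w c : G) (H : Hyp ζ x d w c) :
    r02 (x 1) w c = x02 x w c 1 := by
  obtain ⟨-, hneg, -, -⟩ := hyp_basic ζ x d w c H
  unfold r02 x02 x10
  rw [hneg]

omit [Fintype F] in
/-- the instance `R1`: `cm (x 1) (x12 1) = x02 1`. -/
theorem sl3c12_R1 (ζ : Fˣ) (x : F → G) (d w c : G) (H : Hyp ζ x d w c) :
    cm (x 1) (x12 x c 1) = x02 x w c 1 := by
  have h := H.R1
  unfold relR1 at h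
  rw [mul_inv_eq_one] at h
  rw [← sl3c12_r02 ζ x d w c H]
  exact h

/-- C12 core: hypothesis `hC5` = statement of C5 (`commute_all4`) at `F`, `G`, `ζ`. -/
theorem sl3c12_core (hq : Fintype.card F = 4) (ζ : Fˣ) (hζ : ∀ y : Fˣ, y ∈ Subgroup.zpowers ζ)
    (x : F → G) (d w c : G) (H : Hyp ζ x d w c) (R : Tor ζ x d w c)
    (hC5 : ∀ (X Y : F → G), (∀ s t, X (s + t) = X s * X t) → (∀ s t, Y (s + t) = Y s * Y t) →
      ∀ (τ₁ : G) (e : ℤ), Act ζ τ₁ X 1 → Act ζ τ₁ Y e →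
      ∀ (s₀ t₀ t₁ : F), s₀ ≠ 0 → t₀ ≠ 0 → t₁ ≠ 0 → t₀ ≠ t₁ →
      Commute (X s₀) (Y t₀) → Commute (X s₀) (Y t₁) → ∀ s t, Commute (X s) (Y t)) :
    ∀ s t, Commute (x s) (x02 x w c t) := by
  obtain ⟨hx0, hneg, -, -⟩ := hyp_basic ζ x d w c H
  have h2 := sl3c12_two hq
  -- `x02 0 = 1`
  have h020 : x02 x w c 0 = 1 := by
    unfold x02 x10
    rw [neg_zero, hx0]
    group
  have h02sq : x02 x w c 1 * x02 x w c 1 = 1 := by
    rw [← R.add02, h2, h020]
  -- instance `t₁ = 1` from `R1` and `dihedral`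
  have hR1 := sl3c12_R1 ζ x d w c H
  have hinst1 : Commute (x 1) (x02 x w c 1) := by
    have ha : (x 1) ^ 2 = 1 := by rw [pow_two]; exact sl3c12_sq hq ζ x d w c H 1
    have hb : (x12 x c 1) ^ 2 = 1 := by
      unfold x12
      rw [conj_pow, pow_two, sl3c12_sq hq ζ x d w c H 1]
      group
    have hc : cm (x 1) (x12 x c 1) ^ 2 = 1 := by
      rw [hR1, pow_two]
      exact h02sq
    have := (dihedral (x 1) (x12 x c 1) ha hb hc).1
    rwa [hR1] at this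
  -- instance `t₀ = ζ⁻²` from `R2`
  have hinst0 : Commute (x 1) (x02 x w c (((ζ ^ (-2 : ℤ) : Fˣ) : F))) := by
    have h := H.R2
    unfold relR2 at h
    rw [cm_eq_one_iff] at h
    have hact := act_inv ζ d (x02 x w c) 2 R.t02.1 1
    rw [inv_inv, mul_one] at hact
    rw [sl3c12_r02 ζ x d w c H, hact] at h
    exact h
  exact hC5 x (x02 x w c) H.add R.add02 (d3 d c) (-1) R.t01.2.2 R.t02.2.2 1
    (((ζ ^ (-2 : ℤ) : Fˣ) : F)) 1 one_ne_zero (Units.ne_zero _) one_ne_zero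
    (sl3c12_inv_sq_ne_one hq ζ hζ) hinst0 hinst1

/-- C14 core: hypothesis `hC7` = statement of C7 (`cm_all4`) at `F`, `G`, `ζ`. -/
theorem sl3c14_core (hq : Fintype.card F = 4) (ζ : Fˣ) (hζ : ∀ y : Fˣ, y ∈ Subgroup.zpowers ζ)
    (x : F → G) (d w c : G) (H : Hyp ζ x d w c) (R : Tor ζ x d w c) (hRx : relRx (x 1) d w c = 1)
    (hrow : ∀ s t, Commute (x s) (x02 x w c t)) (hcol : ∀ s t, Commute (x s) (x21 x w c t))
    (hC7 : ∀ (X Y Z : F → G), (∀ s t, X (s + t) = X s * X t) → (∀ s t, Y (s + t) = Y s * Y t) →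
      (∀ s t, Z (s + t) = Z s * Z t) → (∀ s r, Commute (X s) (Z r)) → (∀ t r, Commute (Y t) (Z r)) →
      ∀ (τ₁ : G) (e : ℤ), Act ζ τ₁ X 1 → Act ζ τ₁ Y e → Act ζ τ₁ Z (1 + e) →
      ∀ (s₀ t₀ t₁ : F), s₀ ≠ 0 → t₀ ≠ 0 → t₁ ≠ 0 → t₀ ≠ t₁ →
      cm (X s₀) (Y t₀) = Z (s₀ * t₀) → cm (X s₀) (Y t₁) = Z (s₀ * t₁) →
      ∀ s t, cm (X s) (Y t) = Z (s * t)) :
    ∀ s t, cm (x s) (x12 x c t) = x02 x w c (s * t) := by
  obtain ⟨hx0, hneg, -, -⟩ := hyp_basic ζ x d w c H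
  have hsh := (c_shift ζ x d w c H).2.2.1
  have hYZ : ∀ t r, Commute (x12 x c t) (x02 x w c r) := by
    intro t r
    rw [← hsh r]
    unfold x12
    exact (Commute.conj_iff c).mpr (hcol t r)
  have h1Z : Act ζ d (x02 x w c) (1 + 1) := by
    have : (1 : ℤ) + 1 = 2 := by norm_num
    rw [this]
    exact R.t02.1
  have hinst0 : cm (x 1) (x12 x c 1) = x02 x w c (1 * 1) := by
    rw [mul_one]
    exact sl3c12_R1 ζ x d w c H
  have hinst1 : cm (x 1) (x12 x c (ζ : F)) = x02 x w c (1 * (ζ : F)) := by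
    have h := hRx
    unfold relRx at h
    rw [mul_inv_eq_one, H.dconj 1, mul_one] at h
    rw [one_mul]
    unfold x12 x02 x10
    rw [hneg]
    exact h
  exact hC7 x (x12 x c) (x02 x w c) H.add R.add12 R.add02 hrow hYZ d 1 R.t01.1 R.t12.1 h1Z 1 1
    (ζ : F) one_ne_zero one_ne_zero (Units.ne_zero ζ) (fun h => sl3c12_ne_one hq ζ hζ h.symm)
    hinst0 hinst1

end C

end Cfsg.Agent.Lib.helper17.SL3
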