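import Mathlib
import Cfsg.Agent.Lib.helper17.SLP.Defs
import Cfsg.Agent.Lib.helper17.SL3.Defs
import Cfsg.Agent.Lib.helper17.SL3.Defs2
import Cfsg.Agent.Lib.Helper1.SL3C4core
import Cfsg.Agent.Lib.Helper29.SL3C12core

/-!
# Project SL3 (S2287, designer helper17), row C12 (`row_four`), verbatim.
-/

set_option autoImplicit false

namespace Cfsg.Agent.Lib.helper17.SL3

open Cfsg.Agent.Lib.helper17.SLP
open Polynomial

universe u v

section C

variable {F : Type u} [Field F] [Fintype F] {G : Type v} [Group G]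

/-- C12 [M]  deps C5 C11 T12.  Characteristic 2 (`|F| = 4`): every root element is an involution.  Instances for `s₀ = 1`: `t₀ = ζ⁻²` from `R2`; `t₁ = 1` from `R1` and C11 (`a = x 1`, `b = x12 1`, `cm a b = x02 1`);
`ζ⁻² ≠ 1` as `orderOf ζ = 3`.  `τ₁ = d₃`. -/
theorem row_four (hq : Fintype.card F = 4) (ζ : Fˣ) (hζ : ∀ y : Fˣ, y ∈ Subgroup.zpowers ζ)
    (x : F → G) (d w c : G) (H : Hyp ζ x d w c) (R : Tor ζ x d w c) :
    ∀ s t, Commute (x s) (x02 x w c t) :=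
  sl3c12_core hq ζ hζ x d w c H R
    (fun X Y hX hY τ₁ e h1X h1Y s₀ t₀ t₁ hs ht₀ ht₁ hne h h' =>
      commute_all4 hq ζ hζ X Y hX hY τ₁ e h1X h1Y s₀ t₀ t₁ hs ht₀ ht₁ hne h h')

end C

end Cfsg.Agent.Lib.helper17.SL3
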