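import Mathlib
import Cfsg.Agent.Lib.helper17.SLP.Defs
import Cfsg.Agent.Lib.helper17.SL3.Defs
import Cfsg.Agent.Lib.helper17.SL3.Defs2
import Cfsg.Agent.Lib.Helper1.SL3C4core
import Cfsg.Agent.Lib.Helper29.SL3C12core

/-!
# Project SL3 (S2287, designer helper17), row C14 (`cmm_four`), verbatim.
-/

set_option autoImplicit false

namespace Cfsg.Agent.Lib.helper17.SL3

open Cfsg.Agent.Lib.helper17.SLP
open Polynomial

universe u v

section C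

variable {F : Type u} [Field F] [Fintype F] {G : Type v} [Group G]

/-- C14 [M]  deps C7 T11 T12.  Instances `R1` (`t₀ = 1`) and `hRx` (`t₁ = ζ`: `d * x 1 * d⁻¹ = x ζ`, `c⁻¹ * (w * (x ζ)⁻¹ * w⁻¹) * c = x02 x w c ζ`). -/
theorem cmm_four (hq : Fintype.card F = 4) (ζ : Fˣ) (hζ : ∀ y : Fˣ, y ∈ Subgroup.zpowers ζ)
    (x : F → G) (d w c : G) (H : Hyp ζ x d w c) (R : Tor ζ x d w c) (hRx : relRx (x 1) d w c = 1)
    (hrow : ∀ s t, Commute (x s) (x02 x w c t)) (hcol : ∀ s t, Commute (x s) (x21 x w c t)) :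
    ∀ s t, cm (x s) (x12 x c t) = x02 x w c (s * t) :=
  sl3c14_core hq ζ hζ x d w c H R hRx hrow hcol
    (fun X Y Z hX hY hZ hXZ hYZ τ₁ e h1X h1Y h1Z s₀ t₀ t₁ hs ht₀ ht₁ hne h h' =>
      cm_all4 hq ζ hζ X Y Z hX hY hZ hXZ hYZ τ₁ e h1X h1Y h1Z s₀ t₀ t₁ hs ht₀ ht₁ hne h h')

end C

end Cfsg.Agent.Lib.helper17.SL3
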