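import Mathlib
import Cfsg.Agent.Lib.helper17.SLP.Defs
import Cfsg.Agent.Lib.helper17.SL3.Defs

/-!
# Project SL3 (S2287, designer helper17), row A3 (`exists_k_gen`).

For a generator `ζ` of `Fˣ` with `|F| ≥ 4`: `ζ + 1` is a (natural) power of `ζ`.
-/

set_option autoImplicit false

namespace Cfsg.Agent.Lib.helper17.SL3

open Cfsg.Agent.Lib.helper17.SLP
open Polynomial

universe u v

/-- `ζ + 1 ≠ 0` for a generator `ζ` of `Fˣ` when `|F| ≥ 4`. -/
theorem sl3a3_succ_ne_zero {F : Type*} [Field F] [Fintype F] (hq : 4 ≤ Fintype.card F) (ζ : Fˣ)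
    (hζ : ∀ y : Fˣ, y ∈ Subgroup.zpowers ζ) : (ζ : F) + 1 ≠ 0 := by
  classical
  intro h0
  have hz : (ζ : F) = -1 := eq_neg_of_add_eq_zero_left h0
  have hz2 : ζ ^ 2 = 1 := by
    apply Units.ext
    rw [Units.val_pow_eq_pow_val, hz]
    simp
  have hord : orderOf ζ = Fintype.card Fˣ := by
    rw [orderOf_eq_card_of_forall_mem_zpowers hζ, Nat.card_eq_fintype_card]
  have hcard : Fintype.card Fˣ = Fintype.card F - 1 := Fintype.card_units F
  have hdvd : orderOf ζ ∣ 2 := orderOf_dvd_of_pow_eq_one hz2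
  have hle : orderOf ζ ≤ 2 := Nat.le_of_dvd (by norm_num) hdvd
  omega

/-- A3 [S-M]  `ζ + 1 ≠ 0`: else `ζ² = 1`, but `orderOf ζ = q - 1 ≥ 3`.  So `ζ + 1` is a unit, a power of `ζ` (`hζ`), exponent reduced to `ℕ`. -/
theorem exists_k_gen {F : Type*} [Field F] [Fintype F] (hq : 4 ≤ Fintype.card F) (ζ : Fˣ)
    (hζ : ∀ y : Fˣ, y ∈ Subgroup.zpowers ζ) : ∃ k : ℕ, (ζ : F) ^ k = (ζ : F) + 1 := by
  classical
  have hne := sl3a3_succ_ne_zero hq ζ hζ
  have hmem : Units.mk0 ((ζ : F) + 1) hne ∈ Submonoid.powers ζ :=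
    (mem_powers_iff_mem_zpowers).mpr (hζ _)
  obtain ⟨k, hk⟩ := (Submonoid.mem_powers_iff _ _).mp hmem
  refine ⟨k, ?_⟩
  have := congrArg (fun y : Fˣ => (y : F)) hk
  simpa [Units.val_pow_eq_pow_val] using this

end Cfsg.Agent.Lib.helper17.SL3
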