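import Mathlib
import Cfsg.Agent.Lib.Helper1.SLN.Defs
import Cfsg.Agent.Lib.Lead.SLn
import Cfsg.Agent.Lib.helper4.SL7P0
import Cfsg.Agent.Lib.Helper16.SLNG1
import Cfsg.Agent.Lib.Helper16.SLNG3
import Cfsg.Agent.Lib.Helper16.SLNG4

/-!
Project SLN / SL7 (S2290, designer helper1): row G5 (`gX_sys`), by helper29, on the landed P1 P2 (`exists_sig2`,
`exists_sig3`), G1 (`gX_eq`), G3 (`gX_frame`), G4 (`gX_comm4`).
-/

set_option autoImplicit false

namespace Cfsg.Agent.Lib.Helper1.SLN

open Matrix Equiv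
open Cfsg.Agent.Lib.helper17.SLP

universe u v

section G

variable {F : Type u} [Field F] {G : Type v} [Group G]

/-- `A ↦ g * β A * g⁻¹` as a homomorphism -/
def sl7g5_cj (β : Matrix.SpecialLinearGroup (Fin 3) F →* G) (g : G) :
    Matrix.SpecialLinearGroup (Fin 3) F →* G :=
  (MulAut.conj g).toMonoidHom.comp β

theorem sl7g5_cj_apply (β : Matrix.SpecialLinearGroup (Fin 3) F →* G) (g : G)
    (A : Matrix.SpecialLinearGroup (Fin 3) F) : sl7g5_cj β g A = g * β A * g⁻¹ := rfl

/-- three distinct indices: all six root maps through one frame -/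
theorem sl7g5_frame3 (M : ℕ) (α : alternatingGroup (Fin (M + 4)) →* G)
    (β : Matrix.SpecialLinearGroup (Fin 3) F →* G) (H : Glue M α β)
    (i j k : Fin (M + 4)) (hij : i ≠ j) (hjk : j ≠ k) (hik : i ≠ k) :
    ∃ (φ : Matrix.SpecialLinearGroup (Fin 3) F →* G) (a b c : Fin 3) (hab : a ≠ b) (hbc : b ≠ c)
      (hac : a ≠ c),
      (∀ t, gX M α β i j t = φ (Matrix.SpecialLinearGroup.transvection hab t)) ∧
      (∀ t, gX M α β j k t = φ (Matrix.SpecialLinearGroup.transvection hbc t)) ∧
      (∀ t, gX M α β i k t = φ (Matrix.SpecialLinearGroup.transvection hac t)) ∧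
      (∀ t, gX M α β j i t = φ (Matrix.SpecialLinearGroup.transvection hab.symm t)) ∧
      (∀ t, gX M α β k j t = φ (Matrix.SpecialLinearGroup.transvection hbc.symm t)) ∧
      (∀ t, gX M α β k i t = φ (Matrix.SpecialLinearGroup.transvection hac.symm t)) := by
  obtain ⟨σ, a, b, c, hab, hbc, hac, hi, hj, hk⟩ := exists_sig3 M i j k hij hjk hik
  refine ⟨sl7g5_cj β (α σ), a, b, c, hab, hbc, hac, ?_, ?_, ?_, ?_, ?_, ?_⟩
  · intro t
    rw [sl7g5_cj_apply, ← gX_frame M α β H σ a b hab t, hi, hj]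
  · intro t
    rw [sl7g5_cj_apply, ← gX_frame M α β H σ b c hbc t, hj, hk]
  · intro t
    rw [sl7g5_cj_apply, ← gX_frame M α β H σ a c hac t, hi, hk]
  · intro t
    rw [sl7g5_cj_apply, ← gX_frame M α β H σ b a hab.symm t, hi, hj]
  · intro t
    rw [sl7g5_cj_apply, ← gX_frame M α β H σ c b hbc.symm t, hj, hk]
  · intro t
    rw [sl7g5_cj_apply, ← gX_frame M α β H σ c a hac.symm t, hi, hk]

/-- additivity -/
theorem sl7g5_add (M : ℕ) (α : alternatingGroup (Fin (M + 4)) →* G)
    (β : Matrix.SpecialLinearGroup (Fin 3) F →* G) (H : Glue M α β)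
    (i j : Fin (M + 4)) (hij : i ≠ j) (s t : F) :
    gX M α β i j s * gX M α β i j t = gX M α β i j (s + t) := by
  obtain ⟨σ, h0, h1⟩ := exists_sig2 M i j hij
  rw [gX_eq M α β H σ i j h0 h1 s, gX_eq M α β H σ i j h0 h1 t, gX_eq M α β H σ i j h0 h1 (s + t)]
  have hx : xU (s + t) = xU s * xU t := by
    unfold xU
    exact Matrix.SpecialLinearGroup.transvection_add _ s t
  rw [hx, map_mul, map_mul]
  group

/-- G5 [M]  deps P1 P2 G1 G3 G4. -/
theorem gX_sys (M : ℕ) (α : alternatingGroup (Fin (M + 4)) →* G)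
    (β : Matrix.SpecialLinearGroup (Fin 3) F →* G) (H : Glue M α β) :
    StSys (gX M α β) := by
  refine ⟨?_, ?_, ?_⟩
  · intro i j hij s t
    exact sl7g5_add M α β H i j hij s t
  · intro i j k l hij hkl hil hjk s t
    by_cases hki : k = i
    · subst hki
      by_cases hlj : l = j
      · subst hlj
        rw [sl7g5_add M α β H k l hij s t, sl7g5_add M α β H k l hij t s, add_comm]
      · -- indices `k, j, l` distinct
        have hjl : j ≠ l := fun h => hlj h.symm
        obtain ⟨φ, a, b, c, hab, hbc, hac, h1, -, h3, -, -, -⟩ :=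
          sl7g5_frame3 M α β H k j l hij hjl hil
        rw [h1 s, h3 t, ← map_mul, ← map_mul]
        congr 1
        exact Cfsg.Agent.Lib.helper7.St.transvection_comm' hab hac hac hab.symm s t
    · by_cases hlj : l = j
      · subst hlj
        -- indices `i, l, k` distinct
        have hik : i ≠ k := fun h => hki h.symm
        obtain ⟨φ, a, b, c, hab, hbc, hac, h1, -, -, -, h5, -⟩ :=
          sl7g5_frame3 M α β H i l k hij hjk hik
        rw [h1 s, h5 t, ← map_mul, ← map_mul]
        congr 1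
        exact Cfsg.Agent.Lib.helper7.St.transvection_comm' hab hbc.symm hab hbc s t
      · have hik : i ≠ k := fun h => hki h.symm
        have hjl : j ≠ l := fun h => hlj h.symm
        exact gX_comm4 M α β H i j k l hij hik hil hjk hjl hkl s t
  · intro i j k hij hjk hik s t
    obtain ⟨φ, a, b, c, hab, hbc, hac, h1, h2, h3, -, -, -⟩ :=
      sl7g5_frame3 M α β H i j k hij hjk hik
    rw [h1 s, h2 t, h3 (s * t), ← map_inv, ← map_inv, ← map_mul, ← map_mul, ← map_mul]
    congr 1
    rw [Cfsg.Agent.Lib.Lead.transvection_eq_commutator hac hab hbc s t, commutatorElement_def]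

end G

end Cfsg.Agent.Lib.Helper1.SLN
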