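import Mathlib
import Cfsg.Agent.Lib.Helper1.SLN.Defs
import Cfsg.Agent.Lib.helper4.SL7P0
import Cfsg.Agent.Lib.Helper16.SLNG1

/-!
Project SLN / SL7 (S2290, designer helper1): row G6 (`gX_conj`), by helper29, on the landed P1 (`exists_sig2`) and
G1 (`gX_eq`).
-/

set_option autoImplicit false

namespace Cfsg.Agent.Lib.Helper1.SLN

open Matrix Equiv
open Cfsg.Agent.Lib.helper17.SLP

universe u v

section G

variable {F : Type u} [Field F] {G : Type v} [Group G]

/-- G6 [S]  deps P1 G1.  `σ` from P1 for `(i, j)`; `π * σ` serves `(π i, π j)`. -/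
theorem gX_conj (M : ℕ) (α : alternatingGroup (Fin (M + 4)) →* G)
    (β : Matrix.SpecialLinearGroup (Fin 3) F →* G) (H : Glue M α β)
    (π : alternatingGroup (Fin (M + 4))) (i j : Fin (M + 4)) (hij : i ≠ j) (t : F) :
    α π * gX M α β i j t * (α π)⁻¹ =
      gX M α β ((π : Equiv.Perm (Fin (M + 4))) i) ((π : Equiv.Perm (Fin (M + 4))) j) t := by
  obtain ⟨σ, h0, h1⟩ := exists_sig2 M i j hij
  have h0' : ((π * σ : alternatingGroup (Fin (M + 4))) : Equiv.Perm (Fin (M + 4))) (i0 M) =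
      (π : Equiv.Perm (Fin (M + 4))) i := by
    rw [Subgroup.coe_mul, Equiv.Perm.mul_apply, h0]
  have h1' : ((π * σ : alternatingGroup (Fin (M + 4))) : Equiv.Perm (Fin (M + 4))) (i1 M) =
      (π : Equiv.Perm (Fin (M + 4))) j := by
    rw [Subgroup.coe_mul, Equiv.Perm.mul_apply, h1]
  rw [gX_eq M α β H σ i j h0 h1 t, gX_eq M α β H (π * σ) _ _ h0' h1' t, map_mul, _root_.mul_inv_rev]
  simp only [mul_assoc]

end G

end Cfsg.Agent.Lib.Helper1.SLN
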