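import Mathlib
import Cfsg.Agent.Lib.Helper1.SLN.Defs
import Cfsg.Agent.Lib.Helper1.SLN.Defs2

/-!
# Project SL7 (designer helper1, S2288), row A3a (helper29), VERBATIM: `glued_pres`
(gluing two presented groups along an element of order 3; Mathlib only).
-/

set_option autoImplicit false

namespace Cfsg.Agent.Lib.Helper1.SLN

open Matrix Equiv

universe u v w

/-- `FreeGroup.lift` of the generators of a presented group is the quotient map -/
theorem sl7a3a_lift_of {X : Type*} (rels : Set (FreeGroup X)) :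
    FreeGroup.lift (PresentedGroup.of (rels := rels)) = PresentedGroup.mk rels := by
  ext x
  simp [PresentedGroup.of]

/-- a homomorphism out of a group given with a presentation, from a homomorphism of the free group killing the relators -/
theorem sl7a3a_hom {A : Type u} [Group A] {X : Type*} (R : Set (FreeGroup X))
    (e : PresentedGroup R ≃* A) {H : Type w} [Group H]
    (φ : FreeGroup X →* H) (hφ : ∀ r ∈ R, φ r = 1) :
    ∃ α : A →* H, ∀ w, α (e (PresentedGroup.mk R w)) = φ w := by
  have e1 : FreeGroup.lift (fun i => φ (FreeGroup.of i)) = φ := by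
    ext i
    simp
  have h : ∀ r ∈ R, FreeGroup.lift (fun i => φ (FreeGroup.of i)) r = 1 := by
    intro r hr
    rw [e1]
    exact hφ r hr
  refine ⟨(PresentedGroup.toGroup h).comp e.symm.toMonoidHom, fun w => ?_⟩
  show PresentedGroup.toGroup h (e.symm (e (PresentedGroup.mk R w))) = φ w
  rw [e.symm_apply_apply]
  show FreeGroup.lift (fun i => φ (FreeGroup.of i)) w = φ w
  rw [e1]

/-- the key transfer lemma -/
theorem sl7a3a_key {A : Type u} {B : Type v} [Group A] [Group B] {XA XB XN : Type*}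
    (RA : Set (FreeGroup XA)) (eA : PresentedGroup RA ≃* A)
    (RB : Set (FreeGroup XB)) (eB : PresentedGroup RB ≃* B)
    (ιA : FreeGroup XA →* FreeGroup XN) (ιB : FreeGroup XB →* FreeGroup XN)
    (rels₀ : Set (FreeGroup XN))
    (hsub : ∀ r ∈ rels₀, (∃ r' ∈ RA, ιA r' = r) ∨ (∃ r' ∈ RB, ιB r' = r))
    (α₀ : A →* PresentedGroup rels₀) (β₀ : B →* PresentedGroup rels₀)
    (hα₀ : ∀ w, α₀ (eA (PresentedGroup.mk RA w)) = PresentedGroup.mk rels₀ (ιA w))
    (hβ₀ : ∀ w, β₀ (eB (PresentedGroup.mk RB w)) = PresentedGroup.mk rels₀ (ιB w))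
    {H : Type w} [Group H] (f : XN → H) (α' : A →* H) (β' : B →* H)
    (hA : ∀ w, FreeGroup.lift f (ιA w) = α' (eA (PresentedGroup.mk RA w)))
    (hB : ∀ w, FreeGroup.lift f (ιB w) = β' (eB (PresentedGroup.mk RB w))) :
    (∀ r ∈ rels₀, FreeGroup.lift f r = 1) ∧
      ∀ (z : Monoid.Coprod A B) (v : FreeGroup XN),
        PresentedGroup.mk rels₀ v = Monoid.Coprod.lift α₀ β₀ z →
          FreeGroup.lift f v = Monoid.Coprod.lift α' β' z := by
  have h1 : ∀ r ∈ rels₀, FreeGroup.lift f r = 1 := by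
    intro r hr
    rcases hsub r hr with ⟨r', hr', rfl⟩ | ⟨r', hr', rfl⟩
    · rw [hA, PresentedGroup.one_of_mem hr', map_one, map_one]
    · rw [hB, PresentedGroup.one_of_mem hr', map_one, map_one]
  refine ⟨h1, ?_⟩
  have hψα : ∀ x, PresentedGroup.toGroup h1 (α₀ x) = α' x := by
    intro x
    obtain ⟨p, rfl⟩ := eA.surjective x
    obtain ⟨w, rfl⟩ := PresentedGroup.mk_surjective _ p
    rw [hα₀]
    exact hA w
  have hψβ : ∀ x, PresentedGroup.toGroup h1 (β₀ x) = β' x := by
    intro x
    obtain ⟨p, rfl⟩ := eB.surjective x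
    obtain ⟨w, rfl⟩ := PresentedGroup.mk_surjective _ p
    rw [hβ₀]
    exact hB w
  have hcomp : (PresentedGroup.toGroup h1).comp (Monoid.Coprod.lift α₀ β₀) = Monoid.Coprod.lift α' β' := by
    apply Monoid.Coprod.hom_ext
    · ext x
      simp [hψα]
    · ext x
      simp [hψβ]
  intro z v hv
  have h2 := DFunLike.congr_fun hcomp z
  rw [MonoidHom.comp_apply, ← hv] at h2
  rw [← h2]
  rfl

/-- the general form of A3a: `RB` is any set consisting of `(of 3) ^ 3` and the members of `LB` -/
theorem sl7a3a_gen {A : Type u} {B : Type v} [Group A] [Group B] {a : ℕ}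
    (RA : Finset (FreeGroup (Fin a))) (eA : PresentedGroup (↑RA : Set (FreeGroup (Fin a))) ≃* A)
    (LB : List (FreeGroup (Fin 4))) (RB : Set (FreeGroup (Fin 4)))
    (hRB : ∀ r, r ∈ RB ↔ r = (FreeGroup.of (3 : Fin 4)) ^ 3 ∨ r ∈ LB)
    (eB : PresentedGroup RB ≃* B)
    (cA : A) (hcA : cA ^ 3 = 1) (S : Finset (Monoid.Coprod A B)) :
    ∃ rels : Finset (FreeGroup (Fin (a + 3))), rels.card ≤ RA.card + LB.length + S.card ∧
      ∃ (α : A →* PresentedGroup (↑rels : Set (FreeGroup (Fin (a + 3)))))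
        (β : B →* PresentedGroup (↑rels : Set (FreeGroup (Fin (a + 3))))),
        α cA = β (eB (PresentedGroup.of 3)) ∧ (∀ s ∈ S, Monoid.Coprod.lift α β s = 1) ∧
        Subgroup.closure (Set.range α ∪ Set.range β) = ⊤ ∧
        ∀ (H : Type w) [Group H] (α' : A →* H) (β' : B →* H), α' cA = β' (eB (PresentedGroup.of 3)) →
          (∀ s ∈ S, Monoid.Coprod.lift α' β' s = 1) →
          ∃ ψ : PresentedGroup (↑rels : Set (FreeGroup (Fin (a + 3)))) →* H,
            (∀ x, ψ (α x) = α' x) ∧ ∀ x, ψ (β x) = β' x := by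
  classical
  -- a word for `cA`
  obtain ⟨wc, hwc⟩ : ∃ wc : FreeGroup (Fin a), eA (PresentedGroup.mk _ wc) = cA := by
    obtain ⟨x, hx⟩ := eA.surjective cA
    obtain ⟨w, hw⟩ := PresentedGroup.mk_surjective _ x
    exact ⟨w, by rw [hw, hx]⟩
  have hwc3 : (PresentedGroup.mk (↑RA : Set (FreeGroup (Fin a))) wc) ^ 3 = 1 := by
    apply eA.injective
    rw [map_pow, hwc, hcA, map_one]
  -- the embeddings of the free groups
  let ιA : FreeGroup (Fin a) →* FreeGroup (Fin (a + 3)) := FreeGroup.map (Fin.castAdd 3)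
  let gB : Fin 4 → FreeGroup (Fin (a + 3)) := fun i =>
    if h : i.val < 3 then FreeGroup.of (Fin.natAdd a ⟨i.val, h⟩) else ιA wc
  let ιB : FreeGroup (Fin 4) →* FreeGroup (Fin (a + 3)) := FreeGroup.lift gB
  have hιA : ∀ i, ιA (FreeGroup.of i) = FreeGroup.of (Fin.castAdd 3 i) := fun i => FreeGroup.map.of
  have hιB : ∀ i, ιB (FreeGroup.of i) = gB i := fun i => FreeGroup.lift_apply_of
  have hgB3 : gB 3 = ιA wc := by
    show (if h : (3 : Fin 4).val < 3 then _ else ιA wc) = ιA wc
    rw [dif_neg (by decide)]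
  have hgBlt : ∀ k : Fin 3, gB (Fin.castSucc k) = FreeGroup.of (Fin.natAdd a k) := by
    intro k
    show (if h : (Fin.castSucc k).val < 3 then _ else ιA wc) = _
    rw [dif_pos (by simp)]
    rfl
  have hLB : ∀ r ∈ LB, r ∈ RB := fun r hr => (hRB r).2 (Or.inr hr)
  -- a general construction of the two maps into a quotient of the free group
  have build : ∀ T : Set (FreeGroup (Fin (a + 3))), (∀ r ∈ RA, ιA r ∈ T) → (∀ r ∈ LB, ιB r ∈ T) →
      ∃ (α : A →* PresentedGroup T) (β : B →* PresentedGroup T),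
        (∀ w, α (eA (PresentedGroup.mk _ w)) = PresentedGroup.mk T (ιA w)) ∧
        (∀ w, β (eB (PresentedGroup.mk RB w)) = PresentedGroup.mk T (ιB w)) := by
    intro T hTA hTB
    obtain ⟨α, hα⟩ := sl7a3a_hom (↑RA : Set (FreeGroup (Fin a))) eA ((PresentedGroup.mk T).comp ιA)
      (fun r hr => PresentedGroup.one_of_mem (hTA r (Finset.mem_coe.1 hr)))
    have h3 : (PresentedGroup.mk T) (ιB ((FreeGroup.of (3 : Fin 4)) ^ 3)) = 1 := by
      rw [map_pow, map_pow, hιB, hgB3]
      have := hα wc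
      rw [MonoidHom.comp_apply] at this
      rw [← this, ← map_pow, ← map_pow, hwc3, map_one, map_one]
    obtain ⟨β, hβ⟩ := sl7a3a_hom RB eB ((PresentedGroup.mk T).comp ιB) (by
      intro r hr
      rcases (hRB r).1 hr with rfl | hr
      · exact h3
      · exact PresentedGroup.one_of_mem (hTB r hr))
    exact ⟨α, β, hα, hβ⟩
  -- level 0
  set rels₀ : Finset (FreeGroup (Fin (a + 3))) := RA.image ιA ∪ LB.toFinset.image ιB with hrels₀
  have h0A : ∀ r ∈ RA, ιA r ∈ (↑rels₀ : Set (FreeGroup (Fin (a + 3)))) := fun r hr =>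
    Finset.mem_coe.2 (Finset.mem_union_left _ (Finset.mem_image_of_mem _ hr))
  have h0B : ∀ r ∈ LB, ιB r ∈ (↑rels₀ : Set (FreeGroup (Fin (a + 3)))) := fun r hr =>
    Finset.mem_coe.2 (Finset.mem_union_right _ (Finset.mem_image_of_mem _ (List.mem_toFinset.2 hr)))
  obtain ⟨α₀, β₀, hα₀, hβ₀⟩ := build _ h0A h0B
  have hsub : ∀ r ∈ (↑rels₀ : Set (FreeGroup (Fin (a + 3)))),
      (∃ r' ∈ (↑RA : Set (FreeGroup (Fin a))), ιA r' = r) ∨ (∃ r' ∈ RB, ιB r' = r) := by
    intro r hr
    rw [Finset.mem_coe, hrels₀, Finset.mem_union, Finset.mem_image, Finset.mem_image] at hr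
    rcases hr with ⟨r', hr', rfl⟩ | ⟨r', hr', rfl⟩
    · exact Or.inl ⟨r', Finset.mem_coe.2 hr', rfl⟩
    · exact Or.inr ⟨r', hLB r' (List.mem_toFinset.1 hr'), rfl⟩
  -- words for the elements of `S`
  choose v hv using fun s : Monoid.Coprod A B =>
    PresentedGroup.mk_surjective (↑rels₀ : Set (FreeGroup (Fin (a + 3)))) (Monoid.Coprod.lift α₀ β₀ s)
  set rels : Finset (FreeGroup (Fin (a + 3))) := rels₀ ∪ S.image v with hrels
  have hle : (↑rels₀ : Set (FreeGroup (Fin (a + 3)))) ⊆ ↑rels := by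
    intro r hr
    exact Finset.mem_coe.2 (Finset.mem_union_left _ (Finset.mem_coe.1 hr))
  obtain ⟨α, β, hα, hβ⟩ := build (↑rels) (fun r hr => hle (h0A r hr)) (fun r hr => hle (h0B r hr))
  refine ⟨rels, ?_, α, β, ?_, ?_, ?_, ?_⟩
  · -- the number of relators
    calc rels.card ≤ rels₀.card + (S.image v).card := Finset.card_union_le _ _
      _ ≤ ((RA.image ιA).card + (LB.toFinset.image ιB).card) + S.card :=
          Nat.add_le_add (Finset.card_union_le _ _) Finset.card_image_le
      _ ≤ (RA.card + LB.length) + S.card :=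
          Nat.add_le_add_right (Nat.add_le_add Finset.card_image_le
            (Finset.card_image_le.trans (List.toFinset_card_le LB))) _
  · -- the two images of the glued element agree
    have e1 : α cA = PresentedGroup.mk _ (ιA wc) := by rw [← hwc, hα]
    have e2 : β (eB (PresentedGroup.of 3)) = PresentedGroup.mk _ (ιA wc) := by
      show β (eB (PresentedGroup.mk RB (FreeGroup.of 3))) = _
      rw [hβ, hιB, hgB3]
    rw [e1, e2]
  · -- the relations `S`
    intro s hs
    have hkey := (sl7a3a_key (↑RA : Set (FreeGroup (Fin a))) eA RB eB ιA ιB (↑rels₀) hsub α₀ β₀ hα₀ hβ₀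
      (PresentedGroup.of (rels := (↑rels : Set (FreeGroup (Fin (a + 3)))))) α β
      (fun w => by rw [sl7a3a_lift_of, hα]) (fun w => by rw [sl7a3a_lift_of, hβ])).2 s (v s) (hv s)
    rw [sl7a3a_lift_of] at hkey
    rw [← hkey]
    exact PresentedGroup.one_of_mem
      (Finset.mem_coe.2 (Finset.mem_union_right _ (Finset.mem_image_of_mem _ hs)))
  · -- generation
    rw [eq_top_iff]
    intro x _
    refine PresentedGroup.generated_by _ _ (fun j => ?_) x
    induction j using Fin.addCases with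
    | left i =>
      apply Subgroup.subset_closure
      left
      refine ⟨eA (PresentedGroup.mk _ (FreeGroup.of i)), ?_⟩
      rw [hα, hιA]
      rfl
    | right k =>
      apply Subgroup.subset_closure
      right
      refine ⟨eB (PresentedGroup.mk RB (FreeGroup.of (Fin.castSucc k))), ?_⟩
      rw [hβ, hιB, hgBlt]
      rfl
  · -- the universal property
    intro H _ α' β' hc hS
    let f : Fin (a + 3) → H := fun j =>
      Fin.addCases (motive := fun _ => H) (fun i => α' (eA (PresentedGroup.of i)))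
        (fun k => β' (eB (PresentedGroup.of (Fin.castSucc k)))) j
    have hA : ∀ w, FreeGroup.lift f (ιA w) = α' (eA (PresentedGroup.mk _ w)) := by
      intro w
      have e : (FreeGroup.lift f).comp ιA =
          (α'.comp eA.toMonoidHom).comp (PresentedGroup.mk (↑RA : Set (FreeGroup (Fin a)))) := by
        ext i
        simp only [MonoidHom.comp_apply]
        rw [hιA, FreeGroup.lift_apply_of]
        show Fin.addCases (motive := fun _ => H) _ _ (Fin.castAdd 3 i) = _
        rw [Fin.addCases_left]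
        rfl
      exact DFunLike.congr_fun e w
    have hB : ∀ w, FreeGroup.lift f (ιB w) = β' (eB (PresentedGroup.mk RB w)) := by
      intro w
      have e : (FreeGroup.lift f).comp ιB = (β'.comp eB.toMonoidHom).comp (PresentedGroup.mk RB) := by
        ext i
        simp only [MonoidHom.comp_apply]
        rw [hιB]
        by_cases h : i.val < 3
        · have hi : i = Fin.castSucc ⟨i.val, h⟩ := Fin.ext rfl
          rw [hi, hgBlt, FreeGroup.lift_apply_of]
          show Fin.addCases (motive := fun _ => H) _ _ (Fin.natAdd a _) = _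
          rw [Fin.addCases_right]
          rfl
        · have hi : i = 3 := by
            apply Fin.ext
            have := i.isLt
            show i.val = 3
            omega
          rw [hi, hgB3, hA, hwc, hc]
          rfl
      exact DFunLike.congr_fun e w
    obtain ⟨h1, h2⟩ := sl7a3a_key (↑RA : Set (FreeGroup (Fin a))) eA RB eB ιA ιB (↑rels₀) hsub α₀ β₀ hα₀ hβ₀
      f α' β' hA hB
    have hall : ∀ r ∈ (↑rels : Set (FreeGroup (Fin (a + 3)))), FreeGroup.lift f r = 1 := by
      intro r hr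
      rw [Finset.mem_coe, hrels, Finset.mem_union, Finset.mem_image] at hr
      rcases hr with hr | ⟨s, hs, rfl⟩
      · exact h1 r (Finset.mem_coe.2 hr)
      · rw [h2 s (v s) (hv s)]
        exact hS s hs
    refine ⟨PresentedGroup.toGroup hall, ?_, ?_⟩
    · intro x
      obtain ⟨p, rfl⟩ := eA.surjective x
      obtain ⟨w, rfl⟩ := PresentedGroup.mk_surjective _ p
      rw [hα]
      exact hA w
    · intro x
      obtain ⟨p, rfl⟩ := eB.surjective x
      obtain ⟨w, rfl⟩ := PresentedGroup.mk_surjective _ p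
      rw [hβ]
      exact hB w

/-- A3a [M-L] -/
theorem glued_pres {A : Type u} {B : Type v} [Group A] [Group B] {a : ℕ}
    (RA : Finset (FreeGroup (Fin a))) (eA : PresentedGroup (↑RA : Set (FreeGroup (Fin a))) ≃* A)
    (LB : List (FreeGroup (Fin 4)))
    (eB : PresentedGroup (↑((FreeGroup.of (3 : Fin 4)) ^ 3 :: LB).toFinset : Set (FreeGroup (Fin 4))) ≃* B)
    (cA : A) (hcA : cA ^ 3 = 1) (S : Finset (Monoid.Coprod A B)) :
    ∃ rels : Finset (FreeGroup (Fin (a + 3))), rels.card ≤ RA.card + LB.length + S.card ∧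
      ∃ (α : A →* PresentedGroup (↑rels : Set (FreeGroup (Fin (a + 3)))))
        (β : B →* PresentedGroup (↑rels : Set (FreeGroup (Fin (a + 3))))),
        α cA = β (eB (PresentedGroup.of 3)) ∧ (∀ s ∈ S, Monoid.Coprod.lift α β s = 1) ∧
        Subgroup.closure (Set.range α ∪ Set.range β) = ⊤ ∧
        ∀ (H : Type w) [Group H] (α' : A →* H) (β' : B →* H), α' cA = β' (eB (PresentedGroup.of 3)) →
          (∀ s ∈ S, Monoid.Coprod.lift α' β' s = 1) →
          ∃ ψ : PresentedGroup (↑rels : Set (FreeGroup (Fin (a + 3)))) →* H,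
            (∀ x, ψ (α x) = α' x) ∧ ∀ x, ψ (β x) = β' x :=
  sl7a3a_gen.{u, v, w} RA eA LB _ (fun r => by simp) eB cA hcA S

end Cfsg.Agent.Lib.Helper1.SLN
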