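import Mathlib
import Cfsg.Agent.Lib.Helper1.SLN.Defs
import Cfsg.Agent.Lib.Helper1.SLN.Defs2
import Cfsg.Agent.Lib.Helper18.SL7Z2
import Cfsg.Agent.Lib.Helper11.SLNMG6

/-!
# Project SL7 (designer helper1, S2288), row A2 `exists_glueset4`: CORE (helper29) on the statements of
Q1 `exists_flip_gens` (`hQ1`) and H5 `glue_of_two` at `M = 0` (`hH5`); cites the landed Z5 `glue3_of_rels4` and MG6 `glueM`.
-/

set_option autoImplicit false

namespace Cfsg.Agent.Lib.Helper1.SLN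

open Matrix Equiv
open Cfsg.Agent.Lib.helper17.SLP

universe u v w

section A

variable {F : Type u} [Field F]

/-- `a * b * a⁻¹ * b⁻¹ = 1` gives `Commute a b` -/
theorem sl7a2_commute_of_cm {G : Type*} [Group G] {a b : G} (h : a * b * a⁻¹ * b⁻¹ = 1) : Commute a b := by
  have h1 : a * b * a⁻¹ = b := by
    rw [mul_inv_eq_one] at h
    exact h
  show a * b = b * a
  calc a * b = (a * b * a⁻¹) * a := by group
    _ = b * a := by rw [h1]

theorem sl7a2_cm_of_commute {G : Type*} [Group G] {a b : G} (h : Commute a b) : a * b * a⁻¹ * b⁻¹ = 1 := by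
  rw [h.eq]
  group

/-- evaluation of the first kind of relator -/
theorem sl7a2_lift_s12 {G : Type v} [Group G] (α : alternatingGroup (Fin (0 + 4)) →* G)
    (β : Matrix.SpecialLinearGroup (Fin 3) F →* G) (a : Matrix.SpecialLinearGroup (Fin 2) F) :
    Monoid.Coprod.lift α β (Monoid.Coprod.inl (t23 0) * Monoid.Coprod.inr (emb23 a) *
      (Monoid.Coprod.inl (t23 0))⁻¹ * Monoid.Coprod.inr (emb23 a)) =
      α (t23 0) * β (emb23 a) * (α (t23 0))⁻¹ * β (emb23 a) := by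
  simp only [map_mul, map_inv, Monoid.Coprod.lift_apply_inl, Monoid.Coprod.lift_apply_inr]

/-- evaluation of the second kind of relator -/
theorem sl7a2_lift_s34 {G : Type v} [Group G] (α : alternatingGroup (Fin (0 + 4)) →* G)
    (β : Matrix.SpecialLinearGroup (Fin 3) F →* G) (m : Matrix.SpecialLinearGroup (Fin 2) F) :
    Monoid.Coprod.lift α β (Monoid.Coprod.inr (emb23 (xU (1 : F))) *
      (Monoid.Coprod.inl (rho 0) * Monoid.Coprod.inr (emb23 m) * (Monoid.Coprod.inl (rho 0))⁻¹) *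
      (Monoid.Coprod.inr (emb23 (xU (1 : F))))⁻¹ *
      (Monoid.Coprod.inl (rho 0) * Monoid.Coprod.inr (emb23 m) * (Monoid.Coprod.inl (rho 0))⁻¹)⁻¹) =
      β (emb23 (xU (1 : F))) * (α (rho 0) * β (emb23 m) * (α (rho 0))⁻¹) * (β (emb23 (xU (1 : F))))⁻¹ *
        (α (rho 0) * β (emb23 m) * (α (rho 0))⁻¹)⁻¹ := by
  simp only [map_mul, map_inv, Monoid.Coprod.lift_apply_inl, Monoid.Coprod.lift_apply_inr]

/-- core of A2 -/
theorem sl7a2_core [Fintype F]
    (hQ1 : ∃ a₁ a₂ : Matrix.SpecialLinearGroup (Fin 2) F, flip2 a₁ = a₁⁻¹ ∧ flip2 a₂ = a₂⁻¹ ∧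
      Subgroup.closure ({a₁, a₂} : Set (Matrix.SpecialLinearGroup (Fin 2) F)) = ⊤)
    (hH5 : ∀ (G : Type) [Group G] (α : alternatingGroup (Fin (0 + 4)) →* G)
      (β : Matrix.SpecialLinearGroup (Fin 3) F →* G), Glue3 0 α β →
      Commute (β (emb23 (xU (1 : F)))) (α (rho 0) * β (emb23 (xU (1 : F))) * (α (rho 0))⁻¹) →
      Commute (β (emb23 (xU (1 : F)))) (α (rho 0) * β (emb23 (xL (1 : F))) * (α (rho 0))⁻¹) →
      Glue 0 α β) :
    ∃ S : Finset (Monoid.Coprod (alternatingGroup (Fin (0 + 4))) (Matrix.SpecialLinearGroup (Fin 3) F)),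
      S.card ≤ 4 ∧
      (∀ (G : Type) [Group G] (α : alternatingGroup (Fin (0 + 4)) →* G)
        (β : Matrix.SpecialLinearGroup (Fin 3) F →* G), α (c3 0) = β cM →
        (∀ s ∈ S, Monoid.Coprod.lift α β s = 1) → Glue 0 α β) ∧
      ∀ s ∈ S, Monoid.Coprod.lift (alphaM (F := F) (n := 0 + 4)) (betaM 0) s = 1 := by
  classical
  obtain ⟨a₁, a₂, ha₁, ha₂, hcl⟩ := hQ1
  let inl : alternatingGroup (Fin (0 + 4)) →*
      Monoid.Coprod (alternatingGroup (Fin (0 + 4))) (Matrix.SpecialLinearGroup (Fin 3) F) := Monoid.Coprod.inl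
  let inr : Matrix.SpecialLinearGroup (Fin 3) F →*
      Monoid.Coprod (alternatingGroup (Fin (0 + 4))) (Matrix.SpecialLinearGroup (Fin 3) F) := Monoid.Coprod.inr
  let s₁ := inl (t23 0) * inr (emb23 a₁) * (inl (t23 0))⁻¹ * inr (emb23 a₁)
  let s₂ := inl (t23 0) * inr (emb23 a₂) * (inl (t23 0))⁻¹ * inr (emb23 a₂)
  let s₃ := inr (emb23 (xU (1 : F))) * (inl (rho 0) * inr (emb23 (xU (1 : F))) * (inl (rho 0))⁻¹) *
    (inr (emb23 (xU (1 : F))))⁻¹ * (inl (rho 0) * inr (emb23 (xU (1 : F))) * (inl (rho 0))⁻¹)⁻¹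
  let s₄ := inr (emb23 (xU (1 : F))) * (inl (rho 0) * inr (emb23 (xL (1 : F))) * (inl (rho 0))⁻¹) *
    (inr (emb23 (xU (1 : F))))⁻¹ * (inl (rho 0) * inr (emb23 (xL (1 : F))) * (inl (rho 0))⁻¹)⁻¹
  refine ⟨{s₁, s₂, s₃, s₄}, Finset.card_le_four, ?_, ?_⟩
  · intro G _ α β h2c hS
    have h1 := hS s₁ (by simp)
    have h2 := hS s₂ (by simp)
    have h3 := hS s₃ (by simp)
    have h4 := hS s₄ (by simp)
    rw [sl7a2_lift_s12] at h1 h2
    rw [sl7a2_lift_s34] at h3 h4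
    have r1 : α (t23 0) * β (emb23 a₁) * (α (t23 0))⁻¹ = (β (emb23 a₁))⁻¹ := eq_inv_of_mul_eq_one_left h1
    have r2 : α (t23 0) * β (emb23 a₂) * (α (t23 0))⁻¹ = (β (emb23 a₂))⁻¹ := eq_inv_of_mul_eq_one_left h2
    have H3 : Glue3 0 α β := glue3_of_rels4 α β h2c a₁ a₂ ha₁ ha₂ hcl r1 r2
    exact hH5 G α β H3 (sl7a2_commute_of_cm h3) (sl7a2_commute_of_cm h4)
  · intro s hs
    have hG := glueM (F := F) 0
    simp only [Finset.mem_insert, Finset.mem_singleton] at hs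
    rcases hs with rfl | rfl | rfl | rfl
    · rw [sl7a2_lift_s12, hG.g3 a₁, ha₁, map_inv, map_inv, inv_mul_cancel]
    · rw [sl7a2_lift_s12, hG.g3 a₂, ha₂, map_inv, map_inv, inv_mul_cancel]
    · rw [sl7a2_lift_s34]
      exact sl7a2_cm_of_commute (hG.g5 _ _)
    · rw [sl7a2_lift_s34]
      exact sl7a2_cm_of_commute (hG.g5 _ _)

end A

end Cfsg.Agent.Lib.Helper1.SLN
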