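import Cfsg.Agent.Lib.Helper1.SLK.Defs

/-!
# SLK row R2 (helper29): `card_filter_dvd_le`

`T ↦ (j ↦ T_{d (j+1) - 1})` maps `{T ∈ tupFin F n | d ∣ tE T}` injectively into `tupFin F (n / d)`.
-/

set_option autoImplicit false

namespace Cfsg.Agent.Lib.Helper1.SLK

open Polynomial
open Cfsg.Agent.Lib.Helper29.GLK

universe u

/-- `d ∣ tE T` iff `d` divides every occurring block size -/
theorem slkr2_dvd_iff {F : Type u} [Field F] {n : ℕ} (T : Fin n → F[X]) (d : ℕ) :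
    d ∣ tE T ↔ ∀ i : Fin n, (T i).natDegree ≠ 0 → d ∣ (i : ℕ) + 1 := by
  unfold tE
  rw [Finset.dvd_gcd_iff]
  simp

/-- the index `d (j + 1) - 1` is in range -/
theorem slkr2_idx {n d : ℕ} (hd : d ≠ 0) (j : Fin (n / d)) : d * ((j : ℕ) + 1) - 1 < n := by
  have h1 : (j : ℕ) + 1 ≤ n / d := j.2
  have h2 : d * ((j : ℕ) + 1) ≤ d * (n / d) := Nat.mul_le_mul_left d h1
  have h3 : d * (n / d) ≤ n := Nat.mul_div_le n d
  have h4 : 1 ≤ d * ((j : ℕ) + 1) := Nat.one_le_iff_ne_zero.2 (Nat.mul_ne_zero hd (Nat.succ_ne_zero _))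
  omega

/-- the embedding `j ↦ d (j + 1) - 1` -/
def slkr2_emb {n d : ℕ} (hd : d ≠ 0) (j : Fin (n / d)) : Fin n :=
  ⟨d * ((j : ℕ) + 1) - 1, slkr2_idx hd j⟩

theorem slkr2_emb_inj {n d : ℕ} (hd : d ≠ 0) : Function.Injective (slkr2_emb (n := n) hd) := by
  intro j j' h
  have h1 : d * ((j : ℕ) + 1) - 1 = d * ((j' : ℕ) + 1) - 1 := congrArg Fin.val h
  have h4 : 1 ≤ d * ((j : ℕ) + 1) :=
    Nat.one_le_iff_ne_zero.2 (Nat.mul_ne_zero hd (Nat.succ_ne_zero _))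
  have h5 : 1 ≤ d * ((j' : ℕ) + 1) :=
    Nat.one_le_iff_ne_zero.2 (Nat.mul_ne_zero hd (Nat.succ_ne_zero _))
  have h6 : d * ((j : ℕ) + 1) = d * ((j' : ℕ) + 1) := by omega
  have h7 := Nat.eq_of_mul_eq_mul_left (Nat.pos_of_ne_zero hd) h6
  apply Fin.ext
  omega

/-- every index `i` with `d ∣ i + 1` is in the image -/
theorem slkr2_emb_surj {n d : ℕ} (hd : d ≠ 0) (i : Fin n) (hi : d ∣ (i : ℕ) + 1) :
    ∃ j : Fin (n / d), slkr2_emb hd j = i := by
  obtain ⟨k, hk⟩ := hi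
  have hk0 : k ≠ 0 := by
    rintro rfl
    simp at hk
  have hkn : k ≤ n / d := by
    rw [Nat.le_div_iff_mul_le (Nat.pos_of_ne_zero hd)]
    have := i.2
    rw [mul_comm]
    omega
  refine ⟨⟨k - 1, by omega⟩, ?_⟩
  apply Fin.ext
  simp only [slkr2_emb]
  have : k - 1 + 1 = k := by omega
  rw [this, ← hk]
  omega

/-- the weighted sum, reindexed -/
theorem slkr2_sum {n d : ℕ} (hd : d ≠ 0) (w : Fin n → ℕ)
    (hw : ∀ i : Fin n, w i ≠ 0 → d ∣ (i : ℕ) + 1) :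
    ∑ i : Fin n, (1 + (i : ℕ)) * w i =
      d * ∑ j : Fin (n / d), (1 + (j : ℕ)) * w (slkr2_emb hd j) := by
  classical
  have h1 : ∑ i : Fin n, (1 + (i : ℕ)) * w i =
      ∑ i ∈ Finset.univ.image (slkr2_emb (n := n) hd), (1 + (i : ℕ)) * w i := by
    symm
    apply Finset.sum_subset (Finset.subset_univ _)
    intro i _ hi
    by_contra hne
    have hwi : w i ≠ 0 := by
      intro h0
      rw [h0, mul_zero] at hne
      exact hne rfl
    obtain ⟨j, hj⟩ := slkr2_emb_surj hd i (hw i hwi)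
    exact hi (Finset.mem_image.2 ⟨j, Finset.mem_univ _, hj⟩)
  rw [h1, Finset.sum_image (fun a _ b _ h => slkr2_emb_inj hd h), Finset.mul_sum]
  apply Finset.sum_congr rfl
  intro j _
  have h4 : 1 ≤ d * ((j : ℕ) + 1) :=
    Nat.one_le_iff_ne_zero.2 (Nat.mul_ne_zero hd (Nat.succ_ne_zero _))
  have h5 : 1 + ((slkr2_emb (n := n) hd j : Fin n) : ℕ) = d * (1 + (j : ℕ)) := by
    simp only [slkr2_emb]
    rw [add_comm 1 (j : ℕ)]
    omega
  rw [h5, mul_assoc]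

/-- the map `T ↦ (j ↦ T_{d (j+1) - 1})` -/
noncomputable def slkr2_map {F : Type u} [Field F] {n d : ℕ} (hd : d ≠ 0) (T : Fin n → F[X]) :
    Fin (n / d) → F[X] :=
  fun j => T (slkr2_emb hd j)

theorem slkr2_map_mem {F : Type u} [Field F] {n d : ℕ} (hd : d ≠ 0) (hdn : d ∣ n)
    (T : Fin n → F[X]) (hT : T ∈ tupSet F n 1 n) (hdT : d ∣ tE T) :
    slkr2_map hd T ∈ tupSet F (n / d) 1 (n / d) := by
  obtain ⟨hT1, hT2⟩ := hT
  refine ⟨fun j => hT1 _, ?_⟩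
  have h1 := slkr2_sum hd (fun i => (T i).natDegree) ((slkr2_dvd_iff T d).1 hdT)
  rw [hT2] at h1
  have h2 : d * (n / d) = n := Nat.mul_div_cancel' hdn
  have h3 : d * (n / d) = d * ∑ j : Fin (n / d), (1 + (j : ℕ)) * (T (slkr2_emb hd j)).natDegree := by
    rw [h2]
    exact h1
  exact (Nat.eq_of_mul_eq_mul_left (Nat.pos_of_ne_zero hd) h3).symm

theorem slkr2_map_inj {F : Type u} [Field F] {n d : ℕ} (hd : d ≠ 0)
    (T T' : Fin n → F[X]) (hT : T ∈ tupSet F n 1 n) (hdT : d ∣ tE T)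
    (hT' : T' ∈ tupSet F n 1 n) (hdT' : d ∣ tE T') (h : slkr2_map hd T = slkr2_map hd T') :
    T = T' := by
  funext i
  by_cases hi : d ∣ (i : ℕ) + 1
  · obtain ⟨j, rfl⟩ := slkr2_emb_surj hd i hi
    exact congrFun h j
  · have h1 : (T i).natDegree = 0 := by
      by_contra hne
      exact hi ((slkr2_dvd_iff T d).1 hdT i hne)
    have h2 : (T' i).natDegree = 0 := by
      by_contra hne
      exact hi ((slkr2_dvd_iff T' d).1 hdT' i hne)
    have m1 : (T i).Monic := (hT.1 i).1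
    have m2 : (T' i).Monic := (hT'.1 i).1
    rw [Polynomial.eq_one_of_monic_natDegree_zero m1 h1,
      Polynomial.eq_one_of_monic_natDegree_zero m2 h2]

/-- R2 [M-L]. -/
theorem card_filter_dvd_le {F : Type u} [Field F] [Fintype F] (n d : ℕ) (hd : d ≠ 0)
    (hdn : d ∣ n) :
    ((tupFin F n).filter (fun T => d ∣ tE T)).card ≤ (tupFin F (n / d)).card := by
  classical
  apply Finset.card_le_card_of_injOn (slkr2_map hd)
  · intro T hT
    rw [Finset.coe_filter] at hT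
    exact Finset.mem_coe.2 (mem_tupFin.2 (slkr2_map_mem hd hdn T (mem_tupFin.1 hT.1) hT.2))
  · intro T hT T' hT' h
    rw [Finset.coe_filter] at hT hT'
    exact slkr2_map_inj hd T T' (mem_tupFin.1 hT.1) hT.2 (mem_tupFin.1 hT'.1) hT'.2 h

end Cfsg.Agent.Lib.Helper1.SLK
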