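import Cfsg.Agent.Lib.Helper1.SLK.Defs

/-!
# SLK row E8 (helper29): `equidist`, core on the statements of E2 E3 E4 E5 E7

Double counting of the pairs `(c, T)` with `tdet (tsc c T) = (ζ : F)`.
-/

set_option autoImplicit false

namespace Cfsg.Agent.Lib.Helper1.SLK

open Polynomial
open Cfsg.Agent.Lib.Helper29.GLK

universe u

/-- `tdet T ≠ 0` on `tupSet` -/
theorem slke8_tdet_ne {F : Type u} [Field F] {n : ℕ} (T : Fin n → F[X])
    (hT : T ∈ tupSet F n 1 n) : tdet T ≠ 0 := by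
  unfold tdet
  rw [Finset.prod_ne_zero_iff]
  intro i _
  apply pow_ne_zero
  apply mul_ne_zero
  · exact pow_ne_zero _ (neg_ne_zero.2 one_ne_zero)
  · exact (hT.1 i).2

/-- `t * u = ζ ↔ u = (mk0 t)⁻¹ * ζ` for units `u`, `ζ` -/
theorem slke8_unit_iff {F : Type u} [Field F] (t : F) (ht : t ≠ 0) (u ζ : Fˣ) :
    t * (u : F) = (ζ : F) ↔ u = (Units.mk0 t ht)⁻¹ * ζ := by
  constructor
  · intro h
    have h1 : Units.mk0 t ht * u = ζ := by
      apply Units.ext
      rw [Units.val_mul, Units.val_mk0, h]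
    rw [← h1, inv_mul_cancel_left]
  · intro h
    have h1 : Units.mk0 t ht * u = ζ := by rw [h, mul_inv_cancel_left]
    have h2 := congrArg Units.val h1
    rwa [Units.val_mul, Units.val_mk0] at h2

/-- E8 for an arbitrary target value `ζ`, from the statements of E2, E3, E4, E5, E7. -/
theorem slke8_core_gen {F : Type u} [Field F] [Fintype F] [DecidableEq F] (n : ℕ) (ζ : Fˣ)
    (hE2 : ∀ (c : Fin n → Fˣ) (T : Fin n → F[X]), T ∈ tupSet F n 1 n → tsc c T ∈ tupSet F n 1 n)
    (hE3 : ∀ (c : Fin n → Fˣ) (T : Fin n → F[X]), tsc c⁻¹ (tsc c T) = T)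
    (hE4 : ∀ (c : Fin n → Fˣ) (T : Fin n → F[X]),
      tdet (tsc c T) = tdet T * ((tchi T c : Fˣ) : F))
    (hE5 : ∀ (c : Fin n → Fˣ) (T : Fin n → F[X]), tE (tsc c T) = tE T ∧ tchi (tsc c T) = tchi T)
    (hE7 : ∀ (T : Fin n → F[X]) (ζ : Fˣ),
      Nat.card {c : Fin n → Fˣ // tchi T c = ζ} * (Fintype.card F - 1) ≤
        (Fintype.card F - 1) ^ n * tg (Fintype.card F) T) :
    (Fintype.card F - 1) *
        ∑ T ∈ (tupFin F n).filter (fun T => tdet T = (ζ : F)), tg (Fintype.card F) T ≤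
      ∑ T ∈ tupFin F n, tg (Fintype.card F) T ^ 2 := by
  classical
  set q := Fintype.card F with hq
  set P := tupFin F n with hP
  set S := ∑ T ∈ P.filter (fun T => tdet T = (ζ : F)), tg q T with hS
  have hq1 : 0 < q - 1 := by
    have : 1 < q := Fintype.one_lt_card
    omega
  -- step 1: reindexing for every `c`
  have h1 : ∀ c : Fin n → Fˣ,
      S = ∑ T ∈ P.filter (fun T => tdet (tsc c T) = (ζ : F)), tg q T := by
    intro c
    rw [hS]
    refine Finset.sum_nbij' (fun T => tsc c⁻¹ T) (fun T => tsc c T) ?_ ?_ ?_ ?_ ?_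
    · intro T hT
      rw [Finset.mem_filter] at hT ⊢
      refine ⟨mem_tupFin.2 (hE2 c⁻¹ T (mem_tupFin.1 hT.1)), ?_⟩
      have := hE3 c⁻¹ T
      rw [inv_inv] at this
      rw [this]
      exact hT.2
    · intro T hT
      rw [Finset.mem_filter] at hT ⊢
      exact ⟨mem_tupFin.2 (hE2 c T (mem_tupFin.1 hT.1)), hT.2⟩
    · intro T _
      have := hE3 c⁻¹ T
      rw [inv_inv] at this
      exact this
    · intro T _
      exact hE3 c T
    · intro T _
      unfold tg
      rw [(hE5 c⁻¹ T).1]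
  -- step 2: sum over `c` and swap
  have h2 : (q - 1) ^ n * S =
      ∑ T ∈ P, tg q T * (Finset.univ.filter (fun c : Fin n → Fˣ => tdet (tsc c T) = (ζ : F))).card := by
    have hA : Fintype.card (Fin n → Fˣ) = (q - 1) ^ n := by
      rw [Fintype.card_fun, Fintype.card_fin, Fintype.card_units]
    calc (q - 1) ^ n * S = ∑ _c : Fin n → Fˣ, S := by
          rw [Finset.sum_const, Finset.card_univ, hA, smul_eq_mul]
      _ = ∑ c : Fin n → Fˣ, ∑ T ∈ P.filter (fun T => tdet (tsc c T) = (ζ : F)), tg q T :=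
          Finset.sum_congr rfl (fun c _ => h1 c)
      _ = ∑ c : Fin n → Fˣ, ∑ T ∈ P, if tdet (tsc c T) = (ζ : F) then tg q T else 0 :=
          Finset.sum_congr rfl (fun c _ => Finset.sum_filter _ _)
      _ = ∑ T ∈ P, ∑ c : Fin n → Fˣ, if tdet (tsc c T) = (ζ : F) then tg q T else 0 :=
          Finset.sum_comm
      _ = ∑ T ∈ P, tg q T *
            (Finset.univ.filter (fun c : Fin n → Fˣ => tdet (tsc c T) = (ζ : F))).card := by
          apply Finset.sum_congr rfl
          intro T _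
          rw [← Finset.sum_filter, Finset.sum_const, smul_eq_mul, mul_comm]
  -- step 3: the fibres
  have h3 : ∀ T ∈ P, (Finset.univ.filter (fun c : Fin n → Fˣ => tdet (tsc c T) = (ζ : F))).card *
      (q - 1) ≤ (q - 1) ^ n * tg q T := by
    intro T hT
    have hne : tdet T ≠ 0 := slke8_tdet_ne T (mem_tupFin.1 hT)
    have h := hE7 T ((Units.mk0 (tdet T) hne)⁻¹ * ζ)
    have hc : Nat.card {c : Fin n → Fˣ // tchi T c = (Units.mk0 (tdet T) hne)⁻¹ * ζ} =
        (Finset.univ.filter (fun c : Fin n → Fˣ => tdet (tsc c T) = (ζ : F))).card := by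
      rw [Nat.card_eq_fintype_card, Fintype.card_subtype]
      congr 1
      apply Finset.filter_congr
      intro c _
      rw [hE4, slke8_unit_iff _ hne]
    rw [hc] at h
    exact h
  -- step 4
  have h4 : (q - 1) ^ n * ((q - 1) * S) ≤ (q - 1) ^ n * ∑ T ∈ P, tg q T ^ 2 := by
    calc (q - 1) ^ n * ((q - 1) * S) = ((q - 1) ^ n * S) * (q - 1) := by ring
      _ = ∑ T ∈ P, tg q T *
            ((Finset.univ.filter (fun c : Fin n → Fˣ => tdet (tsc c T) = (ζ : F))).card * (q - 1)) := by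
          rw [h2, Finset.sum_mul]
          exact Finset.sum_congr rfl (fun T _ => mul_assoc _ _ _)
      _ ≤ ∑ T ∈ P, tg q T * ((q - 1) ^ n * tg q T) :=
          Finset.sum_le_sum (fun T hT => Nat.mul_le_mul_left _ (h3 T hT))
      _ = (q - 1) ^ n * ∑ T ∈ P, tg q T ^ 2 := by
          rw [Finset.mul_sum]
          apply Finset.sum_congr rfl
          intro T _
          ring
  exact Nat.le_of_mul_le_mul_left h4 (pow_pos hq1 n)

/-- E8 from the statements of E2, E3, E4, E5, E7. -/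
theorem slke8_core {F : Type u} [Field F] [Fintype F] [DecidableEq F] (n : ℕ)
    (hE2 : ∀ (c : Fin n → Fˣ) (T : Fin n → F[X]), T ∈ tupSet F n 1 n → tsc c T ∈ tupSet F n 1 n)
    (hE3 : ∀ (c : Fin n → Fˣ) (T : Fin n → F[X]), tsc c⁻¹ (tsc c T) = T)
    (hE4 : ∀ (c : Fin n → Fˣ) (T : Fin n → F[X]),
      tdet (tsc c T) = tdet T * ((tchi T c : Fˣ) : F))
    (hE5 : ∀ (c : Fin n → Fˣ) (T : Fin n → F[X]), tE (tsc c T) = tE T ∧ tchi (tsc c T) = tchi T)
    (hE7 : ∀ (T : Fin n → F[X]) (ζ : Fˣ),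
      Nat.card {c : Fin n → Fˣ // tchi T c = ζ} * (Fintype.card F - 1) ≤
        (Fintype.card F - 1) ^ n * tg (Fintype.card F) T) :
    (Fintype.card F - 1) *
        ∑ T ∈ (tupFin F n).filter (fun T => tdet T = 1), tg (Fintype.card F) T ≤
      ∑ T ∈ tupFin F n, tg (Fintype.card F) T ^ 2 := by
  have h := slke8_core_gen n (1 : Fˣ) hE2 hE3 hE4 hE5 hE7
  simpa only [Units.val_one] using h

end Cfsg.Agent.Lib.Helper1.SLK
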