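import Cfsg.Agent.Lib.Helper1.SLK.Defs
import Cfsg.Agent.Lib.Helper1.SLKE15
import Cfsg.Agent.Lib.Helper22.SLKE7
import Cfsg.Agent.Lib.Helper29.SLKE8core

/-!
# SLK row E8 (helper29): `equidist`, verbatim, and the general form `slke8_equidist_gen`
-/

set_option autoImplicit false

namespace Cfsg.Agent.Lib.Helper1.SLK

open Polynomial
open Cfsg.Agent.Lib.Helper29.GLK

universe u

/-- equidistribution for an arbitrary target value `ζ` of `tdet` -/
theorem slke8_equidist_gen {F : Type u} [Field F] [Fintype F] [DecidableEq F] (n : ℕ) (ζ : Fˣ) :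
    (Fintype.card F - 1) *
        ∑ T ∈ (tupFin F n).filter (fun T => tdet T = (ζ : F)), tg (Fintype.card F) T ≤
      ∑ T ∈ tupFin F n, tg (Fintype.card F) T ^ 2 :=
  slke8_core_gen n ζ (fun c T hT => tsc_mem c T hT) (fun c T => tsc_inv c T)
    (fun c T => tdet_tsc c T) (fun c T => tE_tsc c T) (fun T ζ => tchi_fiber T ζ)

/-- E8 [M-L] equidistribution. -/
theorem equidist {F : Type u} [Field F] [Fintype F] [DecidableEq F] (n : ℕ) :
    (Fintype.card F - 1) *
        ∑ T ∈ (tupFin F n).filter (fun T => tdet T = 1), tg (Fintype.card F) T ≤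
      ∑ T ∈ tupFin F n, tg (Fintype.card F) T ^ 2 :=
  slke8_core n (fun c T hT => tsc_mem c T hT) (fun c T => tsc_inv c T)
    (fun c T => tdet_tsc c T) (fun c T => tE_tsc c T) (fun T ζ => tchi_fiber T ζ)

end Cfsg.Agent.Lib.Helper1.SLK
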