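import Cfsg.Agent.Lib.Helper1.PLK.Defs
import Cfsg.Agent.Lib.Helper18.SLKN2

/-!
# PLK row NP1 (helper29): `ubdN_one`
-/

set_option autoImplicit false

namespace Cfsg.Agent.Lib.Helper1.PLK

open Polynomial
open Cfsg.Agent.Lib.Helper29.GLK
open Cfsg.Agent.Lib.Helper1.SLK

universe u

/-- NP1 [S-M] -/
theorem ubdN_one (q : ℕ) (K : ℕ → ℕ) (hq : 2 ≤ q) (hK : ∀ m, K m ≤ cnt q m 1 m) :
    ubdN q K 1 ≤ 1 := by
  unfold ubdN
  have h1 : K 1 ≤ q - 1 := by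
    have := hK 1
    rwa [(cnt_small q hq).1] at this
  have h2 : ∑ d ∈ (Nat.divisors (Nat.gcd 1 (q - 1))).filter (fun d => 1 < d),
      (d ^ 2 - 1) * K (1 / d) = 0 := by
    rw [Nat.gcd_one_left, Nat.divisors_one]
    rfl
  rw [h2, add_zero]
  apply Nat.div_le_of_le_mul
  omega

end Cfsg.Agent.Lib.Helper1.PLK
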