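import Cfsg.Agent.Lib.Helper1.PLK.Defs
import Cfsg.Agent.Lib.Helper18.SLKN2

/-!
# PLK row NP2 (helper29): `ubdN_two`
-/

set_option autoImplicit false

namespace Cfsg.Agent.Lib.Helper1.PLK

open Polynomial
open Cfsg.Agent.Lib.Helper29.GLK
open Cfsg.Agent.Lib.Helper1.SLK

universe u

/-- the divisor sum for `n = 2` -/
theorem plknp2_sum (q : ℕ) (K : ℕ → ℕ) :
    ∑ d ∈ (Nat.divisors (Nat.gcd 2 (q - 1))).filter (fun d => 1 < d), (d ^ 2 - 1) * K (2 / d) ≤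
      3 * K 1 := by
  have hg : Nat.gcd 2 (q - 1) ∣ 2 := Nat.gcd_dvd_left 2 (q - 1)
  have hg' : Nat.gcd 2 (q - 1) = 1 ∨ Nat.gcd 2 (q - 1) = 2 := by
    have := (Nat.dvd_prime Nat.prime_two).1 hg
    exact this
  rcases hg' with h | h
  · rw [h, Nat.divisors_one]
    have : ({1} : Finset ℕ).filter (fun d => 1 < d) = ∅ := by decide
    rw [this, Finset.sum_empty]
    exact Nat.zero_le _
  · rw [h]
    have : (Nat.divisors 2).filter (fun d => 1 < d) = {2} := by decide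
    rw [this, Finset.sum_singleton]
    norm_num

/-- NP2 [M] -/
theorem ubdN_two (q : ℕ) (K : ℕ → ℕ) (hq : 2 ≤ q) (hK : ∀ m, K m ≤ cnt q m 1 m) :
    ubdN q K 2 ≤ q + 4 := by
  unfold ubdN
  obtain ⟨c1, c2, -, -⟩ := cnt_small q hq
  have h1 : K 1 ≤ q - 1 := by
    have := hK 1
    rwa [c1] at this
  have h2 : K 2 ≤ q ^ 2 - 1 := by
    have := hK 2
    rwa [c2] at this
  have h3 := plknp2_sum q K
  apply Nat.div_le_of_le_mul
  obtain ⟨a, rfl⟩ : ∃ a, q = a + 2 := ⟨q - 2, by omega⟩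
  have e1 : a + 2 - 1 = a + 1 := by omega
  have e2 : (a + 2) ^ 2 - 1 = (a + 1) * (a + 3) := by
    have : (a + 2) ^ 2 = (a + 1) * (a + 3) + 1 := by ring
    omega
  rw [e1] at h1 h3 ⊢
  rw [e2] at h2
  calc K 2 + ∑ d ∈ (Nat.divisors (Nat.gcd 2 (a + 1))).filter (fun d => 1 < d),
        (d ^ 2 - 1) * K (2 / d) ≤ (a + 1) * (a + 3) + 3 * (a + 1) := by
        have : 3 * K 1 ≤ 3 * (a + 1) := Nat.mul_le_mul_left 3 h1
        omega
    _ = (a + 1) * (a + 2 + 4) := by ring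

end Cfsg.Agent.Lib.Helper1.PLK
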