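import Cfsg.Agent.Lib.Helper1.PLK.Defs

/-!
# PLK row Z3 (`center_scalar`), second copy by helper29 under an own name
-/

set_option autoImplicit false

namespace Cfsg.Agent.Lib.Helper1.PLK

open Polynomial
open Cfsg.Agent.Lib.Helper29.GLK
open Cfsg.Agent.Lib.Helper1.SLK

universe u

/-- **Z3**, own-name copy with the exact Skel statement. -/
theorem plkz3_h29_center_scalar {F : Type u} [Field F] (n : ℕ) (hn : 1 ≤ n)
    (z : Matrix.SpecialLinearGroup (Fin n) F)
    (hz : z ∈ Subgroup.center (Matrix.SpecialLinearGroup (Fin n) F)) :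
    ∃ ζ : Fˣ, ζ ^ n = 1 ∧
      (z : Matrix (Fin n) (Fin n) F) = (ζ : F) • (1 : Matrix (Fin n) (Fin n) F) := by
  rw [Matrix.SpecialLinearGroup.mem_center_iff] at hz
  obtain ⟨r, hr, hrz⟩ := hz
  rw [Fintype.card_fin] at hr
  have hr0 : r ≠ 0 := by
    rintro rfl
    rw [zero_pow (by omega)] at hr
    exact zero_ne_one hr
  refine ⟨Units.mk0 r hr0, ?_, ?_⟩
  · apply Units.ext
    rw [Units.val_pow_eq_pow_val, Units.val_mk0, hr, Units.val_one]
  · rw [Units.val_mk0, ← hrz, Matrix.smul_one_eq_diagonal]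
    rfl

end Cfsg.Agent.Lib.Helper1.PLK
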