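import Mathlib
import Cfsg.Prelude.Def_Characters
import Cfsg.Agent.Lib.helper7.PM2.Defs
import Cfsg.Agent.Lib.helper7.CharTools
import Cfsg.Agent.Lib.helper2.CharNat
import Cfsg.Agent.Lib.Helper20.PM2SQ

/-!
# Project PM2 (S4705) : cores of the pieces DEC3, DEC4, DEC5

The lower pieces (DECA, DECS, DECB, AGR, FAM, REG, POW, BAS3) enter as hypotheses, stated for the group at hand.
-/

set_option autoImplicit false
set_option linter.unusedVariables false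
set_option linter.unusedSectionVars false

namespace Cfsg.Agent.Lib.helper7.PM2

open scoped ComplexConjugate

universe u

section setting

variable {G : Type u} [Group G] [Fintype G] {p : ℕ} {ζ : G → ℂ} {x : G} {ω : ℂ}

/-- `p = 2 g + 3` with `2 ≤ g` -/
theorem pm2dec3_p_eq (S : Setting p ζ x ω) : ∃ g : ℕ, p = 2 * g + 3 ∧ 2 ≤ g := by
  have h5 := S.hp5
  rcases S.hp.eq_two_or_odd with h2 | hodd
  · omega
  · exact ⟨(p - 3) / 2, by omega, by omega⟩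

/-- the family `k_a` -/
theorem pm2dec3_fam_facts (S : Setting p ζ x ω) (g : ℕ) (hpg : p = 2 * g + 3) (k : ℕ → ℕ)
    (hk : ∀ a : ℕ, ¬ p ∣ a → k a ≡ a [MOD p]) :
    (∀ a ∈ Finset.Icc 1 (g + 1), ¬ p ∣ a) ∧ (∀ a ∈ Finset.Icc 1 (g + 1), ¬ p ∣ k a) ∧
    (∀ a ∈ Finset.Icc 1 (g + 1), ∀ b ∈ Finset.Icc 1 (g + 1), a ≠ b →
      ¬ (k a ≡ k b [MOD p] ∨ k a + k b ≡ 0 [MOD p])) ∧
    (∀ a ∈ Finset.Icc 1 (g + 1), (k a ≡ 2 [MOD p] ∨ k a + 2 ≡ 0 [MOD p]) ↔ a = 2) := by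
  have h5 := S.hp5
  have hnd : ∀ a ∈ Finset.Icc 1 (g + 1), ¬ p ∣ a := by
    intro a ha hdiv
    rw [Finset.mem_Icc] at ha
    have := Nat.le_of_dvd (by omega) hdiv
    omega
  have small : ∀ c : ℕ, 0 < c → c < p → ¬ c ≡ 0 [MOD p] := by
    intro c hc0 hcp h
    have := (Nat.modEq_zero_iff_dvd.mp h)
    have := Nat.le_of_dvd hc0 this
    omega
  have eqsmall : ∀ c d : ℕ, c < p → d < p → c ≡ d [MOD p] → c = d := by
    intro c d hc hd h
    unfold Nat.ModEq at h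
    rwa [Nat.mod_eq_of_lt hc, Nat.mod_eq_of_lt hd] at h
  refine ⟨hnd, ?_, ?_, ?_⟩
  · intro a ha hdiv
    have h1 := hk a (hnd a ha)
    have : k a ≡ 0 [MOD p] := Nat.modEq_zero_iff_dvd.mpr hdiv
    have h2 : a ≡ 0 [MOD p] := h1.symm.trans this
    exact hnd a ha (Nat.modEq_zero_iff_dvd.mp h2)
  · intro a ha b hb hab hor
    have h1 := hk a (hnd a ha)
    have h2 := hk b (hnd b hb)
    rw [Finset.mem_Icc] at ha hb
    rcases hor with h | h
    · have : a ≡ b [MOD p] := h1.symm.trans (h.trans h2)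
      exact hab (eqsmall a b (by omega) (by omega) this)
    · have : a + b ≡ 0 [MOD p] := (Nat.ModEq.add h1 h2).symm.trans h
      exact small (a + b) (by omega) (by omega) this
  · intro a ha
    have h1 := hk a (hnd a ha)
    rw [Finset.mem_Icc] at ha
    constructor
    · rintro (h | h)
      · have : a ≡ 2 [MOD p] := h1.symm.trans h
        exact eqsmall a 2 (by omega) (by omega) this
      · have : a + 2 ≡ 0 [MOD p] := (Nat.ModEq.add_right 2 h1).symm.trans h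
        exact absurd this (small (a + 2) (by omega) (by omega))
    · intro h
      subst h
      left
      exact h1

/-- the sum of the multiplicities `[a ≠ 2]` -/
theorem pm2dec3_sum_ite (g : ℕ) (hg : 2 ≤ g) (c : ℂ) :
    ∑ a ∈ Finset.Icc 1 (g + 1), ((if a = 2 then 0 else 1 : ℕ) : ℂ) * c = (g : ℂ) * c := by
  have h2 : 2 ∈ Finset.Icc 1 (g + 1) := by rw [Finset.mem_Icc]; omega
  rw [← Finset.sum_erase_add _ _ h2]
  have : ∀ a ∈ (Finset.Icc 1 (g + 1)).erase 2, ((if a = 2 then 0 else 1 : ℕ) : ℂ) * c = c := by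
    intro a ha
    rw [if_neg (Finset.ne_of_mem_erase ha)]
    simp
  rw [Finset.sum_congr rfl this, Finset.sum_const, Finset.card_erase_of_mem h2, Nat.card_Icc]
  simp

/-- DEC3, core -/
theorem pm2dec3_core (S : Setting p ζ x ω) (κ : ℕ) (A : ℕ)
    (hA : ∀ k : ℕ, Nat.Coprime k (Nat.card G) → k ≡ κ [MOD Nat.card G / p] →
      Cfsg.classInner (altSq ζ) (pw ζ k) =
        (A : ℂ) + (if k ≡ 2 [MOD p] ∨ k + 2 ≡ 0 [MOD p] then 0 else 1))
    (hfam : ∀ a : ℕ, ¬ p ∣ a →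
      ∃ k : ℕ, Nat.Coprime k (Nat.card G) ∧ k ≡ a [MOD p] ∧ k ≡ κ [MOD Nat.card G / p])
    (hirr : ∀ k : ℕ, Nat.Coprime k (Nat.card G) → Cfsg.IsIrrCharacter G (pw ζ k))
    (hne : ∀ k k' : ℕ, ¬ p ∣ k → ¬ p ∣ k' → ¬ (k ≡ k' [MOD p] ∨ k + k' ≡ 0 [MOD p]) →
      pw ζ k ≠ pw ζ k')
    (hreg : ∀ z : G, ¬ p ∣ orderOf z → ∀ k κ' : ℕ, k ≡ κ' [MOD Nat.card G / p] → z ^ k = z ^ κ')
    (hsplit : ∀ (I : Finset ℕ) (Ψ : G → ℂ), Cfsg.IsCharacter G Ψ → ∀ χ : ℕ → G → ℂ,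
      (∀ i ∈ I, Cfsg.IsIrrCharacter G (χ i)) → (∀ i ∈ I, ∀ j ∈ I, i ≠ j → χ i ≠ χ j) →
      ∀ m : ℕ → ℕ, (∀ i ∈ I, Cfsg.classInner Ψ (χ i) = (m i : ℂ)) →
      ∃ Δ : G → ℂ, Cfsg.IsCharacter G Δ ∧ Ψ = (∑ i ∈ I, (m i : ℂ) • χ i) + Δ) :
    A = 0 ∧ ∀ z : G, ¬ p ∣ orderOf z → ζ z ^ 2 - ζ (z ^ 2) = ((p : ℂ) - 3) * ζ (z ^ κ) := by
  obtain ⟨g, hpg, hg2⟩ := pm2dec3_p_eq S
  have hpC : (p : ℂ) = 2 * (g : ℂ) + 3 := by rw [hpg]; push_cast; ring
  choose! k hk using hfam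
  obtain ⟨hnd, hndk, hdist, htwo⟩ := pm2dec3_fam_facts S g hpg k (fun a ha => (hk a ha).2.1)
  have hζchar : Cfsg.IsCharacter G ζ := h7_irr_isCharacter S.irr
  have haltchar : Cfsg.IsCharacter G (altSq ζ) := pm2_altSq hζchar
  obtain ⟨Δ, hΔ, hsum⟩ := hsplit (Finset.Icc 1 (g + 1)) (altSq ζ) haltchar (fun a => pw ζ (k a))
    (fun a ha => hirr _ (hk a (hnd a ha)).1)
    (fun a ha b hb hab => hne _ _ (hndk a ha) (hndk b hb) (hdist a ha b hb hab))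
    (fun a => A + (if a = 2 then 0 else 1))
    (fun a ha => by
      rw [hA _ (hk a (hnd a ha)).1 (hk a (hnd a ha)).2.2]
      by_cases h2 : a = 2
      · rw [if_pos ((htwo a ha).mpr h2), if_pos h2]
        push_cast
        ring
      · rw [if_neg (fun h => h2 ((htwo a ha).mp h)), if_neg h2]
        push_cast
        ring)
  obtain ⟨d, hd⟩ := Cfsg.Agent.Lib.helper2.isCharacter_one_eq_nat hΔ
  -- the degrees
  have hdeg := congrFun hsum 1
  rw [altSq_apply, Pi.add_apply, Finset.sum_apply, hd] at hdeg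
  have hterm : ∀ a ∈ Finset.Icc 1 (g + 1),
      (((A + (if a = 2 then 0 else 1) : ℕ) : ℂ) • pw ζ (k a)) 1 =
        (A : ℂ) * ((p : ℂ) - 2) + ((if a = 2 then 0 else 1 : ℕ) : ℂ) * ((p : ℂ) - 2) := by
    intro a _
    rw [Pi.smul_apply, pw_apply, one_pow, S.deg, smul_eq_mul]
    push_cast
    ring
  rw [Finset.sum_congr rfl hterm, Finset.sum_add_distrib, pm2dec3_sum_ite g hg2, Finset.sum_const,
    Nat.card_Icc, one_pow, S.deg, hpC] at hdeg
  have hnat : ((A * (g + 1) * (2 * g + 1) + d : ℕ) : ℂ) = 0 := by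
    push_cast
    simp only [nsmul_eq_mul] at hdeg
    push_cast at hdeg
    linear_combination (-1 : ℂ) * hdeg
  have hnat' : A * (g + 1) * (2 * g + 1) + d = 0 := by exact_mod_cast hnat
  have hA0 : A = 0 := by
    by_contra hne0
    have : 0 < A * (g + 1) * (2 * g + 1) := by positivity
    omega
  have hd0 : d = 0 := by omega
  have hΔ0 : Δ = 0 := h7_isCharacter_eq_zero hΔ (by rw [hd, hd0]; simp)
  refine ⟨hA0, ?_⟩
  intro z hz
  have hval := congrFun hsum z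
  rw [altSq_apply, hΔ0, add_zero, Finset.sum_apply] at hval
  have hterm2 : ∀ a ∈ Finset.Icc 1 (g + 1),
      (((A + (if a = 2 then 0 else 1) : ℕ) : ℂ) • pw ζ (k a)) z =
        ((if a = 2 then 0 else 1 : ℕ) : ℂ) * ζ (z ^ κ) := by
    intro a ha
    rw [Pi.smul_apply, pw_apply, hreg z hz (k a) κ (hk a (hnd a ha)).2.2, smul_eq_mul, hA0]
    push_cast
    ring
  rw [Finset.sum_congr rfl hterm2, pm2dec3_sum_ite g hg2] at hval
  rw [hpC]
  linear_combination (2 : ℂ) * hval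

/-- `k ≡ 1` is not `≡ ± 2` modulo `p` -/
theorem pm2dec3_not_two (S : Setting p ζ x ω) (k : ℕ) (hk1 : k ≡ 1 [MOD p]) :
    ¬ (k ≡ 2 [MOD p] ∨ k + 2 ≡ 0 [MOD p]) := by
  have h5 := S.hp5
  rintro (h | h)
  · have h12 : 1 ≡ 2 [MOD p] := hk1.symm.trans h
    unfold Nat.ModEq at h12
    rw [Nat.mod_eq_of_lt (by omega), Nat.mod_eq_of_lt (by omega)] at h12
    omega
  · have h3 : 1 + 2 ≡ 0 [MOD p] := (Nat.ModEq.add_right 2 hk1).symm.trans h
    have := Nat.le_of_dvd (by norm_num) (Nat.modEq_zero_iff_dvd.mp h3)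
    omega

/-- the constant sum over the family -/
theorem pm2dec4_sum_const (g : ℕ) (c : ℂ) :
    ∑ a ∈ Finset.Icc 1 (g + 1), c = ((g : ℂ) + 1) * c := by
  rw [Finset.sum_const, Nat.card_Icc]
  simp

/-- DEC4, core -/
theorem pm2dec4_core (S : Setting p ζ x ω) (κ : ℕ) (hκ : Nat.Coprime κ (Nat.card G / p)) (B : ℕ)
    (hB : ∀ k : ℕ, Nat.Coprime k (Nat.card G) → k ≡ κ [MOD Nat.card G / p] →
      Cfsg.classInner (symSq ζ) (pw ζ k) = (B : ℂ))
    (hfam : ∀ a : ℕ, ¬ p ∣ a →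
      ∃ k : ℕ, Nat.Coprime k (Nat.card G) ∧ k ≡ a [MOD p] ∧ k ≡ κ [MOD Nat.card G / p])
    (hirr : ∀ k : ℕ, Nat.Coprime k (Nat.card G) → Cfsg.IsIrrCharacter G (pw ζ k))
    (hne : ∀ k k' : ℕ, ¬ p ∣ k → ¬ p ∣ k' → ¬ (k ≡ k' [MOD p] ∨ k + k' ≡ 0 [MOD p]) →
      pw ζ k ≠ pw ζ k')
    (hreg : ∀ z : G, ¬ p ∣ orderOf z → ∀ k κ' : ℕ, k ≡ κ' [MOD Nat.card G / p] → z ^ k = z ^ κ')
    (hsplit : ∀ (I : Finset ℕ) (Ψ : G → ℂ), Cfsg.IsCharacter G Ψ → ∀ χ : ℕ → G → ℂ,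
      (∀ i ∈ I, Cfsg.IsIrrCharacter G (χ i)) → (∀ i ∈ I, ∀ j ∈ I, i ≠ j → χ i ≠ χ j) →
      ∀ m : ℕ → ℕ, (∀ i ∈ I, Cfsg.classInner Ψ (χ i) = (m i : ℂ)) →
      ∃ Δ : G → ℂ, Cfsg.IsCharacter G Δ ∧ Ψ = (∑ i ∈ I, (m i : ℂ) • χ i) + Δ)
    (halt : ∀ z : G, ¬ p ∣ orderOf z → ζ z ^ 2 - ζ (z ^ 2) = ((p : ℂ) - 3) * ζ (z ^ κ))
    (hdvd : 2 * p * Nat.card (Subgroup.center G) ∣ Nat.card G) : B = 0 := by
  obtain ⟨g, hpg, hg2⟩ := pm2dec3_p_eq S
  have hpC : (p : ℂ) = 2 * (g : ℂ) + 3 := by rw [hpg]; push_cast; ring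
  have hppos : 0 < p := S.hp.pos
  choose! k hk using hfam
  obtain ⟨hnd, hndk, hdist, htwo⟩ := pm2dec3_fam_facts S g hpg k (fun a ha => (hk a ha).2.1)
  have hζchar : Cfsg.IsCharacter G ζ := h7_irr_isCharacter S.irr
  have hsymchar : Cfsg.IsCharacter G (symSq ζ) := pm2_symSq hζchar
  obtain ⟨Δ, hΔ, hsum⟩ := hsplit (Finset.Icc 1 (g + 1)) (symSq ζ) hsymchar (fun a => pw ζ (k a))
    (fun a ha => hirr _ (hk a (hnd a ha)).1)
    (fun a ha b hb hab => hne _ _ (hndk a ha) (hndk b hb) (hdist a ha b hb hab))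
    (fun _ => B)
    (fun a ha => hB _ (hk a (hnd a ha)).1 (hk a (hnd a ha)).2.2)
  obtain ⟨d, hd⟩ := Cfsg.Agent.Lib.helper2.isCharacter_one_eq_nat hΔ
  -- the degrees
  have hdeg := congrFun hsum 1
  rw [symSq_apply, Pi.add_apply, Finset.sum_apply, hd] at hdeg
  have hterm : ∀ a ∈ Finset.Icc 1 (g + 1),
      ((B : ℂ) • pw ζ (k a)) 1 = (B : ℂ) * ((p : ℂ) - 2) := by
    intro a _
    rw [Pi.smul_apply, pw_apply, one_pow, S.deg, smul_eq_mul]
  rw [Finset.sum_congr rfl hterm, pm2dec4_sum_const, one_pow, S.deg, hpC] at hdeg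
  have hnat : (((g + 1) * (2 * g + 1) : ℕ) : ℂ) = ((B * ((g + 1) * (2 * g + 1)) + d : ℕ) : ℂ) := by
    push_cast
    linear_combination hdeg
  have hnat' : (g + 1) * (2 * g + 1) = B * ((g + 1) * (2 * g + 1)) + d := by exact_mod_cast hnat
  have hMpos : 0 < (g + 1) * (2 * g + 1) := by positivity
  have hB1 : B ≤ 1 := by
    by_contra hcon
    rw [not_le] at hcon
    have : 2 * ((g + 1) * (2 * g + 1)) ≤ B * ((g + 1) * (2 * g + 1)) :=
      Nat.mul_le_mul_right _ hcon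
    omega
  by_contra hB0
  have hBeq : B = 1 := by omega
  rw [hBeq, one_mul] at hnat'
  have hd0 : d = 0 := by omega
  have hΔ0 : Δ = 0 := h7_isCharacter_eq_zero hΔ (by rw [hd, hd0]; simp)
  -- an involution
  have h2n : 2 ∣ Nat.card G := Dvd.dvd.trans ⟨p * Nat.card (Subgroup.center G), by ring⟩ hdvd
  obtain ⟨u, hu⟩ := exists_prime_orderOf_dvd_card' (G := G) 2 h2n
  have hureg : ¬ p ∣ orderOf u := by
    rw [hu]
    intro hdiv
    have := Nat.le_of_dvd (by norm_num) hdiv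
    have := S.hp5
    omega
  have hu2 : u ^ 2 = 1 := by rw [← hu]; exact pow_orderOf_eq_one u
  -- `κ` is odd
  have hκodd : Odd κ := by
    obtain ⟨t, ht⟩ := hdvd
    have hnp : Nat.card G / p = 2 * (Nat.card (Subgroup.center G) * t) := by
      rw [ht]
      have : 2 * p * Nat.card (Subgroup.center G) * t =
          p * (2 * (Nat.card (Subgroup.center G) * t)) := by ring
      rw [this, Nat.mul_div_cancel_left _ hppos]
    rw [hnp] at hκ
    exact Nat.coprime_two_right.mp (Nat.Coprime.coprime_dvd_right (dvd_mul_right 2 _) hκ)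
  have huκ : u ^ κ = u := by
    obtain ⟨j, hj⟩ := hκodd
    rw [hj, pow_succ, pow_mul, hu2, one_pow, one_mul]
  -- the value of the symmetric square at `u`
  have hval := congrFun hsum u
  rw [symSq_apply, hΔ0, add_zero, Finset.sum_apply] at hval
  have hterm2 : ∀ a ∈ Finset.Icc 1 (g + 1),
      ((B : ℂ) • pw ζ (k a)) u = ζ (u ^ κ) := by
    intro a ha
    rw [Pi.smul_apply, pw_apply, hreg u hureg (k a) κ (hk a (hnd a ha)).2.2, smul_eq_mul, hBeq]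
    push_cast
    ring
  rw [Finset.sum_congr rfl hterm2, pm2dec4_sum_const] at hval
  have halt' := halt u hureg
  rw [hpC] at halt'
  have hfin : ζ (u ^ 2) = ζ (u ^ κ) := by
    linear_combination hval - (1 / 2 : ℂ) * halt'
  rw [hu2, huκ] at hfin
  have hu1 : u = 1 := S.faith u hfin.symm
  rw [hu1, orderOf_one] at hu
  omega

/-- DEC5, core -/
theorem pm2dec5_core (S : Setting p ζ x ω)
    (hkap : ∃ κ : ℕ, Nat.Coprime κ (Nat.card G / p) ∧ κ ≡ 2 [MOD Nat.card (Subgroup.center G)])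
    (hfam : ∀ κ : ℕ, Nat.Coprime κ (Nat.card G / p) → ∀ a : ℕ, ¬ p ∣ a →
      ∃ k : ℕ, Nat.Coprime k (Nat.card G) ∧ k ≡ a [MOD p] ∧ k ≡ κ [MOD Nat.card G / p])
    (halt1 : ∀ κ : ℕ, Nat.Coprime κ (Nat.card G / p) → κ ≡ 2 [MOD Nat.card (Subgroup.center G)] →
      ∀ k : ℕ, Nat.Coprime k (Nat.card G) → k ≡ κ [MOD Nat.card G / p] → k ≡ 1 [MOD p] →
      Cfsg.classInner (altSq ζ) (pw ζ k) = 1)
    (hsym0 : ∀ κ : ℕ, Nat.Coprime κ (Nat.card G / p) → κ ≡ 2 [MOD Nat.card (Subgroup.center G)] →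
      ∀ k : ℕ, Nat.Coprime k (Nat.card G) → k ≡ κ [MOD Nat.card G / p] →
      Cfsg.classInner (symSq ζ) (pw ζ k) = 0)
    (hdvd : 2 * p * Nat.card (Subgroup.center G) ∣ Nat.card G) :
    ∃ k : ℕ, Nat.Coprime k (Nat.card G) ∧ k ≡ 1 [MOD p] ∧ k ≡ 2 [MOD Nat.card (Subgroup.center G)] ∧
      ∑ g : G, ζ g ^ 2 * conj (ζ (g ^ k)) = (Nat.card G : ℂ) := by
  have hppos : 0 < p := S.hp.pos
  obtain ⟨κ, hκ, hκ2⟩ := hkap
  have hp1 : ¬ p ∣ 1 := by
    intro h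
    have := Nat.le_of_dvd (by norm_num) h
    have := S.hp5
    omega
  obtain ⟨k, hkn, hk1, hkκ⟩ := hfam κ hκ 1 hp1
  have hodvd : Nat.card (Subgroup.center G) ∣ Nat.card G / p := by
    obtain ⟨t, ht⟩ := hdvd
    have hnp : Nat.card G / p = Nat.card (Subgroup.center G) * (2 * t) := by
      rw [ht]
      have : 2 * p * Nat.card (Subgroup.center G) * t =
          p * (Nat.card (Subgroup.center G) * (2 * t)) := by ring
      rw [this, Nat.mul_div_cancel_left _ hppos]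
    rw [hnp]
    exact dvd_mul_right _ _
  have hk2 : k ≡ 2 [MOD Nat.card (Subgroup.center G)] := (hkκ.of_dvd hodvd).trans hκ2
  refine ⟨k, hkn, hk1, hk2, ?_⟩
  have h1 := halt1 κ hκ hκ2 k hkn hkκ hk1
  have h0 := hsym0 κ hκ hκ2 k hkn hkκ
  have hn0 : (Nat.card G : ℂ) ≠ 0 := by exact_mod_cast Nat.card_pos.ne'
  unfold Cfsg.classInner at h1 h0
  have e1 : ∑ g : G, altSq ζ g * conj (pw ζ k g) = (Nat.card G : ℂ) := by
    field_simp at h1
    linear_combination h1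
  have e0 : ∑ g : G, symSq ζ g * conj (pw ζ k g) = 0 := by
    rcases mul_eq_zero.mp h0 with h | h
    · exact absurd (inv_eq_zero.mp h) hn0
    · exact h
  have : ∑ g : G, ζ g ^ 2 * conj (ζ (g ^ k)) =
      ∑ g : G, symSq ζ g * conj (pw ζ k g) + ∑ g : G, altSq ζ g * conj (pw ζ k g) := by
    rw [← Finset.sum_add_distrib]
    apply Finset.sum_congr rfl
    intro g _
    rw [symSq_apply, altSq_apply, pw_apply]
    ring
  rw [this, e0, e1, zero_add]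

end setting

end Cfsg.Agent.Lib.helper7.PM2
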