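import Mathlib
import Cfsg.Prelude.Def_Characters
import Cfsg.Agent.Lib.helper7.PM2.Defs
import Cfsg.Agent.Lib.Helper29.PM2DECcore
import Cfsg.Agent.Lib.Helper18.PM2DECAcore
import Cfsg.Agent.Lib.Helper9.PM2SI2
import Cfsg.Agent.Lib.Helper16.PM2DECS
import Cfsg.Agent.Lib.helper23.PM2DECB
import Cfsg.Agent.Lib.Helper22.PM2AGR
import Cfsg.Agent.Lib.Helper21.PM2CRT
import Cfsg.Agent.Lib.Helper18.PM2REG
import Cfsg.Agent.Lib.Helper20.PM2POW
import Cfsg.Agent.Lib.helper23.PM2BAS3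

/-!
# Project PM2 (S4705) : piece DEC3 (`alt_rel`, `mult_alt_one`)
-/

set_option autoImplicit false
set_option linter.unusedVariables false
set_option linter.unusedSectionVars false

namespace Cfsg.Agent.Lib.helper7.PM2

open scoped ComplexConjugate

universe u

section setting

variable {G : Type u} [Group G] [Fintype G] {p : ℕ} {ζ : G → ℂ} {x : G} {ω : ℂ}

/-- DECA (`mult_alt`), from its core `pm2deca_core` (helper18) and the landed SI2, POW, FAM, BAS3 -/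
theorem pm2dec3_mult_alt (S : Setting p ζ x ω) (κ : ℕ) (hκ : Nat.Coprime κ (Nat.card G / p))
    (hκ2 : κ ≡ 2 [MOD Nat.card (Subgroup.center G)]) :
    ∃ A : ℕ, ∀ k : ℕ, Nat.Coprime k (Nat.card G) → k ≡ κ [MOD Nat.card G / p] →
      Cfsg.classInner (altSq ζ) (pw ζ k) =
        (A : ℂ) + (if k ≡ 2 [MOD p] ∨ k + 2 ≡ 0 [MOD p] then 0 else 1) := by
  have hn : 0 < Nat.card G := Nat.card_pos
  have hpn : p ∣ Nat.card G := by rw [← S.ordx]; exact orderOf_dvd_natCard x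
  have hp2 : ¬ p ∣ 2 := by
    intro h
    have := Nat.le_of_dvd (by norm_num) h
    have := S.hp5
    omega
  exact pm2deca_core S κ hκ hκ2 (fun k hk hk2 => sing_alt_pw S k hk hk2)
    (fun k hk => pw_irr S.irr k hk)
    (exists_fam (Nat.card G) p κ hn S.hp hpn S.sylow hκ 2 hp2) (card_dvd S)

/-- DEC3 : the multiplicity `A` of DECA is zero, and relation (R1) -/
theorem pm2dec3_main (S : Setting p ζ x ω) (κ : ℕ) (hκ : Nat.Coprime κ (Nat.card G / p))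
    (hκ2 : κ ≡ 2 [MOD Nat.card (Subgroup.center G)]) (A : ℕ)
    (hA : ∀ k : ℕ, Nat.Coprime k (Nat.card G) → k ≡ κ [MOD Nat.card G / p] →
      Cfsg.classInner (altSq ζ) (pw ζ k) =
        (A : ℂ) + (if k ≡ 2 [MOD p] ∨ k + 2 ≡ 0 [MOD p] then 0 else 1)) :
    A = 0 ∧ ∀ z : G, ¬ p ∣ orderOf z → ζ z ^ 2 - ζ (z ^ 2) = ((p : ℂ) - 3) * ζ (z ^ κ) := by
  have hn : 0 < Nat.card G := Nat.card_pos
  have hpn : p ∣ Nat.card G := by rw [← S.ordx]; exact orderOf_dvd_natCard x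
  exact pm2dec3_core S κ A hA
    (fun a ha => exists_fam (Nat.card G) p κ hn S.hp hpn S.sylow hκ a ha)
    (fun k hk => pw_irr S.irr k hk)
    (fun k k' hk hk' h => pw_ne_of_not_cong S k k' hk hk' h)
    (fun z hz k κ' h => pow_reg S z hz k κ' h)
    (fun I Ψ hΨ χ hχ hne m hm => split_off I hΨ χ hχ hne m hm)

/-- DEC3 : the exterior square is the sum of the `ζ^[k_a]`, `a ≠ ± 2`: relation (R1) -/
theorem alt_rel (S : Setting p ζ x ω) (κ : ℕ) (hκ : Nat.Coprime κ (Nat.card G / p))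
    (hκ2 : κ ≡ 2 [MOD Nat.card (Subgroup.center G)]) (z : G) (hz : ¬ p ∣ orderOf z) :
    ζ z ^ 2 - ζ (z ^ 2) = ((p : ℂ) - 3) * ζ (z ^ κ) := by
  obtain ⟨A, hA⟩ := pm2dec3_mult_alt S κ hκ hκ2
  exact (pm2dec3_main S κ hκ hκ2 A hA).2 z hz

/-- DEC3 : and the multiplicity `A` is zero -/
theorem mult_alt_one (S : Setting p ζ x ω) (κ : ℕ) (hκ : Nat.Coprime κ (Nat.card G / p))
    (hκ2 : κ ≡ 2 [MOD Nat.card (Subgroup.center G)]) (k : ℕ) (hk : Nat.Coprime k (Nat.card G))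
    (hkκ : k ≡ κ [MOD Nat.card G / p]) (hk1 : k ≡ 1 [MOD p]) :
    Cfsg.classInner (altSq ζ) (pw ζ k) = 1 := by
  obtain ⟨A, hA⟩ := pm2dec3_mult_alt S κ hκ hκ2
  have hA0 := (pm2dec3_main S κ hκ hκ2 A hA).1
  rw [hA k hk hkκ, hA0, if_neg (pm2dec3_not_two S k hk1)]
  simp

end setting

end Cfsg.Agent.Lib.helper7.PM2
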