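import Mathlib
import Cfsg.Prelude.Def_Characters
import Cfsg.Prelude.Def_Blocks
import Cfsg.Agent.Lib.Helper25.CharLinear

/-!
# Brauer–Suzuki for `Q8`: the interface between the `C`-side and the `G`-side

`C` is (the type of) the centralizer of the involution `z`.  `CData M z` records the shape of the
principal 2-block of `C`:  `B₀(C) = {1, ψ₂, ψ₃, ψ₄, χ₁, χ₂, χ₃}` with `z ∈ ker ψ_j`,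
`χ_i z = - χ_i 1`, and on elements `y` of odd order
`s₁ χ₁ = 1 + ψ₂`, `s₂ χ₂ = 1 + ε ψ₃`, `s₃ χ₃ = ψ₂ + ε ψ₃`, `ψ₄ = 1 + ψ₂ + ε ψ₃`.
-/

set_option autoImplicit false

namespace Cfsg.Agent.Lib.Helper29.BSQ8

open Cfsg.Agent.Lib.Helper25

universe u

/-- The shape of the principal 2-block of the centralizer `C` of an involution `z`
in a group with quaternion Sylow 2-subgroups of order 8 (fused case). -/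
structure CData {C : Type u} [Group C] (M : Ideal Cfsg.AlgInt) (z : C) where
  ψ₂ : Cfsg.IrrCharacter C
  ψ₃ : Cfsg.IrrCharacter C
  ψ₄ : Cfsg.IrrCharacter C
  χ₁ : Cfsg.IrrCharacter C
  χ₂ : Cfsg.IrrCharacter C
  χ₃ : Cfsg.IrrCharacter C
  ε : ℤ
  s₁ : ℤ
  s₂ : ℤ
  s₃ : ℤ
  hε : ε = 1 ∨ ε = -1
  hs₁ : s₁ = 1 ∨ s₁ = -1
  hs₂ : s₂ = 1 ∨ s₂ = -1
  hs₃ : s₃ = 1 ∨ s₃ = -1
  nodup : [trivIrr C, ψ₂, ψ₃, ψ₄, χ₁, χ₂, χ₃].Nodup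
  block : ∀ χ : Cfsg.IrrCharacter C,
    χ ∈ Cfsg.principalBlock M C ↔ χ ∈ [trivIrr C, ψ₂, ψ₃, ψ₄, χ₁, χ₂, χ₃]
  ψ₂_z : (ψ₂ : C → ℂ) z = (ψ₂ : C → ℂ) 1
  ψ₃_z : (ψ₃ : C → ℂ) z = (ψ₃ : C → ℂ) 1
  ψ₄_z : (ψ₄ : C → ℂ) z = (ψ₄ : C → ℂ) 1
  χ₁_z : (χ₁ : C → ℂ) z = - (χ₁ : C → ℂ) 1
  χ₂_z : (χ₂ : C → ℂ) z = - (χ₂ : C → ℂ) 1
  χ₃_z : (χ₃ : C → ℂ) z = - (χ₃ : C → ℂ) 1
  odd₁ : ∀ y : C, Odd (orderOf y) →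
    1 + (ψ₂ : C → ℂ) y - (s₁ : ℂ) * (χ₁ : C → ℂ) y = 0
  odd₂ : ∀ y : C, Odd (orderOf y) →
    1 + (ε : ℂ) * (ψ₃ : C → ℂ) y - (s₂ : ℂ) * (χ₂ : C → ℂ) y = 0
  odd₃ : ∀ y : C, Odd (orderOf y) →
    (ψ₂ : C → ℂ) y + (ε : ℂ) * (ψ₃ : C → ℂ) y - (s₃ : ℂ) * (χ₃ : C → ℂ) y = 0
  odd₄ : ∀ y : C, Odd (orderOf y) →
    1 + (ψ₂ : C → ℂ) y + (ε : ℂ) * (ψ₃ : C → ℂ) y - (ψ₄ : C → ℂ) y = 0

end Cfsg.Agent.Lib.Helper29.BSQ8
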