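import Mathlib
import Cfsg.Prelude.Def_Characters
import Cfsg.Agent.Lib.helper7.BSCore
import Cfsg.Agent.Lib.Helper1.FrobeniusThm

/-!
# Generalized characters of norm 3 and auxiliary inner-product lemmas
(for the `Q8` case of the Brauer–Suzuki theorem)
-/

set_option autoImplicit false
open scoped ComplexConjugate

namespace Cfsg.Agent.Lib.Helper29.BSQ8

open Cfsg.Agent.Lib.helper7 Cfsg.Agent.Lib.Helper25 Cfsg.Agent.Lib.helper2

universe u

section
variable {G : Type u} [Group G]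

theorem q8_genChar_indFun [Fintype G] (H : Subgroup G) (θ : H → ℂ)
    (hθ : Cfsg.IsGeneralizedCharacter H θ) :
    Cfsg.IsGeneralizedCharacter G (Cfsg.indFun H θ) := by
  obtain ⟨χ, ψ, hχ, hψ, rfl⟩ := hθ
  rw [Cfsg.Agent.Lib.Helper1.indFun_sub]
  exact ⟨_, _, Cfsg.Agent.S0148.result H χ hχ, Cfsg.Agent.S0148.result H ψ hψ, rfl⟩

theorem q8_triv_norm [Fintype G] :
    Cfsg.classInner (fun _ : G => (1 : ℂ)) (fun _ : G => (1 : ℂ)) = 1 := by
  have := irr_classInner (trivIrr G) (trivIrr G)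
  rw [if_pos rfl] at this
  exact this

/-- A generalized character of norm 3 containing the trivial character once and vanishing at 1
is `1 + P - Q` with `Q 1 = P 1 + 1`. -/
theorem q8_norm3_decomp [Fintype G] (Θ : G → ℂ) (hΘgen : Cfsg.IsGeneralizedCharacter G Θ)
    (hnorm : Cfsg.classInner Θ Θ = 3) (hone : Cfsg.classInner Θ (fun _ => (1 : ℂ)) = 1)
    (hΘ1 : Θ 1 = 0) :
    ∃ P Q : Cfsg.IrrCharacter G, P ≠ trivIrr G ∧ Q ≠ trivIrr G ∧ P ≠ Q ∧
      (Q : G → ℂ) 1 = (P : G → ℂ) 1 + 1 ∧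
      ∀ g, Θ g = 1 + (P : G → ℂ) g - (Q : G → ℂ) g := by
  classical
  set φ : G → ℂ := Θ - (trivIrr G : G → ℂ) with hφ
  have hφgen : Cfsg.IsGeneralizedCharacter G φ :=
    Cfsg.Agent.Lib.Helper11.genChar_sub hΘgen
      ⟨_, 0, isCharacter_of_irr (trivIrr G), isCharacter_zero G, by simp⟩
  have htriv : (trivIrr G : G → ℂ) = fun _ => (1 : ℂ) := rfl
  have hone' : Cfsg.classInner (fun _ : G => (1 : ℂ)) Θ = 1 := by
    rw [Cfsg.Agent.Lib.Helper25.classInner_conj_symm, hone, map_one]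
  have hφnorm : Cfsg.classInner φ φ = 2 := by
    rw [hφ, Cfsg.Agent.Lib.Helper25.classInner_sub_left,
      Cfsg.Agent.Lib.Helper11.classInner_sub_right'',
      Cfsg.Agent.Lib.Helper11.classInner_sub_right'', hnorm, htriv, hone, hone', q8_triv_norm]
    norm_num
  obtain ⟨η₁, η₂, c₁, c₂, hne, hc₁, hc₂, hsum⟩ := h7_genChar_norm_two φ hφgen hφnorm
  have hφtriv : Cfsg.classInner φ (fun _ => (1 : ℂ)) = 0 := by
    rw [hφ, Cfsg.Agent.Lib.Helper25.classInner_sub_left, hone, htriv, q8_triv_norm, sub_self]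
  have hexpand : Cfsg.classInner φ (fun _ => (1 : ℂ)) =
      (c₁ : ℂ) * (if η₁ = trivIrr G then 1 else 0) +
        (c₂ : ℂ) * (if η₂ = trivIrr G then 1 else 0) := by
    rw [hsum, Cfsg.Agent.Lib.Helper25.classInner_add_left,
      Cfsg.Agent.Lib.Helper25.classInner_smul_left, Cfsg.Agent.Lib.Helper25.classInner_smul_left,
      h7_classInner_irr_triv, h7_classInner_irr_triv]
  have hc₁ne : (c₁ : ℂ) ≠ 0 := by
    rcases hc₁ with h | h <;> rw [h] <;> norm_num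
  have hc₂ne : (c₂ : ℂ) ≠ 0 := by
    rcases hc₂ with h | h <;> rw [h] <;> norm_num
  have hη₁ : η₁ ≠ trivIrr G := by
    intro h
    have h2 : η₂ ≠ trivIrr G := fun h' => hne (h.trans h'.symm)
    rw [hφtriv, if_pos h, if_neg h2] at hexpand
    apply hc₁ne
    linear_combination -hexpand
  have hη₂ : η₂ ≠ trivIrr G := by
    intro h
    rw [hφtriv, if_neg hη₁, if_pos h] at hexpand
    apply hc₂ne
    linear_combination -hexpand
  obtain ⟨d₁, hd₁, he₁⟩ := irr_one_eq_finrank η₁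
  obtain ⟨d₂, hd₂, he₂⟩ := irr_one_eq_finrank η₂
  have hval : (c₁ : ℤ) * d₁ + c₂ * d₂ = -1 := by
    have h := congrFun hsum 1
    rw [hφ] at h
    simp only [Pi.sub_apply, Pi.add_apply, Pi.smul_apply, smul_eq_mul, he₁, he₂, hΘ1,
      trivIrr_apply] at h
    have : (((c₁ : ℤ) * d₁ + c₂ * d₂ : ℤ) : ℂ) = ((-1 : ℤ) : ℂ) := by
      push_cast
      rw [← h]
      ring
    exact_mod_cast this
  have hd₁' : (0 : ℤ) < d₁ := by exact_mod_cast hd₁
  have hd₂' : (0 : ℤ) < d₂ := by exact_mod_cast hd₂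
  have hΘeq : ∀ g, Θ g = 1 + ((c₁ : ℂ) * (η₁ : G → ℂ) g + (c₂ : ℂ) * (η₂ : G → ℂ) g) := by
    intro g
    have h := congrFun hsum g
    rw [hφ] at h
    simp only [Pi.sub_apply, Pi.add_apply, Pi.smul_apply, smul_eq_mul, trivIrr_apply] at h
    linear_combination h
  rcases hc₁ with e1 | e1 <;> rcases hc₂ with e2 | e2
  · rw [e1, e2] at hval; omega
  · refine ⟨η₁, η₂, hη₁, hη₂, hne, ?_, ?_⟩
    · rw [he₁, he₂]
      rw [e1, e2] at hval
      have : (d₂ : ℤ) = d₁ + 1 := by omega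
      exact_mod_cast this
    · intro g
      rw [hΘeq g, e1, e2]
      push_cast
      ring
  · refine ⟨η₂, η₁, hη₂, hη₁, Ne.symm hne, ?_, ?_⟩
    · rw [he₁, he₂]
      rw [e1, e2] at hval
      have : (d₁ : ℤ) = d₂ + 1 := by omega
      exact_mod_cast this
    · intro g
      rw [hΘeq g, e1, e2]
      push_cast
      ring
  · rw [e1, e2] at hval; omega

/-- Inner product of `1 + P - Q` with an irreducible character. -/
theorem q8_inner_decomp [Fintype G] (T : G → ℂ) (P Q : Cfsg.IrrCharacter G)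
    (hT : ∀ g, T g = 1 + (P : G → ℂ) g - (Q : G → ℂ) g) (η : Cfsg.IrrCharacter G) :
    Cfsg.classInner T (η : G → ℂ) = (if trivIrr G = η then 1 else 0) +
      (if P = η then 1 else 0) - (if Q = η then 1 else 0) := by
  have hT' : T = (trivIrr G : G → ℂ) + (P : G → ℂ) - (Q : G → ℂ) := by
    funext g
    rw [hT g]
    rfl
  rw [hT', Cfsg.Agent.Lib.Helper25.classInner_sub_left,
    Cfsg.Agent.Lib.Helper25.classInner_add_left, irr_classInner, irr_classInner, irr_classInner]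

/-- Inner product of an irreducible character with `1 + P - Q`. -/
theorem q8_inner_decomp' [Fintype G] (T : G → ℂ) (P Q : Cfsg.IrrCharacter G)
    (hT : ∀ g, T g = 1 + (P : G → ℂ) g - (Q : G → ℂ) g) (η : Cfsg.IrrCharacter G) :
    Cfsg.classInner (η : G → ℂ) T = (if trivIrr G = η then 1 else 0) +
      (if P = η then 1 else 0) - (if Q = η then 1 else 0) := by
  rw [Cfsg.Agent.Lib.Helper25.classInner_conj_symm, q8_inner_decomp T P Q hT η]
  split_ifs <;> simp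

/-- If `T₁ = 1 + P₁ - Q₁` and `T₂ = 1 + P₂ - Q₂` have inner product 1 then `P₁` and `Q₁`
are not constituents of `T₂`. -/
theorem q8_decomp_ortho [Fintype G] (T₁ T₂ : G → ℂ) (P₁ Q₁ P₂ Q₂ : Cfsg.IrrCharacter G)
    (hT₁ : ∀ g, T₁ g = 1 + (P₁ : G → ℂ) g - (Q₁ : G → ℂ) g)
    (hT₂ : ∀ g, T₂ g = 1 + (P₂ : G → ℂ) g - (Q₂ : G → ℂ) g)
    (hP₁ : P₁ ≠ trivIrr G) (hQ₁ : Q₁ ≠ trivIrr G) (hPQ₁ : P₁ ≠ Q₁)
    (hP₂ : P₂ ≠ trivIrr G) (hQ₂ : Q₂ ≠ trivIrr G) (hPQ₂ : P₂ ≠ Q₂)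
    (h12 : Cfsg.classInner T₁ T₂ = 1) :
    Cfsg.classInner T₂ (P₁ : G → ℂ) = 0 ∧ Cfsg.classInner T₂ (Q₁ : G → ℂ) = 0 := by
  have hT₁' : T₁ = (trivIrr G : G → ℂ) + (P₁ : G → ℂ) - (Q₁ : G → ℂ) := by
    funext g
    rw [hT₁ g]
    rfl
  have key : Cfsg.classInner T₁ T₂ =
      Cfsg.classInner (trivIrr G : G → ℂ) T₂ + Cfsg.classInner (P₁ : G → ℂ) T₂ -
        Cfsg.classInner (Q₁ : G → ℂ) T₂ := by
    rw [hT₁', Cfsg.Agent.Lib.Helper25.classInner_sub_left,
      Cfsg.Agent.Lib.Helper25.classInner_add_left]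
  rw [h12, q8_inner_decomp' T₂ P₂ Q₂ hT₂, q8_inner_decomp' T₂ P₂ Q₂ hT₂,
    q8_inner_decomp' T₂ P₂ Q₂ hT₂] at key
  rw [q8_inner_decomp T₂ P₂ Q₂ hT₂, q8_inner_decomp T₂ P₂ Q₂ hT₂]
  rw [if_pos rfl, if_neg hP₂, if_neg hQ₂, if_neg (Ne.symm hP₁), if_neg (Ne.symm hQ₁)] at key
  rw [if_neg (Ne.symm hP₁), if_neg (Ne.symm hQ₁)]
  by_cases h1 : P₂ = P₁
  · have h2 : ¬ Q₂ = P₁ := fun h => hPQ₂ (h1.trans h.symm)
    have h3 : ¬ P₂ = Q₁ := fun h => hPQ₁ (h1.symm.trans h)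
    rw [if_pos h1, if_neg h2, if_neg h3] at key
    exfalso
    by_cases h4 : Q₂ = Q₁
    · rw [if_pos h4] at key
      norm_num at key
    · rw [if_neg h4] at key
      norm_num at key
  · by_cases h2 : Q₂ = P₁
    · have h4 : ¬ Q₂ = Q₁ := fun h => hPQ₁ (h2.symm.trans h)
      rw [if_neg h1, if_pos h2, if_neg h4] at key
      exfalso
      by_cases h3 : P₂ = Q₁
      · rw [if_pos h3] at key
        norm_num at key
      · rw [if_neg h3] at key
        norm_num at key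
    · rw [if_neg h1, if_neg h2] at key ⊢
      refine ⟨by norm_num, ?_⟩
      by_cases h3 : P₂ = Q₁
      · have h4 : ¬ Q₂ = Q₁ := fun h => hPQ₂ (h3.trans h.symm)
        rw [if_pos h3, if_neg h4] at key
        norm_num at key
      · rw [if_neg h3] at key ⊢
        by_cases h4 : Q₂ = Q₁
        · rw [if_pos h4] at key
          norm_num at key
        · rw [if_neg h4]
          norm_num

/-- Bessel's inequality for three distinct irreducible constituents of a generalized character. -/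
theorem q8_bessel3 [Fintype G] (Θ : G → ℂ) (hΘ : Cfsg.IsGeneralizedCharacter G Θ) (N : ℤ)
    (hN : Cfsg.classInner Θ Θ = (N : ℂ)) (η₁ η₂ η₃ : Cfsg.IrrCharacter G)
    (h12 : η₁ ≠ η₂) (h13 : η₁ ≠ η₃) (h23 : η₂ ≠ η₃) (a₁ a₂ a₃ : ℤ)
    (h1 : Cfsg.classInner Θ (η₁ : G → ℂ) = (a₁ : ℂ))
    (h2 : Cfsg.classInner Θ (η₂ : G → ℂ) = (a₂ : ℂ))
    (h3 : Cfsg.classInner Θ (η₃ : G → ℂ) = (a₃ : ℂ)) :
    a₁ * a₁ + a₂ * a₂ + a₃ * a₃ ≤ N := by
  classical
  have : Fintype (Cfsg.IrrCharacter G) := Fintype.ofFinite _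
  have hcl := Cfsg.Agent.Lib.Helper11.genChar_classFunction Θ hΘ
  have hc := fun η => Cfsg.Agent.Lib.Helper11.genChar_inner_int Θ hΘ η
  choose c hc using hc
  have hpar := classInner_parseval Θ hcl
  rw [hN] at hpar
  simp only [hc, map_intCast] at hpar
  have hpar' : ∑ η : Cfsg.IrrCharacter G, c η * c η = N := by
    have : ((∑ η : Cfsg.IrrCharacter G, c η * c η : ℤ) : ℂ) = (N : ℂ) := by
      rw [hpar]
      push_cast
      rfl
    exact_mod_cast this
  have e1 : c η₁ = a₁ := by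
    have := (hc η₁).symm.trans h1
    exact_mod_cast this
  have e2 : c η₂ = a₂ := by
    have := (hc η₂).symm.trans h2
    exact_mod_cast this
  have e3 : c η₃ = a₃ := by
    have := (hc η₃).symm.trans h3
    exact_mod_cast this
  have hsub : ∑ η ∈ ({η₁, η₂, η₃} : Finset (Cfsg.IrrCharacter G)), c η * c η ≤
      ∑ η : Cfsg.IrrCharacter G, c η * c η :=
    Finset.sum_le_sum_of_subset_of_nonneg (Finset.subset_univ _)
      (fun i _ _ => mul_self_nonneg _)
  rw [Finset.sum_insert (by simp [h12, h13]), Finset.sum_insert (by simp [h23]),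
    Finset.sum_singleton, e1, e2, e3, hpar'] at hsub
  linarith

end

end Cfsg.Agent.Lib.Helper29.BSQ8
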