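import Mathlib
import Cfsg.Agent.Lib.Helper29.BSQ8Spec
import Cfsg.Agent.Lib.Helper29.BSQ8Norm3

/-!
# The four generalized characters of norm 3 attached to `CData`
-/

set_option autoImplicit false
open scoped ComplexConjugate

namespace Cfsg.Agent.Lib.Helper29.BSQ8

open Cfsg.Agent.Lib.helper7 Cfsg.Agent.Lib.Helper25 Cfsg.Agent.Lib.helper2

universe u

section Comb
variable {C : Type u} [Group C] [Fintype C]

/-- integer combination of a family of irreducible characters -/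
noncomputable def q8comb {n : ℕ} (e : Fin n → Cfsg.IrrCharacter C) (a : Fin n → ℤ) : C → ℂ :=
  ∑ i, (a i : ℂ) • (e i : C → ℂ)

theorem q8comb_apply {n : ℕ} (e : Fin n → Cfsg.IrrCharacter C) (a : Fin n → ℤ) (c : C) :
    q8comb e a c = ∑ i, (a i : ℂ) * (e i : C → ℂ) c := by
  unfold q8comb
  rw [Finset.sum_apply]
  rfl

theorem q8comb_inner {n : ℕ} (e : Fin n → Cfsg.IrrCharacter C) (he : Function.Injective e)
    (a b : Fin n → ℤ) :
    Cfsg.classInner (q8comb e a) (q8comb e b) = ((∑ i, a i * b i : ℤ) : ℂ) := by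
  classical
  unfold q8comb
  rw [classInner_sum_left]
  push_cast
  refine Finset.sum_congr rfl fun i _ => ?_
  rw [classInner_smul_left, h7_classInner_sum_right]
  rw [Finset.sum_eq_single i]
  · rw [h7_classInner_smul_right, irr_classInner, if_pos rfl]
    simp
  · intro j _ hji
    rw [h7_classInner_smul_right, irr_classInner, if_neg (fun h => hji (he h).symm), mul_zero]
  · intro h
    exact absurd (Finset.mem_univ i) h

theorem q8comb_inner_irr {n : ℕ} (e : Fin n → Cfsg.IrrCharacter C) (he : Function.Injective e)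
    (a : Fin n → ℤ) (j : Fin n) :
    Cfsg.classInner (q8comb e a) (e j : C → ℂ) = (a j : ℂ) := by
  classical
  unfold q8comb
  rw [classInner_sum_left, Finset.sum_eq_single j]
  · rw [classInner_smul_left, irr_classInner, if_pos rfl, mul_one]
  · intro i _ hij
    rw [classInner_smul_left, irr_classInner, if_neg (fun h => hij (he h)), mul_zero]
  · intro h
    exact absurd (Finset.mem_univ j) h

theorem q8comb_genChar {n : ℕ} (e : Fin n → Cfsg.IrrCharacter C) (a : Fin n → ℤ) :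
    Cfsg.IsGeneralizedCharacter C (q8comb e a) := by
  unfold q8comb
  apply Cfsg.Agent.Lib.Helper11.genChar_sum
  intro i _
  have h1 : Cfsg.IsGeneralizedCharacter C (e i : C → ℂ) :=
    ⟨_, 0, isCharacter_of_irr (e i), isCharacter_zero C, by simp⟩
  have h2 := Cfsg.Agent.Lib.Helper11.genChar_zsmul (a i) h1
  have h3 : (a i : ℂ) • (e i : C → ℂ) = a i • (e i : C → ℂ) := by
    funext c
    simp
  rw [h3]
  exact h2

end Comb

section Data
variable {C : Type u} [Group C] {M : Ideal Cfsg.AlgInt} {z : C} (D : CData M z)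

/-- the seven characters of the principal block as a family -/
noncomputable def CData.e : Fin 7 → Cfsg.IrrCharacter C :=
  ![trivIrr C, D.ψ₂, D.ψ₃, D.ψ₄, D.χ₁, D.χ₂, D.χ₃]

theorem CData.e_injective : Function.Injective D.e := by
  rw [← List.nodup_ofFn]
  have : List.ofFn D.e = [trivIrr C, D.ψ₂, D.ψ₃, D.ψ₄, D.χ₁, D.χ₂, D.χ₃] := by
    simp [CData.e, List.ofFn_succ]
  rw [this]
  exact D.nodup

def CData.a₁ : Fin 7 → ℤ := ![1, 1, 0, 0, -D.s₁, 0, 0]
def CData.a₂ : Fin 7 → ℤ := ![1, 0, D.ε, 0, 0, -D.s₂, 0]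
def CData.a₃ : Fin 7 → ℤ := ![0, 1, D.ε, 0, 0, 0, -D.s₃]
def CData.a₄ : Fin 7 → ℤ := ![1, 0, 0, -1, 0, 0, D.s₃]

/-- `β₁ = 1 + ψ₂ - s₁ χ₁` -/
noncomputable def CData.β₁ [Fintype C] : C → ℂ := q8comb D.e D.a₁
/-- `β₂ = 1 + ε ψ₃ - s₂ χ₂` -/
noncomputable def CData.β₂ [Fintype C] : C → ℂ := q8comb D.e D.a₂
/-- `β₃ = ψ₂ + ε ψ₃ - s₃ χ₃` -/
noncomputable def CData.β₃ [Fintype C] : C → ℂ := q8comb D.e D.a₃
/-- `γ = 1 - ψ₄ + s₃ χ₃` -/
noncomputable def CData.γ [Fintype C] : C → ℂ := q8comb D.e D.a₄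

variable [Fintype C]

theorem CData.β₁_apply (c : C) :
    D.β₁ c = 1 + (D.ψ₂ : C → ℂ) c - (D.s₁ : ℂ) * (D.χ₁ : C → ℂ) c := by
  unfold CData.β₁
  rw [q8comb_apply, Fin.sum_univ_seven]
  simp [CData.e, CData.a₁]
  ring

theorem CData.β₂_apply (c : C) :
    D.β₂ c = 1 + (D.ε : ℂ) * (D.ψ₃ : C → ℂ) c - (D.s₂ : ℂ) * (D.χ₂ : C → ℂ) c := by
  unfold CData.β₂
  rw [q8comb_apply, Fin.sum_univ_seven]
  simp [CData.e, CData.a₂]
  ring

theorem CData.β₃_apply (c : C) :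
    D.β₃ c = (D.ψ₂ : C → ℂ) c + (D.ε : ℂ) * (D.ψ₃ : C → ℂ) c -
      (D.s₃ : ℂ) * (D.χ₃ : C → ℂ) c := by
  unfold CData.β₃
  rw [q8comb_apply, Fin.sum_univ_seven]
  simp [CData.e, CData.a₃]
  ring

theorem CData.γ_apply (c : C) :
    D.γ c = 1 - (D.ψ₄ : C → ℂ) c + (D.s₃ : ℂ) * (D.χ₃ : C → ℂ) c := by
  unfold CData.γ
  rw [q8comb_apply, Fin.sum_univ_seven]
  simp [CData.e, CData.a₄]
  ring

theorem CData.β₁_odd (y : C) (hy : Odd (orderOf y)) : D.β₁ y = 0 := by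
  rw [D.β₁_apply]; exact D.odd₁ y hy
theorem CData.β₂_odd (y : C) (hy : Odd (orderOf y)) : D.β₂ y = 0 := by
  rw [D.β₂_apply]; exact D.odd₂ y hy
theorem CData.β₃_odd (y : C) (hy : Odd (orderOf y)) : D.β₃ y = 0 := by
  rw [D.β₃_apply]; exact D.odd₃ y hy
theorem CData.γ_odd (y : C) (hy : Odd (orderOf y)) : D.γ y = 0 := by
  rw [D.γ_apply]
  linear_combination D.odd₄ y hy - D.odd₃ y hy

theorem CData.ε_sq : D.ε * D.ε = 1 := by rcases D.hε with h | h <;> rw [h] <;> norm_num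
theorem CData.s₁_sq : D.s₁ * D.s₁ = 1 := by rcases D.hs₁ with h | h <;> rw [h] <;> norm_num
theorem CData.s₂_sq : D.s₂ * D.s₂ = 1 := by rcases D.hs₂ with h | h <;> rw [h] <;> norm_num
theorem CData.s₃_sq : D.s₃ * D.s₃ = 1 := by rcases D.hs₃ with h | h <;> rw [h] <;> norm_num

theorem CData.gram (a b : Fin 7 → ℤ) :
    Cfsg.classInner (q8comb D.e a) (q8comb D.e b) =
      ((a 0 * b 0 + a 1 * b 1 + a 2 * b 2 + a 3 * b 3 + a 4 * b 4 + a 5 * b 5 + a 6 * b 6 : ℤ) : ℂ) := by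
  rw [q8comb_inner D.e D.e_injective, Fin.sum_univ_seven]

theorem CData.gram' (a b : Fin 7 → ℤ) (k : ℤ)
    (h : a 0 * b 0 + a 1 * b 1 + a 2 * b 2 + a 3 * b 3 + a 4 * b 4 + a 5 * b 5 + a 6 * b 6 = k) :
    Cfsg.classInner (q8comb D.e a) (q8comb D.e b) = (k : ℂ) := by
  rw [D.gram, h]

theorem CData.β₁β₁ : Cfsg.classInner D.β₁ D.β₁ = 3 := by
  have := D.gram' D.a₁ D.a₁ 3 (by simp [CData.a₁]; linarith [D.s₁_sq])
  simpa [CData.β₁] using this

theorem CData.β₂β₂ : Cfsg.classInner D.β₂ D.β₂ = 3 := by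
  have := D.gram' D.a₂ D.a₂ 3 (by simp [CData.a₂]; linarith [D.s₂_sq, D.ε_sq])
  simpa [CData.β₂] using this

theorem CData.β₃β₃ : Cfsg.classInner D.β₃ D.β₃ = 3 := by
  have := D.gram' D.a₃ D.a₃ 3 (by simp [CData.a₃]; linarith [D.s₃_sq, D.ε_sq])
  simpa [CData.β₃] using this

theorem CData.γγ : Cfsg.classInner D.γ D.γ = 3 := by
  have := D.gram' D.a₄ D.a₄ 3 (by simp [CData.a₄]; linarith [D.s₃_sq])
  simpa [CData.γ] using this

theorem CData.β₁β₂ : Cfsg.classInner D.β₁ D.β₂ = 1 := by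
  have := D.gram' D.a₁ D.a₂ 1 (by simp [CData.a₁, CData.a₂])
  simpa [CData.β₁, CData.β₂] using this

theorem CData.β₁γ : Cfsg.classInner D.β₁ D.γ = 1 := by
  have := D.gram' D.a₁ D.a₄ 1 (by simp [CData.a₁, CData.a₄])
  simpa [CData.β₁, CData.γ] using this

theorem CData.β₁β₃ : Cfsg.classInner D.β₁ D.β₃ = 1 := by
  have := D.gram' D.a₁ D.a₃ 1 (by simp [CData.a₁, CData.a₃])
  simpa [CData.β₁, CData.β₃] using this

theorem CData.β₃γ : Cfsg.classInner D.β₃ D.γ = -1 := by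
  have := D.gram' D.a₃ D.a₄ (-1) (by simp [CData.a₃, CData.a₄]; linarith [D.s₃_sq])
  simpa [CData.β₃, CData.γ] using this

theorem CData.γβ₃ : Cfsg.classInner D.γ D.β₃ = -1 := by
  have := D.gram' D.a₄ D.a₃ (-1) (by simp [CData.a₃, CData.a₄]; linarith [D.s₃_sq])
  simpa [CData.β₃, CData.γ] using this

theorem CData.inner_triv (a : Fin 7 → ℤ) :
    Cfsg.classInner (q8comb D.e a) (fun _ : C => (1 : ℂ)) = (a 0 : ℂ) :=
  q8comb_inner_irr D.e D.e_injective a 0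

theorem CData.β₁_triv : Cfsg.classInner D.β₁ (fun _ : C => (1 : ℂ)) = 1 := by
  have := D.inner_triv D.a₁
  simpa [CData.β₁, CData.a₁] using this

theorem CData.β₂_triv : Cfsg.classInner D.β₂ (fun _ : C => (1 : ℂ)) = 1 := by
  have := D.inner_triv D.a₂
  simpa [CData.β₂, CData.a₂] using this

theorem CData.β₃_triv : Cfsg.classInner D.β₃ (fun _ : C => (1 : ℂ)) = 0 := by
  have := D.inner_triv D.a₃
  simpa [CData.β₃, CData.a₃] using this

theorem CData.γ_triv : Cfsg.classInner D.γ (fun _ : C => (1 : ℂ)) = 1 := by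
  have := D.inner_triv D.a₄
  simpa [CData.γ, CData.a₄] using this

theorem CData.β₁_gen : Cfsg.IsGeneralizedCharacter C D.β₁ := q8comb_genChar _ _
theorem CData.β₂_gen : Cfsg.IsGeneralizedCharacter C D.β₂ := q8comb_genChar _ _
theorem CData.β₃_gen : Cfsg.IsGeneralizedCharacter C D.β₃ := q8comb_genChar _ _
theorem CData.γ_gen : Cfsg.IsGeneralizedCharacter C D.γ := q8comb_genChar _ _

end Data

end Cfsg.Agent.Lib.Helper29.BSQ8
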