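import Mathlib
import Cfsg.Agent.Lib.Helper29.BSQ8CFun
import Cfsg.Agent.Lib.helper7.BSInvol

/-!
# TI-induction from the centralizer of the involution (Brauer–Suzuki, `Q8` case)
-/

set_option autoImplicit false
open scoped ComplexConjugate

namespace Cfsg.Agent.Lib.Helper29.BSQ8

open Cfsg.Agent.Lib.helper7 Cfsg.Agent.Lib.Helper25 Cfsg.Agent.Lib.helper2

universe u

section TI
variable {G : Type u} [Group G]

/-- the 2-singular elements of the centralizer of `z` -/
def q8X (z : G) : Set G := {g | g ∈ Subgroup.centralizer ({z} : Set G) ∧ 2 ∣ orderOf g}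

theorem q8_orderOf_conj (g x : G) : orderOf (g * x * g⁻¹) = orderOf x := by
  have : g * x * g⁻¹ = MulAut.conj g x := by simp
  rw [this, MulEquiv.orderOf_eq]

theorem q8_TI [Finite G] (z : G)
    (huniq : ∀ t ∈ Subgroup.centralizer ({z} : Set G), orderOf t = 2 → t = z) :
    ∀ g : G, g ∉ Subgroup.centralizer ({z} : Set G) → ∀ s ∈ q8X z, g * s * g⁻¹ ∉ q8X z := by
  rintro g hg s ⟨hsC, hs2⟩ ⟨hgsC, -⟩
  set m := orderOf s / 2 with hm
  have h1 : orderOf (s ^ m) = 2 := orderOf_pow_orderOf_div (orderOf_pos s).ne' hs2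
  have h2 : s ^ m = z := huniq _ (pow_mem hsC m) h1
  have h4 : (g * s * g⁻¹) ^ m = g * s ^ m * g⁻¹ := conj_pow
  have h5 : orderOf ((g * s * g⁻¹) ^ m) = 2 := by rw [h4, q8_orderOf_conj, h1]
  have h6 := huniq _ (pow_mem hgsC m) h5
  rw [h4, h2] at h6
  apply hg
  rw [Subgroup.mem_centralizer_singleton_iff]
  calc g * z = (g * z * g⁻¹) * g := by group
    _ = z * g := by rw [h6]

variable [Fintype G] (z : G) [Fintype (Subgroup.centralizer ({z} : Set G))]

/-- a function on the centralizer vanishing on elements of odd order vanishes off `q8X` -/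
theorem q8_offX (β : Subgroup.centralizer ({z} : Set G) → ℂ)
    (hβ : ∀ y : Subgroup.centralizer ({z} : Set G), Odd (orderOf y) → β y = 0) :
    ∀ x : Subgroup.centralizer ({z} : Set G), (x : G) ∉ q8X z → β x = 0 := by
  intro x hx
  apply hβ
  rw [← Nat.not_even_iff_odd, even_iff_two_dvd, ← Subgroup.orderOf_coe]
  intro h
  exact hx ⟨x.2, h⟩

theorem q8_ind_odd (β : Subgroup.centralizer ({z} : Set G) → ℂ)
    (hβ : ∀ y : Subgroup.centralizer ({z} : Set G), Odd (orderOf y) → β y = 0)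
    (g : G) (hg : Odd (orderOf g)) :
    Cfsg.indFun (Subgroup.centralizer ({z} : Set G)) β g = 0 := by
  by_contra hne
  obtain ⟨x, hx⟩ := h7_ti_indFun_support (Subgroup.centralizer ({z} : Set G)) (q8X z) β
    (q8_offX z β hβ) g hne
  have h1 : orderOf (x⁻¹ * g * x) = orderOf g := by
    have := q8_orderOf_conj x⁻¹ g
    rwa [inv_inv] at this
  have h2 := hx.2
  rw [h1] at h2
  exact (Nat.not_even_iff_odd.mpr hg) (even_iff_two_dvd.mpr h2)

theorem q8_ind_at_z (hz : orderOf z = 2)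
    (huniq : ∀ t ∈ Subgroup.centralizer ({z} : Set G), orderOf t = 2 → t = z)
    (β : Subgroup.centralizer ({z} : Set G) → ℂ)
    (hβcl : Cfsg.IsClassFunction (Subgroup.centralizer ({z} : Set G)) β)
    (hβ : ∀ y : Subgroup.centralizer ({z} : Set G), Odd (orderOf y) → β y = 0) :
    Cfsg.indFun (Subgroup.centralizer ({z} : Set G)) β z =
      β ⟨z, Subgroup.mem_centralizer_singleton_iff.mpr rfl⟩ := by
  have hzX : ((⟨z, Subgroup.mem_centralizer_singleton_iff.mpr rfl⟩ :
      Subgroup.centralizer ({z} : Set G)) : G) ∈ q8X z :=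
    ⟨Subgroup.mem_centralizer_singleton_iff.mpr rfl, by rw [hz]⟩
  exact h7_ti_indFun_apply (Subgroup.centralizer ({z} : Set G)) (q8X z) (q8_TI z huniq) β hβcl
    (q8_offX z β hβ) ⟨z, Subgroup.mem_centralizer_singleton_iff.mpr rfl⟩ hzX

theorem q8_ind_inner
    (huniq : ∀ t ∈ Subgroup.centralizer ({z} : Set G), orderOf t = 2 → t = z)
    (β β' : Subgroup.centralizer ({z} : Set G) → ℂ)
    (hβ'cl : Cfsg.IsClassFunction (Subgroup.centralizer ({z} : Set G)) β')
    (hβ : ∀ y : Subgroup.centralizer ({z} : Set G), Odd (orderOf y) → β y = 0)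
    (hβ' : ∀ y : Subgroup.centralizer ({z} : Set G), Odd (orderOf y) → β' y = 0) :
    Cfsg.classInner (Cfsg.indFun (Subgroup.centralizer ({z} : Set G)) β)
      (Cfsg.indFun (Subgroup.centralizer ({z} : Set G)) β') = Cfsg.classInner β β' :=
  h7_ti_isometry (Subgroup.centralizer ({z} : Set G)) (q8X z) (q8_TI z huniq) β β' hβ'cl
    (q8_offX z β hβ) (q8_offX z β' hβ')

theorem q8_ind_triv (β : Subgroup.centralizer ({z} : Set G) → ℂ) :
    Cfsg.classInner (Cfsg.indFun (Subgroup.centralizer ({z} : Set G)) β) (fun _ => (1 : ℂ)) =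
      Cfsg.classInner β (fun _ => (1 : ℂ)) :=
  h7_frobenius_reciprocity (Subgroup.centralizer ({z} : Set G)) β _ (fun _ _ => rfl)

theorem q8_ind_one (β : Subgroup.centralizer ({z} : Set G) → ℂ)
    (hβ : ∀ y : Subgroup.centralizer ({z} : Set G), Odd (orderOf y) → β y = 0) :
    Cfsg.indFun (Subgroup.centralizer ({z} : Set G)) β 1 = 0 := by
  rw [h7_indFun_one, hβ 1 (by simp), mul_zero]

end TI

section Pair
variable {G : Type u} [Group G] [Fintype G]

/-- The pair-sum relation: a generalized character `1 + P - Q` vanishing on all products of two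
conjugates of `z` satisfies `1 + P(z)²/P(1) - Q(z)²/Q(1) = 0`. -/
theorem q8_pair_relation (z : G) (T : G → ℂ) (P Q : Cfsg.IrrCharacter G)
    (hT : ∀ g, T g = 1 + (P : G → ℂ) g - (Q : G → ℂ) g)
    (hTodd : ∀ g, Odd (orderOf g) → T g = 0)
    (hprod : ∀ a b : G, IsConj z a → IsConj z b → Odd (orderOf (a * b))) :
    1 + (P : G → ℂ) z * (P : G → ℂ) z / (P : G → ℂ) 1 -
      (Q : G → ℂ) z * (Q : G → ℂ) z / (Q : G → ℂ) 1 = 0 := by
  classical
  have key : ∑ p : G × G, (if IsConj z p.1 ∧ IsConj z p.2 then T (p.1 * p.2) else 0) = 0 := by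
    apply Finset.sum_eq_zero
    intro p _
    split_ifs with h
    · exact hTodd _ (hprod _ _ h.1 h.2)
    · rfl
  have hsplit : ∑ p : G × G, (if IsConj z p.1 ∧ IsConj z p.2 then T (p.1 * p.2) else 0) =
      ∑ p : G × G, (if IsConj z p.1 ∧ IsConj z p.2 then (trivIrr G : G → ℂ) (p.1 * p.2) else 0) +
      ∑ p : G × G, (if IsConj z p.1 ∧ IsConj z p.2 then (P : G → ℂ) (p.1 * p.2) else 0) -
      ∑ p : G × G, (if IsConj z p.1 ∧ IsConj z p.2 then (Q : G → ℂ) (p.1 * p.2) else 0) := by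
    rw [← Finset.sum_add_distrib, ← Finset.sum_sub_distrib]
    refine Finset.sum_congr rfl fun p _ => ?_
    split_ifs
    · rw [hT]; simp
    · simp
  rw [hsplit] at key
  have hc : (Nat.card (Subgroup.centralizer ({z} : Set G)) : ℂ) ≠ 0 := by
    exact_mod_cast (Nat.card_pos (α := Subgroup.centralizer ({z} : Set G))).ne'
  have hG : (Nat.card G : ℂ) ≠ 0 := by exact_mod_cast (Nat.card_pos (α := G)).ne'
  have e0 := h7_sum_conj_pairs (trivIrr G) z
  have e1 := h7_sum_conj_pairs P z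
  have e2 := h7_sum_conj_pairs Q z
  have hrel : (Nat.card G : ℂ) ^ 2 * (1 + (P : G → ℂ) z * (P : G → ℂ) z / (P : G → ℂ) 1 -
      (Q : G → ℂ) z * (Q : G → ℂ) z / (Q : G → ℂ) 1) = 0 := by
    have := congrArg (fun w => (Nat.card (Subgroup.centralizer ({z} : Set G)) : ℂ) ^ 2 * w) key
    simp only [mul_zero, mul_add, mul_sub] at this
    rw [e0, e1, e2] at this
    simp only [trivIrr_apply] at this
    rw [← this]
    field_simp
  rcases mul_eq_zero.mp hrel with h | h
  · exact absurd (pow_eq_zero_iff (two_ne_zero) |>.mp h) hG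
  · exact h

end Pair

end Cfsg.Agent.Lib.Helper29.BSQ8
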