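import Mathlib
import Cfsg.Agent.Lib.Helper29.BSQ8Ind

/-!
# Brauer–Suzuki for `Q8`: the `G`-side

From the shape of the principal 2-block of `C = C_G(z)` (`CData`), the second main theorem
evaluation (`hA1`) and principal-block membership (`hA2`) we produce a nontrivial irreducible
character of `G` with `z` in its kernel.
-/

set_option autoImplicit false
open scoped ComplexConjugate

namespace Cfsg.Agent.Lib.Helper29.BSQ8

open Cfsg.Agent.Lib.helper7 Cfsg.Agent.Lib.Helper25 Cfsg.Agent.Lib.helper2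

universe u

theorem q8_arith (p d : ℕ) (hp : 0 < p) (hd : 0 < d) (a : ℤ) (ha : a = 0 ∨ a = 1)
    (x y : ℂ) (hx : x = 1 + (d : ℂ) - (a : ℂ)) (hy : y = -(d : ℂ) - (a : ℂ))
    (hrel : 1 + x * x / (p : ℂ) - y * y / ((p : ℂ) + 1) = 0) : x = (p : ℂ) := by
  have hp0 : (p : ℂ) ≠ 0 := by exact_mod_cast hp.ne'
  have hp1 : (p : ℂ) + 1 ≠ 0 := by exact_mod_cast (Nat.succ_ne_zero p)
  have h : (p : ℂ) * ((p : ℂ) + 1) + x * x * ((p : ℂ) + 1) - y * y * (p : ℂ) = 0 := by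
    field_simp at hrel
    linear_combination hrel
  rcases ha with rfl | rfl
  · exfalso
    rw [hx, hy] at h
    have h' : ((p : ℤ) * ((p : ℤ) + 1) + (1 + (d : ℤ) - 0) * (1 + (d : ℤ) - 0) * ((p : ℤ) + 1) -
        (-(d : ℤ) - 0) * (-(d : ℤ) - 0) * (p : ℤ)) = 0 := by exact_mod_cast h
    have hp' : (0 : ℤ) < p := by exact_mod_cast hp
    have hd' : (0 : ℤ) < d := by exact_mod_cast hd
    nlinarith [mul_pos hp' hd', mul_pos hp' hp', mul_pos (mul_pos hd' hd') hp']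
  · rw [hx, hy] at h
    have h' : ((p : ℤ) * ((p : ℤ) + 1) + (1 + (d : ℤ) - 1) * (1 + (d : ℤ) - 1) * ((p : ℤ) + 1) -
        (-(d : ℤ) - 1) * (-(d : ℤ) - 1) * (p : ℤ)) = 0 := by exact_mod_cast h
    have h2 : ((p : ℤ) - d) * ((p : ℤ) - d) = 0 := by linear_combination h'
    have h3 : (p : ℤ) - d = 0 := mul_self_eq_zero.mp h2
    have h4 : (d : ℤ) = p := by linarith
    rw [hx]
    have : ((d : ℤ) : ℂ) = ((p : ℤ) : ℂ) := by rw [h4]
    push_cast at this ⊢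
    rw [← this]
    ring

section Comb2
variable {C : Type u} [Group C] [Fintype C]

theorem q8comb_inner_fun {n : ℕ} (e : Fin n → Cfsg.IrrCharacter C) (a : Fin n → ℤ) (r : C → ℂ) :
    Cfsg.classInner (q8comb e a) r = ∑ i, (a i : ℂ) * Cfsg.classInner (e i : C → ℂ) r := by
  unfold q8comb
  rw [classInner_sum_left]
  refine Finset.sum_congr rfl fun i _ => ?_
  rw [classInner_smul_left]

end Comb2

section GSide
variable {G : Type u} [Group G] [Fintype G]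

theorem q8_gside (M : Ideal Cfsg.AlgInt) (z : G) (hz : orderOf z = 2)
    [Fintype (Subgroup.centralizer ({z} : Set G))]
    (huniq : ∀ t ∈ Subgroup.centralizer ({z} : Set G), orderOf t = 2 → t = z)
    (hprod : ∀ a b : G, IsConj z a → IsConj z b → Odd (orderOf (a * b)))
    (D : CData M (⟨z, Subgroup.mem_centralizer_singleton_iff.mpr rfl⟩ :
      Subgroup.centralizer ({z} : Set G)))
    (hA1 : ∀ ζ : Cfsg.IrrCharacter G, ζ ∈ Cfsg.principalBlock M G →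
      (ζ : G → ℂ) z = ∑ᶠ χ ∈ Cfsg.principalBlock M (Subgroup.centralizer ({z} : Set G)),
        Cfsg.classInner (fun c : Subgroup.centralizer ({z} : Set G) => (ζ : G → ℂ) c)
          (χ : Subgroup.centralizer ({z} : Set G) → ℂ) *
        (χ : Subgroup.centralizer ({z} : Set G) → ℂ)
          ⟨z, Subgroup.mem_centralizer_singleton_iff.mpr rfl⟩)
    (hA2 : ∀ (T : G → ℂ) (P Q : Cfsg.IrrCharacter G),
      (∀ g, T g = 1 + (P : G → ℂ) g - (Q : G → ℂ) g) → (∀ g, Odd (orderOf g) → T g = 0) →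
      (Q : G → ℂ) 1 = (P : G → ℂ) 1 + 1 → P ∈ Cfsg.principalBlock M G) :
    ∃ χ : Cfsg.IrrCharacter G, χ ≠ trivIrr G ∧ (χ : G → ℂ) z = (χ : G → ℂ) 1 := by
  classical
  have hcl₁ : Cfsg.IsClassFunction _ D.β₁ :=
    Cfsg.Agent.Lib.Helper11.genChar_classFunction _ D.β₁_gen
  have hcl₂ : Cfsg.IsClassFunction _ D.β₂ :=
    Cfsg.Agent.Lib.Helper11.genChar_classFunction _ D.β₂_gen
  have hcl₃ : Cfsg.IsClassFunction _ D.β₃ :=
    Cfsg.Agent.Lib.Helper11.genChar_classFunction _ D.β₃_gen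
  have hcl₄ : Cfsg.IsClassFunction _ D.γ :=
    Cfsg.Agent.Lib.Helper11.genChar_classFunction _ D.γ_gen
  obtain ⟨T₁, hT₁def⟩ : ∃ T, T = Cfsg.indFun (Subgroup.centralizer ({z} : Set G)) D.β₁ := ⟨_, rfl⟩
  obtain ⟨T₂, hT₂def⟩ : ∃ T, T = Cfsg.indFun (Subgroup.centralizer ({z} : Set G)) D.β₂ := ⟨_, rfl⟩
  obtain ⟨T₃, hT₃def⟩ : ∃ T, T = Cfsg.indFun (Subgroup.centralizer ({z} : Set G)) D.β₃ := ⟨_, rfl⟩
  obtain ⟨T₄, hT₄def⟩ : ∃ T, T = Cfsg.indFun (Subgroup.centralizer ({z} : Set G)) D.γ := ⟨_, rfl⟩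
  have g₁ : Cfsg.IsGeneralizedCharacter G T₁ := by
    rw [hT₁def]; exact q8_genChar_indFun _ _ D.β₁_gen
  have g₂ : Cfsg.IsGeneralizedCharacter G T₂ := by
    rw [hT₂def]; exact q8_genChar_indFun _ _ D.β₂_gen
  have g₃ : Cfsg.IsGeneralizedCharacter G T₃ := by
    rw [hT₃def]; exact q8_genChar_indFun _ _ D.β₃_gen
  have g₄ : Cfsg.IsGeneralizedCharacter G T₄ := by
    rw [hT₄def]; exact q8_genChar_indFun _ _ D.γ_gen
  have n11 : Cfsg.classInner T₁ T₁ = 3 := by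
    rw [hT₁def, q8_ind_inner z huniq _ _ hcl₁ D.β₁_odd D.β₁_odd, D.β₁β₁]
  have n22 : Cfsg.classInner T₂ T₂ = 3 := by
    rw [hT₂def, q8_ind_inner z huniq _ _ hcl₂ D.β₂_odd D.β₂_odd, D.β₂β₂]
  have n33 : Cfsg.classInner T₃ T₃ = 3 := by
    rw [hT₃def, q8_ind_inner z huniq _ _ hcl₃ D.β₃_odd D.β₃_odd, D.β₃β₃]
  have n44 : Cfsg.classInner T₄ T₄ = 3 := by
    rw [hT₄def, q8_ind_inner z huniq _ _ hcl₄ D.γ_odd D.γ_odd, D.γγ]
  have n12 : Cfsg.classInner T₁ T₂ = 1 := by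
    rw [hT₁def, hT₂def, q8_ind_inner z huniq _ _ hcl₂ D.β₁_odd D.β₂_odd, D.β₁β₂]
  have n14 : Cfsg.classInner T₁ T₄ = 1 := by
    rw [hT₁def, hT₄def, q8_ind_inner z huniq _ _ hcl₄ D.β₁_odd D.γ_odd, D.β₁γ]
  have n13 : Cfsg.classInner T₁ T₃ = 1 := by
    rw [hT₁def, hT₃def, q8_ind_inner z huniq _ _ hcl₃ D.β₁_odd D.β₃_odd, D.β₁β₃]
  have n34 : Cfsg.classInner T₃ T₄ = -1 := by
    rw [hT₃def, hT₄def, q8_ind_inner z huniq _ _ hcl₄ D.β₃_odd D.γ_odd, D.β₃γ]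
  have n43 : Cfsg.classInner T₄ T₃ = -1 := by
    rw [hT₃def, hT₄def, q8_ind_inner z huniq _ _ hcl₃ D.γ_odd D.β₃_odd, D.γβ₃]
  have t1 : Cfsg.classInner T₁ (fun _ => (1 : ℂ)) = 1 := by
    rw [hT₁def, q8_ind_triv, D.β₁_triv]
  have t2 : Cfsg.classInner T₂ (fun _ => (1 : ℂ)) = 1 := by
    rw [hT₂def, q8_ind_triv, D.β₂_triv]
  have t3 : Cfsg.classInner T₃ (fun _ => (1 : ℂ)) = 0 := by
    rw [hT₃def, q8_ind_triv, D.β₃_triv]
  have t4 : Cfsg.classInner T₄ (fun _ => (1 : ℂ)) = 1 := by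
    rw [hT₄def, q8_ind_triv, D.γ_triv]
  have z1 : T₁ 1 = 0 := by rw [hT₁def]; exact q8_ind_one z _ D.β₁_odd
  have z2 : T₂ 1 = 0 := by rw [hT₂def]; exact q8_ind_one z _ D.β₂_odd
  have z4 : T₄ 1 = 0 := by rw [hT₄def]; exact q8_ind_one z _ D.γ_odd
  obtain ⟨P₁, Q₁, hP₁, hQ₁, hPQ₁, hdeg₁, hT₁⟩ := q8_norm3_decomp T₁ g₁ n11 t1 z1
  obtain ⟨P₂, Q₂, hP₂, hQ₂, hPQ₂, hdeg₂, hT₂⟩ := q8_norm3_decomp T₂ g₂ n22 t2 z2
  obtain ⟨P₄, Q₄, hP₄, hQ₄, hPQ₄, hdeg₄, hT₄⟩ := q8_norm3_decomp T₄ g₄ n44 t4 z4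
  obtain ⟨o2, -⟩ := q8_decomp_ortho T₁ T₂ P₁ Q₁ P₂ Q₂ hT₁ hT₂ hP₁ hQ₁ hPQ₁ hP₂ hQ₂ hPQ₂ n12
  obtain ⟨o4, -⟩ := q8_decomp_ortho T₁ T₄ P₁ Q₁ P₄ Q₄ hT₁ hT₄ hP₁ hQ₁ hPQ₁ hP₄ hQ₄ hPQ₄ n14
  have o1 : Cfsg.classInner T₁ (P₁ : G → ℂ) = 1 := by
    rw [q8_inner_decomp T₁ P₁ Q₁ hT₁, if_neg (Ne.symm hP₁), if_pos rfl, if_neg (Ne.symm hPQ₁)]
    norm_num
  -- Θ = T₃ + T₄
  have gΘ : Cfsg.IsGeneralizedCharacter G (T₃ + T₄) := Cfsg.Agent.Lib.Helper11.genChar_add g₃ g₄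
  have nΘ : Cfsg.classInner (T₃ + T₄) (T₃ + T₄) = ((4 : ℤ) : ℂ) := by
    rw [classInner_add_left, h7_classInner_add_right, h7_classInner_add_right, n33, n34, n43, n44]
    norm_num
  have tΘ : Cfsg.classInner (T₃ + T₄) ((trivIrr G : Cfsg.IrrCharacter G) : G → ℂ) =
      ((1 : ℤ) : ℂ) := by
    rw [classInner_add_left]
    have e3 : Cfsg.classInner T₃ ((trivIrr G : Cfsg.IrrCharacter G) : G → ℂ) = 0 := t3
    have e4 : Cfsg.classInner T₄ ((trivIrr G : Cfsg.IrrCharacter G) : G → ℂ) = 1 := t4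
    rw [e3, e4]
    norm_num
  obtain ⟨a, ha⟩ := Cfsg.Agent.Lib.Helper11.genChar_inner_int _ gΘ P₁
  obtain ⟨b, hb⟩ := Cfsg.Agent.Lib.Helper11.genChar_inner_int _ gΘ Q₁
  have hbessel := q8_bessel3 _ gΘ 4 nΘ (trivIrr G) P₁ Q₁ (Ne.symm hP₁) (Ne.symm hQ₁) hPQ₁
    1 a b tΘ ha hb
  have hab : a - b = 1 := by
    have h1 : Cfsg.classInner T₁ (T₃ + T₄) = 2 := by
      rw [h7_classInner_add_right, n13, n14]
      norm_num
    have hT₁' : T₁ = (trivIrr G : G → ℂ) + (P₁ : G → ℂ) - (Q₁ : G → ℂ) := by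
      funext g
      rw [hT₁ g]
      rfl
    rw [hT₁', classInner_sub_left, classInner_add_left,
      Cfsg.Agent.Lib.Helper25.classInner_conj_symm (T₃ + T₄) (trivIrr G : G → ℂ),
      Cfsg.Agent.Lib.Helper25.classInner_conj_symm (T₃ + T₄) (P₁ : G → ℂ),
      Cfsg.Agent.Lib.Helper25.classInner_conj_symm (T₃ + T₄) (Q₁ : G → ℂ), tΘ, ha, hb] at h1
    simp only [map_intCast] at h1
    have : ((1 + a - b : ℤ) : ℂ) = ((2 : ℤ) : ℂ) := by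
      push_cast
      rw [← h1]
      norm_num
    have := Int.cast_injective this
    linarith
  have ha01 : a = 0 ∨ a = 1 := by
    have hb' : b = a - 1 := by linarith
    rw [hb'] at hbessel
    have h1 : a * a ≤ 2 := by nlinarith
    have h2 : -2 < a := by nlinarith
    have h3 : a < 2 := by nlinarith
    have h4 : 0 ≤ a := by
      by_contra hneg
      have : a = -1 := by omega
      rw [this] at hbessel
      norm_num at hbessel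
    omega
  have o3 : Cfsg.classInner T₃ (P₁ : G → ℂ) = (a : ℂ) := by
    have h1 := ha
    rw [classInner_add_left, o4, add_zero] at h1
    exact h1
  -- block membership and the second main theorem
  have hodd₁ : ∀ g, Odd (orderOf g) → T₁ g = 0 := by
    intro g hg
    rw [hT₁def]
    exact q8_ind_odd z _ D.β₁_odd g hg
  have hPB : P₁ ∈ Cfsg.principalBlock M G := hA2 T₁ P₁ Q₁ hT₁ hodd₁ hdeg₁
  have hval := hA1 P₁ hPB
  obtain ⟨r, hr⟩ : ∃ r : Subgroup.centralizer ({z} : Set G) → ℂ,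
      r = fun c : Subgroup.centralizer ({z} : Set G) => (P₁ : G → ℂ) c := ⟨_, rfl⟩
  rw [← hr] at hval
  have hrchar : Cfsg.IsCharacter (Subgroup.centralizer ({z} : Set G)) r := by
    rw [hr]
    exact isCharacter_restrict (isCharacter_of_irr P₁) _
  have hn : ∀ i : Fin 7, ∃ n : ℕ, Cfsg.classInner r (D.e i : _ → ℂ) = (n : ℂ) :=
    fun i => classInner_character_nat hrchar (isCharacter_of_irr (D.e i))
  choose n hn using hn
  have hn' : ∀ i : Fin 7, Cfsg.classInner (D.e i : _ → ℂ) r = (n i : ℂ) := by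
    intro i
    rw [Cfsg.Agent.Lib.Helper25.classInner_conj_symm r (D.e i : _ → ℂ), hn i, Complex.conj_natCast]
  have hblock : Cfsg.principalBlock M (Subgroup.centralizer ({z} : Set G)) = Set.range D.e := by
    ext χ
    rw [D.block χ, Set.mem_range]
    have : [trivIrr _, D.ψ₂, D.ψ₃, D.ψ₄, D.χ₁, D.χ₂, D.χ₃] = List.ofFn D.e := by
      simp [CData.e, List.ofFn_succ]
    rw [this, List.mem_ofFn]
  rw [hblock, finsum_mem_range D.e_injective, finsum_eq_sum_of_fintype, Fin.sum_univ_seven] at hval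
  simp only [hn] at hval
  -- the four relations
  have hfrob : ∀ (β : Subgroup.centralizer ({z} : Set G) → ℂ),
      Cfsg.classInner (Cfsg.indFun (Subgroup.centralizer ({z} : Set G)) β) (P₁ : G → ℂ) =
        Cfsg.classInner β r := by
    intro β
    rw [hr]
    exact h7_frobenius_reciprocity _ β _ (fun g h => irr_conj_invariant P₁ g h)
  have R1 : Cfsg.classInner D.β₁ r = 1 := by rw [← hfrob, ← hT₁def, o1]
  have R2 : Cfsg.classInner D.β₂ r = 0 := by rw [← hfrob, ← hT₂def, o2]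
  have R3 : Cfsg.classInner D.β₃ r = (a : ℂ) := by rw [← hfrob, ← hT₃def, o3]
  have R4 : Cfsg.classInner D.γ r = 0 := by rw [← hfrob, ← hT₄def, o4]
  unfold CData.β₁ at R1
  unfold CData.β₂ at R2
  unfold CData.β₃ at R3
  unfold CData.γ at R4
  rw [q8comb_inner_fun, Fin.sum_univ_seven] at R1 R2 R3 R4
  simp only [hn'] at R1 R2 R3 R4
  simp [CData.a₁, CData.a₂, CData.a₃, CData.a₄] at R1 R2 R3 R4
  simp only [CData.e, Matrix.cons_val_zero, Matrix.cons_val_one, Matrix.cons_val] at hval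
  rw [trivIrr_apply, D.ψ₂_z, D.ψ₃_z, D.ψ₄_z, D.χ₁_z, D.χ₂_z, D.χ₃_z] at hval
  obtain ⟨d₂, hd₂pos, hd₂⟩ := irr_one_eq_finrank D.ψ₂
  obtain ⟨p, hppos, hp⟩ := irr_one_eq_finrank P₁
  have q1 := D.odd₁ 1 (by simp)
  have q2 := D.odd₂ 1 (by simp)
  have q3 := D.odd₃ 1 (by simp)
  have q4 := D.odd₄ 1 (by simp)
  have hs1 : (D.s₁ : ℂ) * (D.s₁ : ℂ) = 1 := by exact_mod_cast D.s₁_sq
  have hs2 : (D.s₂ : ℂ) * (D.s₂ : ℂ) = 1 := by exact_mod_cast D.s₂_sq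
  have hs3 : (D.s₃ : ℂ) * (D.s₃ : ℂ) = 1 := by exact_mod_cast D.s₃_sq
  have hε2 : (D.ε : ℂ) * (D.ε : ℂ) = 1 := by exact_mod_cast D.ε_sq
  have hP₁z : (P₁ : G → ℂ) z = 1 + (d₂ : ℂ) - (a : ℂ) := by
    rw [hval, ← hd₂]
    linear_combination (1 + (D.ψ₂ : Subgroup.centralizer ({z} : Set G) → ℂ) 1) * R1 + (1 + (D.ε : ℂ) * (D.ψ₃ : Subgroup.centralizer ({z} : Set G) → ℂ) 1) * R2 - R3 -
      (D.ψ₄ : Subgroup.centralizer ({z} : Set G) → ℂ) 1 * R4 - (n 0 : ℂ) * q4 - (n 2 : ℂ) * (D.ψ₃ : Subgroup.centralizer ({z} : Set G) → ℂ) 1 * hε2 +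
      (n 4 : ℂ) * (D.χ₁ : Subgroup.centralizer ({z} : Set G) → ℂ) 1 * hs1 + (n 4 : ℂ) * (D.s₁ : ℂ) * q1 +
      (n 5 : ℂ) * (D.χ₂ : Subgroup.centralizer ({z} : Set G) → ℂ) 1 * hs2 + (n 5 : ℂ) * (D.s₂ : ℂ) * q2 +
      (n 6 : ℂ) * (D.χ₃ : Subgroup.centralizer ({z} : Set G) → ℂ) 1 * hs3 + (n 6 : ℂ) * (D.s₃ : ℂ) * (q3 - q4)
  have hT₁z : T₁ z = 2 * (1 + (d₂ : ℂ)) := by
    rw [hT₁def, q8_ind_at_z z hz huniq _ hcl₁ D.β₁_odd, D.β₁_apply, D.ψ₂_z, D.χ₁_z, ← hd₂]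
    linear_combination (-1 : ℂ) * q1
  have hQ₁z : (Q₁ : G → ℂ) z = -(d₂ : ℂ) - (a : ℂ) := by
    have h1 := hT₁ z
    rw [hT₁z, hP₁z] at h1
    linear_combination h1
  have hrel := q8_pair_relation z T₁ P₁ Q₁ hT₁ hodd₁ hprod
  rw [hdeg₁, hp] at hrel
  have hfin := q8_arith p d₂ hppos hd₂pos a ha01 _ _ hP₁z hQ₁z hrel
  exact ⟨P₁, hP₁, by rw [hfin, hp]⟩

end GSide

end Cfsg.Agent.Lib.Helper29.BSQ8
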