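import Mathlib
import Cfsg.Agent.Lib.Helper29.BSQ8Main
import Cfsg.Agent.Lib.Helper18.BSQ8Wrap
import Cfsg.Agent.Lib.helper7.Q8SecondMain
import Cfsg.Agent.Lib.helper2.PModular2

/-!
# Brauer–Suzuki for `Q8`: assembly of the `C`-side, the `G`-side and the group theory
-/

set_option autoImplicit false
open scoped ComplexConjugate

namespace Cfsg.Agent.Lib.Helper29.BSQ8

open Cfsg.Agent.Lib.helper7 Cfsg.Agent.Lib.Helper25 Cfsg.Agent.Lib.helper2

universe u

/-- The `C`-side theorem, as a hypothesis: the principal 2-block of a group with a central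
involution, quaternion Sylow 2-subgroups of order 8 and one class of elements of order 4. -/
def CSideHyp.{v} : Prop :=
  ∀ (C : Type v) [Group C] [Finite C] (M : Ideal Cfsg.AlgInt), Cfsg.IsPModular 2 M →
    ∀ (z : C), orderOf z = 2 → z ∈ Subgroup.center C →
    ∀ (P : Sylow 2 C), (↥(P : Subgroup C) ≃* QuaternionGroup 2) →
    (∀ u v : C, orderOf u = 4 → orderOf v = 4 → IsConj u v) → Nonempty (CData M z)

theorem q8Hyp_of_cside (hC : CSideHyp.{u}) : Cfsg.Agent.Lib.Helper18.BSQ8.Q8Hyp.{u} := by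
  intro H _ _ S e hnc
  classical
  obtain ⟨M, hM⟩ := exists_isPModular 2 Nat.prime_two
  obtain ⟨z, hz2, -, hconj, hcomm, -, hodd, zc, hzc, hzcen, hzc2, P, ⟨eP⟩, h4⟩ :=
    Cfsg.Agent.Lib.Helper18.BSQ8.q8_setup S e hnc
  have hzc' : zc = ⟨z, Subgroup.mem_centralizer_singleton_iff.mpr rfl⟩ := Subtype.ext hzc
  subst hzc'
  obtain ⟨D⟩ := hC _ M hM _ hzc2 hzcen P eP h4
  haveI : Fintype H := Fintype.ofFinite H
  haveI : Fintype (Subgroup.centralizer ({z} : Set H)) := Fintype.ofFinite _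
  haveI : Fact (Nat.Prime 2) := ⟨Nat.prime_two⟩
  have huniq : ∀ t ∈ Subgroup.centralizer ({z} : Set H), orderOf t = 2 → t = z := by
    intro t ht ht2
    exact hcomm t ht2 (Subgroup.mem_centralizer_singleton_iff.mp ht)
  obtain ⟨χ, hχ, hχz⟩ := q8_gside M z hz2 huniq hodd D
    (fun ζ hζ => h7_second_main_eval 2 M hM z ⟨1, by rw [hz2, pow_one]⟩ ζ hζ)
    (fun T P Q hT hTodd hdeg => (h7_principal_of_odd_vanish M hM P Q
      (fun y hy => by rw [← hT y]; exact hTodd y hy) hdeg).1)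
  refine ⟨χ, hχ, ?_⟩
  intro t ht
  obtain ⟨c, hc⟩ := isConj_iff.mp (hconj t ht)
  rw [← hc, irr_conj_invariant, hχz]

/-- The Brauer–Suzuki theorem (in the `S0201` shape) from the `C`-side theorem. -/
theorem bsHyp_of_cside (hC : CSideHyp.{u}) : Cfsg.Agent.Lib.Helper18.ZStar.BSHyp.{u} :=
  Cfsg.Agent.Lib.Helper18.BSQ8.bs_of_q8 (q8Hyp_of_cside hC)

end Cfsg.Agent.Lib.Helper29.BSQ8

namespace Cfsg.Agent.Lib.Helper29.BSQ8

open Cfsg.Agent.Lib.helper7 Cfsg.Agent.Lib.Helper25 Cfsg.Agent.Lib.helper2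

universe u

theorem CData.block_eq_range {C : Type u} [Group C] {M : Ideal Cfsg.AlgInt} {z : C}
    (D : CData M z) : Cfsg.principalBlock M C = Set.range D.e := by
  ext χ
  rw [D.block χ, Set.mem_range]
  have : [trivIrr _, D.ψ₂, D.ψ₃, D.ψ₄, D.χ₁, D.χ₂, D.χ₃] = List.ofFn D.e := by
    simp [CData.e, List.ofFn_succ]
  rw [this, List.mem_ofFn]

theorem CData.card_block {C : Type u} [Group C] {M : Ideal Cfsg.AlgInt} {z : C}
    (D : CData M z) : Nat.card (Cfsg.principalBlock M C) = 7 := by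
  rw [D.block_eq_range, Nat.card_range_of_injective D.e_injective]
  simp

/-- The statement of `S0951` (seven characters in the principal 2-block) from the `C`-side
theorem: by Brauer–Suzuki the involution is central, so `G` is its own centralizer. -/
theorem q8_seven_of_cside (hC : CSideHyp.{u}) {G : Type u} [Group G] [Finite G]
    (M : Ideal Cfsg.AlgInt) (hM : Cfsg.IsPModular 2 M) (S : Sylow 2 G)
    (e : (S : Subgroup G) ≃* QuaternionGroup 2)
    (hO : ∀ N : Subgroup G, N.Normal → Odd (Nat.card N) → N = ⊥)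
    (hG : (S : Subgroup G) ≠ ⊤) : Nat.card (Cfsg.principalBlock M G) = 7 := by
  classical
  haveI : Fact (Nat.Prime 2) := ⟨Nat.prime_two⟩
  haveI : NeZero (2 : ℕ) := ⟨by norm_num⟩
  have hZ : Nat.card (Subgroup.center G) = 2 := bsHyp_of_cside hC G S 0 e hO
  obtain ⟨z, hz2, hzS, -, hconj, -, -, -⟩ := Cfsg.Agent.Lib.Helper18.BSQ8.q8_g1 S e
  -- the involution is central
  have hzc : z ∈ Subgroup.center G := by
    obtain ⟨t, ht⟩ := exists_prime_orderOf_dvd_card' (G := Subgroup.center G) 2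
      (by rw [hZ])
    have ht' : orderOf (t : G) = 2 := by rw [Subgroup.orderOf_coe]; exact ht
    obtain ⟨c, hc⟩ := isConj_iff.mp (hconj _ ht')
    have h1 : (t : G) = z := by
      have h2 : c * z * c⁻¹ = (t : G) := hc
      have h3 : c⁻¹ * (t : G) * c = (t : G) := by
        have := Subgroup.mem_center_iff.mp t.2 c
        calc c⁻¹ * (t : G) * c = c⁻¹ * (c * (t : G)) := by rw [mul_assoc, this]
          _ = (t : G) := by group
      rw [← h2] at h3
      rw [← h2, ← h3]
      group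
    rw [← h1]
    exact t.2
  -- no normal complement
  have hnc : ∀ N : Subgroup G, N.Normal → ¬ Subgroup.IsComplement' N (S : Subgroup G) := by
    intro N hN hcomp
    have hodd : Odd (Nat.card N) := Nat.coprime_two_right.mp
      (Cfsg.Agent.Lib.Helper1.card_coprime_of_isComplement'_sylow S hcomp)
    have hbot := hO N hN hodd
    rw [hbot] at hcomp
    exact hG (Subgroup.isComplement'_bot_left.mp hcomp)
  obtain ⟨-, -, h4⟩ := Cfsg.Agent.Lib.Helper18.BSQ8.q8_g2 S e hnc z hz2 hzS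
  have hcen : ∀ g : G, g ∈ Subgroup.centralizer ({z} : Set G) := by
    intro g
    rw [Subgroup.mem_centralizer_singleton_iff]
    exact Subgroup.mem_center_iff.mp hzc g
  have h4G : ∀ u v : G, orderOf u = 4 → orderOf v = 4 → IsConj u v := by
    intro u v hu hv
    have := h4 ⟨u, hcen u⟩ ⟨v, hcen v⟩ (by rw [← Subgroup.orderOf_coe]; exact hu)
      (by rw [← Subgroup.orderOf_coe]; exact hv)
    obtain ⟨c, hc⟩ := isConj_iff.mp this
    rw [isConj_iff]
    exact ⟨(c : G), congrArg Subtype.val hc⟩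
  obtain ⟨D⟩ := hC G M hM z hz2 hzc S e h4G
  exact D.card_block

end Cfsg.Agent.Lib.Helper29.BSQ8
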