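import Mathlib
import Cfsg.Agent.Lib.helper7.REE.Defs

set_option autoImplicit false

/-!
# Project REE (designer helper7), rows ARA / ARB: `ar_basic`, `ar_coprime` (helper29).
-/

namespace Cfsg.Agent.Lib.helper7.REE

/-- `q = 24 b + 3` -/
theorem reeara_q (m : ℕ) : ∃ b : ℕ, qq m = 24 * b + 3 := by
  have h9 : 9 ^ m % 8 = 1 := by
    rw [Nat.pow_mod]; norm_num
  have hq : qq m = 3 * 9 ^ m := by
    unfold qq
    rw [pow_succ, pow_mul]; norm_num [mul_comm]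
  refine ⟨9 ^ m / 8, ?_⟩
  rw [hq]; omega

/-- `r^2 = 3 q` -/
theorem reeara_rsq (m : ℕ) : rr m ^ 2 = 3 * qq m := by
  unfold rr qq
  rw [← pow_mul, ← pow_succ']
  congr 1; ring

/-- `r ≤ q` -/
theorem reeara_rle (m : ℕ) : rr m ≤ qq m := by
  unfold rr qq
  exact Nat.pow_le_pow_right (by norm_num) (by omega)

/-- `N₀ = (q + r + 1) (q - r + 1)` -/
theorem reeara_nn (m : ℕ) : nn m = (qq m + rr m + 1) * (qq m - rr m + 1) := by
  have hr := reeara_rsq m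
  have hle := reeara_rle m
  have hq2 : qq m ≤ qq m ^ 2 := by nlinarith [Nat.zero_le (qq m)]
  unfold nn
  zify [hle, hq2]
  zify at hr
  linear_combination hr

/-- `q^3 + 1 = (q + 1) N₀` -/
theorem reeara_cube (m : ℕ) : qq m ^ 3 + 1 = (qq m + 1) * nn m := by
  have hq2 : qq m ≤ qq m ^ 2 := by nlinarith [Nat.zero_le (qq m)]
  unfold nn
  zify [hq2]
  ring

/-- ARA. -/
theorem ar_basic (m : ℕ) :
    qq m % 8 = 3 ∧ 3 ≤ qq m ∧ 3 ∣ qq m ∧ rr m ^ 2 = 3 * qq m ∧ rr m ≤ qq m ∧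
    nn m = (qq m + rr m + 1) * (qq m - rr m + 1) ∧
    qq m ^ 3 + 1 = (qq m + 1) * nn m ∧
    gg m = qq m ^ 3 * (qq m - 1) * (qq m + 1) * nn m ∧
    Odd ((qq m - 1) / 2) ∧ 2 * ((qq m - 1) / 2) = qq m - 1 ∧
    Odd ((qq m + 1) / 4) ∧ 4 * ((qq m + 1) / 4) = qq m + 1 ∧
    (1 ≤ m → 27 ≤ qq m ∧ 3 * rr m ≤ qq m) := by
  obtain ⟨b, hb⟩ := reeara_q m
  refine ⟨by omega, by omega, by omega, reeara_rsq m, reeara_rle m, reeara_nn m, reeara_cube m, ?_,
    ?_, by omega, ?_, by omega, ?_⟩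
  · unfold gg
    rw [reeara_cube m]; ring
  · rw [Nat.odd_iff]; omega
  · rw [Nat.odd_iff]; omega
  · intro hm
    constructor
    · unfold qq
      calc 27 = 3 ^ 3 := by norm_num
        _ ≤ 3 ^ (2 * m + 1) := Nat.pow_le_pow_right (by norm_num) (by omega)
    · unfold rr qq
      rw [← pow_succ']
      exact Nat.pow_le_pow_right (by norm_num) (by omega)

end Cfsg.Agent.Lib.helper7.REE
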