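import Mathlib
import Cfsg.Agent.Lib.helper7.REE.Defs
import Cfsg.Agent.Lib.Helper29.REEARA

set_option autoImplicit false

/-!
# Project REE (designer helper7), row ARB: `ar_coprime` (helper29).
-/

namespace Cfsg.Agent.Lib.helper7.REE

/-- coprimality from an integer Bezout identity -/
theorem reearb_cop (x y : ℕ) (u v : ℤ) (h : u * x + v * y = 1) : Nat.Coprime x y := by
  rw [← Nat.isCoprime_iff_coprime]
  exact ⟨u, v, h⟩

/-- `N₀ = 576 b² + 120 b + 7` for `q = 24 b + 3` -/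
theorem reearb_nn (m b : ℕ) (hb : qq m = 24 * b + 3) : nn m = 576 * b ^ 2 + 120 * b + 7 := by
  unfold nn
  rw [hb]
  have : (24 * b + 3) ^ 2 = (576 * b ^ 2 + 120 * b + 6) + (24 * b + 3) := by ring
  rw [this, Nat.add_sub_cancel]

/-- ARB. -/
theorem ar_coprime (m : ℕ) :
    (nn m).Coprime 6 ∧ (nn m).Coprime (qq m) ∧ (nn m).Coprime (qq m - 1) ∧
    (nn m).Coprime (qq m + 1) ∧ (qq m + rr m + 1).Coprime (qq m - rr m + 1) ∧
    ((qq m + 1) / 4).Coprime 6 ∧ ((qq m + 1) / 4).Coprime (qq m) ∧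
    ((qq m + 1) / 4).Coprime (qq m - 1) ∧
    ((qq m - 1) / 2).Coprime 6 ∧ ((qq m - 1) / 2).Coprime (qq m) ∧
    ((qq m - 1) / 2).Coprime (qq m + 1) ∧
    Nat.gcd (qq m - 1) ((qq m + 1) / 2) = 2 ∧
    (qq m - 1).Coprime (qq m ^ 3) ∧ (qq m - 1).Coprime 3 := by
  obtain ⟨b, hb⟩ := reeara_q m
  have hn := reearb_nn m b hb
  have h1 : qq m - 1 = 24 * b + 2 := by omega
  have h2 : (qq m + 1) / 4 = 6 * b + 1 := by omega
  have h3 : (qq m - 1) / 2 = 12 * b + 1 := by omega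
  have h4 : (qq m + 1) / 2 = 12 * b + 2 := by omega
  have hn6 : (nn m).Coprime 6 := by
    rw [hn]
    exact reearb_cop _ _ 1 (-(96 * (b : ℤ) ^ 2 + 20 * b + 1)) (by push_cast; ring)
  have hnq : (nn m).Coprime (qq m) := by
    rw [hn, hb]
    exact reearb_cop _ _ 1 (-(24 * (b : ℤ) + 2)) (by push_cast; ring)
  refine ⟨hn6, hnq, ?_, ?_, ?_, ?_, ?_, ?_, ?_, ?_, ?_, ?_, ?_, ?_⟩
  · rw [hn, h1]
    exact reearb_cop _ _ 1 (-(24 * (b : ℤ) + 3)) (by push_cast; ring)
  · rw [hn, hb]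
    exact reearb_cop _ _ (-(8 * (b : ℤ) + 1)) (1 + (8 * (b : ℤ) + 1) * (24 * b + 1)) (by push_cast; ring)
  · -- a common prime divisor divides `2 r = 2 * 3^(m+1)` and `N₀`
    apply Nat.Coprime.symm
    apply Nat.coprime_of_dvd
    intro l hl hlB hlA
    have hle := reeara_rle m
    have hlnn : l ∣ nn m := by
      rw [reeara_nn m]; exact dvd_mul_of_dvd_left hlA _
    have hl2r : l ∣ 2 * rr m := by
      have : qq m + rr m + 1 = (qq m - rr m + 1) + 2 * rr m := by omega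
      rw [this] at hlA
      exact (Nat.dvd_add_right hlB).mp hlA
    have hl6 : l ∣ 6 := by
      rcases (Nat.Prime.dvd_mul hl).mp hl2r with h | h
      · exact dvd_trans h (by norm_num)
      · unfold rr at h
        exact dvd_trans (hl.dvd_of_dvd_pow h) (by norm_num)
    have := Nat.dvd_gcd hlnn hl6
    rw [hn6] at this
    exact hl.one_lt.ne' (Nat.dvd_one.mp this)
  · rw [h2]
    exact reearb_cop _ _ 1 (-(b : ℤ)) (by push_cast; ring)
  · rw [h2, hb]
    exact reearb_cop _ _ 4 (-1) (by push_cast; ring)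
  · rw [h2, h1]
    exact reearb_cop _ _ (1 - 12 * (b : ℤ)) (3 * b) (by push_cast; ring)
  · rw [h3]
    exact reearb_cop _ _ 1 (-(2 * (b : ℤ))) (by push_cast; ring)
  · rw [h3, hb]
    exact reearb_cop _ _ (-2) 1 (by push_cast; ring)
  · rw [h3]
    have : qq m + 1 = 24 * b + 4 := by omega
    rw [this]
    exact reearb_cop _ _ (1 + 12 * (b : ℤ)) (-(6 * (b : ℤ))) (by push_cast; ring)
  · rw [h1, h4]
    have e1 : 24 * b + 2 = 2 * (12 * b + 1) := by ring
    have e2 : 12 * b + 2 = 2 * (6 * b + 1) := by ring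
    rw [e1, e2, Nat.gcd_mul_left]
    have : Nat.Coprime (12 * b + 1) (6 * b + 1) :=
      reearb_cop _ _ (-1) 2 (by push_cast; ring)
    rw [this.gcd_eq_one]
  · apply Nat.Coprime.pow_right
    rw [h1, hb]
    exact reearb_cop _ _ (-1) 1 (by push_cast; ring)
  · rw [h1]
    exact reearb_cop _ _ (-1) (8 * (b : ℤ) + 1) (by push_cast; ring)

end Cfsg.Agent.Lib.helper7.REE
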