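import Mathlib
import Cfsg.Agent.Lib.helper7.REE.Defs
import Cfsg.Agent.Lib.helper8.SylowConj
import Cfsg.Agent.Lib.Helper29.REEARA
import Cfsg.Agent.Lib.Helper29.REEARB

set_option autoImplicit false

/-!
# Project REE (designer helper7), block G3: helper lemmas for rows G3A / G3B / G3C (helper29).
-/

namespace Cfsg.Agent.Lib.helper7.REE

open Matrix Cfsg.Agent.Lib.helper8

universe u v

/-- Sylow: a `p`-element is conjugate into a `p`-subgroup of index prime to `p` -/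
theorem reeg3_conj {G : Type u} [Group G] [Finite G] (p : ℕ) [Fact p.Prime] (P : Subgroup G)
    (hP : IsPGroup p P) (hidx : ¬ p ∣ P.index) (x : G) (k : ℕ) (hx : x ^ (p ^ k) = 1) :
    ∃ g : G, g * x * g⁻¹ ∈ P := by
  have hzp : IsPGroup p (Subgroup.zpowers x) := by
    rintro ⟨y, hy⟩
    obtain ⟨z, rfl⟩ := Subgroup.mem_zpowers_iff.mp hy
    refine ⟨k, Subtype.ext ?_⟩
    show (x ^ z) ^ p ^ k = 1
    rw [← zpow_natCast, ← _root_.zpow_mul, mul_comm, _root_.zpow_mul, zpow_natCast, hx, _root_.one_zpow]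
  obtain ⟨Q, hQ⟩ := hzp.exists_le_sylow
  obtain ⟨g, hg⟩ := MulAction.exists_smul_eq G Q (hP.toSylow hidx)
  refine ⟨g, ?_⟩
  have h1 : g * x * g⁻¹ ∈ ((g • Q : Sylow p G) : Subgroup G) := by
    rw [h8_mem_smul_sylow]
    have e : g⁻¹ * (g * x * g⁻¹) * g = x := by group
    rw [e]
    exact hQ (Subgroup.mem_zpowers x)
  rw [hg] at h1
  exact (IsPGroup.mem_toSylow hP hidx).mp h1

namespace ReeAx

variable {G : Type u} [Group G] [Finite G] {K : Type v} [Field K] [Fintype K] {m : ℕ}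

/-- `U` is a 3-group -/
theorem reeg3_U_pgroup (R : ReeAx G K m) : IsPGroup 3 R.U := by
  apply IsPGroup.of_card (n := (2 * m + 1) * 3)
  rw [R.U_card, qq, ← pow_mul]

/-- `3 ∤ [G : U]` -/
theorem reeg3_U_index (R : ReeAx G K m) : ¬ 3 ∣ R.U.index := by
  have h1 := R.U.card_mul_index
  rw [R.U_card, R.card, gg, mul_assoc] at h1
  have hq3 : 0 < qq m ^ 3 := by
    have := (ar_basic m).2.1
    positivity
  have h2 : R.U.index = (qq m - 1) * (qq m ^ 3 + 1) := Nat.eq_of_mul_eq_mul_left hq3 h1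
  rw [h2]
  intro h
  have h3 : Nat.Prime 3 := Nat.prime_three
  rcases (Nat.Prime.dvd_mul h3).mp h with h | h
  · have hc := (ar_coprime m).2.2.2.2.2.2.2.2.2.2.2.2.2
    have := Nat.dvd_gcd h (dvd_refl 3)
    rw [hc.gcd_eq_one] at this
    omega
  · have h3q : 3 ∣ qq m ^ 3 := dvd_pow (ar_basic m).2.2.1 (by norm_num)
    have := (Nat.dvd_add_right h3q).mp h
    omega

/-- `U ≤ B` -/
theorem reeg3_U_le_B (R : ReeAx G K m) : R.U ≤ R.B := by
  intro u hu
  rw [R.B_iff]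
  exact ⟨u, hu, 1, R.H.one_mem, (mul_one u).symm⟩

/-- `B` normalises `U` -/
theorem reeg3_B_norm (R : ReeAx G K m) (b : G) (hb : b ∈ R.B) (u : G) (hu : u ∈ R.U) :
    b * u * b⁻¹ ∈ R.U := by
  obtain ⟨u₁, hu₁, h, hh, rfl⟩ := (R.B_iff b).mp hb
  have e : u₁ * h * u * (u₁ * h)⁻¹ = u₁ * (h * u * h⁻¹) * u₁⁻¹ := by group
  rw [e]
  exact R.U.mul_mem (R.U.mul_mem hu₁ (R.H_norm h hh u hu)) (R.U.inv_mem hu₁)

/-- an element of order 3 of `B` lies in `U` -/
theorem reeg3_order3_mem (R : ReeAx G K m) (y : G) (hy : y ∈ R.B) (ho : orderOf y = 3) : y ∈ R.U := by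
  have : Fact (Nat.Prime 3) := ⟨Nat.prime_three⟩
  have h1 := h8_mem_sylow_of_mem_normalizer 3 (R.reeg3_U_pgroup.toSylow R.reeg3_U_index) y 1
    (by rw [ho, pow_one]) ?_
  · exact (IsPGroup.mem_toSylow _ _).mp h1
  · apply h8_mem_normalizer_of_conj_le 3
    intro x hx
    rw [IsPGroup.toSylow_coe] at hx ⊢
    have := R.reeg3_B_norm y⁻¹ (R.B.inv_mem hy) x hx
    rwa [inv_inv] at this

/-- the power of order 3 of a 3-singular element -/
theorem reeg3_pow3 (g : G) (hg : 3 ∣ orderOf g) : orderOf (g ^ (orderOf g / 3)) = 3 := by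
  obtain ⟨c, hc⟩ := hg
  have hpos : 0 < orderOf g := orderOf_pos g
  have hc0 : c ≠ 0 := by
    rintro rfl
    omega
  have : orderOf g / 3 = c := by rw [hc]; exact Nat.mul_div_cancel_left c (by norm_num)
  rw [this, orderOf_pow_of_dvd hc0 ⟨3, by rw [hc]; ring⟩, hc]
  exact Nat.mul_div_cancel 3 (Nat.pos_of_ne_zero hc0)

end ReeAx

end Cfsg.Agent.Lib.helper7.REE
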