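import Mathlib
import Cfsg.Agent.Lib.helper7.REE.Defs
import Cfsg.Agent.Lib.Helper29.REEG3core

set_option autoImplicit false

/-!
# Project REE (designer helper7), rows G3A / G3B / G3C: `U_sylow`, `three_sing_conj`, `three_TI` (helper29).
-/

namespace Cfsg.Agent.Lib.helper7.REE

open Matrix Cfsg.Agent.Lib.helper8

universe u v

namespace ReeAx

variable {G : Type u} [Group G] [Finite G] {K : Type v} [Field K] [Fintype K] {m : ℕ}

/-- G3A. `U` contains a conjugate of every 3-element (`conj_into_sylow`). -/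
theorem U_sylow (R : ReeAx G K m) (x : G) (k : ℕ) (hx : x ^ (3 ^ k) = 1) :
    ∃ g : G, g * x * g⁻¹ ∈ R.U := by
  have : Fact (Nat.Prime 3) := ⟨Nat.prime_three⟩
  exact reeg3_conj 3 R.U R.reeg3_U_pgroup R.reeg3_U_index x k hx

/-- G3B. Every 3-singular element lies in a conjugate of `B`. -/
theorem three_sing_conj (R : ReeAx G K m) (g : G) (hg : 3 ∣ orderOf g) :
    ∃ x : G, x * g * x⁻¹ ∈ R.B := by
  have ho := reeg3_pow3 g hg
  have h3 : (g ^ (orderOf g / 3)) ^ (3 ^ 1) = 1 := by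
    have h := pow_orderOf_eq_one (g ^ (orderOf g / 3))
    rw [ho] at h
    rw [Nat.pow_one]
    exact h
  obtain ⟨x, hx⟩ := R.U_sylow _ 1 h3
  refine ⟨x, ?_⟩
  apply R.ti (x * g * x⁻¹) (x * g ^ (orderOf g / 3) * x⁻¹) hx
  · intro h
    have h1 : g ^ (orderOf g / 3) = 1 := by
      have e : g ^ (orderOf g / 3) = x⁻¹ * (x * g ^ (orderOf g / 3) * x⁻¹) * x := by group
      rw [e, h]; group
    rw [h1, orderOf_one] at ho
    omega
  · have e : x * g * x⁻¹ * (x * g ^ (orderOf g / 3) * x⁻¹) * (x * g * x⁻¹)⁻¹ =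
        x * (g * g ^ (orderOf g / 3) * g⁻¹) * x⁻¹ := by group
    have e2 : g * g ^ (orderOf g / 3) * g⁻¹ = g ^ (orderOf g / 3) := by
      rw [← pow_succ', pow_succ, mul_inv_cancel_right]
    rw [e, e2]
    exact R.reeg3_U_le_B hx

/-- G3C. The 3-singular elements of `B` form a TI-set with normaliser `B`. -/
theorem three_TI (R : ReeAx G K m) (g d : G) (hd : d ∈ R.B) (h3 : 3 ∣ orderOf d)
    (hg : g * d * g⁻¹ ∈ R.B) : g ∈ R.B := by
  have ho := reeg3_pow3 d h3
  have hyB : d ^ (orderOf d / 3) ∈ R.B := R.B.pow_mem hd _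
  have hyU : d ^ (orderOf d / 3) ∈ R.U := R.reeg3_order3_mem _ hyB ho
  apply R.ti g (d ^ (orderOf d / 3)) hyU
  · intro h
    rw [h, orderOf_one] at ho
    omega
  · have e : g * d ^ (orderOf d / 3) * g⁻¹ = (g * d * g⁻¹) ^ (orderOf d / 3) := conj_pow.symm
    rw [e]
    exact R.B.pow_mem hg _

end ReeAx

end Cfsg.Agent.Lib.helper7.REE
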