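import Mathlib
import Cfsg.Agent.Lib.helper7.REE.Defs

set_option autoImplicit false

/-!
# Project REE (designer helper7), row G4D: core of `even_conj` on the statement of G4C (helper29).
-/

namespace Cfsg.Agent.Lib.helper7.REE

open Matrix Cfsg.Agent.Lib.helper8

universe u v

namespace ReeAx

variable {G : Type u} [Group G] [Finite G] {K : Type v} [Field K] [Fintype K] {m : ℕ}

/-- the involution in the cyclic group generated by an element of even order -/
theorem reeg4d_pow2 (g : G) (hg : 2 ∣ orderOf g) : orderOf (g ^ (orderOf g / 2)) = 2 := by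
  obtain ⟨c, hc⟩ := hg
  have hpos : 0 < orderOf g := orderOf_pos g
  have hc0 : c ≠ 0 := by
    rintro rfl
    omega
  have : orderOf g / 2 = c := by rw [hc]; exact Nat.mul_div_cancel_left c (by norm_num)
  rw [this, orderOf_pow_of_dvd hc0 ⟨2, by rw [hc]; ring⟩, hc]
  exact Nat.mul_div_cancel 2 (Nat.pos_of_ne_zero hc0)

/-- G4D core: G4C (`Ct_elements`) as a hypothesis -/
theorem reeg4d_core (R : ReeAx G K m)
    (hCt : ∀ c : G, R.t * c = c * R.t →
      (∃ x : G, x * c * x⁻¹ ∈ R.B) ∨ (∃ x : G, x * c * x⁻¹ ∈ R.E))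
    (g : G) (hg : 2 ∣ orderOf g) :
    (∃ x : G, x * g * x⁻¹ ∈ R.B) ∨ (∃ x : G, x * g * x⁻¹ ∈ R.E) := by
  have ho := reeg4d_pow2 g hg
  have hs1 : g ^ (orderOf g / 2) ≠ 1 := by
    intro h
    rw [h, orderOf_one] at ho
    omega
  have hss : g ^ (orderOf g / 2) * g ^ (orderOf g / 2) = 1 := by
    have h := pow_orderOf_eq_one (g ^ (orderOf g / 2))
    rw [ho, pow_two] at h
    exact h
  obtain ⟨a, ha⟩ := R.invol_conj _ hs1 hss
  have hcomm : g ^ (orderOf g / 2) * g = g * g ^ (orderOf g / 2) := by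
    rw [← pow_succ, ← pow_succ']
  have hc : R.t * (a⁻¹ * g * a) = (a⁻¹ * g * a) * R.t := by
    have e1 : R.t * (a⁻¹ * g * a) = a⁻¹ * ((a * R.t * a⁻¹) * g) * a := by group
    have e2 : (a⁻¹ * g * a) * R.t = a⁻¹ * (g * (a * R.t * a⁻¹)) * a := by group
    rw [e1, e2, ha, hcomm]
  have key : ∀ x : G, x * (a⁻¹ * g * a) * x⁻¹ = (x * a⁻¹) * g * (x * a⁻¹)⁻¹ := by
    intro x; group
  rcases hCt _ hc with ⟨x, hx⟩ | ⟨x, hx⟩
  · left
    exact ⟨x * a⁻¹, by rw [← key]; exact hx⟩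
  · right
    exact ⟨x * a⁻¹, by rw [← key]; exact hx⟩

end ReeAx

end Cfsg.Agent.Lib.helper7.REE
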