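import Mathlib
import Cfsg.Agent.Lib.helper7.REE.Defs
import Cfsg.Agent.Lib.Helper29.REEG4Dcore
import Cfsg.Agent.Lib.helper2.REEG4C

set_option autoImplicit false

/-!
# Project REE (designer helper7), row G4D: `even_conj` (helper29).
-/

namespace Cfsg.Agent.Lib.helper7.REE

open Matrix Cfsg.Agent.Lib.helper8

universe u v

namespace ReeAx

variable {G : Type u} [Group G] [Finite G] {K : Type v} [Field K] [Fintype K] {m : ℕ}

/-- G4D. Every element of even order is conjugate into `B` or into `E`. -/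
theorem even_conj (R : ReeAx G K m) (g : G) (hg : 2 ∣ orderOf g) :
    (∃ x : G, x * g * x⁻¹ ∈ R.B) ∨ (∃ x : G, x * g * x⁻¹ ∈ R.E) :=
  R.reeg4d_core (fun c hc => R.Ct_elements c hc) g hg

end ReeAx

end Cfsg.Agent.Lib.helper7.REE
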