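import Mathlib
import Cfsg.Agent.Lib.helper7.REE.Defs
import Cfsg.Agent.Lib.Helper26.REEG5Dcore
import Cfsg.Agent.Lib.helper4.REEG4H
import Cfsg.Agent.Lib.Helper13.REEG4I
import Cfsg.Agent.Lib.Helper13.REEG4J
import Cfsg.Agent.Lib.Helper13.REEG4L
import Cfsg.Agent.Lib.helper4.REEG5B
import Cfsg.Agent.Lib.Helper20.REEG5C

/-!
# Project REE, row G5D (`NV_basic`), verbatim (wrapper of helper26's `reeg5d_core`).
-/

set_option autoImplicit false

namespace Cfsg.Agent.Lib.helper7.REE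

open Matrix Cfsg.Agent.Lib.helper8

universe u v

namespace ReeAx

variable {G : Type u} [Group G] [Finite G] {K : Type v} [Field K] [Fintype K] {m : ℕ}

/-- G5D. `N(V) = C(V) ⟨ρ⟩` has order `6 (q + 1)` and normalises `A₁` and `E`. -/
theorem NV_basic (R : ReeAx G K m) :
    Nat.card (Subgroup.normalizer (R.V : Set G)) = 6 * (qq m + 1) ∧
    (∀ g ∈ Subgroup.normalizer (R.V : Set G), ∀ a ∈ R.A1, g * a * g⁻¹ ∈ R.A1) ∧
    (∀ g ∈ Subgroup.normalizer (R.V : Set G), ∀ e ∈ R.E, g * e * g⁻¹ ∈ R.E) ∧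
    (∀ g : G, (∀ e ∈ R.E, g * e * g⁻¹ ∈ R.E) → g ∈ Subgroup.normalizer (R.V : Set G)) :=
  reeg5d_core R (V_basic R) (A1_basic R) (E_basic R) (cent_V R) (rho_exists R)
    (fun g hg hf => NV_fix R g hg hf)

end ReeAx

end Cfsg.Agent.Lib.helper7.REE
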