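import Mathlib
import Cfsg.Agent.Lib.helper7.REE.Defs
import Cfsg.Agent.Lib.Helper29.REEARA
import Cfsg.Agent.Lib.Helper29.REEARB
import Cfsg.Agent.Lib.Helper29.REEG3core
import Cfsg.Agent.Lib.Helper29.REEG3A

set_option autoImplicit false

/-!
# Project REE (designer helper7), rows G5E / G5G / G6A: cores on the statements of the cited rows (helper29).
-/

namespace Cfsg.Agent.Lib.helper7.REE

open Matrix Cfsg.Agent.Lib.helper8

universe u v

/-- a `p`-element is conjugate into any subgroup of index prime to `p` -/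
theorem reeg6a_conj_sub {G : Type u} [Group G] [Finite G] (A : Subgroup G) (p : ℕ) [Fact p.Prime]
    (hidx : ¬ p ∣ A.index) (y : G) (k : ℕ) (hy : y ^ (p ^ k) = 1) : ∃ g : G, g * y * g⁻¹ ∈ A := by
  obtain ⟨P⟩ : Nonempty (Sylow p A) := inferInstance
  have hP : IsPGroup p ((P : Subgroup A).map A.subtype) := P.2.map A.subtype
  have hi : ¬ p ∣ ((P : Subgroup A).map A.subtype).index := by
    rw [Subgroup.index_map_subtype]
    intro h
    rcases (Nat.Prime.dvd_mul Fact.out).mp h with h | h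
    · exact P.not_dvd_index h
    · exact hidx h
  obtain ⟨g, hg⟩ := reeg3_conj p _ hP hi y k hy
  exact ⟨g, Subgroup.map_subtype_le _ hg⟩

namespace ReeAx

variable {G : Type u} [Group G] [Finite G] {K : Type v} [Field K] [Fintype K] {m : ℕ}

/-- G5E core: the first clause of `A1_basic` and the order of `B` (`B_basic`) as hypotheses -/
theorem reeg5e_core (R : ReeAx G K m)
    (hA1 : ∀ a ∈ R.A1, a ^ ((qq m + 1) / 4) = 1)
    (hB : Nat.card R.B = qq m ^ 3 * (qq m - 1))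
    (c : G) (hc : c ∈ R.A1) (hc1 : c ≠ 1) (g : G) (hgc : g * c = c * g) : ¬ 3 ∣ orderOf g := by
  intro h3
  have ho := reeg3_pow3 g h3
  have h31 : (g ^ (orderOf g / 3)) ^ (3 ^ 1) = 1 := by
    have h := pow_orderOf_eq_one (g ^ (orderOf g / 3))
    rw [ho] at h
    rw [Nat.pow_one]
    exact h
  obtain ⟨x, hx⟩ := R.U_sylow _ 1 h31
  have hy1 : x * g ^ (orderOf g / 3) * x⁻¹ ≠ 1 := by
    intro h
    have h1 : g ^ (orderOf g / 3) = 1 := by
      have e : g ^ (orderOf g / 3) = x⁻¹ * (x * g ^ (orderOf g / 3) * x⁻¹) * x := by group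
      rw [e, h]; group
    rw [h1, orderOf_one] at ho
    omega
  have hcy : c * g ^ (orderOf g / 3) * c⁻¹ = g ^ (orderOf g / 3) := by
    have hcomm : Commute g c := hgc
    have := (hcomm.pow_left (orderOf g / 3)).eq
    rw [← this, mul_inv_cancel_right]
  have hcB : x * c * x⁻¹ ∈ R.B := by
    apply R.ti (x * c * x⁻¹) (x * g ^ (orderOf g / 3) * x⁻¹) hx hy1
    have e : x * c * x⁻¹ * (x * g ^ (orderOf g / 3) * x⁻¹) * (x * c * x⁻¹)⁻¹ =
        x * (c * g ^ (orderOf g / 3) * c⁻¹) * x⁻¹ := by group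
    rw [e, hcy]
    exact R.reeg3_U_le_B hx
  have hd1 : orderOf (x * c * x⁻¹) ∣ qq m ^ 3 * (qq m - 1) := by
    rw [← hB]; exact Subgroup.orderOf_dvd_natCard _ hcB
  have hd2 : orderOf (x * c * x⁻¹) ∣ (qq m + 1) / 4 := by
    apply orderOf_dvd_of_pow_eq_one
    rw [conj_pow, hA1 c hc]; group
  have hcop : Nat.Coprime ((qq m + 1) / 4) (qq m ^ 3 * (qq m - 1)) := by
    have h := ar_coprime m
    exact Nat.Coprime.mul_right (Nat.Coprime.pow_right 3 h.2.2.2.2.2.2.1) h.2.2.2.2.2.2.2.1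
  have h1 : orderOf (x * c * x⁻¹) ∣ 1 := by
    have := Nat.dvd_gcd hd2 hd1
    rwa [hcop.gcd_eq_one] at this
  have h2 : x * c * x⁻¹ = 1 := orderOf_eq_one_iff.mp (Nat.dvd_one.mp h1)
  apply hc1
  have e : c = x⁻¹ * (x * c * x⁻¹) * x := by group
  rw [e, h2]; group

/-- G5G core: clauses of `E_basic`, `V_basic`, `NV_basic` and the statement of `cent_A1_elt` as hypotheses -/
theorem reeg5g_core (R : ReeAx G K m)
    (hE7 : ∀ e ∈ R.E, e ∉ R.V → e * e ∈ R.A1 ∧ e * e ≠ 1)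
    (hEab : ∀ e₁ ∈ R.E, ∀ e₂ ∈ R.E, e₁ * e₂ = e₂ * e₁)
    (hVexp : ∀ v ∈ R.V, v * v = 1)
    (hcent : ∀ c : G, c ∈ R.A1 → c ≠ 1 → Subgroup.centralizer {c} = R.E)
    (hNV : ∀ g : G, (∀ e ∈ R.E, g * e * g⁻¹ ∈ R.E) → g ∈ Subgroup.normalizer (R.V : Set G))
    (e : G) (he : e ∈ R.E) (heV : e ∉ R.V) :
    Subgroup.centralizer {e} = R.E ∧
    ∀ g : G, g * e * g⁻¹ ∈ R.E → g ∈ Subgroup.normalizer (R.V : Set G) := by
  have key : ∀ f : G, f ∈ R.E → f ∉ R.V → Subgroup.centralizer {f} = R.E := by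
    intro f hf hfV
    obtain ⟨h1, h2⟩ := hE7 f hf hfV
    apply le_antisymm
    · intro x hx
      rw [← hcent (f * f) h1 h2]
      rw [Subgroup.mem_centralizer_iff] at hx ⊢
      intro y hy
      rw [Set.mem_singleton_iff.mp hy]
      have hxf : f * x = x * f := hx f rfl
      rw [mul_assoc, hxf, ← mul_assoc, hxf, mul_assoc]
    · intro x hx
      rw [Subgroup.mem_centralizer_iff]
      intro y hy
      rw [Set.mem_singleton_iff.mp hy]
      exact hEab f hf x hx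
  refine ⟨key e he heV, ?_⟩
  intro g hg
  apply hNV
  have hgV : g * e * g⁻¹ ∉ R.V := by
    intro h
    have h1 := hVexp _ h
    have e1 : g * e * g⁻¹ * (g * e * g⁻¹) = g * (e * e) * g⁻¹ := by group
    rw [e1] at h1
    apply (hE7 e he heV).2
    have e2 : e * e = g⁻¹ * (g * (e * e) * g⁻¹) * g := by group
    rw [e2, h1]; group
  have hC := key _ hg hgV
  intro f hf
  rw [← hC, Subgroup.mem_centralizer_iff]
  intro y hy
  rw [Set.mem_singleton_iff.mp hy]
  have hfe : e * f = f * e := hEab e he f hf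
  have e1 : g * e * g⁻¹ * (g * f * g⁻¹) = g * (e * f) * g⁻¹ := by group
  have e2 : g * f * g⁻¹ * (g * e * g⁻¹) = g * (f * e) * g⁻¹ := by group
  rw [e1, e2, hfe]

/-- the index of `H` -/
theorem reeg6a_H_index (R : ReeAx G K m) : R.H.index = qq m ^ 3 * (qq m + 1) * nn m := by
  have h1 := R.H.card_mul_index
  rw [R.H_card, R.card, (ar_basic m).2.2.2.2.2.2.2.1] at h1
  have hq : 0 < qq m - 1 := by
    have := (ar_basic m).2.1
    omega
  apply Nat.eq_of_mul_eq_mul_left hq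
  rw [h1]; ring

/-- G6A core: the order of `A₁` (`A1_basic`) as a hypothesis -/
theorem reeg6a_core (R : ReeAx G K m) (hA1card : 4 * Nat.card R.A1 = qq m + 1)
    (p : ℕ) (hp : p.Prime) (y : G) (hy : orderOf y = p) :
    (p ∣ (qq m - 1) / 2 → ∃ g : G, g * y * g⁻¹ ∈ R.H) ∧
    (p ∣ (qq m + 1) / 4 → ∃ g : G, g * y * g⁻¹ ∈ R.A1) := by
  have : Fact p.Prime := ⟨hp⟩
  have hyp : y ^ (p ^ 1) = 1 := by
    rw [Nat.pow_one, ← hy]; exact pow_orderOf_eq_one y
  have hco := ar_coprime m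
  have hba := ar_basic m
  have hnd : ∀ a b : ℕ, Nat.Coprime a b → p ∣ a → ¬ p ∣ b := by
    intro a b hab ha hb
    have := Nat.dvd_gcd ha hb
    rw [hab.gcd_eq_one] at this
    exact hp.one_lt.ne' (Nat.dvd_one.mp this)
  constructor
  · intro hpd
    apply reeg6a_conj_sub R.H p _ y 1 hyp
    rw [R.reeg6a_H_index]
    have hpq1 : p ∣ qq m - 1 := dvd_trans hpd ⟨2, by rw [mul_comm]; exact hba.2.2.2.2.2.2.2.2.2.1.symm⟩
    intro h
    rcases (Nat.Prime.dvd_mul hp).mp h with h | h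
    · rcases (Nat.Prime.dvd_mul hp).mp h with h | h
      · exact hnd _ _ hco.2.2.2.2.2.2.2.2.2.1 hpd (hp.dvd_of_dvd_pow h)
      · exact hnd _ _ hco.2.2.2.2.2.2.2.2.2.2.1 hpd h
    · exact hnd _ _ hco.2.2.1.symm hpq1 h
  · intro hpd
    apply reeg6a_conj_sub R.A1 p _ y 1 hyp
    have hidx : R.A1.index = 4 * (qq m ^ 3 * (qq m - 1) * nn m) := by
      have h1 := R.A1.card_mul_index
      rw [R.card, hba.2.2.2.2.2.2.2.1] at h1
      have hpos : 0 < Nat.card R.A1 := Nat.card_pos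
      apply Nat.eq_of_mul_eq_mul_left hpos
      rw [h1, ← hA1card]; ring
    rw [hidx]
    have hpq1 : p ∣ qq m + 1 := dvd_trans hpd ⟨4, by rw [mul_comm]; exact hba.2.2.2.2.2.2.2.2.2.2.2.1.symm⟩
    intro h
    rcases (Nat.Prime.dvd_mul hp).mp h with h | h
    · have h4 : p ∣ 2 ^ 2 := by norm_num; exact h
      have h6 : p ∣ 6 := dvd_trans (hp.dvd_of_dvd_pow h4) (by norm_num)
      exact hnd _ _ hco.2.2.2.2.2.1 hpd h6
    · rcases (Nat.Prime.dvd_mul hp).mp h with h | h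
      · rcases (Nat.Prime.dvd_mul hp).mp h with h | h
        · exact hnd _ _ hco.2.2.2.2.2.2.1 hpd (hp.dvd_of_dvd_pow h)
        · exact hnd _ _ hco.2.2.2.2.2.2.2.1 hpd h
      · exact hnd _ _ hco.2.2.2.1.symm hpq1 h

end ReeAx

end Cfsg.Agent.Lib.helper7.REE
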