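import Mathlib
import Cfsg.Agent.Lib.helper7.REE.Defs
import Cfsg.Agent.Lib.Helper29.REEG56core
import Cfsg.Agent.Lib.Helper13.REEG4I
import Cfsg.Agent.Lib.helper4.REEG1A

/-!
# Project REE, row G5E (`cent_A1_no3`), verbatim.
-/

set_option autoImplicit false

namespace Cfsg.Agent.Lib.helper7.REE

open Matrix Cfsg.Agent.Lib.helper8

universe u v

namespace ReeAx

variable {G : Type u} [Group G] [Finite G] {K : Type v} [Field K] [Fintype K] {m : ℕ}

/-- G5E. `C(c)` has no 3-singular element (`three_sing_conj`: `c` would lie in a conjugate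
of `C(y) ≤ B`, but `|c|` is prime to `|B|`). -/
theorem cent_A1_no3 (R : ReeAx G K m) (c : G) (hc : c ∈ R.A1) (hc1 : c ≠ 1) (g : G)
    (hgc : g * c = c * g) : ¬ 3 ∣ orderOf g :=
  R.reeg5e_core (fun a ha => ((R.A1_basic.1 a).mp ha).2) R.B_basic.2.2.2.1 c hc hc1 g hgc

end ReeAx

end Cfsg.Agent.Lib.helper7.REE
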