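import Mathlib
import Cfsg.Agent.Lib.helper7.REE.Defs
import Cfsg.Agent.Lib.Helper5.REEG5Fcore
import Cfsg.Agent.Lib.Helper29.REEARA
import Cfsg.Agent.Lib.Helper26.REEGEND
import Cfsg.Agent.Lib.helper4.REEG4H
import Cfsg.Agent.Lib.Helper13.REEG4J
import Cfsg.Agent.Lib.Helper20.REEG4K
import Cfsg.Agent.Lib.helper4.REEG5B
import Cfsg.Agent.Lib.Helper20.REEG5C
import Cfsg.Agent.Lib.Helper29.REEG5D
import Cfsg.Agent.Lib.Helper29.REEG5E

/-!
# Project REE, row G5F (`cent_A1_elt`), verbatim (wrapper of helper5's `cent_A1_elt_core`).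
-/

set_option autoImplicit false

namespace Cfsg.Agent.Lib.helper7.REE

open Matrix Cfsg.Agent.Lib.helper8

universe u v

namespace ReeAx

variable {G : Type u} [Group G] [Finite G] {K : Type v} [Field K] [Fintype K] {m : ℕ}

/-- G5F. `C(c) = E` for `c ∈ A₁ ∖ 1` (`four_complement` with `C = C(c)`, `A = A₁`). -/
theorem cent_A1_elt (R : ReeAx G K m) (c : G) (hc : c ∈ R.A1) (hc1 : c ≠ 1) :
    Subgroup.centralizer {c} = R.E :=
  R.cent_A1_elt_core ⟨(ar_basic m).2.2.2.2.2.2.2.2.2.2.1, (ar_basic m).2.2.2.2.2.2.2.2.2.2.2.1⟩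
    (fun C V A hVC hAC hV4 hVexp hsyl hNC hodd => four_complement C V A hVC hAC hV4 hVexp hsyl hNC hodd)
    R.V_basic R.E_basic (fun c hc hc1 g hgt hgc => R.cent_t_A1 c hc hc1 g hgt hgc)
    R.rho_exists (fun g hg hf => R.NV_fix g hg hf) R.NV_basic
    (fun c hc hc1 g hgc => R.cent_A1_no3 c hc hc1 g hgc) c hc hc1

end ReeAx

end Cfsg.Agent.Lib.helper7.REE
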