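import Mathlib
import Cfsg.Agent.Lib.helper7.REE.Defs
import Cfsg.Agent.Lib.Helper29.REEG56core
import Cfsg.Agent.Lib.Helper13.REEG4I

/-!
# Project REE, row G6A (`conj_H_A1`), verbatim.
-/

set_option autoImplicit false

namespace Cfsg.Agent.Lib.helper7.REE

open Matrix Cfsg.Agent.Lib.helper8

universe u v

namespace ReeAx

variable {G : Type u} [Group G] [Finite G] {K : Type v} [Field K] [Fintype K] {m : ℕ}

/-- G6A. Elements of prime order `p ∣ (q - 1) / 2` are conjugate into `H`, those of prime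
order `p ∣ (q + 1) / 4` into `A₁` (`conj_into_sylow`). -/
theorem conj_H_A1 (R : ReeAx G K m) (p : ℕ) (hp : p.Prime) (y : G) (hy : orderOf y = p) :
    (p ∣ (qq m - 1) / 2 → ∃ g : G, g * y * g⁻¹ ∈ R.H) ∧
    (p ∣ (qq m + 1) / 4 → ∃ g : G, g * y * g⁻¹ ∈ R.A1) :=
  R.reeg6a_core R.A1_basic.2.2.1 p hp y hy

end ReeAx

end Cfsg.Agent.Lib.helper7.REE
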