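import Mathlib
import Cfsg.Agent.Lib.helper7.REE.Defs
import Cfsg.Agent.Lib.Helper29.REEG56core
import Cfsg.Agent.Lib.helper4.REEG4H
import Cfsg.Agent.Lib.Helper13.REEG4J
import Cfsg.Agent.Lib.Helper29.REEG5D
import Cfsg.Agent.Lib.Helper29.REEG5F

/-!
# Project REE, row G5G (`E_TI`), verbatim.
-/

set_option autoImplicit false

namespace Cfsg.Agent.Lib.helper7.REE

open Matrix Cfsg.Agent.Lib.helper8

universe u v

namespace ReeAx

variable {G : Type u} [Group G] [Finite G] {K : Type v} [Field K] [Fintype K] {m : ℕ}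

/-- G5G. `C(e) = E` for `e ∈ E ∖ V`, and `E ∖ V` is a TI-set with normaliser `N(V) = N(E)`. -/
theorem E_TI (R : ReeAx G K m) (e : G) (he : e ∈ R.E) (heV : e ∉ R.V) :
    Subgroup.centralizer {e} = R.E ∧
    ∀ g : G, g * e * g⁻¹ ∈ R.E → g ∈ Subgroup.normalizer (R.V : Set G) :=
  R.reeg5g_core R.E_basic.2.2.2.2.2.2.1 R.E_basic.2.1 R.V_basic.2.2.2.2.2.2.1
    (fun c hc hc1 => R.cent_A1_elt c hc hc1) R.NV_basic.2.2.2 e he heV

end ReeAx

end Cfsg.Agent.Lib.helper7.REE
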