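import Mathlib
import Cfsg.Agent.Lib.helper7.REE.Defs
import Cfsg.Agent.Lib.Helper5.REEG7Dcore
import Cfsg.Agent.Lib.Helper29.REEARA
import Cfsg.Agent.Lib.Helper1.REEG6
import Cfsg.Agent.Lib.Helper10.REEG7B

/-!
# Project REE, row G7D (`tor_hall`), verbatim (wrapper of helper5's `tor_hall_core`).
-/

set_option autoImplicit false

namespace Cfsg.Agent.Lib.helper7.REE

open Matrix Cfsg.Agent.Lib.helper8

universe u v

namespace ReeAx

variable {G : Type u} [Group G] [Finite G] {K : Type v} [Field K] [Fintype K] {m : ℕ}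

/-- G7D. π-tori are TI, Hall, and two of them with non-coprime orders are conjugate; every
prime divisor of `N₀` divides the order of one of them. -/
theorem tor_hall (R : ReeAx G K m) :
    (∀ A, R.IsTor A → ∀ g : G, R.IsTor (A.map (MulAut.conj g).toMonoidHom)) ∧
    (∀ A, R.IsTor A → ∀ g : G, ∀ a ∈ A, a ≠ 1 → g * a * g⁻¹ ∈ A →
      g ∈ Subgroup.normalizer (A : Set G)) ∧
    (∀ A, R.IsTor A → (Nat.card A).Coprime (nn m / Nat.card A)) ∧
    (∀ A A', R.IsTor A → R.IsTor A' → ¬ (Nat.card A).Coprime (Nat.card A') →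
      ∃ g : G, A' = A.map (MulAut.conj g).toMonoidHom) ∧
    (∀ l : ℕ, l.Prime → l ∣ nn m → ∃ A, R.IsTor A ∧ l ∣ Nat.card A) :=
  R.tor_hall_core (ar_basic m).2.2.2.2.2.2.2.1 (fun A hA => R.tor_pi A hA)
    (fun A hA => R.tor_cyclic A hA)

end ReeAx

end Cfsg.Agent.Lib.helper7.REE
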