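import Mathlib
import Cfsg.Agent.Lib.helper7.REE.Defs
import Cfsg.Agent.Lib.Helper21.REEG8Ccore
import Cfsg.Agent.Lib.Helper1.REEG1
import Cfsg.Agent.Lib.Helper13.REEG4I
import Cfsg.Agent.Lib.Helper13.REEG4J
import Cfsg.Agent.Lib.Helper29.REEG5G
import Cfsg.Agent.Lib.Helper29.REEG5D
import Cfsg.Agent.Lib.helper3.REEG7F
import Cfsg.Agent.Lib.Helper10.REEG7B
import Cfsg.Agent.Lib.Helper29.REEG7D

/-!
# Project REE, row G8C (`hall_subgroups`), verbatim (wrapper of helper21's `hall_subgroups_core`).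
-/

set_option autoImplicit false

namespace Cfsg.Agent.Lib.helper7.REE

open Matrix Cfsg.Agent.Lib.helper8

universe u v

namespace ReeAx

variable {G : Type u} [Group G] [Finite G] {K : Type v} [Field K] [Fintype K] {m : ℕ}

/-- G8C (→ S1158). The cyclic Hall subgroups and their normalisers. -/
theorem hall_subgroups (R : ReeAx G K m) :
    ∀ kn ∈ ({((qq m - 1) / 2, 2 * (qq m - 1)), ((qq m + 1) / 4, 6 * (qq m + 1)),
        (qq m - rr m + 1, 6 * (qq m - rr m + 1)),
        (qq m + rr m + 1, 6 * (qq m + rr m + 1))} : Set (ℕ × ℕ)),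
      ∃ A : Subgroup G, IsCyclic A ∧ Nat.card A = kn.1 ∧
        Nat.card (Subgroup.normalizer (A : Set G)) = kn.2 ∧
        ∀ A₀ : Subgroup G, A₀ ≤ A → A₀ ≠ ⊥ →
          Subgroup.normalizer (A₀ : Set G) = Subgroup.normalizer (A : Set G) :=
  R.hall_subgroups_core R.NH_basic (fun g h hh h1 ht hg => R.H_TI g h hh h1 ht hg) R.A1_basic
    R.E_basic (fun e he heV => R.E_TI e he heV) R.NV_basic R.ward
    (fun A hA => R.tor_cyclic A hA) R.tor_hall

end ReeAx

end Cfsg.Agent.Lib.helper7.REE
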