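import Mathlib
import Cfsg.Prelude.Def_Classical
import Cfsg.Prelude.Def_KGroupFacts
import Cfsg.Agent.Lib.Lead.SPM2.Defs

/-!
# Project SPM2 (designer lead), row C12 (helper29), verbatim: `-1 ≠ 1` in `(ClM m F A B)ˣ` in odd characteristic (port of SPN C20, `Helper9/SPNC1.lean`).
-/

set_option autoImplicit false

namespace Cfsg.Agent.Lib.Lead.SPM2

open Cfsg.Agent.Lib.helper15.St2 Cfsg.Agent.Lib.helper3.STC Cfsg.Agent.Lib.Lead.STD Cfsg.Agent.Lib.helper17.STM
  Cfsg.Agent.Lib.Lead.SPN Cfsg.Agent.Lib.Helper16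
open Cfsg.Agent.Lib.Helper12.OMN (omatM oglM omatM_mul omatM_one omatM_injective oglM_coe oglM_injective)

universe u v w

section C

/-- C12 [S]  `-1 ≠ 1` in `ClM m F A B` in odd characteristic (model: SPN C20 `neg_one_ne_one_Cl`, `Helper9/SPNC1.lean`, SPB C12: Mathlib's `Nontrivial (CliffordAlgebra Q)` needs `Invertible (2 : F)`). -/
theorem neg_one_ne_one_ClM (m : ℕ) {F : Type u} [Field F] (A B : F) (h2 : (2 : F) ≠ 0) : (-1 : (ClM m F A B)ˣ) ≠ 1 := by
  have : Invertible (2 : F) := invertibleOfNonzero h2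
  have : Nontrivial (ClM m F A B) := inferInstance
  intro h
  have h1 : (-1 : ClM m F A B) = 1 := by
    have := congrArg (fun x : (ClM m F A B)ˣ => (x : ClM m F A B)) h
    simpa using this
  have h3 : (2 : ClM m F A B) = 0 := by
    have : (1 : ClM m F A B) + 1 = 0 := by
      nth_rewrite 1 [← h1]
      exact neg_add_cancel 1
    rw [← this]; norm_num
  have h4 : algebraMap F (ClM m F A B) 2 = 0 := by
    rw [map_ofNat]; exact h3
  have := (algebraMap F (ClM m F A B)).injective (a₁ := 2) (a₂ := 0) (by rw [h4, map_zero])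
  exact h2 this

end C

end Cfsg.Agent.Lib.Lead.SPM2
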