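import Mathlib
import Cfsg.Prelude.Def_Classical
import Cfsg.Prelude.Def_KGroupFacts
import Cfsg.Agent.Lib.Lead.SPM2.Defs

/-!
# Project SPM2 (designer lead), row C8 (helper29), verbatim: `ws a t = YM a t + YM (ng a) (star t)⁻¹` in the Clifford algebra `ClM m F A B`.
Self-contained on `SPM2/Defs.lean`: own-name copies (`spm2c8_*`) of the C1 products.
-/

set_option autoImplicit false

namespace Cfsg.Agent.Lib.Lead.SPM2

open Cfsg.Agent.Lib.helper15.St2 Cfsg.Agent.Lib.helper3.STC Cfsg.Agent.Lib.Lead.STD Cfsg.Agent.Lib.helper17.STM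
  Cfsg.Agent.Lib.Lead.SPN Cfsg.Agent.Lib.Helper16
open Cfsg.Agent.Lib.Helper12.OMN (omatM oglM omatM_mul omatM_one omatM_injective oglM_coe oglM_injective)

universe u v w

/-- ring form of C8: `(1 + P)(1 + Q)(1 + P) = P + Q` if `P² = 0`, `PQ + QP = -1`. -/
theorem spm2c8_ws_ring {R : Type*} [Ring R] {P Q : R} (hP : P * P = 0) (hPQ : P * Q + Q * P = -1) :
    (1 + P) * (1 + Q) * (1 + P) = P + Q := by
  have hQP : Q * P = -1 - P * Q := by rw [← hPQ]; abel
  have hPQP : P * Q * P = -P := by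
    rw [mul_assoc, hQP, mul_sub, mul_neg, mul_one, ← mul_assoc, hP, zero_mul, sub_zero]
  calc (1 + P) * (1 + Q) * (1 + P) = 1 + P + P + Q + (P * Q + Q * P) + P * P + P * Q * P := by noncomm_ring
    _ = P + Q := by rw [hPQ, hP, hPQP]; abel

section C

variable {m : ℕ} {F : Type u} [Field F] {A B : F}

theorem spm2c8_ng_ng (a : Fin m ⊕ Fin m) : ng (ng a) = a := by cases a <;> rfl

/-- own-name copy of C1 `YYm_mul`. -/
theorem spm2c8_YYm_mul (a b : Fin m ⊕ Fin m) : YYm (A := A) (B := B) a * YYm b = -(gamM a * gamM b) := by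
  unfold YYm
  calc g0 (A := A) (B := B) * gamM a * (g0 * gamM b) = g0 * (gamM a * g0) * gamM b := by noncomm_ring
    _ = -(g0 * g0 * (gamM a * gamM b)) := by rw [gamM_g0]; noncomm_ring
    _ = -(gamM a * gamM b) := by rw [g0_sq, one_mul]

/-- own-name copy of C1 `YM_mul`. -/
theorem spm2c8_YM_mul (a b : Fin m ⊕ Fin m) (t u : Kq F A B) :
    YM (m := m) a t * YM b u = -(ik (t * star u) * (gamM a * gamM b)) := by
  rw [YM_eq, YM_eq]
  calc ik (m := m) t * YYm a * (ik u * YYm b) = ik t * (YYm a * ik u) * YYm b := by noncomm_ring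
    _ = ik t * (ik (star u) * YYm a) * YYm b := by rw [YYm_ik]
    _ = ik (t * star u) * (YYm a * YYm b) := by rw [map_mul]; noncomm_ring
    _ = -(ik (t * star u) * (gamM a * gamM b)) := by rw [spm2c8_YYm_mul, mul_neg]

/-- own-name copy of C1 `YM_mul_same`. -/
theorem spm2c8_YM_mul_same (a : Fin m ⊕ Fin m) (t u : Kq F A B) : YM (m := m) a t * YM a u = 0 := by
  rw [spm2c8_YM_mul, gamM_sq, mul_zero, neg_zero]

/-- own-name copy of C1 `YM_opp`. -/
theorem spm2c8_YM_opp (a : Fin m ⊕ Fin m) (t u : Kq F A B) :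
    YM (m := m) a t * YM (ng a) u = -(ik (t * star u) * ppM a) ∧
      YM (m := m) (ng a) u * YM a t = -(ik (u * star t) * ppM (ng a)) := by
  refine ⟨?_, ?_⟩
  · rw [spm2c8_YM_mul]
    rfl
  · rw [spm2c8_YM_mul]
    unfold ppM
    rw [spm2c8_ng_ng]

/-- own-name copy of C1 `ppM_add`. -/
theorem spm2c8_ppM_add (a : Fin m ⊕ Fin m) : ppM (A := A) (B := B) a + ppM (ng a) = 1 := by
  have h := gamM_car (A := A) (B := B) a (ng a)
  rw [if_pos (spm2c8_ng_ng a).symm] at h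
  unfold ppM
  rw [spm2c8_ng_ng]
  exact h

/-- the two products `PQ`, `QP` of C8 add up to `-1`. -/
theorem spm2c8_opp_add [Fact (∀ r : F, r ^ 2 ≠ -B + A * r)] (a : Fin m ⊕ Fin m) (t : Kq F A B) (ht : t ≠ 0) :
    YM (m := m) a t * YM (ng a) (star t)⁻¹ + YM (ng a) (star t)⁻¹ * YM a t = -1 := by
  have hst : star t ≠ 0 := kq_star_ne_zero ht
  have e1 : t * star (star t)⁻¹ = 1 := by
    rw [kq_star_inv, star_star, mul_inv_cancel₀ ht]
  have e2 : (star t)⁻¹ * star t = 1 := inv_mul_cancel₀ hst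
  rw [(spm2c8_YM_opp a t (star t)⁻¹).1, (spm2c8_YM_opp a t (star t)⁻¹).2, e1, e2, map_one, one_mul, one_mul,
    ← neg_add, spm2c8_ppM_add]

/-- C8 [M]  model SPB C8 `wsOf_XCs`: `ws a t = (1 + P)(1 + Q)(1 + P) = P + Q` with `P = YM a t`, `Q = YM (ng a) (star t)⁻¹`: `P² = Q² = 0` (`YM_mul_same`), `PQ = -p_a`, `QP = -p_{-a}` (C1 `YM_opp`; `star (star t)⁻¹ = t⁻¹`:
`kq_star_inv`, `star_star`; `t * t⁻¹ = 1`, `map_one`), `PQ + QP = -1` (`ppM_add`), `PQP = P(-1 - PQ) = -P`. -/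
theorem wsOfM_XCsm [Fact (∀ r : F, r ^ 2 ≠ -B + A * r)] (a : Fin m ⊕ Fin m) (t : Kq F A B) (ht : t ≠ 0) :
    ((wsOfM (XCsm (m := m) (F := F) (A := A) (B := B)) a t : (ClM m F A B)ˣ) : ClM m F A B) = YM a t + YM (ng a) (star t)⁻¹ := by
  unfold wsOfM
  rw [Units.val_mul, Units.val_mul, XCsm_val, XCsm_val]
  exact spm2c8_ws_ring (spm2c8_YM_mul_same a t t) (spm2c8_opp_add a t ht)

end C

end Cfsg.Agent.Lib.Lead.SPM2
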