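import Mathlib
import Cfsg.Prelude.Def_Classical
import Cfsg.Prelude.Def_KGroupFacts
import Cfsg.Agent.Lib.Lead.SPM2.Defs
import Cfsg.Agent.Lib.Helper29.SPM2C8

/-!
# Project SPM2 (designer lead), rows C10 + C11 (helper29), verbatim: `hs a t = ik t p_a + ik (star t)⁻¹ p_{-a}` in the Clifford algebra `ClM m F A B`,
and the spin element `hs a (-1) = -1`.  On `Helper29.SPM2C8` (C8 verbatim and own-name copies `spm2c8_*` of the C1 products).
-/

set_option autoImplicit false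

namespace Cfsg.Agent.Lib.Lead.SPM2

open Cfsg.Agent.Lib.helper15.St2 Cfsg.Agent.Lib.helper3.STC Cfsg.Agent.Lib.Lead.STD Cfsg.Agent.Lib.helper17.STM
  Cfsg.Agent.Lib.Lead.SPN Cfsg.Agent.Lib.Helper16
open Cfsg.Agent.Lib.Helper12.OMN (omatM oglM omatM_mul omatM_one omatM_injective oglM_coe oglM_injective)

universe u v w

section C

variable {m : ℕ} {F : Type u} [Field F] {A B : F}

theorem spm2c10_star_neg_one_inv [Fact (∀ r : F, r ^ 2 ≠ -B + A * r)] : (star (-1 : Kq F A B))⁻¹ = -1 := by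
  rw [star_neg, star_one, inv_neg, inv_one]

/-- C10 [S-M]  model SPB C10 `hsOf_XCs`: `hs a t = ws a t * ws a (-1) = (P + Q)(P' + Q')` with `P' = YM a (-1)`, `Q' = YM (ng a) (-1)` (`(star (-1))⁻¹ = -1`: `star_neg`, `star_one`, `inv_neg`, `inv_one`):
`PP' = QQ' = 0`, `PQ' = -(ik (t * star (-1)) * p_a) = ik t * p_a`, `QP' = ik (star t)⁻¹ * p_{-a}` (C1 `YM_opp`, `YM_mul_same`; C8 twice). -/
theorem hsOfM_XCsm [Fact (∀ r : F, r ^ 2 ≠ -B + A * r)] (a : Fin m ⊕ Fin m) (t : Kq F A B) (ht : t ≠ 0) :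
    ((hsOfM (XCsm (m := m) (F := F) (A := A) (B := B)) a t : (ClM m F A B)ˣ) : ClM m F A B) = ik t * ppM a + ik (star t)⁻¹ * ppM (ng a) := by
  unfold hsOfM
  rw [Units.val_mul, wsOfM_XCsm a t ht, wsOfM_XCsm a (-1) (neg_ne_zero.2 one_ne_zero), spm2c10_star_neg_one_inv]
  rw [add_mul, mul_add, mul_add, spm2c8_YM_mul_same, spm2c8_YM_mul_same, zero_add, add_zero,
    (spm2c8_YM_opp a t (-1)).1, (spm2c8_YM_opp a (-1) (star t)⁻¹).2]
  rw [star_neg, star_one, mul_neg_one, mul_neg_one, map_neg, map_neg, neg_mul, neg_mul, neg_neg, neg_neg]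

/-- C11 [S]  **the spin element is `-1`**: C10 at `t = -1` (`ik (-1) = -1`: `map_neg`, `map_one`), `p_a + p_{-a} = 1` (`ppM_add`). -/
theorem spin_XCsm [Fact (∀ r : F, r ^ 2 ≠ -B + A * r)] (a : Fin m ⊕ Fin m) : hsOfM (XCsm (m := m) (F := F) (A := A) (B := B)) a (-1) = -1 := by
  apply Units.ext
  rw [hsOfM_XCsm a (-1) (neg_ne_zero.2 one_ne_zero), spm2c10_star_neg_one_inv, map_neg, map_one, neg_one_mul, neg_one_mul,
    ← neg_add, spm2c8_ppM_add]
  rfl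

end C

end Cfsg.Agent.Lib.Lead.SPM2
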