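import Mathlib
import Cfsg.Prelude.Def_Classical
import Cfsg.Prelude.Def_KGroupFacts
import Cfsg.Agent.Lib.Lead.SPM2.Defs
import Cfsg.Agent.Lib.Helper11.SPNC16
import Cfsg.Agent.Lib.Helper21.SPM2C2
import Cfsg.Agent.Lib.Helper21.SPM2C6
import Cfsg.Agent.Lib.Helper29.SPM2C10

/-!
# Project SPM2 (designer lead), row C13 (helper29), CORE: the assembly of the Steinberg system of type `²D` in `(ClM m F A B)ˣ`, with the STATEMENT of C9 (`XCsm_rels`) as hypothesis.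
On `Helper11.SPNC16` (`spnc16_sys`), `Helper21.SPM2C2` (C2 C5), `Helper21.SPM2C6` (C6 C7), `Helper29.SPM2C10` (C11).
-/

set_option autoImplicit false

namespace Cfsg.Agent.Lib.Lead.SPM2

open Cfsg.Agent.Lib.helper15.St2 Cfsg.Agent.Lib.helper3.STC Cfsg.Agent.Lib.Lead.STD Cfsg.Agent.Lib.helper17.STM
  Cfsg.Agent.Lib.Lead.SPN Cfsg.Agent.Lib.Helper16
open Cfsg.Agent.Lib.Helper12.OMN (omatM oglM omatM_mul omatM_one omatM_injective oglM_coe oglM_injective)

universe u v w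

section C

/-- the Steinberg system of type `²D` of the Clifford algebra `ClM m F A B`, given the relation C9 -/
noncomputable def spm2c13_sys (m : ℕ) (F : Type u) [Field F] (A B : F) [Fact (∀ r : F, r ^ 2 ≠ -B + A * r)]
    (hrels : ∀ (a : Fin m ⊕ Fin m) (t u : Kq F A B), t ≠ 0 →
      cj (XCsm (m := m) a t * XCsm (ng a) (star t)⁻¹ * XCsm a t) (XCsm a u) = XCsm (ng a) (star (t⁻¹ ^ 2 * u))) :
    SysM F A B (Fin m) (ClM m F A B)ˣ where
  toSysD := (spnc16_sys m F).map (Units.map (phiM m F A B).toMonoidHom)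
  xs := XCsm
  adds := XCsm_add
  comm_ls := XCsm_comm_ls
  ls := XCsm_ls
  ss := XCsm_ss
  rels := hrels

/-- C13 core: the assembly, on the statement of C9. -/
theorem spm2c13_core (m : ℕ) (F : Type u) [Field F] (A B : F) [Fact (∀ r : F, r ^ 2 ≠ -B + A * r)]
    (hrels : ∀ (a : Fin m ⊕ Fin m) (t u : Kq F A B), t ≠ 0 →
      cj (XCsm (m := m) a t * XCsm (ng a) (star t)⁻¹ * XCsm a t) (XCsm a u) = XCsm (ng a) (star (t⁻¹ ^ 2 * u))) :
    ∃ S : SysM F A B (Fin m) (ClM m F A B)ˣ, (∀ a b t, S.x a b t = XClm a b t) ∧ (∀ a u, S.xs a u = XCsm a u) ∧ ∀ a, S.hs a (-1) = -1 :=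
  ⟨spm2c13_sys m F A B hrels, fun _ _ _ => rfl, fun _ _ => rfl, fun a => spin_XCsm a⟩

end C

end Cfsg.Agent.Lib.Lead.SPM2
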