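import Mathlib
import Cfsg.Prelude.Def_Classical
import Cfsg.Prelude.Def_KGroupFacts
import Cfsg.Agent.Lib.Lead.SPM2.Defs
import Cfsg.Agent.Lib.Helper21.SPM2C9
import Cfsg.Agent.Lib.Helper29.SPM2C13core

/-!
# Project SPM2 (designer lead), row C13 (helper29), verbatim: `exists_cliffSysM`, the Steinberg system of type `²D` in `(ClM m F A B)ˣ` with spin element `-1`.
`spm2c13_core` (`Helper29.SPM2C13core`) at C9 `XCsm_rels` (`Helper21.SPM2C9`).
-/

set_option autoImplicit false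

namespace Cfsg.Agent.Lib.Lead.SPM2

open Cfsg.Agent.Lib.helper15.St2 Cfsg.Agent.Lib.helper3.STC Cfsg.Agent.Lib.Lead.STD Cfsg.Agent.Lib.helper17.STM
  Cfsg.Agent.Lib.Lead.SPN Cfsg.Agent.Lib.Helper16
open Cfsg.Agent.Lib.Helper12.OMN (omatM oglM omatM_mul omatM_one omatM_injective oglM_coe oglM_injective)

universe u v w

section C

/-- C13 [S-M]  assembly (model SPB C13 `exists_cliffSysB`).  `toSysD := Sd.map (Units.map (phiM m F A B).toMonoidHom)` for the `Sd` of SPN C16 `exists_cliffSys m F` (`Helper11/SPNC16.lean`; `SysD.map` of `Lead/SPN/Defs.lean`; its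
`x a b t` is `XClm a b t` after rewriting with `Sd.x a b t = XC a b t`), `xs := XCsm`, the fields `adds comm_ls ls ss rels` are C2 C5 C7 C6 C9; the last clause is C11 (`hs_eq_hsOfM`). -/
theorem exists_cliffSysM (m : ℕ) (F : Type u) [Field F] (A B : F) [Fact (∀ r : F, r ^ 2 ≠ -B + A * r)] :
    ∃ S : SysM F A B (Fin m) (ClM m F A B)ˣ, (∀ a b t, S.x a b t = XClm a b t) ∧ (∀ a u, S.xs a u = XCsm a u) ∧ ∀ a, S.hs a (-1) = -1 :=
  spm2c13_core m F A B (fun a t u ht => XCsm_rels a t u ht)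

end C

end Cfsg.Agent.Lib.Lead.SPM2
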