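import Mathlib
import Cfsg.Agent.Lib.Lead.STB.Defs
import Cfsg.Agent.Lib.Lead.STB.Defs3
import Cfsg.Agent.Lib.helper7.StC
import Cfsg.Agent.Lib.Lead.STDB1
import Cfsg.Agent.Lib.Helper16.STDH3
import Cfsg.Agent.Lib.Helper1.STBX1
import Cfsg.Agent.Lib.Helper20.STBH1
import Cfsg.Agent.Lib.Helper20.STBH2

/-!
# Project STB (designer lead), rows A1 (`ALTj_mul_Ag ALTj_mul_Lg ALTj_mul_h`) and A2 (`Phat_decomp`): CORES (helper29).

* `stba1_mul_Ag` = the statement of `ALTj_mul_Ag`; `stba1_mul_h` = the statement of `ALTj_mul_h` (on H2 `isMon_h` and X1 `IsMon.cj_mem_XQ`, no N3 needed);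
* `stba1_mul_Lg_core` = `ALTj_mul_Lg` from the STATEMENT `hN2p` of N2p `Lg_cj_mem_Ag`;
* `stba2_core` = `Phat_decomp` from `hN2p` (on H3 `h_ng_eq`, H4 `hs_eq_hh`, STD `h_chain`, H1 `hs_inv`, X1; the membership facts of N1 / N1d needed here are proved under own names `stba1_*`).
-/

set_option autoImplicit false
set_option linter.unusedSectionVars false

namespace Cfsg.Agent.Lib.Lead.STB

open Cfsg.Agent.Lib.helper15.St2 Cfsg.Agent.Lib.helper7.St Cfsg.Agent.Lib.helper3.STC Cfsg.Agent.Lib.Lead.STD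

universe v w

namespace SysB

variable {K : Type*} [Field K] {ι : Type*} [DecidableEq ι] {G : Type*} [Group G] (S : SysB K ι G)

section A
variable (o : ι ⊕ ι)

theorem stba1_x_mem_Ag (b : ι ⊕ ι) (t : K) : S.x o b t ∈ S.Ag o :=
  S.x_mem_XQ (Q := fun a _ => a = o) (Qs := fun a => a = o) rfl t

theorem stba1_x_mem_Ag' (a : ι ⊕ ι) (t : K) : S.x a (ng o) t ∈ S.Ag o :=
  S.x_mem_XQ' (Q := fun a _ => a = o) (Qs := fun a => a = o) (ng_ng o) t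

theorem stba1_xs_mem_Ag (t : K) : S.xs o t ∈ S.Ag o :=
  S.xs_mem_XQ (Q := fun a _ => a = o) (Qs := fun a => a = o) rfl t

theorem stba1_x_mem_Lg {a b : ι ⊕ ι} (ha : a ≠ o) (ha' : a ≠ ng o) (hb : b ≠ o) (hb' : b ≠ ng o) (t : K) :
    S.x a b t ∈ S.Lg o :=
  S.x_mem_XQ (Q := fun a b => (a ≠ o ∧ a ≠ ng o) ∧ (b ≠ o ∧ b ≠ ng o)) (Qs := fun a => a ≠ o ∧ a ≠ ng o)
    ⟨⟨ha, ha'⟩, ⟨hb, hb'⟩⟩ t

theorem stba1_xs_mem_Lg {a : ι ⊕ ι} (ha : a ≠ o) (ha' : a ≠ ng o) (t : K) : S.xs a t ∈ S.Lg o :=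
  S.xs_mem_XQ (Q := fun a b => (a ≠ o ∧ a ≠ ng o) ∧ (b ≠ o ∧ b ≠ ng o)) (Qs := fun a => a ≠ o ∧ a ≠ ng o)
    ⟨ha, ha'⟩ t

theorem stba1_h_mem_Lg {a b : ι ⊕ ι} (ha : a ≠ o) (ha' : a ≠ ng o) (hb : b ≠ o) (hb' : b ≠ ng o) (t : K) :
    S.h a b t ∈ S.Lg o := by
  have hw : ∀ u : K, S.toSysD.w a b u ∈ S.Lg o := by
    intro u
    unfold SysD.w
    exact Subgroup.mul_mem _ (Subgroup.mul_mem _ (S.stba1_x_mem_Lg o ha ha' hb hb' _)
      (S.stba1_x_mem_Lg o hb hb' ha ha' _)) (S.stba1_x_mem_Lg o ha ha' hb hb' _)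
  show S.toSysD.h a b t ∈ S.Lg o
  unfold SysD.h
  exact Subgroup.mul_mem _ (hw _) (hw _)

theorem stba1_hs_mem_Lg {a : ι ⊕ ι} (ha : a ≠ o) (ha' : a ≠ ng o) (t : K) : S.hs a t ∈ S.Lg o := by
  have hn : ng a ≠ o := fun h => ha' (by rw [← h, ng_ng])
  have hn' : ng a ≠ ng o := fun h => ha (by rw [← ng_ng a, h, ng_ng])
  have hw : ∀ u : K, S.ws a u ∈ S.Lg o := by
    intro u
    unfold ws
    exact Subgroup.mul_mem _ (Subgroup.mul_mem _ (S.stba1_xs_mem_Lg o ha ha' _)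
      (S.stba1_xs_mem_Lg o hn hn' _)) (S.stba1_xs_mem_Lg o ha ha' _)
  unfold hs
  exact Subgroup.mul_mem _ (hw _) (hw _)

/-- the statement of `ALTj_mul_Ag` -/
theorem stba1_mul_Ag {j : ι ⊕ ι} {s g : G} (hs : s ∈ S.Ag o) (hg : g ∈ S.ALTj o j) : s * g ∈ S.ALTj o j := by
  obtain ⟨a, ha, l, hl, c, hc, rfl⟩ := hg
  exact ⟨s * a, mul_mem hs ha, l, hl, c, hc, by group⟩

/-- `ALTj_mul_Lg` from the statement of N2p `Lg_cj_mem_Ag` -/
theorem stba1_mul_Lg_core {j : ι ⊕ ι} {s g : G} (hN2p : ∀ z ∈ S.Lg o, ∀ y ∈ S.Ag o, cj z y ∈ S.Ag o)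
    (hs : s ∈ S.Lg o) (hg : g ∈ S.ALTj o j) : s * g ∈ S.ALTj o j := by
  obtain ⟨a, ha, l, hl, c, hc, rfl⟩ := hg
  exact ⟨cj s a, hN2p s hs a ha, s * l, mul_mem hs hl, c, hc, by unfold cj; group⟩

/-- the statement of `ALTj_mul_h` -/
theorem stba1_mul_h [Finite K] {j : ι ⊕ ι} (hj : j ≠ o) (hj' : j ≠ ng o) {t : K} (ht : t ≠ 0) {g : G}
    (hg : g ∈ S.ALTj o j) : S.h o j t * g ∈ S.ALTj o j := by
  obtain ⟨a, ha, l, hl, c, hc, rfl⟩ := hg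
  have h1 : o ≠ j := Ne.symm hj
  have h2 : o ≠ ng j := fun h => hj' (by rw [h, ng_ng])
  have hm := S.isMon_h h1 h2 t ht
  have e : S.h o j t * S.h o j c = S.h o j (t * c) := S.toSysD.h_mul h1 h2 t c ht hc
  refine ⟨cj (S.h o j t) a, ?_, cj (S.h o j t) l, ?_, t * c, mul_ne_zero ht hc, ?_⟩
  · exact IsMon.cj_mem_XQ S hm (fun k l _ _ h => h) (fun k h => h) a ha
  · exact IsMon.cj_mem_XQ S hm (fun k l _ _ h => h) (fun k h => h) l hl
  · rw [← e]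
    unfold cj
    group

/-- `Phat_decomp` from the statement of N2p `Lg_cj_mem_Ag` -/
theorem stba2_core [Finite K] {j : ι ⊕ ι} (hj : j ≠ o) (hj' : j ≠ ng o)
    (hN2p : ∀ z ∈ S.Lg o, ∀ y ∈ S.Ag o, cj z y ∈ S.Ag o) : ∀ p ∈ S.Phat o, p ∈ S.ALTj o j := by
  intro p hp
  have ho1 : o ≠ j := Ne.symm hj
  have ho2 : o ≠ ng j := fun h => hj' (by rw [h, ng_ng])
  have hP : S.Phat o = Subgroup.closure
      (({g | ∃ a b t, a ≠ b ∧ a ≠ ng b ∧ (b ≠ o ∧ a ≠ ng o) ∧ g = S.x a b t} ∪ {g | ∃ a t, a ≠ ng o ∧ g = S.xs a t}) ∪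
        ({g | ∃ b t, b ≠ o ∧ b ≠ ng o ∧ t ≠ 0 ∧ g = S.h o b t} ∪ {g | ∃ t, t ≠ 0 ∧ g = S.hs o t})) := by
    rw [Subgroup.closure_union]
    rfl
  rw [hP] at hp
  revert p
  -- `h o (ng j) t * g`
  have key : ∀ (t : K), t ≠ 0 → ∀ g ∈ S.ALTj o j, S.h o (ng j) t * g ∈ S.ALTj o j := by
    intro t ht g hg
    rw [S.h_ng_eq ho1 ho2 t ht, mul_assoc]
    apply S.stba1_mul_h o hj hj' ht
    exact S.stba1_mul_Lg_core o hN2p (S.stba1_hs_mem_Lg o hj hj' t) hg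
  refine closure_left_induction' (p := fun p => p ∈ S.ALTj o j) ?_ ?_ ?_
  · rintro s (hs | ⟨b, t, hb, hb', ht, rfl⟩ | ⟨t, ht, rfl⟩)
    · exact Or.inl (S.XQ_gens_inv _ _ s hs)
    · have hob : o ≠ b := Ne.symm hb
      have hob' : o ≠ ng b := fun h => hb' (by rw [h, ng_ng])
      exact Or.inr (Or.inl ⟨b, t⁻¹, hb, hb', inv_ne_zero ht, S.toSysD.h_inv hob hob' t ht⟩)
    · exact Or.inr (Or.inr ⟨t⁻¹, inv_ne_zero ht, S.hs_inv o t ht⟩)
  · refine ⟨1, one_mem _, 1, one_mem _, 1, one_ne_zero, ?_⟩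
    have e : S.h o j 1 = 1 := S.toSysD.h_one o j
    rw [e]
    group
  · rintro s ((⟨a, b, t, hab, hab', ⟨hb, ha'⟩, rfl⟩ | ⟨a, t, ha', rfl⟩) |
      (⟨b, t, hb, hb', ht, rfl⟩ | ⟨t, ht, rfl⟩)) g hg
    · by_cases ha : a = o
      · subst ha
        exact S.stba1_mul_Ag a (S.stba1_x_mem_Ag a b t) hg
      by_cases hbo' : b = ng o
      · subst hbo'
        exact S.stba1_mul_Ag o (S.stba1_x_mem_Ag' o a t) hg
      · exact S.stba1_mul_Lg_core o hN2p (S.stba1_x_mem_Lg o ha ha' hb hbo' t) hg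
    · by_cases ha : a = o
      · subst ha
        exact S.stba1_mul_Ag a (S.stba1_xs_mem_Ag a t) hg
      · exact S.stba1_mul_Lg_core o hN2p (S.stba1_xs_mem_Lg o ha ha' t) hg
    · by_cases hbj : b = j
      · subst hbj
        exact S.stba1_mul_h o hj hj' ht hg
      by_cases hbj' : b = ng j
      · subst hbj'
        exact key t ht g hg
      · have hob : o ≠ b := Ne.symm hb
        have hob' : o ≠ ng b := fun h => hb' (by rw [h, ng_ng])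
        have hjb : j ≠ b := Ne.symm hbj
        have hjb' : j ≠ ng b := fun h => hbj' (by rw [h, ng_ng])
        have e : S.h o b t = S.h o j t * S.h j b t := S.toSysD.h_chain hob hob' ho1 ho2 hjb hjb' t ht
        rw [e, mul_assoc]
        apply S.stba1_mul_h o hj hj' ht
        exact S.stba1_mul_Lg_core o hN2p (S.stba1_h_mem_Lg o hj hj' hb hb' t) hg
    · rw [S.hs_eq_hh ho1 ho2 t ht, mul_assoc]
      apply S.stba1_mul_h o hj hj' ht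
      exact key t ht g hg

end A

end SysB

end Cfsg.Agent.Lib.Lead.STB
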