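import Mathlib
import Cfsg.Agent.Lib.Lead.STB.Defs
import Cfsg.Agent.Lib.Lead.STB.Defs3
import Cfsg.Agent.Lib.Helper9.STBN2p
import Cfsg.Agent.Lib.Helper29.STBA1core

/-!
# Project STB (designer lead), rows A1 (`ALTj_mul_Ag ALTj_mul_Lg ALTj_mul_h`) and A2 (`Phat_decomp`), VERBATIM (helper29).
One-line wrappers of `Helper29.STBA1core` on helper9's N2p `Lg_cj_mem_Ag`.
-/

set_option autoImplicit false

namespace Cfsg.Agent.Lib.Lead.STB

open Cfsg.Agent.Lib.helper15.St2 Cfsg.Agent.Lib.helper3.STC Cfsg.Agent.Lib.Lead.STD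

universe v w

namespace SysB

variable {K : Type*} [Field K] {ι : Type*} [DecidableEq ι] {G : Type*} [Group G] (S : SysB K ι G)

section A
variable (o : ι ⊕ ι)

omit [DecidableEq ι] in
/-- A1 [S]  model STD A1 (`Helper29.STDA1`). -/
theorem ALTj_mul_Ag {j : ι ⊕ ι} {s g : G} (hs : s ∈ S.Ag o) (hg : g ∈ S.ALTj o j) : s * g ∈ S.ALTj o j := by
  classical
  exact S.stba1_mul_Ag o hs hg

omit [DecidableEq ι] in
/-- (`s * (a * l * h) = cj s a * (s * l) * h`, N2p `Lg_cj_mem_Ag`) -/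
theorem ALTj_mul_Lg {j : ι ⊕ ι} {s g : G} (hs : s ∈ S.Lg o) (hg : g ∈ S.ALTj o j) : s * g ∈ S.ALTj o j := by
  classical
  exact S.stba1_mul_Lg_core o (S.Lg_cj_mem_Ag o) hs hg

/-- (H2 `isMon_h` with `σ = 1` normalises `Ag o`, `Lg o` (N3); STD `h_mul`) -/
theorem ALTj_mul_h [Finite K] {j : ι ⊕ ι} (hj : j ≠ o) (hj' : j ≠ ng o) {t : K} (ht : t ≠ 0) {g : G} (hg : g ∈ S.ALTj o j) : S.h o j t * g ∈ S.ALTj o j :=
  S.stba1_mul_h o hj hj' ht hg

/-- A2 [M]  **the normal form, rank at least two** (model STD A2 `Phat_decomp`).  `Subgroup.closure_induction` on `Pg o ⊔ Hg o` (`Subgroup.sup_eq_closure`-style as in `Helper29.STDA2`).  Generators of `Pg o`: `x a b t` (`b ≠ o`, `a ≠ ng o`): `a = o` or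
`b = ng o`: `ALTj_mul_Ag` (`x_mem_Ag`, `x_mem_Ag'`), else `ALTj_mul_Lg` (`x_mem_Lg`); `xs a t` (`a ≠ ng o`): `a = o`: `xs_mem_Ag`, else `xs_mem_Lg`.  Generators of `Hg o`: `h o b t`: `b = j`: `ALTj_mul_h`; `b = ng j`: H3 `h_ng_eq`:
`h o (ng j) t = h o j t * hs j t`, `hs_mem_Lg`; else STD `h_chain`: `h o b t = h o j t * h j b t`, `h_mem_Lg`; `hs o t = h o j t * h o (ng j) t` (H4 `hs_eq_hh`).  Inverses of the generators: `XQ_gens_inv`, `h_inv`, `hs_inv`. -/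
theorem Phat_decomp [Finite K] {j : ι ⊕ ι} (hj : j ≠ o) (hj' : j ≠ ng o) : ∀ p ∈ S.Phat o, p ∈ S.ALTj o j :=
  S.stba2_core o hj hj' (S.Lg_cj_mem_Ag o)

end A

end SysB

end Cfsg.Agent.Lib.Lead.STB
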