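import Mathlib
import Cfsg.Agent.Lib.helper23.P4V.Defs

/-!
# P4V (designer helper23), row G2: `conj_companion` (verbatim).
-/

set_option autoImplicit false

namespace Cfsg.Agent.Lib.helper23.P4V

open Matrix

universe u

variable {F : Type u} [Field F]

/-- Cayley-Hamilton in the form `B [v | B v] = [v | B v] C`, `C` the companion matrix of `B`. -/
theorem p4vg2_key (a b c e x y : F) :
    (!![a, b; c, e] : M2 F) * !![x, a * x + b * y; y, c * x + e * y] =
      !![x, a * x + b * y; y, c * x + e * y] * !![0, -(a * e - b * c); 1, a + e] := by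
  rw [Matrix.mul_fin_two, Matrix.mul_fin_two]
  congr 1
  ext i j
  fin_cases i <;> fin_cases j <;> simp <;> ring

/-- **G2**.  A cyclic vector `v`: `(1,0)` if `B 1 0 ≠ 0`, `(0,1)` if `B 0 1 ≠ 0`, `(1,1)` otherwise
(`B 0 0 ≠ B 1 1`); `Q = [v | B v]`. -/
theorem conj_companion (B : M2 F) (hB : ¬ ∃ c : F, B = c • (1 : M2 F)) :
    ∃ Q : M2 F, Q.det ≠ 0 ∧ B = Q * !![0, -B.det; 1, B.trace] * Q⁻¹ := by
  obtain ⟨a, ha⟩ : ∃ a, B 0 0 = a := ⟨_, rfl⟩
  obtain ⟨b, hb⟩ : ∃ b, B 0 1 = b := ⟨_, rfl⟩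
  obtain ⟨c, hc⟩ : ∃ c, B 1 0 = c := ⟨_, rfl⟩
  obtain ⟨e, he⟩ : ∃ e, B 1 1 = e := ⟨_, rfl⟩
  have hBeta : B = !![a, b; c, e] := by rw [Matrix.eta_fin_two B, ha, hb, hc, he]
  subst hBeta
  have hxy : ∃ x y : F, c * x ^ 2 + (e - a) * x * y - b * y ^ 2 ≠ 0 := by
    by_cases hc0 : c = 0
    · by_cases hb0 : b = 0
      · refine ⟨1, 1, ?_⟩
        have hae : a ≠ e := by
          intro h
          apply hB
          refine ⟨a, ?_⟩
          rw [hc0, hb0, ← h]
          ext i j
          fin_cases i <;> fin_cases j <;> simp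
        rw [hc0, hb0]
        intro h
        apply hae
        linear_combination -h
      · refine ⟨0, 1, ?_⟩
        intro h
        apply hb0
        linear_combination -h
    · refine ⟨1, 0, ?_⟩
      intro h
      apply hc0
      linear_combination h
  obtain ⟨x, y, hxy⟩ := hxy
  have hdetQ : (!![x, a * x + b * y; y, c * x + e * y] : M2 F).det ≠ 0 := by
    rw [Matrix.det_fin_two_of]
    intro h
    apply hxy
    linear_combination h
  refine ⟨!![x, a * x + b * y; y, c * x + e * y], hdetQ, ?_⟩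
  rw [Matrix.det_fin_two_of, Matrix.trace_fin_two_of, ← p4vg2_key, Matrix.mul_assoc,
    Matrix.mul_nonsing_inv _ (isUnit_iff_ne_zero.mpr hdetQ), Matrix.mul_one]

end Cfsg.Agent.Lib.helper23.P4V
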