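import Mathlib
import Cfsg.Agent.Lib.helper8.TD4.Defs

/-! Project TD4 (designer helper8), row B8 core (helper29): a family `χ : ℕ → F` of non-zero values that is
multiplicative in the root coordinates (the statement of row B1) and `ρ`-twisted (`χ (rho r) = χ r ^ q`)
is `r ↦ v ^ kZ q r` with `v = χ 18`, and `v ^ nT q = 1`. -/

set_option autoImplicit false

namespace Cfsg.Agent.Lib.helper8.TD4

open Cfsg.Lie Cfsg.Lie.ChevalleyDatum Cfsg.Agent.Lib.helper8 Matrix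

universe u v

theorem td4b8_rho18 : rho 18 = 16 := by decide +kernel
theorem td4b8_rho16 : rho 16 = 12 := by decide +kernel
theorem td4b8_rho12 : rho 12 = 19 := by decide +kernel
theorem td4b8_rho19 : rho 19 = 13 := by decide +kernel
theorem td4b8_rho13 : rho 13 = 15 := by decide +kernel
theorem td4b8_rho15 : rho 15 = 18 := by decide +kernel

theorem td4b8_co19 : co 19 0 = 1 ∧ co 19 1 = 1 ∧ co 19 2 = 0 ∧ co 19 3 = 0 := by decide +kernel
theorem td4b8_co16 : co 16 0 = 0 ∧ co 16 1 = 1 ∧ co 16 2 = 1 ∧ co 16 3 = 0 := by decide +kernel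

theorem td4b8_nT_add (q : ℕ) (hq : 2 ≤ q) : nT q + (q + 1) = q ^ 4 + q ^ 3 := by
  unfold nT
  have h1 : 1 ≤ q ^ 3 := Nat.one_le_pow _ _ (by omega)
  obtain ⟨k, hk⟩ : ∃ k, q ^ 3 = k + 1 := ⟨q ^ 3 - 1, by omega⟩
  have e : q ^ 4 = q ^ 3 * q := by ring
  rw [e, hk, Nat.add_sub_cancel]
  ring

theorem td4b8_nT_cast (q : ℕ) (hq : 2 ≤ q) :
    (nT q : ℤ) = (q : ℤ) ^ 4 + (q : ℤ) ^ 3 - (q : ℤ) - 1 := by
  have h := td4b8_nT_add q hq
  have h' : ((nT q + (q + 1) : ℕ) : ℤ) = ((q ^ 4 + q ^ 3 : ℕ) : ℤ) := by rw [h]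
  push_cast at h'
  linarith

/-- B8, abstract form -/
theorem td4b8_abs {F : Type u} [Field F] (q : ℕ) (hq : 2 ≤ q) (χ : ℕ → F) (hne : χ 18 ≠ 0)
    (hexp : ∀ r < 24, χ r = χ 18 ^ co r 0 * χ 14 ^ co r 1 * χ 13 ^ co r 2 * χ 12 ^ co r 3)
    (hrel : ∀ r < 24, χ (rho r) = χ r ^ q) :
    χ 18 ^ nT q = 1 ∧ ∀ r < 24, χ r = χ 18 ^ kZ q r := by
  set v := χ 18 with hv
  have h16 : χ 16 = v ^ q := by
    have h := hrel 18 (by norm_num)
    rwa [td4b8_rho18] at h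
  have h12 : χ 12 = v ^ (q ^ 2) := by
    have h := hrel 16 (by norm_num)
    rw [td4b8_rho16, h16, ← pow_mul, ← sq] at h
    exact h
  have h19 : χ 19 = v ^ (q ^ 3) := by
    have h := hrel 12 (by norm_num)
    rw [td4b8_rho12, h12, ← pow_mul, ← pow_succ] at h
    exact h
  have h13 : χ 13 = v ^ (q ^ 4) := by
    have h := hrel 19 (by norm_num)
    rw [td4b8_rho19, h19, ← pow_mul, ← pow_succ] at h
    exact h
  -- `χ 19 = v * χ 14`
  have e19 : χ 19 = v * χ 14 := by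
    have h := hexp 19 (by norm_num)
    obtain ⟨a0, a1, a2, a3⟩ := td4b8_co19
    rw [a0, a1, a2, a3, zpow_one, zpow_one, zpow_zero, zpow_zero, mul_one, mul_one] at h
    exact h
  have h14 : χ 14 = v ^ (q ^ 3) * v⁻¹ := by
    rw [← h19, e19]
    field_simp
  -- `χ 16 = χ 14 * χ 13`
  have e16 : χ 16 = χ 14 * χ 13 := by
    have h := hexp 16 (by norm_num)
    obtain ⟨a0, a1, a2, a3⟩ := td4b8_co16
    rw [a0, a1, a2, a3, zpow_zero, zpow_one, zpow_one, zpow_zero, one_mul, mul_one] at h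
    exact h
  have hnT : v ^ nT q = 1 := by
    have h1 : v ^ (q + 1) = v ^ (q ^ 4 + q ^ 3) := by
      have h2 : v ^ q = v ^ (q ^ 3) * v⁻¹ * v ^ (q ^ 4) := by
        rw [← h16, e16, h14, h13]
      rw [pow_succ, h2, pow_add]
      field_simp
    have h3 : v ^ (q + 1) ≠ 0 := pow_ne_zero _ hne
    have h4 : v ^ nT q * v ^ (q + 1) = 1 * v ^ (q + 1) := by
      rw [one_mul, ← pow_add, td4b8_nT_add q hq]
      exact h1.symm
    exact mul_right_cancel₀ h3 h4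
  refine ⟨hnT, ?_⟩
  -- the values on the simple roots as integer powers of `v`
  have z14 : χ 14 = v ^ ((q : ℤ) ^ 3 - 1) := by
    rw [h14, zpow_sub₀ hne, zpow_one, div_eq_mul_inv]
    congr 1
    rw [← zpow_natCast]
    push_cast
    rfl
  have z13 : χ 13 = v ^ ((q : ℤ) + 1 - (q : ℤ) ^ 3) := by
    have e : ((q : ℤ) + 1 - (q : ℤ) ^ 3) = ((q ^ 4 : ℕ) : ℤ) - (nT q : ℤ) := by
      rw [td4b8_nT_cast q hq]
      push_cast
      ring
    rw [h13, e, zpow_sub₀ hne, zpow_natCast, zpow_natCast, hnT, div_one]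
  have z12 : χ 12 = v ^ ((q : ℤ) ^ 2) := by
    rw [h12, ← zpow_natCast]
    push_cast
    rfl
  intro r hr
  rw [hexp r hr, z14, z13, z12, ← _root_.zpow_mul, ← _root_.zpow_mul, ← _root_.zpow_mul,
    ← zpow_add₀ hne,
    ← zpow_add₀ hne, ← zpow_add₀ hne]
  congr 1
  unfold kZ
  ring

end Cfsg.Agent.Lib.helper8.TD4
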