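import Mathlib
import Cfsg.Prelude.Def_ChevStructure
import Cfsg.Prelude.Def_LieTwisted
import Cfsg.Agent.Lib.helper8.TD4.Defs
import Cfsg.Agent.Lib.helper8.ChevTwH1
import Cfsg.Agent.Lib.helper15.TD4B1
import Cfsg.Agent.Lib.Helper29.TD4B8core

/-! Project TD4 (designer helper8), row B8 `chi_table` (helper29), verbatim: the abstract core
`td4b8_abs` with helper15's landed row B1 `chi_expand` and `h8chi_spec` (the character is non-zero). -/

set_option autoImplicit false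

namespace Cfsg.Agent.Lib.helper8.TD4

open Cfsg.Lie Cfsg.Lie.ChevalleyDatum Cfsg.Agent.Lib.helper8 Matrix

universe u v

section B

variable {F : Type u} [Field F] (hB : H8Base.{u} chevD4)

/-- B8 [M] (cites B1). `v = χ 18 ≠ 0` (`h8chi_spec`).  `hrel` along the orbit `18 → 16 → 12 → 19 → 13 → 15` (`rho 18 = 16` etc. by `decide`): `χ 16 = v^q`, `χ 12 = v^(q²)`, `χ 19 = v^(q³)`, `χ 13 = v^(q⁴)`.  B1: `χ 19 = χ 18 * χ 14` so `χ 14 = v^(q³) / v`; `χ 16 = χ 14 * χ 13 = v^(q³+q⁴) / v = v^q`, hence `v ^ (q⁴ + q³) = v ^ (q + 1)` and `v ^ nT q = 1` (`nT q + (q + 1) = q⁴ + q³`).  Then B1 with `χ 14 = v ^ ((q:ℤ)^3 - 1)`, `χ 13 = v ^ (q⁴) = v ^ ((q:ℤ) + 1 - q³)` (multiply by `v ^ nT q = 1`), `χ 12 = v ^ ((q:ℤ)^2)`: `zpow_add₀`, `zpow_mul`, `zpow_natCast`. -/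
theorem chi_table (q : ℕ) (hq : 2 ≤ q) (h : GL chevD4.Idx F) (hh : h ∈ chevD4.diagonalSubgroup F)
    (hrel : ∀ r < 24, h8chi chevD4 hB h (rho r) = h8chi chevD4 hB h r ^ q) :
    h8chi chevD4 hB h 18 ^ nT q = 1 ∧
    ∀ r < 24, h8chi chevD4 hB h r = h8chi chevD4 hB h 18 ^ kZ q r :=
  td4b8_abs q hq (fun r => h8chi chevD4 hB h r)
    (h8chi_spec chevD4 hB h hh 18 (by decide)).1 (chi_expand hB h hh) hrel

end B

end Cfsg.Agent.Lib.helper8.TD4
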