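import Mathlib
import Cfsg.Prelude.Def_ChevStructure
import Cfsg.Prelude.Def_LieTwisted
import Cfsg.Agent.Lib.helper8.TD4.Defs
import Cfsg.Agent.Lib.helper8.ChevCnt2
import Cfsg.Agent.Lib.helper8.ChevBNAll
import Cfsg.Agent.Lib.helper8.ChevBNAll2
import Cfsg.Agent.Lib.helper8.ChevBaseAll
import Cfsg.Agent.Lib.helper8.ChevOrdAll
import Cfsg.Agent.Lib.helper8.ChevReflAll
import Cfsg.Agent.Lib.helper8.ChevTits2
import Cfsg.Agent.Lib.helper8.ChevPair
import Cfsg.Agent.Lib.helper8.ChevTwH1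

/-! Project TD4 (designer helper8), row R3 core (helper29): an element of `N` commuting with a diagonal
element `h` whose character separates the roots `18 13 12 19` from all others lies in `H`; the statement
of row R2 (`weyl_fix`) is a hypothesis. -/

set_option autoImplicit false

namespace Cfsg.Agent.Lib.helper8.TD4

open Cfsg.Lie Cfsg.Lie.ChevalleyDatum Cfsg.Agent.Lib.helper8 Matrix

universe u v

section R

variable {F : Type u} [Field F] (hB : H8Base.{u} chevD4)

/-- an element `n = t * n_w` of `N` sends the root subgroup of `r` to that of `h8sW w r` -/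
theorem td4r3_act (D : ChevalleyDatum) (hB : H8Base.{u} D) (hA : H8ReflAll D)
    (t : GL D.Idx F) (ht : t ∈ D.diagonalSubgroup F) (w : List ℕ) (hw : ∀ i ∈ w, i < D.rank)
    (r : ℕ) (hr : r < D.nroots) :
    H8Act D hB (t * h8nWU D hB w) r (h8sW D w r) := by
  have h1 := h8nWU_act (F := F) D hB hA w hw r hr
  have h2 := h8perm_H_id D hB t ht (h8sW D w r) (h8sW_lt D hA w hw r hr)
  exact h8act_mul D hB t _ _ _ _ h1 h2

/-- if `h ∈ H` commutes with `n` and `n` sends the root `r` to the root `r'`, then the character of `h`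
takes the same value on `r` and `r'` -/
theorem td4r3_chi_eq (D : ChevalleyDatum) (hB : H8Base.{u} D) (hA : H8ReflAll D) (hW : H8BN2 D)
    (h : GL D.Idx F) (hh : h ∈ D.diagonalSubgroup F) (n : GL D.Idx F) (hc : h * n = n * h)
    (r r' : ℕ) (hr : r < D.nroots) (hr' : r' < D.nroots) (hact : H8Act D hB n r r') :
    h8chi D hB h r' = h8chi D hB h r := by
  obtain ⟨c, hc0, hcr⟩ := hact
  have hactU : ∀ s < D.nroots, ∀ t : F,
      h * h8xU D hB s t * h⁻¹ = h8xU D hB s (h8chi D hB h s * t) :=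
    fun s hs => (h8chi_spec D hB h hh s hs).2
  have e1 : h * (n * h8xU D hB r 1 * n⁻¹) * h⁻¹ =
      h8xU D hB r' (h8chi D hB h r' * (c * 1)) := by
    rw [hcr, hactU r' hr']
  have e2 : h * (n * h8xU D hB r 1 * n⁻¹) * h⁻¹ =
      h8xU D hB r' (c * (h8chi D hB h r * 1)) := by
    have e : h * (n * h8xU D hB r 1 * n⁻¹) * h⁻¹ =
        (h * n) * h8xU D hB r 1 * (h * n)⁻¹ := by group
    rw [e, hc]
    have e' : n * h * h8xU D hB r 1 * (n * h)⁻¹ =
        n * (h * h8xU D hB r 1 * h⁻¹) * n⁻¹ := by group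
    rw [e', hactU r hr, hcr]
  have e3 := h8xU_inj_t D hB hA hW r' hr' _ _ (e1.symm.trans e2)
  have e4 : h8chi D hB h r' * c = h8chi D hB h r * c := by
    rw [mul_one, mul_one] at e3
    rw [e3, mul_comm]
  exact mul_right_cancel₀ hc0 e4

/-- R3 core: with the statement of R2 as a hypothesis -/
theorem td4r3_core
    (hR2 : ∀ w : List ℕ, (∀ i ∈ w, i < 4) → h8sW chevD4 w 18 = 18 → h8sW chevD4 w 13 = 13 →
      h8sW chevD4 w 12 = 12 → h8sW chevD4 w 19 = 19 → ∀ r < 24, h8sW chevD4 w r = r)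
    (h : GL chevD4.Idx F) (hh : h ∈ chevD4.diagonalSubgroup F)
    (huniq : ∀ j ∈ [18, 13, 12, 19], ∀ r < 24,
      h8chi chevD4 hB h r = h8chi chevD4 hB h j → r = j)
    (n : GL chevD4.Idx F) (hn : n ∈ chevD4.monomialSubgroup F) (hc : h * n = n * h) :
    n ∈ chevD4.diagonalSubgroup F := by
  have hD : chevD4 ∈ [chevG2, chevB2, chevD4, chevF4, chevE6, chevE7, chevE8] := by simp
  have hA := h8reflAll chevD4 hD
  have hBN := h8bn_all chevD4 hD
  have hW := h8bn2_all chevD4 hD
  have hO2 := (h8ord_all chevD4 hD).2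
  have hnr : chevD4.nroots = 24 := rfl
  have hrk : chevD4.rank = 4 := rfl
  obtain ⟨dep, par, horb⟩ := hBN.orb
  have hP : H8Perm chevD4 hB n := h8perm_N chevD4 hB hA dep par horb n hn
  obtain ⟨t, ht, w, hw, hnw⟩ := h8N_word chevD4 hB hA hBN n hn
  have hact : ∀ r < 24, H8Act chevD4 hB n r (h8sW chevD4 w r) := by
    intro r hr
    rw [hnw]
    exact td4r3_act chevD4 hB hA t ht w hw r (by rw [hnr]; exact hr)
  have hlt : ∀ r < 24, h8sW chevD4 w r < 24 := by
    intro r hr
    have := h8sW_lt chevD4 hA w hw r (by rw [hnr]; exact hr)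
    rwa [hnr] at this
  have hchi : ∀ r < 24, h8chi chevD4 hB h (h8sW chevD4 w r) = h8chi chevD4 hB h r := by
    intro r hr
    exact td4r3_chi_eq chevD4 hB hA hW h hh n hc r _ (by rw [hnr]; exact hr)
      (by rw [hnr]; exact hlt r hr) (hact r hr)
  have hw4 : ∀ i ∈ w, i < 4 := fun i hi => by have := hw i hi; rwa [hrk] at this
  have hfixw : ∀ r < 24, h8sW chevD4 w r = r :=
    hR2 w hw4
      (huniq 18 (by simp) _ (hlt 18 (by norm_num)) (hchi 18 (by norm_num)))
      (huniq 13 (by simp) _ (hlt 13 (by norm_num)) (hchi 13 (by norm_num)))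
      (huniq 12 (by simp) _ (hlt 12 (by norm_num)) (hchi 12 (by norm_num)))
      (huniq 19 (by simp) _ (hlt 19 (by norm_num)) (hchi 19 (by norm_num)))
  have hfix : ∀ r : Fin chevD4.nroots, h8permOf chevD4 hB n hP r = r := by
    intro r
    apply h8permOf_eq chevD4 hB hA hBN hW hO2
    have hr : r.val < 24 := r.2
    have := hact r.val hr
    rwa [hfixw r.val hr] at this
  apply h8perm_kernel chevD4 hB hA hBN hW hO2 n hn hP
  unfold h8Ninv
  rw [Finset.card_eq_zero, Finset.filter_eq_empty_iff]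
  intro r _
  rw [hfix r]
  exact fun hh' => hh'.2 hh'.1

end R

end Cfsg.Agent.Lib.helper8.TD4
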