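import Mathlib
import Cfsg.Prelude.Def_ChevStructure
import Cfsg.Prelude.Def_LieTwisted
import Cfsg.Agent.Lib.helper8.TD4.Defs
import Cfsg.Agent.Lib.helper8.ChevTwH1
import Cfsg.Agent.Lib.helper6.TD4R2
import Cfsg.Agent.Lib.Helper29.TD4R3core

/-! Project TD4 (designer helper8), row R3 `N_fixed` (helper29), verbatim: the core `td4r3_core` with
helper6's landed row R2 `weyl_fix`. -/

set_option autoImplicit false

namespace Cfsg.Agent.Lib.helper8.TD4

open Cfsg.Lie Cfsg.Lie.ChevalleyDatum Cfsg.Agent.Lib.helper8 Matrix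

universe u v

section R

variable {F : Type u} [Field F] (hB : H8Base.{u} chevD4)

/-- R3 [M] (cites R2). `h8N_word` (`ChevTits2`): `n = t * h8nWU w`, `t ∈ H`; `h8nWU_act` + `h8perm_H_id` + `h8act_mul`: `H8Act n r (h8sW chevD4 w r)`, i.e. `n x_r(u) n⁻¹ = x_{r'}(c u)`, `c ≠ 0`.  As in `Helper26/G2TB6.lean`: conjugating by `h` and `hc` give `χ r' * c = c * χ r` (`h8xU_inj_t`), so `χ (h8sW w r) = χ r`; `huniq` at `r = j ∈ {18, 13, 12, 19}` gives `h8sW w j = j`; R2: `h8sW w r = r` for all `r`; then `n ∈ H` by `h8perm_kernel` (`h8perm_N`, `h8permOf_eq`, `h8Ninv = 0`) exactly as at the end of `G2TB6`. -/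
theorem N_fixed (h : GL chevD4.Idx F) (hh : h ∈ chevD4.diagonalSubgroup F)
    (huniq : ∀ j ∈ [18, 13, 12, 19], ∀ r < 24,
      h8chi chevD4 hB h r = h8chi chevD4 hB h j → r = j)
    (n : GL chevD4.Idx F) (hn : n ∈ chevD4.monomialSubgroup F) (hc : h * n = n * h) :
    n ∈ chevD4.diagonalSubgroup F :=
  td4r3_core hB (fun w hw h18 h13 h12 h19 => weyl_fix w hw h18 h13 h12 h19) h hh huniq n hn hc

end R

end Cfsg.Agent.Lib.helper8.TD4
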