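import Mathlib
import Cfsg.Prelude.Def_GeometricClasses
import Cfsg.Agent.Lib.Helper27.ASC.Defs

/-!
# Project ASC, shared core of the pieces QUAD and UNIT (helper29)

`ascform_core`: if `P` is absolutely irreducible, normalised by `H`, and preserves the
(`τ`-sesquilinear) Gram matrix `A` (`sᵀ A τ(s) = A`), then every `h ∈ H` multiplies `A` by a scalar.
-/

set_option autoImplicit false
set_option linter.unusedVariables false

namespace Cfsg.Agent.Lib.Helper27.ASC

open Cfsg Cfsg.Geo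
open scoped MatrixGroups Matrix

variable {n : ℕ} {F : Type*} [Field F]

theorem ascform_map_isUnit_det (τ : F →+* F) (s : GL (Fin n) F) :
    IsUnit ((s : Matrix (Fin n) (Fin n) F).map τ).det := by
  have h1 : ((s : Matrix (Fin n) (Fin n) F).map τ).det = τ ((s : Matrix (Fin n) (Fin n) F).det) := by
    rw [← RingHom.mapMatrix_apply, ← RingHom.map_det]
  rw [h1]
  have h2 : IsUnit (s : Matrix (Fin n) (Fin n) F).det := by
    have := (Matrix.isUnit_iff_isUnit_det (s : Matrix (Fin n) (Fin n) F)).mp s.isUnit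
    exact this
  exact h2.map τ

theorem ascform_core (τ : F →+* F) {H P : Subgroup (GL (Fin n) F)} (hP : NormalIn P H) (hA : AbsIrr P)
    (A : Matrix (Fin n) (Fin n) F) (hAu : IsUnit A.det)
    (hinv : ∀ s ∈ P, (s : Matrix (Fin n) (Fin n) F)ᵀ * A * (s : Matrix (Fin n) (Fin n) F).map τ = A)
    (h : GL (Fin n) F) (hh : h ∈ H) :
    ∃ c : F, (h : Matrix (Fin n) (Fin n) F)ᵀ * A * (h : Matrix (Fin n) (Fin n) F).map τ = c • A := by
  classical
  obtain ⟨A₂, hA₂⟩ : ∃ A₂ : Matrix (Fin n) (Fin n) F,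
      A₂ = (h : Matrix (Fin n) (Fin n) F)ᵀ * A * (h : Matrix (Fin n) (Fin n) F).map τ := ⟨_, rfl⟩
  -- Step 1 : `A₂` is `P`-invariant
  have step1 : ∀ s ∈ P, (s : Matrix (Fin n) (Fin n) F)ᵀ * A₂ * (s : Matrix (Fin n) (Fin n) F).map τ = A₂ := by
    intro s hs
    have hs' : h * s * h⁻¹ ∈ P := hP.2 h hh s hs
    have e1 : (h : Matrix (Fin n) (Fin n) F) * (s : Matrix (Fin n) (Fin n) F) =
        ((h * s * h⁻¹ : GL (Fin n) F) : Matrix (Fin n) (Fin n) F) * (h : Matrix (Fin n) (Fin n) F) := by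
      rw [← Units.val_mul, ← Units.val_mul]
      congr 1
      group
    have e2 := hinv _ hs'
    calc (s : Matrix (Fin n) (Fin n) F)ᵀ * A₂ * (s : Matrix (Fin n) (Fin n) F).map τ
        = ((h : Matrix (Fin n) (Fin n) F) * (s : Matrix (Fin n) (Fin n) F))ᵀ * A *
            ((h : Matrix (Fin n) (Fin n) F) * (s : Matrix (Fin n) (Fin n) F)).map τ := by
          rw [hA₂, Matrix.transpose_mul, Matrix.map_mul]
          simp only [Matrix.mul_assoc]
      _ = (h : Matrix (Fin n) (Fin n) F)ᵀ *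
            (((h * s * h⁻¹ : GL (Fin n) F) : Matrix (Fin n) (Fin n) F)ᵀ * A *
              ((h * s * h⁻¹ : GL (Fin n) F) : Matrix (Fin n) (Fin n) F).map τ) *
            (h : Matrix (Fin n) (Fin n) F).map τ := by
          rw [e1, Matrix.transpose_mul, Matrix.map_mul]
          simp only [Matrix.mul_assoc]
      _ = A₂ := by rw [e2, hA₂]
  -- Step 2 : `T' = A₂ A⁻¹` commutes with all `sᵀ`
  obtain ⟨T', hT'⟩ : ∃ T' : Matrix (Fin n) (Fin n) F, T' = A₂ * A⁻¹ := ⟨_, rfl⟩
  have hT'A : T' * A = A₂ := by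
    rw [hT', Matrix.mul_assoc, Matrix.nonsing_inv_mul A hAu, Matrix.mul_one]
  have step2 : ∀ s ∈ P, (s : Matrix (Fin n) (Fin n) F)ᵀ * T' = T' * (s : Matrix (Fin n) (Fin n) F)ᵀ := by
    intro s hs
    obtain ⟨C, hC⟩ : ∃ C : Matrix (Fin n) (Fin n) F, C = A * (s : Matrix (Fin n) (Fin n) F).map τ := ⟨_, rfl⟩
    have hCu : IsUnit C.det := by
      rw [hC, Matrix.det_mul]
      exact hAu.mul (ascform_map_isUnit_det τ s)
    have key : (s : Matrix (Fin n) (Fin n) F)ᵀ * T' * C = T' * (s : Matrix (Fin n) (Fin n) F)ᵀ * C := by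
      calc (s : Matrix (Fin n) (Fin n) F)ᵀ * T' * C
          = (s : Matrix (Fin n) (Fin n) F)ᵀ * (T' * A) * (s : Matrix (Fin n) (Fin n) F).map τ := by
            rw [hC]; simp only [Matrix.mul_assoc]
        _ = A₂ := by rw [hT'A, step1 s hs]
        _ = T' * ((s : Matrix (Fin n) (Fin n) F)ᵀ * A * (s : Matrix (Fin n) (Fin n) F).map τ) := by
            rw [hinv s hs, hT'A]
        _ = T' * (s : Matrix (Fin n) (Fin n) F)ᵀ * C := by
            rw [hC]; simp only [Matrix.mul_assoc]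
    have := congrArg (fun X => X * C⁻¹) key
    simp only [Matrix.mul_assoc, Matrix.mul_nonsing_inv C hCu, Matrix.mul_one] at this
    exact this
  -- Step 3 : `T'ᵀ` commutes with `P`, hence is scalar
  have step3 : ∀ s ∈ matrixSet P, T'ᵀ * s = s * T'ᵀ := by
    rintro _ ⟨g, hg, rfl⟩
    have h1 := congrArg Matrix.transpose (step2 g hg)
    rw [Matrix.transpose_mul, Matrix.transpose_mul, Matrix.transpose_transpose] at h1
    exact h1
  obtain ⟨c, hc⟩ := hA.2 T'ᵀ step3
  refine ⟨c, ?_⟩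
  have hT'c : T' = c • (1 : Matrix (Fin n) (Fin n) F) := by
    have := congrArg Matrix.transpose hc
    rw [Matrix.transpose_transpose, Matrix.transpose_smul, Matrix.transpose_one] at this
    exact this
  rw [← hA₂, ← hT'A, hT'c, Matrix.smul_mul, Matrix.one_mul]

end Cfsg.Agent.Lib.Helper27.ASC
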