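import Mathlib
import Cfsg.Prelude.Def_GeometricClasses
import Cfsg.Agent.Lib.Helper27.ASC.Defs
import Cfsg.Agent.Lib.Helper29.ASCFORM
import Cfsg.Agent.Lib.Helper29.ASCGRAM

/-!
# Project ASC, piece QUAD (helper29): `quad_of_fixes`
-/

set_option autoImplicit false
set_option linter.unusedVariables false

namespace Cfsg.Agent.Lib.Helper27.ASC

open Cfsg Cfsg.Geo
open scoped MatrixGroups Matrix

variable {n : ℕ} {F : Type*} [Field F] [Fintype F]

theorem ascquad_two_ne_zero (hF : Odd (Fintype.card F)) : (2 : F) ≠ 0 := by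
  intro h2
  have hchar : ringChar F = 2 := CharP.ringChar_of_prime_eq_zero Nat.prime_two (by exact_mod_cast h2)
  have := FiniteField.even_card_of_char_two hchar
  rcases hF with ⟨k, hk⟩
  omega

/-- QUAD -/
theorem quad_of_fixes {H P : Subgroup (GL (Fin n) F)} (hP : NormalIn P H) (hA : AbsIrr P)
    (hF : Odd (Fintype.card F)) (Q : (Fin n → F) → F) (hQ : IsNondegenerateQuadraticForm Q)
    (hfix : FixesQuadForm (matrixSet P) Q) : H ≤ quadSimilarityGroup Q := by
  classical
  have h2 : (2 : F) ≠ 0 := ascquad_two_ne_zero hF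
  obtain ⟨B, hB⟩ : ∃ B : (Fin n → F) → (Fin n → F) → F, B = QuadraticMap.polar Q := ⟨_, rfl⟩
  have hBbil : IsBilinearForm B := hB ▸ hQ.polar_bilinear
  have hBnd : IsNondegenerateForm B := hB ▸ hQ.nondegenerate
  obtain ⟨A, hAdef⟩ : ∃ A : Matrix (Fin n) (Fin n) F, A = ascformGram B := ⟨_, rfl⟩
  have hgram : ∀ u v : Fin n → F, B u v = u ⬝ᵥ (A *ᵥ (fun j => (RingHom.id F) (v j))) := by
    intro u v
    rw [hAdef]
    exact ascform_gram (RingHom.id F) B hBbil.add_left hBbil.smul_left hBbil.add_right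
      (fun c v x => by simpa using hBbil.smul_right c v x) u v
  have hgram' : ∀ u v : Fin n → F, B u v = u ⬝ᵥ (A *ᵥ v) := by
    intro u v
    have := hgram u v
    simpa using this
  -- `B v v = 2 Q v`
  have hBQ : ∀ v : Fin n → F, B v v = 2 * Q v := by
    intro v
    rw [hB, QuadraticMap.polar]
    have : v + v = (2 : F) • v := (two_smul F v).symm
    rw [this, hQ.smul]
    ring
  -- `A` is invertible
  have hAu : IsUnit A.det := by
    apply ascform_gram_isUnit_det (RingEquiv.refl F) A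
    intro v hv
    obtain ⟨x, hx⟩ := (hBnd v hv).1
    refine ⟨x, ?_⟩
    have := hgram' x v
    simpa [this] using hx
  -- `P` preserves `A`
  have hinv : ∀ s ∈ P, (s : Matrix (Fin n) (Fin n) F)ᵀ * A * (s : Matrix (Fin n) (Fin n) F).map (RingHom.id F) = A := by
    intro s hs
    apply ascform_ext (RingHom.id F)
    intro u v
    rw [← ascform_transport (RingHom.id F) A (s : Matrix (Fin n) (Fin n) F) u v]
    have hsm : (s : Matrix (Fin n) (Fin n) F) ∈ matrixSet P := ⟨s, hs, rfl⟩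
    have e1 : B ((s : Matrix (Fin n) (Fin n) F) *ᵥ u) ((s : Matrix (Fin n) (Fin n) F) *ᵥ v) = B u v := by
      rw [hB, QuadraticMap.polar, QuadraticMap.polar, ← Matrix.mulVec_add, hfix _ hsm, hfix _ hsm, hfix _ hsm]
    rw [← hgram, ← hgram, e1]
  intro h hh
  obtain ⟨c, hc⟩ := ascform_core (RingHom.id F) hP hA A hAu hinv h hh
  -- `Q (h v) = c Q v`
  have hQc : ∀ v : Fin n → F, Q ((h : Matrix (Fin n) (Fin n) F) *ᵥ v) = c * Q v := by
    intro v
    have e1 : B ((h : Matrix (Fin n) (Fin n) F) *ᵥ v) ((h : Matrix (Fin n) (Fin n) F) *ᵥ v) = c * B v v := by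
      rw [hgram, ascform_transport (RingHom.id F) A (h : Matrix (Fin n) (Fin n) F) v v, hc, hgram,
        Matrix.smul_mulVec, dotProduct_smul, smul_eq_mul]
    rw [hBQ, hBQ] at e1
    have : 2 * Q ((h : Matrix (Fin n) (Fin n) F) *ᵥ v) = 2 * (c * Q v) := by rw [e1]; ring
    exact mul_left_cancel₀ h2 this
  by_cases hc0 : c = 0
  · -- then `Q = 0`
    have hQ0 : ∀ w : Fin n → F, Q w = 0 := by
      intro w
      have := hQc (((h⁻¹ : GL (Fin n) F) : Matrix (Fin n) (Fin n) F) *ᵥ w)
      rw [Matrix.mulVec_mulVec, ← Units.val_mul, mul_inv_cancel, Units.val_one, Matrix.one_mulVec, hc0,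
        zero_mul] at this
      exact this
    refine ⟨1, fun v => ?_⟩
    rw [hQ0, hQ0, mul_zero]
  · exact ⟨Units.mk0 c hc0, fun v => by rw [Units.val_mk0]; exact hQc v⟩

end Cfsg.Agent.Lib.Helper27.ASC
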