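import Mathlib
import Cfsg.Agent.Lib.Helper10.BGL.FldDefs
import Cfsg.Agent.Lib.helper8.ChevK
import Cfsg.Agent.Lib.helper8.ChevW0
import Cfsg.Agent.Lib.helper8.ChevTwP1
import Cfsg.Agent.Lib.helper23.BGLFL04

/-!
# BGL row FL11 (helper29): `aset_torus`.
Statement verbatim from `Helper10/BGL/SkelFLD.lean.txt`.
-/

set_option autoImplicit false

namespace Cfsg.Agent.Lib.Helper10.BGL

open Cfsg.Lie Cfsg.Lie.ChevalleyDatum Cfsg.Agent.Lib.helper8

universe u

variable {K : Type u} [Field K] [Finite K]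

omit [Finite K] in
/-- a word whose letters have their parameters in the `A`-sets lies in `H` -/
theorem bglfl11_word_mem (D : ChevalleyDatum) (hB : H8Base.{u} D) (H : Subgroup (GL D.Idx K))
    (w : List (ℕ × K)) (hw : ∀ pr ∈ w, pr.2 ∈ Aset D H pr.1) : h8wordU D hB w ∈ H := by
  induction w with
  | nil => exact H.one_mem
  | cons pr w ih =>
    rw [h8wordU_cons]
    apply H.mul_mem
    · rw [← aset_iff D hB]
      exact hw pr List.mem_cons_self
    · exact ih (fun q hq => hw q (List.mem_cons_of_mem _ hq))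

/-- the torus element `h_r(c)` lies in `H` when `c, c⁻¹ ∈ A_r` -/
theorem bglfl11_h_mem (p : ℕ) [Fact p.Prime] [CharP K p] (D : ChevalleyDatum)
    (hD : D ∈ [chevG2, chevB2, chevD4, chevF4, chevE6, chevE7, chevE8]) (a : ℕ)
    (H : Subgroup (GL D.Idx K)) (hL : Lq D K (p ^ a) ≤ H) (r : ℕ) (hr : r < D.nroots)
    (c : K) (hc : c ∈ Aset D H r) (hc' : c⁻¹ ∈ Aset D H r) :
    h8hU D (h8base_all.{u} D hD) r c ∈ H := by
  have hB := h8base_all.{u} D hD
  have hneg : Aset D H (D.neg r) = Aset D H r := aset_negroot p D hD a H hL r hr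
  have h1 : ∀ s : ℕ, (1 : K) ∈ Aset D H s := fun s => aset_rat D H (p ^ a) hL hB s 1 (one_pow _)
  have hm1 : ∀ s : ℕ, (-1 : K) ∈ Aset D H s := fun s => aset_neg D hB H s 1 (h1 s)
  unfold h8hU
  apply bglfl11_word_mem D _ H
  intro pr hpr
  unfold ChevalleyDatum.hWord ChevalleyDatum.nWord at hpr
  simp only [List.cons_append, List.nil_append, List.mem_cons, List.not_mem_nil, or_false] at hpr
  rcases hpr with rfl | rfl | rfl | rfl | rfl | rfl
  · exact hc
  · show -c⁻¹ ∈ Aset D H (D.neg r)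
    rw [hneg]
    exact aset_neg D hB H r _ hc'
  · exact hc
  · exact hm1 r
  · show -(-1 : K)⁻¹ ∈ Aset D H (D.neg r)
    have : -(-1 : K)⁻¹ = 1 := by rw [inv_neg, inv_one, neg_neg]
    rw [this]
    exact h1 _
  · exact hm1 r

/-- FL11 -/
theorem aset_torus (p : ℕ) [Fact p.Prime] [CharP K p] (D : ChevalleyDatum)
    (hD : D ∈ [chevG2, chevB2, chevD4, chevF4, chevE6, chevE7, chevE8]) (a : ℕ)
    (H : Subgroup (GL D.Idx K)) (hL : Lq D K (p ^ a) ≤ H) (r s : ℕ) (hr : r < D.nroots)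
    (hs : s < D.nroots) (c u : K) (hc0 : c ≠ 0) (hc : c ∈ Aset D H r) (hc' : c⁻¹ ∈ Aset D H r)
    (hu : u ∈ Aset D H s) : c ^ (h8K D r s) * u ∈ Aset D H s := by
  have hB := h8base_all.{u} D hD
  rw [aset_iff D hB] at hu ⊢
  rw [← h8hU_conj D hB r s hr hs c hc0 u]
  have hh := bglfl11_h_mem p D hD a H hL r hr c hc hc'
  exact H.mul_mem (H.mul_mem hh hu) (H.inv_mem hh)

end Cfsg.Agent.Lib.Helper10.BGL
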