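import Mathlib
import Cfsg.Agent.Lib.Helper10.BGL.FldDefs
import Cfsg.Agent.Lib.helper8.ChevK
import Cfsg.Agent.Lib.helper8.ChevW0
import Cfsg.Agent.Lib.helper8.ChevTwP1
import Cfsg.Agent.Lib.helper8.ChevCommAll
import Cfsg.Agent.Lib.Helper22.BGLFL2

/-!
# BGL row FL14 (helper29): `fld_G2_two` (`G₂`, characteristic 2: `t ∈ A_short ⇒ t² ∈ A_long`).
Statement verbatim from `Helper10/BGL/SkelFLD.lean.txt`.
Roots of `chevG2`: `7 = a` (short simple), `6 = b` (long simple), `8 = a + b`, `9 = 2a + b`, `10 = 3a + b`, `11 = 3a + 2b`.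
-/

set_option autoImplicit false

namespace Cfsg.Agent.Lib.Helper10.BGL

open Cfsg.Lie Cfsg.Lie.ChevalleyDatum Cfsg.Agent.Lib.helper8

universe u

variable {K : Type u} [Field K] [Finite K]

theorem bglfl14_mem : chevG2 ∈ [chevG2, chevB2, chevD4, chevF4, chevE6, chevE7, chevE8] :=
  List.mem_cons_self

theorem bglfl14_ct78 : chevG2.commTerms 7 8 = [(9, -2, 1, 1), (10, -3, 2, 1), (11, 3, 1, 2)] := by
  decide +kernel

theorem bglfl14_ct106 : chevG2.commTerms 10 6 = [(11, -1, 1, 1)] := by decide +kernel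

theorem bglfl14_ct116 : chevG2.commTerms 11 6 = [] := by decide +kernel

omit [Finite K] in
/-- `[x_a(t), x_{a+b}(1)]` in characteristic 2 -/
theorem bglfl14_c1 [CharP K 2] (hB : H8Base.{u} chevG2) (hC : H8CommAll.{u} chevG2) (t : K) :
    h8xU chevG2 hB 8 (1 : K) * h8xU chevG2 hB 7 t =
      h8xU chevG2 hB 7 t * h8xU chevG2 hB 8 1 * (h8xU chevG2 hB 10 (t ^ 2) * h8xU chevG2 hB 11 t) := by
  apply Units.ext
  simp only [Units.val_mul, h8xU_val]
  have h := hC.all 7 (by decide) 8 (by decide) (by decide) (by decide +kernel) K t 1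
  have hw : chevG2.commWord K 7 8 t 1 =
      [(9, ((-2 : ℤ) : K) * (-t) ^ 1 * 1 ^ 1), (10, ((-3 : ℤ) : K) * (-t) ^ 2 * 1 ^ 1),
        (11, ((3 : ℤ) : K) * (-t) ^ 1 * 1 ^ 2)] := by
    unfold ChevalleyDatum.commWord
    rw [bglfl14_ct78]
    rfl
  have h2 : (2 : K) = 0 := CharTwo.two_eq_zero
  have e9 : ((-2 : ℤ) : K) * (-t) ^ 1 * 1 ^ 1 = 0 := by
    push_cast
    rw [h2]
    ring
  have e10 : ((-3 : ℤ) : K) * (-t) ^ 2 * 1 ^ 1 = t ^ 2 := by
    push_cast
    have : (3 : K) = 1 := by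
      have : (3 : K) = 2 + 1 := by norm_num
      rw [this, h2, zero_add]
    rw [this, CharTwo.neg_eq]
    ring
  have e11 : ((3 : ℤ) : K) * (-t) ^ 1 * 1 ^ 2 = t := by
    push_cast
    have : (3 : K) = 1 := by
      have : (3 : K) = 2 + 1 := by norm_num
      rw [this, h2, zero_add]
    rw [this, CharTwo.neg_eq]
    ring
  rw [hw, e9, e10, e11, h8wordMat_cons, h8wordMat_cons, h8wordMat_cons, h8wordMat_nil, mul_one] at h
  simp only [] at h
  rw [hB.zero K 9, one_mul] at h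
  exact h

omit [Finite K] in
/-- `[x_{3a+b}(v), x_b(1)]` in characteristic 2 -/
theorem bglfl14_c2 [CharP K 2] (hB : H8Base.{u} chevG2) (hC : H8CommAll.{u} chevG2) (v : K) :
    h8xU chevG2 hB 6 (1 : K) * h8xU chevG2 hB 10 v =
      h8xU chevG2 hB 10 v * h8xU chevG2 hB 6 1 * h8xU chevG2 hB 11 v := by
  apply Units.ext
  simp only [Units.val_mul, h8xU_val]
  have h := hC.all 10 (by decide) 6 (by decide) (by decide) (by decide +kernel) K v 1
  have hw : chevG2.commWord K 10 6 v 1 = [(11, ((-1 : ℤ) : K) * (-v) ^ 1 * 1 ^ 1)] := by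
    unfold ChevalleyDatum.commWord
    rw [bglfl14_ct106]
    rfl
  have e11 : ((-1 : ℤ) : K) * (-v) ^ 1 * 1 ^ 1 = v := by
    push_cast
    ring
  rw [hw, e11, h8wordMat_cons, h8wordMat_nil, mul_one] at h
  exact h

omit [Finite K] in
/-- `x_b` and `x_{3a+2b}` commute -/
theorem bglfl14_c3 (hB : H8Base.{u} chevG2) (hC : H8CommAll.{u} chevG2) (v w : K) :
    h8xU chevG2 hB 6 w * h8xU chevG2 hB 11 v = h8xU chevG2 hB 11 v * h8xU chevG2 hB 6 w := by
  apply Units.ext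
  simp only [Units.val_mul, h8xU_val]
  have h := hC.all 11 (by decide) 6 (by decide) (by decide) (by decide +kernel) K v w
  have hw : chevG2.commWord K 11 6 v w = [] := by
    unfold ChevalleyDatum.commWord
    rw [bglfl14_ct116]
    rfl
  rw [hw, h8wordMat_nil, mul_one] at h
  exact h

/-- a group identity: `A B = B A D`, `A C = C A`, `D C = C D` give `A (B C) = B C A D` -/
theorem bglfl14_grp {G : Type*} [Group G] (A B C Dv : G) (h1 : A * B = B * A * Dv) (h2 : A * C = C * A)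
    (h3 : Dv * C = C * Dv) : A * (B * C) = B * C * A * Dv := by
  calc A * (B * C) = (A * B) * C := (mul_assoc _ _ _).symm
    _ = B * A * Dv * C := by rw [h1]
    _ = B * A * (Dv * C) := mul_assoc _ _ _
    _ = B * A * (C * Dv) := by rw [h3]
    _ = B * (A * C) * Dv := by simp only [mul_assoc]
    _ = B * (C * A) * Dv := by rw [h2]
    _ = B * C * A * Dv := by simp only [mul_assoc]

/-- FL14 -/
theorem fld_G2_two [CharP K 2] (a : ℕ) (H : Subgroup (GL chevG2.Idx K))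
    (hL : Lq chevG2 K (2 ^ a) ≤ H) (t : K) (ht : t ∈ Aset chevG2 H (chevG2.simple 0)) :
    t ^ 2 ∈ Aset chevG2 H (chevG2.simple 1) := by
  have hD := bglfl14_mem
  have hB : H8Base.{u} chevG2 := h8base_all.{u} chevG2 hD
  have hC : H8CommAll.{u} chevG2 := h8commAll.{u} chevG2 hD
  have hs0 : chevG2.simple 0 = 7 := by decide +kernel
  have hs1 : chevG2.simple 1 = 6 := by decide +kernel
  rw [hs0] at ht
  rw [hs1]
  -- `A_6 = A_10 = A_11`
  have hr1 : chevG2.reflectRoot 0 6 = 10 := by decide +kernel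
  have hr2 : chevG2.reflectRoot 1 10 = 11 := by decide +kernel
  have hA10 : Aset chevG2 H 10 = Aset chevG2 H 6 := by
    have := aset_refl 2 chevG2 hD a H hL 0 6 (by decide) (by decide)
    rwa [hr1] at this
  have hA11 : Aset chevG2 H 11 = Aset chevG2 H 10 := by
    have := aset_refl 2 chevG2 hD a H hL 1 10 (by decide) (by decide)
    rwa [hr2] at this
  rw [← hA10, ← hA11, aset_iff chevG2 hB]
  rw [aset_iff chevG2 hB] at ht
  have h8 : h8xU chevG2 hB 8 (1 : K) ∈ H := by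
    rw [← aset_iff chevG2 hB]
    exact aset_rat chevG2 H (2 ^ a) hL hB 8 1 (one_pow _)
  have h6 : h8xU chevG2 hB 6 (1 : K) ∈ H := by
    rw [← aset_iff chevG2 hB]
    exact aset_rat chevG2 H (2 ^ a) hL hB 6 1 (one_pow _)
  -- first commutator
  have hw1 : h8xU chevG2 hB 10 (t ^ 2) * h8xU chevG2 hB 11 t ∈ H := by
    have e : h8xU chevG2 hB 10 (t ^ 2) * h8xU chevG2 hB 11 t =
        (h8xU chevG2 hB 7 t * h8xU chevG2 hB 8 1)⁻¹ * (h8xU chevG2 hB 8 (1 : K) * h8xU chevG2 hB 7 t) := by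
      rw [bglfl14_c1 hB hC t]
      group
    rw [e]
    exact H.mul_mem (H.inv_mem (H.mul_mem ht h8)) (H.mul_mem h8 ht)
  -- second commutator
  have hcomm : h8xU chevG2 hB 11 (t ^ 2) * h8xU chevG2 hB 11 t =
      h8xU chevG2 hB 11 t * h8xU chevG2 hB 11 (t ^ 2) := by
    rw [h8xU_add chevG2 hB 11 (by decide), h8xU_add chevG2 hB 11 (by decide), add_comm]
  have e3 := bglfl14_grp (h8xU chevG2 hB 6 (1 : K)) (h8xU chevG2 hB 10 (t ^ 2)) (h8xU chevG2 hB 11 t)
    (h8xU chevG2 hB 11 (t ^ 2)) (bglfl14_c2 hB hC (t ^ 2)) (bglfl14_c3 hB hC t 1) hcomm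
  have e2 : h8xU chevG2 hB 11 (t ^ 2) =
      (h8xU chevG2 hB 10 (t ^ 2) * h8xU chevG2 hB 11 t * h8xU chevG2 hB 6 1)⁻¹ *
        (h8xU chevG2 hB 6 (1 : K) * (h8xU chevG2 hB 10 (t ^ 2) * h8xU chevG2 hB 11 t)) := by
    rw [e3]
    group
  rw [e2]
  exact H.mul_mem (H.inv_mem (H.mul_mem hw1 h6)) (H.mul_mem h6 hw1)

end Cfsg.Agent.Lib.Helper10.BGL
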