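import Mathlib
import Cfsg.Agent.Lib.Helper25.BGL.PCDefs
import Cfsg.Agent.Lib.Helper10.BGL.Bridge
import Cfsg.Agent.Lib.helper8.ChevK
import Cfsg.Agent.Lib.helper8.ChevSLP3
import Cfsg.Agent.Lib.helper2.BGLPC01

/-!
# BGL row PA02 (helper29): `pa_phi`, the rank one homomorphism at the highest root.
Statement verbatim from `Helper25/BGL/SkelPA.lean.txt`.
-/

set_option autoImplicit false

namespace Cfsg.Agent.Lib.Helper10.BGL

open Cfsg.Lie Cfsg.Lie.ChevalleyDatum Cfsg.Agent.Lib.helper8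

universe u

variable {K : Type u} [Field K]

/-- `diag(t, t⁻¹) = w(t) w(-1)` in `SL₂` -/
theorem bglpa02_sd_eq (t : K) (ht : t ≠ 0) :
    sd t ht = sx t * sy (-t⁻¹) * sx t * (sx (-1) * sy 1 * sx (-1)) := by
  apply Subtype.ext
  show !![t, 0; 0, t⁻¹] = !![1, t; 0, 1] * !![1, 0; -t⁻¹, 1] * !![1, t; 0, 1] *
    (!![1, -1; 0, 1] * !![1, 0; 1, 1] * !![1, -1; 0, 1])
  rw [Matrix.mul_fin_two, Matrix.mul_fin_two, Matrix.mul_fin_two, Matrix.mul_fin_two, Matrix.mul_fin_two]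
  have e : t * t⁻¹ = 1 := mul_inv_cancel₀ ht
  have e' : t⁻¹ * t = 1 := inv_mul_cancel₀ ht
  ext i j
  fin_cases i <;> fin_cases j <;> simp [e, e']

/-- the matrix of `n_r(t)` as a product of root elements -/
theorem bglpa02_nMat (D : ChevalleyDatum) (r : ℕ) (t : K) :
    D.nMat K r t = D.x K r t * D.x K (D.negIdx.getD r 0) (-t⁻¹) * D.x K r t := by
  unfold ChevalleyDatum.nMat ChevalleyDatum.nWord ChevalleyDatum.neg
  rw [h8wordMat_cons, h8wordMat_cons, h8wordMat_cons, h8wordMat_nil, mul_one, mul_assoc]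

/-- PA02 -/
theorem pa_phi (D : ChevalleyDatum) (hD : Seven D) :
    ∃ φ : Matrix.SpecialLinearGroup (Fin 2) K →* GL D.Idx K,
      (∀ t : K, φ (sx t) = xg D hD (D.nroots - 1) t) ∧ (∀ t : K, φ (sy t) = xg D hD 0 t) ∧
      (∀ (t : K) (ht : t ≠ 0), φ (sd t ht) = hg D hD (D.nroots - 1) t) := by
  obtain ⟨h2, hneg, -, -, -, -⟩ := pc_tab D hD
  obtain ⟨φ, -, hφ⟩ := h8sl2_main (F := K) D hD (D.nroots - 1) (by omega)
  have hx : ∀ t : K, φ (sx t) = xg D hD (D.nroots - 1) t := by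
    intro t
    apply Units.ext
    rw [xg_val]
    exact (hφ (sx t) t).1 rfl
  have hy : ∀ t : K, φ (sy t) = xg D hD 0 t := by
    intro t
    apply Units.ext
    rw [xg_val]
    have := (hφ (sy t) t).2 rfl
    unfold ChevalleyDatum.neg at this
    rwa [hneg] at this
  refine ⟨φ, hx, hy, ?_⟩
  intro t ht
  rw [bglpa02_sd_eq t ht, map_mul, map_mul, map_mul, map_mul, map_mul, hx, hx, hy, hy]
  apply Units.ext
  rw [hg_val, h8hMat_eq, bglpa02_nMat, bglpa02_nMat, hneg]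
  simp only [Units.val_mul, xg_val]
  congr 3
  norm_num

end Cfsg.Agent.Lib.Helper10.BGL
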