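import Mathlib
import Cfsg.Agent.Lib.Helper25.BGL.PCDefs
import Cfsg.Agent.Lib.Helper10.BGL.Bridge
import Cfsg.Agent.Lib.helper8.ChevK
import Cfsg.Agent.Lib.helper6.Dickson801

/-!
# BGL row PA01 (helper29): `pa_dickson`, the Dickson transfer (pure `SL₂`).
Statement verbatim from `Helper25/BGL/SkelPA.lean.txt`.
-/

set_option autoImplicit false

namespace Cfsg.Agent.Lib.Helper10.BGL

open Cfsg.Lie Cfsg.Lie.ChevalleyDatum Cfsg.Agent.Lib.helper8

universe u

variable {K : Type u} [Field K]

/-- the generator of `Subfield.closure {c}` generates it as a field -/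
theorem bglpa01_closure_top (c : K) :
    Subfield.closure ({(⟨c, Subfield.subset_closure (Set.mem_singleton c)⟩ :
      Subfield.closure ({c} : Set K))} : Set (Subfield.closure ({c} : Set K))) = ⊤ := by
  rw [eq_top_iff]
  intro x _
  have h1 : Subfield.closure ({c} : Set K) ≤
      (Subfield.closure ({(⟨c, Subfield.subset_closure (Set.mem_singleton c)⟩ :
        Subfield.closure ({c} : Set K))} : Set (Subfield.closure ({c} : Set K)))).map
          (Subfield.closure ({c} : Set K)).subtype := by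
    rw [Subfield.closure_le]
    intro y hy
    rw [Set.mem_singleton_iff.mp hy]
    exact ⟨⟨c, Subfield.subset_closure (Set.mem_singleton c)⟩,
      Subfield.subset_closure (Set.mem_singleton _), rfl⟩
  obtain ⟨y, hy, hyx⟩ := h1 x.2
  have : y = x := Subtype.ext hyx
  rwa [this] at hy

/-- conjugation by `diag(1, B)` on `2 × 2` matrices -/
def bglpa01_cBm (B : K) (M : Matrix (Fin 2) (Fin 2) K) : Matrix (Fin 2) (Fin 2) K :=
  !![M 0 0, M 0 1 * B⁻¹; M 1 0 * B, M 1 1]

theorem bglpa01_cBm_mul (B : K) (hB : B ≠ 0) (M N : Matrix (Fin 2) (Fin 2) K) :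
    bglpa01_cBm B (M * N) = bglpa01_cBm B M * bglpa01_cBm B N := by
  unfold bglpa01_cBm
  rw [Matrix.mul_fin_two]
  simp only [Matrix.mul_apply, Fin.sum_univ_two]
  have e1 : M 0 1 * B⁻¹ * (N 1 0 * B) = M 0 1 * N 1 0 := by field_simp
  have e2 : M 1 0 * B * (N 0 1 * B⁻¹) = M 1 0 * N 0 1 := by field_simp
  have e3 : (M 0 0 * N 0 1 + M 0 1 * N 1 1) * B⁻¹ = M 0 0 * (N 0 1 * B⁻¹) + M 0 1 * B⁻¹ * N 1 1 := by ring
  have e4 : (M 1 0 * N 0 0 + M 1 1 * N 1 0) * B = M 1 0 * B * N 0 0 + M 1 1 * (N 1 0 * B) := by ring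
  rw [e1, e2, e3, e4]

theorem bglpa01_cBm_one (B : K) : bglpa01_cBm B (1 : Matrix (Fin 2) (Fin 2) K) = 1 := by
  unfold bglpa01_cBm
  rw [Matrix.one_fin_two]
  simp

theorem bglpa01_cBm_det (B : K) (hB : B ≠ 0) (M : Matrix (Fin 2) (Fin 2) K) :
    (bglpa01_cBm B M).det = M.det := by
  unfold bglpa01_cBm
  rw [Matrix.det_fin_two_of, Matrix.det_fin_two]
  have : M 0 1 * B⁻¹ * (M 1 0 * B) = M 0 1 * M 1 0 := by field_simp
  rw [this]

theorem bglpa01_cBm_of (B a b c d : K) : bglpa01_cBm B !![a, b; c, d] = !![a, b * B⁻¹; c * B, d] := by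
  unfold bglpa01_cBm
  simp

/-- conjugation by `diag(1, B)` on `SL₂(K)` -/
def bglpa01_cB (B : K) (hB : B ≠ 0) :
    Matrix.SpecialLinearGroup (Fin 2) K →* Matrix.SpecialLinearGroup (Fin 2) K where
  toFun g := ⟨bglpa01_cBm B g.1, by rw [bglpa01_cBm_det B hB]; exact g.2⟩
  map_one' := Subtype.ext (bglpa01_cBm_one B)
  map_mul' g h := Subtype.ext (bglpa01_cBm_mul B hB g.1 h.1)

theorem bglpa01_cB_val (B : K) (hB : B ≠ 0) (g : Matrix.SpecialLinearGroup (Fin 2) K) :
    ((bglpa01_cB B hB g : Matrix.SpecialLinearGroup (Fin 2) K) : Matrix (Fin 2) (Fin 2) K) =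
      bglpa01_cBm B g.1 := rfl

/-- the composite `SL₂(F') → SL₂(K) → SL₂(K)` on an explicit matrix -/
theorem bglpa01_psi_of (B : K) (hB : B ≠ 0) (F' : Subfield K) (a b c d : F')
    (g : Matrix.SpecialLinearGroup (Fin 2) F') (hg : g.1 = !![a, b; c, d]) :
    ((bglpa01_cB B hB (Matrix.SpecialLinearGroup.map F'.subtype g) :
      Matrix.SpecialLinearGroup (Fin 2) K) : Matrix (Fin 2) (Fin 2) K) =
      !![(a : K), (b : K) * B⁻¹; (c : K) * B, (d : K)] := by
  rw [bglpa01_cB_val]
  have : ((Matrix.SpecialLinearGroup.map F'.subtype g : Matrix.SpecialLinearGroup (Fin 2) K) :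
      Matrix (Fin 2) (Fin 2) K) = !![(a : K), (b : K); (c : K), (d : K)] := by
    show (g.1).map F'.subtype = _
    rw [hg]
    ext i j
    fin_cases i <;> fin_cases j <;> rfl
  rw [this, bglpa01_cBm_of]

/-- PA01 -/
theorem pa_dickson [Finite K] (h2 : (2 : K) ≠ 0) (T : Subgroup (Matrix.SpecialLinearGroup (Fin 2) K)) (A B : K)
    (hA : sx A ∈ T) (hB : sy B ∈ T) (hAB : A * B ≠ 0) (hex : (A * B) ^ 2 ≠ -1) : sx B⁻¹ ∈ T := by
  classical
  have hB0 : B ≠ 0 := right_ne_zero_of_mul hAB
  haveI : Fintype (Subfield.closure ({A * B} : Set K)) := Fintype.ofFinite _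
  have h2' : (2 : Subfield.closure ({A * B} : Set K)) ≠ 0 := by
    intro h
    apply h2
    have h' := congrArg (Subfield.closure ({A * B} : Set K)).subtype h
    rwa [map_ofNat, map_zero] at h'
  have hlam : (⟨A * B, Subfield.subset_closure (Set.mem_singleton _)⟩ :
      Subfield.closure ({A * B} : Set K)) ≠ 0 := fun h => hAB (congrArg Subtype.val h)
  rcases Cfsg.Agent.Lib.helper6.Dickson801.dickson_gen h2'
    (⟨A * B, Subfield.subset_closure (Set.mem_singleton _)⟩ : Subfield.closure ({A * B} : Set K)) hlam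
    (bglpa01_closure_top (A * B)) with ⟨htop, -⟩ | ⟨-, hsq, -⟩
  · have hle : Subgroup.closure
        ({Cfsg.Agent.Lib.helper6.SL2Conc.yl (1 : Subfield.closure ({A * B} : Set K)),
          Cfsg.Agent.Lib.helper6.SL2Conc.xu (⟨A * B, Subfield.subset_closure (Set.mem_singleton _)⟩ :
            Subfield.closure ({A * B} : Set K))} : Set _) ≤
        T.comap ((bglpa01_cB B hB0).comp
          (Matrix.SpecialLinearGroup.map (Subfield.closure ({A * B} : Set K)).subtype)) := by
      rw [Subgroup.closure_le]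
      rintro g (rfl | rfl)
      · show (bglpa01_cB B hB0) (Matrix.SpecialLinearGroup.map (Subfield.closure ({A * B} : Set K)).subtype
          (Cfsg.Agent.Lib.helper6.SL2Conc.yl 1)) ∈ T
        have : (bglpa01_cB B hB0) (Matrix.SpecialLinearGroup.map (Subfield.closure ({A * B} : Set K)).subtype
            (Cfsg.Agent.Lib.helper6.SL2Conc.yl 1)) = sy B := by
          apply Subtype.ext
          rw [bglpa01_psi_of B hB0 _ 1 0 1 1 _ rfl]
          show !![((1 : Subfield.closure ({A * B} : Set K)) : K), ((0 : Subfield.closure ({A * B} : Set K)) : K) * B⁻¹;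
            ((1 : Subfield.closure ({A * B} : Set K)) : K) * B, ((1 : Subfield.closure ({A * B} : Set K)) : K)] =
              !![1, 0; B, 1]
          rw [Subfield.coe_one, Subfield.coe_zero, zero_mul, one_mul]
        rw [this]
        exact hB
      · show (bglpa01_cB B hB0) (Matrix.SpecialLinearGroup.map (Subfield.closure ({A * B} : Set K)).subtype
          (Cfsg.Agent.Lib.helper6.SL2Conc.xu _)) ∈ T
        have : (bglpa01_cB B hB0) (Matrix.SpecialLinearGroup.map (Subfield.closure ({A * B} : Set K)).subtype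
            (Cfsg.Agent.Lib.helper6.SL2Conc.xu (⟨A * B, Subfield.subset_closure (Set.mem_singleton _)⟩ :
              Subfield.closure ({A * B} : Set K)))) = sx A := by
          apply Subtype.ext
          rw [bglpa01_psi_of B hB0 _ 1 ⟨A * B, Subfield.subset_closure (Set.mem_singleton _)⟩ 0 1 _ rfl]
          show !![((1 : Subfield.closure ({A * B} : Set K)) : K), A * B * B⁻¹;
            ((0 : Subfield.closure ({A * B} : Set K)) : K) * B, ((1 : Subfield.closure ({A * B} : Set K)) : K)] =
              !![1, A; 0, 1]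
          rw [Subfield.coe_one, Subfield.coe_zero, zero_mul, mul_assoc, mul_inv_cancel₀ hB0, mul_one]
        rw [this]
        exact hA
    have h1 : Cfsg.Agent.Lib.helper6.SL2Conc.xu (1 : Subfield.closure ({A * B} : Set K)) ∈
        T.comap ((bglpa01_cB B hB0).comp
          (Matrix.SpecialLinearGroup.map (Subfield.closure ({A * B} : Set K)).subtype)) := by
      apply hle
      rw [htop]
      exact Subgroup.mem_top _
    have h3 : (bglpa01_cB B hB0) (Matrix.SpecialLinearGroup.map (Subfield.closure ({A * B} : Set K)).subtype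
        (Cfsg.Agent.Lib.helper6.SL2Conc.xu 1)) = sx B⁻¹ := by
      apply Subtype.ext
      rw [bglpa01_psi_of B hB0 _ 1 1 0 1 _ rfl]
      show !![((1 : Subfield.closure ({A * B} : Set K)) : K), ((1 : Subfield.closure ({A * B} : Set K)) : K) * B⁻¹;
        ((0 : Subfield.closure ({A * B} : Set K)) : K) * B, ((1 : Subfield.closure ({A * B} : Set K)) : K)] =
          !![1, B⁻¹; 0, 1]
      rw [Subfield.coe_one, Subfield.coe_zero, zero_mul, one_mul]
    rw [← h3]
    exact h1
  · exfalso
    apply hex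
    have h' := congrArg (Subfield.closure ({A * B} : Set K)).subtype hsq
    rwa [map_pow, map_neg, map_one] at h'

end Cfsg.Agent.Lib.Helper10.BGL
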