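import Cfsg.Agent.Lib.helper4.TSD.Defs
import Cfsg.Agent.S5646

/-!
# TSD (S5980) rows CHAR `tsd_case_char` and TWO `tsd_case_two` (statements verbatim from `helper4/TSD/Skel.lean.txt`)

`tsdct_contra`: a non-scalar `x` with some `rank (x - l) < min a b` has no conjugate in the tensor product subgroup (`tsd_small`).
CHAR: the symplectic transvection `1 + v (Jv)ᵀ`, `v = e_{inl 0}`, has `x ^ p = 1` and `rank (x - 1) ≤ 1`.
TWO: the diagonal involution `-1` at `inl 0`, `inr 0` has `rank (x - 1) = 2 < 3 ≤ b`, `2 < 4 ≤ a`.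
-/

set_option autoImplicit false
set_option linter.unusedVariables false
set_option linter.unusedSectionVars false

namespace Cfsg.Agent.Lib.helper4.TSD

open Matrix
open scoped Kronecker
open Cfsg.Agent.Lib.Helper22.TD

variable {F : Type*} [Field F]

/-- small support: a non-scalar `x` with `rank (x - l) < a`, `< b` has no conjugate in the tensor product subgroup. -/
theorem tsdct_contra {ι : Type} [Fintype ι] [DecidableEq ι] {a b : ℕ} (ha : 1 ≤ a)
    (e : ι ≃ Fin a × Fin b) (P x : GL ι F)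
    (hconj : ∃ g : GL ι F, g⁻¹ * x * g ∈ Cfsg.Geo.tensorProductSubgroup a b e P)
    (l : F) (hla : ((x : Matrix ι ι F) - l • (1 : Matrix ι ι F)).rank < a)
    (hlb : ((x : Matrix ι ι F) - l • (1 : Matrix ι ι F)).rank < b)
    (hx : (x : Matrix ι ι F) ≠ l • (1 : Matrix ι ι F)) : False := by
  obtain ⟨h, hrank⟩ := tsd_small ha e P x hconj l hlb
  have h1 := hrank l
  have h0 : (h - l • (1 : Matrix (Fin b) (Fin b) F)).rank = 0 := by
    by_contra hne
    have : a * 1 ≤ a * (h - l • (1 : Matrix (Fin b) (Fin b) F)).rank :=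
      Nat.mul_le_mul_left _ (Nat.pos_of_ne_zero hne)
    omega
  rw [h0, mul_zero] at h1
  exact hx (sub_eq_zero.mp (td_eq_zero_of_rank _ h1))

/-- powers of a symplectic transvection. -/
theorem tsdct_ts_pow (d : ℕ) (v : Fin d ⊕ Fin d → F) (c : F) (k : ℕ) :
    (Cfsg.sympTransvection d v c) ^ k = Cfsg.sympTransvection d v ((k : F) * c) := by
  induction k with
  | zero =>
    rw [pow_zero, Nat.cast_zero, zero_mul]
    unfold Cfsg.sympTransvection
    rw [zero_smul, add_zero]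
  | succ k ih =>
    rw [pow_succ, ih, (Cfsg.Agent.S0767.result d v).1]
    congr 1
    push_cast
    ring

/-- CHAR [M]. `r = p`: a symplectic transvection (`Cfsg.sympTransvection`, `Cfsg.Agent.Lib.helper6.Symp.sympTransvection_mem`,
`Cfsg.Agent.S5646.tsGL`) has `rank (x - 1) = 1 < b`, `x ^ p = 1`, is not scalar; `tsd_small` gives `1 = a * _`, `a ≥ 2`. -/
theorem tsd_case_char {p : ℕ} [Fact p.Prime] [CharP F p] (d : ℕ) (hd : 1 ≤ d) (a b : ℕ) (ha2 : 2 ≤ a) (hb : 3 ≤ b)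
    (e : (Fin d ⊕ Fin d) ≃ Fin a × Fin b) (P : GL (Fin d ⊕ Fin d) F) (hall : TsdAll d a b e P p) : False := by
  set i0 : Fin d := ⟨0, by omega⟩ with hi0
  set v : Fin d ⊕ Fin d → F := Pi.single (Sum.inl i0) 1 with hv
  obtain ⟨x, hxm, hxS⟩ := Cfsg.Agent.S5646.tsGL v (1 : F)
  have hsub : (x : Matrix (Fin d ⊕ Fin d) (Fin d ⊕ Fin d) F) -
      (1 : F) • (1 : Matrix (Fin d ⊕ Fin d) (Fin d ⊕ Fin d) F) =
      Matrix.vecMulVec v (Matrix.J (Fin d) F *ᵥ v) := by
    rw [hxm, Cfsg.sympTransvection, one_smul, one_smul, add_sub_cancel_left]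
  have hentry : Matrix.vecMulVec v (Matrix.J (Fin d) F *ᵥ v) (Sum.inl i0) (Sum.inr i0) = 1 := by
    rw [Matrix.vecMulVec_apply, hv, Pi.single_eq_same, one_mul, Matrix.mulVec_single_one]
    simp [Matrix.J, Matrix.fromBlocks_apply₂₁]
  have hne1 : (x : Matrix (Fin d ⊕ Fin d) (Fin d ⊕ Fin d) F) ≠
      (1 : F) • (1 : Matrix (Fin d ⊕ Fin d) (Fin d ⊕ Fin d) F) := by
    intro h
    have h1 : Matrix.vecMulVec v (Matrix.J (Fin d) F *ᵥ v) = 0 := by
      rw [← hsub, h, sub_self]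
    have h2 := hentry
    rw [h1] at h2
    simp at h2
  have hns : ∀ z : F, (x : Matrix (Fin d ⊕ Fin d) (Fin d ⊕ Fin d) F) ≠
      z • (1 : Matrix (Fin d ⊕ Fin d) (Fin d ⊕ Fin d) F) := by
    intro z hz
    have h1 := congrFun (congrFun hz (Sum.inl i0)) (Sum.inr i0)
    rw [hxm, Cfsg.sympTransvection, Matrix.add_apply, Matrix.smul_apply, hentry] at h1
    simp [Matrix.one_apply] at h1
  have hpow : ∃ z : F, ((x ^ p : GL (Fin d ⊕ Fin d) F) :
      Matrix (Fin d ⊕ Fin d) (Fin d ⊕ Fin d) F) =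
      z • (1 : Matrix (Fin d ⊕ Fin d) (Fin d ⊕ Fin d) F) := by
    refine ⟨1, ?_⟩
    rw [Units.val_pow_eq_pow_val, hxm, tsdct_ts_pow, CharP.cast_eq_zero, zero_mul, one_smul]
    unfold Cfsg.sympTransvection
    rw [zero_smul, add_zero]
  have hconj := hall x hxS hpow hns
  have hrk : ((x : Matrix (Fin d ⊕ Fin d) (Fin d ⊕ Fin d) F) -
      (1 : F) • (1 : Matrix (Fin d ⊕ Fin d) (Fin d ⊕ Fin d) F)).rank ≤ 1 := by
    rw [hsub]
    exact Matrix.rank_vecMulVec_le _ _
  exact tsdct_contra (by omega) e P x hconj 1 (by omega) (by omega) hne1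

/-- the diagonal of the involution of TWO. -/
def tsdctEps (d : ℕ) (i0 : Fin d) (F : Type*) [Field F] : Fin d → F :=
  fun i => if i = i0 then -1 else 1

theorem tsdct_eps_sq (d : ℕ) (i0 : Fin d) (i : Fin d) :
    tsdctEps d i0 F i * tsdctEps d i0 F i = 1 := by
  unfold tsdctEps
  split_ifs <;> simp

/-- a diagonal matrix `diag(ε, ε)` with `ε² = 1` is symplectic. -/
theorem tsdct_diag_mem (d : ℕ) (ε : Fin d → F) (hε : ∀ i, ε i * ε i = 1) :
    Matrix.diagonal (Sum.elim ε ε) ∈ Matrix.symplecticGroup (Fin d) F := by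
  rw [SymplecticGroup.mem_iff, ← Matrix.fromBlocks_diagonal, Matrix.J, Matrix.fromBlocks_transpose,
    Matrix.fromBlocks_multiply, Matrix.fromBlocks_multiply]
  simp only [Matrix.diagonal_transpose, Matrix.transpose_zero, Matrix.mul_zero, Matrix.zero_mul,
    Matrix.mul_one, Matrix.one_mul, Matrix.mul_neg, Matrix.neg_mul, add_zero, zero_add,
    Matrix.diagonal_mul_diagonal, hε, Matrix.diagonal_one, neg_zero]

/-- TWO [M]. `r = 2`, `a ≥ 4`: the diagonal involution `-1` at `inl 0, inr 0`, `1` elsewhere, is in `Sp`, not scalar (`d ≥ 2`),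
`rank (x - 1) = 2 < b` (`Helper22.TD.td_diag_rank`-style); `tsd_small` gives `2 = a * _`, `a ≥ 4`. -/
theorem tsd_case_two (h2 : (2 : F) ≠ 0) (d : ℕ) (hd : 2 ≤ d) (a b : ℕ) (ha4 : 4 ≤ a) (hb : 3 ≤ b)
    (e : (Fin d ⊕ Fin d) ≃ Fin a × Fin b) (P : GL (Fin d ⊕ Fin d) F) (hall : TsdAll d a b e P 2) : False := by
  set i0 : Fin d := ⟨0, by omega⟩ with hi0
  set i1 : Fin d := ⟨1, by omega⟩ with hi1
  have hi01 : i1 ≠ i0 := by
    intro h
    have := congrArg Fin.val h
    simp [hi0, hi1] at this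
  set δ : Fin d ⊕ Fin d → F := Sum.elim (tsdctEps d i0 F) (tsdctEps d i0 F) with hδ
  set D : Matrix (Fin d ⊕ Fin d) (Fin d ⊕ Fin d) F := Matrix.diagonal δ with hD
  have hDD : D * D = 1 := by
    rw [hD, Matrix.diagonal_mul_diagonal]
    have : (fun k => δ k * δ k) = fun _ => (1 : F) := by
      funext k
      rcases k with k | k <;> simp [hδ, tsdct_eps_sq]
    rw [this, Matrix.diagonal_one]
  set x : GL (Fin d ⊕ Fin d) F := ⟨D, D, hDD, hDD⟩ with hx
  have hxm : (x : Matrix (Fin d ⊕ Fin d) (Fin d ⊕ Fin d) F) = D := rfl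
  have hxS : x ∈ Cfsg.spGL d F := by
    rw [Cfsg.Agent.S5646.mem_spGL_iff, hxm, hD, hδ]
    exact (Cfsg.Agent.Lib.helper6.mem_symplecticGroup_iff_sympForm d _).mp
      (tsdct_diag_mem d _ (tsdct_eps_sq d i0))
  have hm1 : (-1 : F) ≠ 1 := by
    intro h
    apply h2
    have : (2 : F) = 1 - (-1) := by ring
    rw [this, h, sub_self]
  have hd0 : δ (Sum.inl i0) = -1 := by simp [hδ, tsdctEps]
  have hd1 : δ (Sum.inl i1) = 1 := by simp [hδ, tsdctEps, hi01]
  have hns : ∀ z : F, (x : Matrix (Fin d ⊕ Fin d) (Fin d ⊕ Fin d) F) ≠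
      z • (1 : Matrix (Fin d ⊕ Fin d) (Fin d ⊕ Fin d) F) := by
    intro z hz
    have e0 := congrFun (congrFun hz (Sum.inl i0)) (Sum.inl i0)
    have e1 := congrFun (congrFun hz (Sum.inl i1)) (Sum.inl i1)
    rw [hxm, hD, Matrix.diagonal_apply_eq, Matrix.smul_apply, Matrix.one_apply_eq, smul_eq_mul,
      mul_one] at e0 e1
    rw [hd0] at e0
    rw [hd1] at e1
    exact hm1 (e0.trans e1.symm)
  have hpow : ∃ z : F, ((x ^ 2 : GL (Fin d ⊕ Fin d) F) :
      Matrix (Fin d ⊕ Fin d) (Fin d ⊕ Fin d) F) =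
      z • (1 : Matrix (Fin d ⊕ Fin d) (Fin d ⊕ Fin d) F) := by
    refine ⟨1, ?_⟩
    rw [Units.val_pow_eq_pow_val, hxm, pow_two, hDD, one_smul]
  have hconj := hall x hxS hpow hns
  have hrk : ((x : Matrix (Fin d ⊕ Fin d) (Fin d ⊕ Fin d) F) -
      (1 : F) • (1 : Matrix (Fin d ⊕ Fin d) (Fin d ⊕ Fin d) F)).rank ≤ 2 := by
    have hsub : (x : Matrix (Fin d ⊕ Fin d) (Fin d ⊕ Fin d) F) -
        (1 : F) • (1 : Matrix (Fin d ⊕ Fin d) (Fin d ⊕ Fin d) F) =
        Matrix.diagonal (fun k => δ k - 1) := by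
      rw [hxm, hD, one_smul]
      ext k k'
      by_cases hk : k = k'
      · subst hk; simp
      · simp [hk, Matrix.one_apply]
    classical
    rw [hsub, Matrix.rank_diagonal, Fintype.card_subtype]
    have hfilter : (Finset.univ.filter (fun k : Fin d ⊕ Fin d => δ k - 1 ≠ 0)) ⊆
        {Sum.inl i0, Sum.inr i0} := by
      intro k hk
      rw [Finset.mem_filter] at hk
      by_contra hnot
      simp only [Finset.mem_insert, Finset.mem_singleton, not_or] at hnot
      apply hk.2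
      rcases k with k | k
      · have hk0 : k ≠ i0 := fun h => hnot.1 (by rw [h])
        simp [hδ, tsdctEps, hk0]
      · have hk0 : k ≠ i0 := fun h => hnot.2 (by rw [h])
        simp [hδ, tsdctEps, hk0]
    calc _ ≤ ({Sum.inl i0, Sum.inr i0} : Finset (Fin d ⊕ Fin d)).card := Finset.card_le_card hfilter
      _ ≤ 2 := Finset.card_le_two
  exact tsdct_contra (by omega) e P x hconj 1 (by omega) (by omega) (hns 1)

end Cfsg.Agent.Lib.helper4.TSD
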