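import Cfsg.Agent.Lib.Helper10.C3E.Defs
import Cfsg.Agent.Lib.Helper29.TSDCHARTWO

/-!
# S5975 (project C3E, helper10) rows EXT `c3e_ex_transvection` and EXI `c3e_ex_involution` (verbatim from `Helper10/C3E/Skel.lean.txt`)

EXT: the symplectic transvection `1 + v (Jv)ᵀ`, `v = e_{inl 0}` (`Cfsg.Agent.S5646.tsGL`): `x ^ p = 1`, `rank (x - 1) = 1`.
EXI: the diagonal involution `-1` at `inl 0`, `inr 0`: `x ^ 2 = 1`, `rank (x - 1) = 2`.
Both reuse `tsdct_ts_pow`, `tsdct_diag_mem`, `tsdctEps` of `Helper29.TSDCHARTWO`.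
-/

set_option autoImplicit false
set_option linter.unusedVariables false
set_option linter.unusedSectionVars false

namespace Cfsg.Agent.Lib.Helper10.C3E

open Matrix Cfsg.Agent.Lib.helper4.TSD Cfsg.Agent.Lib.Helper22.TD

section concrete

variable {F : Type*} [Field F]

/-- EXT : a transvection (`Cfsg.Agent.S5646.tsGL`, `ts_apply`: `g x = x + c f(x,v) v`). -/
theorem c3e_ex_transvection {p : ℕ} [Fact p.Prime] [CharP F p] (d : ℕ) (hd : 1 ≤ d) :
    ∃ x ∈ Cfsg.spGL d F, x ^ p = 1 ∧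
      ((x : Matrix (Fin d ⊕ Fin d) (Fin d ⊕ Fin d) F) - 1).rank = 1 := by
  set i0 : Fin d := ⟨0, by omega⟩ with hi0
  set v : Fin d ⊕ Fin d → F := Pi.single (Sum.inl i0) 1 with hv
  obtain ⟨x, hxm, hxS⟩ := Cfsg.Agent.S5646.tsGL v (1 : F)
  have hsub : (x : Matrix (Fin d ⊕ Fin d) (Fin d ⊕ Fin d) F) - 1 =
      Matrix.vecMulVec v (Matrix.J (Fin d) F *ᵥ v) := by
    rw [hxm, Cfsg.sympTransvection, one_smul, add_sub_cancel_left]
  have hentry : Matrix.vecMulVec v (Matrix.J (Fin d) F *ᵥ v) (Sum.inl i0) (Sum.inr i0) = 1 := by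
    rw [Matrix.vecMulVec_apply, hv, Pi.single_eq_same, one_mul, Matrix.mulVec_single_one]
    simp [Matrix.J, Matrix.fromBlocks_apply₂₁]
  refine ⟨x, hxS, ?_, ?_⟩
  · apply Units.ext
    rw [Units.val_pow_eq_pow_val, hxm, tsdct_ts_pow, CharP.cast_eq_zero, zero_mul, Units.val_one]
    unfold Cfsg.sympTransvection
    rw [zero_smul, add_zero]
  · rw [hsub]
    apply le_antisymm (Matrix.rank_vecMulVec_le _ _)
    rw [Nat.one_le_iff_ne_zero]
    intro h0
    have h1 := td_eq_zero_of_rank _ h0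
    have h2 := hentry
    rw [h1] at h2
    simp at h2

/-- EXI : the involution negating `e_{inl 0}, e_{inr 0}` (a diagonal matrix; or `Cfsg.Agent.Lib.helper14.PolC.emb 1 (d-1) (-1)`). -/
theorem c3e_ex_involution (h2 : (2 : F) ≠ 0) (d : ℕ) (hd : 1 ≤ d) :
    ∃ x ∈ Cfsg.spGL d F, x ^ 2 = 1 ∧
      ((x : Matrix (Fin d ⊕ Fin d) (Fin d ⊕ Fin d) F) - 1).rank = 2 := by
  classical
  set i0 : Fin d := ⟨0, by omega⟩ with hi0
  set δ : Fin d ⊕ Fin d → F := Sum.elim (tsdctEps d i0 F) (tsdctEps d i0 F) with hδ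
  set D : Matrix (Fin d ⊕ Fin d) (Fin d ⊕ Fin d) F := Matrix.diagonal δ with hD
  have hDD : D * D = 1 := by
    rw [hD, Matrix.diagonal_mul_diagonal]
    have : (fun k => δ k * δ k) = fun _ => (1 : F) := by
      funext k
      rcases k with k | k <;> simp [hδ, tsdct_eps_sq]
    rw [this, Matrix.diagonal_one]
  set x : GL (Fin d ⊕ Fin d) F := ⟨D, D, hDD, hDD⟩ with hx
  have hxm : (x : Matrix (Fin d ⊕ Fin d) (Fin d ⊕ Fin d) F) = D := rfl
  have hxS : x ∈ Cfsg.spGL d F := by
    rw [Cfsg.Agent.S5646.mem_spGL_iff, hxm, hD, hδ]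
    exact (Cfsg.Agent.Lib.helper6.mem_symplecticGroup_iff_sympForm d _).mp
      (tsdct_diag_mem d _ (tsdct_eps_sq d i0))
  refine ⟨x, hxS, ?_, ?_⟩
  · apply Units.ext
    rw [Units.val_pow_eq_pow_val, hxm, pow_two, hDD, Units.val_one]
  · have hsub : (x : Matrix (Fin d ⊕ Fin d) (Fin d ⊕ Fin d) F) - 1 =
        Matrix.diagonal (fun k => δ k - 1) := by
      rw [hxm, hD]
      ext k k'
      by_cases hk : k = k'
      · subst hk; simp
      · simp [hk]
    rw [hsub, Matrix.rank_diagonal, Fintype.card_subtype]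
    have hm2 : (-1 : F) - 1 ≠ 0 := by
      intro h
      apply h2
      have : (2 : F) = -((-1 : F) - 1) := by ring
      rw [this, h, neg_zero]
    have hfilter : (Finset.univ.filter (fun k : Fin d ⊕ Fin d => δ k - 1 ≠ 0)) =
        {Sum.inl i0, Sum.inr i0} := by
      ext k
      simp only [Finset.mem_filter, Finset.mem_univ, true_and, Finset.mem_insert,
        Finset.mem_singleton]
      constructor
      · intro hk
        by_contra hnot
        rw [not_or] at hnot
        apply hk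
        rcases k with k | k
        · have hk0 : k ≠ i0 := fun h => hnot.1 (by rw [h])
          simp [hδ, tsdctEps, hk0]
        · have hk0 : k ≠ i0 := fun h => hnot.2 (by rw [h])
          simp [hδ, tsdctEps, hk0]
      · rintro (rfl | rfl)
        · simpa [hδ, tsdctEps] using hm2
        · simpa [hδ, tsdctEps] using hm2
    rw [hfilter]
    exact Finset.card_pair (by simp)

end concrete

end Cfsg.Agent.Lib.Helper10.C3E
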