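import Mathlib
import Cfsg.Agent.Lib.Helper10.C3Q.Defs
import Cfsg.Agent.Lib.Helper16.SpinAdjust2

set_option autoImplicit false
set_option linter.unusedVariables false
set_option linter.unusedSectionVars false

/-!
# Project C3Q (S5977 + S5978; designer helper10), row SPOS (`s_local_pos`), part a (helper29): reflections in eigenvectors of an
isometry commute with it, so the four adjusting elements fix `x` under conjugation.
-/

namespace Cfsg.Agent.Lib.Helper10.C3Q

open Matrix Module Cfsg.Agent.Lib.Helper13.OTS Cfsg.Agent.Lib.Helper16 Cfsg.Agent.Lib.helper6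

universe u

variable {F : Type u} [Field F] {ι : Type} [Fintype ι] [DecidableEq ι]

/-- an isometry preserves the polar form -/
theorem c3qspos_polar_pres (Q : QuadraticForm F (ι → F)) (x : GL ι F)
    (hx : x ∈ Cfsg.isometryGroup F (⇑Q)) (u v : ι → F) :
    QuadraticMap.polar (⇑Q) ((x : Matrix ι ι F) *ᵥ u) ((x : Matrix ι ι F) *ᵥ v) = QuadraticMap.polar (⇑Q) u v := by
  have h := (mem_iso_iff (⇑Q) x).mp hx
  unfold QuadraticMap.polar
  rw [← Matrix.mulVec_add, h, h, h]

/-- the reflection in an eigenvector (eigenvalue `ε`, `ε² = 1`) of an isometry commutes with it -/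
theorem c3qspos_refl_comm (Q : QuadraticForm F (ι → F)) (x : GL ι F)
    (hx : x ∈ Cfsg.isometryGroup F (⇑Q)) (a : ι → F) (ε : F) (hε : ε * ε = 1)
    (hxa : (x : Matrix ι ι F) *ᵥ a = ε • a) :
    (x : Matrix ι ι F) * Cfsg.reflectionMatrix (⇑Q) a = Cfsg.reflectionMatrix (⇑Q) a * (x : Matrix ι ι F) := by
  rw [Matrix.ext_iff_mulVec]
  intro v
  rw [← Matrix.mulVec_mulVec, ← Matrix.mulVec_mulVec, reflectionMatrix_mulVec, reflectionMatrix_mulVec,
    Matrix.mulVec_sub, Matrix.mulVec_smul, hxa]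
  have h1 : QuadraticMap.polar (⇑Q) a ((x : Matrix ι ι F) *ᵥ v) = ε * QuadraticMap.polar (⇑Q) a v := by
    have h2 : a = ε • ((x : Matrix ι ι F) *ᵥ a) := by
      rw [hxa, smul_smul, hε, one_smul]
    conv_lhs => rw [h2]
    rw [QuadraticMap.polar_smul_left, c3qspos_polar_pres Q x hx, smul_eq_mul]
  rw [h1, smul_smul]
  congr 2
  ring

/-- commuting elements: conjugation is trivial -/
theorem c3qspos_conj (x ρ : GL ι F)
    (h : (x : Matrix ι ι F) * (ρ : Matrix ι ι F) = (ρ : Matrix ι ι F) * (x : Matrix ι ι F)) :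
    ρ⁻¹ * x * ρ = x := by
  have h1 : x * ρ = ρ * x := by
    apply Units.ext
    rw [Units.val_mul, Units.val_mul]
    exact h
  rw [mul_assoc, h1, ← mul_assoc, inv_mul_cancel, one_mul]

/-- the four adjusting elements fix `x` under conjugation when `a`, `b` are eigenvectors of `x` -/
theorem c3qspos_four (Q : QuadraticForm F (ι → F)) (x : GL ι F)
    (hx : x ∈ Cfsg.isometryGroup F (⇑Q)) (a b : ι → F) (ha : Q a ≠ 0) (hb : Q b ≠ 0) (ε : F)
    (hε : ε * ε = 1) (hxa : (x : Matrix ι ι F) *ᵥ a = ε • a) (hxb : (x : Matrix ι ι F) *ᵥ b = ε • b)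
    (ρ : GL ι F)
    (hρ : ρ = 1 ∨ ρ = ((reflG Q a ha : ↥(Cfsg.isometryGroup F (⇑Q))) : GL ι F) ∨
      ρ = ((reflG Q b hb : ↥(Cfsg.isometryGroup F (⇑Q))) : GL ι F) ∨
      ρ = ((reflG Q a ha * reflG Q b hb : ↥(Cfsg.isometryGroup F (⇑Q))) : GL ι F)) :
    ρ⁻¹ * x * ρ = x := by
  have hca := c3qspos_refl_comm Q x hx a ε hε hxa
  have hcb := c3qspos_refl_comm Q x hx b ε hε hxb
  rcases hρ with rfl | rfl | rfl | rfl
  · simp
  · exact c3qspos_conj x _ (by rw [reflG_coe]; exact hca)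
  · exact c3qspos_conj x _ (by rw [reflG_coe]; exact hcb)
  · apply c3qspos_conj x _
    rw [iso_mul_coe, reflG_coe, reflG_coe, ← Matrix.mul_assoc, hca, Matrix.mul_assoc, hcb, Matrix.mul_assoc]

end Cfsg.Agent.Lib.Helper10.C3Q
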