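import Mathlib
import Cfsg.Agent.Lib.Helper10.C3Q.Defs

set_option autoImplicit false
set_option linter.unusedVariables false
set_option linter.unusedSectionVars false

/-!
# Project C3Q (S5977 + S5978; designer helper10), row SPOS (`s_local_pos`), part b (helper29): two orthogonal complementary
subspaces, each an orthogonal sum of planes, give an orthogonal sum of planes of the whole space (`IsPlanes` of the concatenation).
-/

namespace Cfsg.Agent.Lib.Helper10.C3Q

open Matrix Module

universe u

variable {F : Type u} [Field F] {ι : Type} [Fintype ι] [DecidableEq ι]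

/-- the family of `2n` vectors attached to `e f : Fin n → V` -/
def c3qspos_fam {n : ℕ} (e f : Fin n → (ι → F)) : Fin n × Fin 2 → (ι → F) :=
  fun p => if p.2 = 0 then e p.1 else f p.1

/-- the reindexing -/
def c3qspos_sigma (m n : ℕ) : (Fin m × Fin 2) ⊕ (Fin n × Fin 2) ≃ Fin (m + n) × Fin 2 :=
  (Equiv.sumProdDistrib (Fin m) (Fin n) (Fin 2)).symm.trans (Equiv.prodCongr finSumFinEquiv (Equiv.refl _))

theorem c3qspos_fam_sigma {m n : ℕ} (eP fP : Fin m → (ι → F)) (eM fM : Fin n → (ι → F)) :
    c3qspos_fam (Fin.append eP eM) (Fin.append fP fM) ∘ c3qspos_sigma m n =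
      Sum.elim (c3qspos_fam eP fP) (c3qspos_fam eM fM) := by
  funext s
  rcases s with ⟨i, t⟩ | ⟨i, t⟩
  · simp [c3qspos_fam, c3qspos_sigma, Equiv.sumProdDistrib]
  · simp [c3qspos_fam, c3qspos_sigma, Equiv.sumProdDistrib]

/-- concatenation of two orthogonal systems of planes -/
theorem c3qspos_cat (Q : (ι → F) → F) (hsymm : ∀ u v, QuadraticMap.polar Q u v = QuadraticMap.polar Q v u)
    (VP VM : Submodule F (ι → F)) (hcompl : IsCompl VP VM)
    (horth : ∀ u ∈ VP, ∀ w ∈ VM, QuadraticMap.polar Q u w = 0) {m n : ℕ}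
    (eP fP : Fin m → (ι → F)) (eM fM : Fin n → (ι → F))
    (hP : ∀ j, eP j ∈ VP ∧ fP j ∈ VP) (hM : ∀ j, eM j ∈ VM ∧ fM j ∈ VM)
    (hliP : LinearIndependent F (fun p : Fin m × Fin 2 => if p.2 = 0 then eP p.1 else fP p.1))
    (hliM : LinearIndependent F (fun p : Fin n × Fin 2 => if p.2 = 0 then eM p.1 else fM p.1))
    (hspP : VP ≤ Submodule.span F (Set.range (fun p : Fin m × Fin 2 => if p.2 = 0 then eP p.1 else fP p.1)))
    (hspM : VM ≤ Submodule.span F (Set.range (fun p : Fin n × Fin 2 => if p.2 = 0 then eM p.1 else fM p.1)))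
    (hoP : ∀ i j, i ≠ j → QuadraticMap.polar Q (eP i) (eP j) = 0 ∧ QuadraticMap.polar Q (eP i) (fP j) = 0 ∧
      QuadraticMap.polar Q (fP i) (fP j) = 0)
    (hoM : ∀ i j, i ≠ j → QuadraticMap.polar Q (eM i) (eM j) = 0 ∧ QuadraticMap.polar Q (eM i) (fM j) = 0 ∧
      QuadraticMap.polar Q (fM i) (fM j) = 0) :
    IsPlanes Q (Fin.append eP eM) (Fin.append fP fM) := by
  have hrP : Set.range (c3qspos_fam eP fP) ⊆ (VP : Set (ι → F)) := by
    rintro _ ⟨⟨i, t⟩, rfl⟩
    unfold c3qspos_fam
    dsimp only
    split_ifs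
    · exact (hP i).1
    · exact (hP i).2
  have hrM : Set.range (c3qspos_fam eM fM) ⊆ (VM : Set (ι → F)) := by
    rintro _ ⟨⟨i, t⟩, rfl⟩
    unfold c3qspos_fam
    dsimp only
    split_ifs
    · exact (hM i).1
    · exact (hM i).2
  have hdisj : Disjoint (Submodule.span F (Set.range (c3qspos_fam eP fP)))
      (Submodule.span F (Set.range (c3qspos_fam eM fM))) :=
    hcompl.disjoint.mono (Submodule.span_le.mpr hrP) (Submodule.span_le.mpr hrM)
  have hli : LinearIndependent F (Sum.elim (c3qspos_fam eP fP) (c3qspos_fam eM fM)) :=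
    LinearIndependent.sum_type hliP hliM hdisj
  have hsig := c3qspos_fam_sigma eP fP eM fM
  refine ⟨?_, ?_, ?_⟩
  · exact (linearIndependent_equiv' (c3qspos_sigma m n) hsig).mp hli
  · have hrange : Set.range (c3qspos_fam (Fin.append eP eM) (Fin.append fP fM)) =
        Set.range (c3qspos_fam eP fP) ∪ Set.range (c3qspos_fam eM fM) := by
      rw [← Set.Sum.elim_range, ← hsig, Set.range_comp, Equiv.range_eq_univ, Set.image_univ]
    change ⊤ ≤ Submodule.span F (Set.range (c3qspos_fam (Fin.append eP eM) (Fin.append fP fM)))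
    rw [hrange, Submodule.span_union, ← hcompl.sup_eq_top]
    exact sup_le_sup hspP hspM
  · intro i j
    induction i using Fin.addCases with
    | left i =>
      induction j using Fin.addCases with
      | left j =>
        intro hij
        have hij' : i ≠ j := fun h => hij (by rw [h])
        simp only [Fin.append_left]
        exact hoP i j hij'
      | right j =>
        intro _
        simp only [Fin.append_left, Fin.append_right]
        exact ⟨horth _ (hP i).1 _ (hM j).1, horth _ (hP i).1 _ (hM j).2, horth _ (hP i).2 _ (hM j).2⟩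
    | right i =>
      induction j using Fin.addCases with
      | left j =>
        intro _
        simp only [Fin.append_left, Fin.append_right]
        refine ⟨?_, ?_, ?_⟩
        · rw [hsymm]; exact horth _ (hP j).1 _ (hM i).1
        · rw [hsymm]; exact horth _ (hP j).2 _ (hM i).1
        · rw [hsymm]; exact horth _ (hP j).2 _ (hM i).2
      | right j =>
        intro hij
        have hij' : i ≠ j := fun h => hij (by rw [h])
        simp only [Fin.append_right]
        exact hoM i j hij'

end Cfsg.Agent.Lib.Helper10.C3Q
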