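import Mathlib
import Cfsg.Agent.Lib.Helper10.C3Q.Defs
import Cfsg.Agent.Lib.Helper16.SpinAdjust2
import Cfsg.Agent.Lib.helper6.C3QSGEN
import Cfsg.Agent.Lib.helper14.C3QSUNIV
import Cfsg.Agent.Lib.Helper28.C3QSPLEVEN
import Cfsg.Agent.Lib.helper15.OTSINVDET
import Cfsg.Agent.Lib.helper15.OTSSTDCTX
import Cfsg.Agent.Lib.helper17.OTSQOCTX
import Cfsg.Agent.Lib.Helper24.S5972SPLIT
import Cfsg.Agent.Lib.Helper29.C3QSPOSa
import Cfsg.Agent.Lib.Helper29.C3QSPOSb

set_option autoImplicit false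
set_option linter.unusedVariables false
set_option linter.unusedSectionVars false
set_option maxHeartbeats 800000

/-!
# Project C3Q (S5977 + S5978; designer helper10), row SPOS (`s_local_pos`) (helper29).
-/

namespace Cfsg.Agent.Lib.Helper10.C3Q

open Matrix Module Cfsg.Agent.Lib.Helper13.OTS Cfsg.Agent.Lib.Helper16

universe u

variable {F : Type u} [Field F] {ι : Type} [Fintype ι] [DecidableEq ι]

open Polynomial Cfsg.Agent.Lib.Helper13.S5955 Cfsg.Agent.Lib.helper15.S5972 in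
/-- vectors of `fixS` are fixed -/
theorem c3qspos_fix (x : Matrix ι ι F) (v : ι → F) (hv : v ∈ fixS (Matrix.toLin' x)) :
    x *ᵥ v = (1 : F) • v := by
  unfold fixS at hv
  rw [LinearMap.mem_ker, map_sub, aeval_X, map_one, LinearMap.sub_apply, Module.End.one_apply,
    Matrix.toLin'_apply, sub_eq_zero] at hv
  rw [hv, one_smul]

open Polynomial Cfsg.Agent.Lib.Helper13.S5955 Cfsg.Agent.Lib.helper15.S5972 in
/-- vectors of `cycS 2` are negated -/
theorem c3qspos_cyc (x : Matrix ι ι F) (v : ι → F) (hv : v ∈ cycS 2 (Matrix.toLin' x)) :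
    x *ᵥ v = (-1 : F) • v := by
  unfold cycS at hv
  rw [LinearMap.mem_ker, cyclotomic_two, map_add, aeval_X, map_one, LinearMap.add_apply,
    Module.End.one_apply, Matrix.toLin'_apply] at hv
  rw [neg_smul, one_smul]
  exact eq_neg_of_add_eq_zero_left hv

open Polynomial Cfsg.Agent.Lib.Helper13.S5955 Cfsg.Agent.Lib.helper15.S5972 in
/-- SPOS [L] -/
theorem s_local_pos [Fintype F] (h2 : (2 : F) ≠ 0) (Q : QuadraticForm F (ι → F))
    (hQ : (QuadraticMap.polarBilin Q).Nondegenerate) (d : ℕ) (hcard : Fintype.card ι = 2 * d)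
    (hd : 2 ≤ d) (δ : F) (hns : ¬ IsSquare δ) (x : GL ι F) (hx : x ∈ Cfsg.Geo.omegaGL (⇑Q))
    (hx2 : ((x ^ 2 : GL ι F) : Matrix ι ι F) = 1) :
    ∃ (A' : Matrix ι ι F) (a b : ι → F) (ha : Q a ≠ 0) (hb : Q b ≠ 0), Gen (⇑Q) δ A' ∧
      IsSquare (Q a) ∧ ¬ IsSquare (Q b) ∧
      ∀ ρ : GL ι F, (ρ = 1 ∨ ρ = ((reflG Q a ha : ↥(Cfsg.isometryGroup F (⇑Q))) : GL ι F) ∨
          ρ = ((reflG Q b hb : ↥(Cfsg.isometryGroup F (⇑Q))) : GL ι F) ∨
          ρ = ((reflG Q a ha * reflG Q b hb : ↥(Cfsg.isometryGroup F (⇑Q))) : GL ι F)) →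
        NrmA A' (ρ⁻¹ * x * ρ) := by
  classical
  have hxx : x ^ 2 = 1 := by
    apply Units.ext
    rw [hx2, Units.val_one]
  have hiso : x ∈ Cfsg.isometryGroup F (⇑Q) := q_omega_le Q x hx
  -- the characteristic
  obtain ⟨p, hpc⟩ := CharP.exists F
  haveI := hpc
  haveI : Fact p.Prime := ⟨CharP.char_is_prime F p⟩
  have h2p : (2 : ℕ) ≠ p := by
    intro h
    apply h2
    have := CharP.cast_eq_zero F p
    rw [← h] at this
    exact_mod_cast this
  set X : Module.End F (ι → F) := Matrix.toLin' (x : Matrix ι ι F) with hX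
  have hq : Cfsg.Agent.Lib.Helper13.OTS.QCtx 2 Q X := q_std_ctx Q hQ 2 x hiso hxx
  have ho : OCtx 2 (qB Q) X := q_octx hq
  obtain ⟨horth, hcompl, hndP, hndM⟩ := o_split (p := p) (r := 2) h2p ho
  have hevM : Even (finrank F (cycS 2 X)) := q_invol_even h2 Q x hx hxx
  have hsum := Submodule.finrank_add_eq_of_isCompl hcompl
  have hV : finrank F (ι → F) = 2 * d := by
    rw [Module.finrank_fintype_fun_eq_card, hcard]
  obtain ⟨kM, hkM⟩ := hevM
  have hkM' : finrank F (cycS 2 X) = 2 * kM := by omega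
  have hkP' : finrank F (fixS X) = 2 * (d - kM) := by omega
  have hkd : (d - kM) + kM = d := by omega
  -- plane systems
  obtain ⟨eP, fP, hPmem, hPli, hPsp, hPo, hPf⟩ := s_planes_even h2 Q δ hns (d - kM) (fixS X)
    (fun u hu h => hndP u hu (fun v hv => h v hv)) hkP'
  obtain ⟨eM, fM, hMmem, hMli, hMsp, hMo, hMf⟩ := s_planes_even h2 Q δ hns kM (cycS 2 X)
    (fun u hu h => hndM u hu (fun v hv => h v hv)) hkM'
  have hplanes : IsPlanes (⇑Q) (Fin.append eP eM) (Fin.append fP fM) :=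
    c3qspos_cat (⇑Q) (fun u v => QuadraticMap.polar_comm (⇑Q) u v) (fixS X) (cycS 2 X) hcompl
      (fun u hu w hw => horth u hu w hw) eP fP eM fM hPmem hMmem hPli hMli hPsp hMsp hPo hMo
  have hff : ∀ j, QuadraticMap.polar (⇑Q) (Fin.append fP fM j) (Fin.append fP fM j) =
      δ * QuadraticMap.polar (⇑Q) (Fin.append eP eM j) (Fin.append eP eM j) := by
    intro j
    induction j using Fin.addCases with
    | left j => simp only [Fin.append_left]; exact hPf j
    | right j => simp only [Fin.append_right]; exact hMf j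
  obtain ⟨A', hGen, hA'⟩ := s_gen Q δ hns (Fin.append eP eM) (Fin.append fP fM) hplanes hff
  -- eigenvalues on the planes
  have heig : ∀ j, ∃ ε : F, (x : Matrix ι ι F) *ᵥ (Fin.append eP eM j) = ε • (Fin.append eP eM j) ∧
      (x : Matrix ι ι F) *ᵥ (Fin.append fP fM j) = ε • (Fin.append fP fM j) := by
    intro j
    induction j using Fin.addCases with
    | left j =>
      simp only [Fin.append_left]
      exact ⟨1, c3qspos_fix _ _ (hPmem j).1, c3qspos_fix _ _ (hPmem j).2⟩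
    | right j =>
      simp only [Fin.append_right]
      exact ⟨-1, c3qspos_cyc _ _ (hMmem j).1, c3qspos_cyc _ _ (hMmem j).2⟩
  -- `x` commutes with `A'`
  have hcomm : (x : Matrix ι ι F) * A' = A' * (x : Matrix ι ι F) := by
    have hlin : Matrix.toLin' ((x : Matrix ι ι F) * A') = Matrix.toLin' (A' * (x : Matrix ι ι F)) := by
      apply LinearMap.ext_on_range (top_le_iff.mp hplanes.span)
      rintro ⟨j, t⟩
      obtain ⟨ε, h1, h2'⟩ := heig j
      obtain ⟨h3, h4⟩ := hA' j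
      rw [Matrix.toLin'_apply, Matrix.toLin'_apply, ← Matrix.mulVec_mulVec, ← Matrix.mulVec_mulVec]
      dsimp only
      split_ifs
      · rw [h3, h2', h1, Matrix.mulVec_smul, h3]
      · rw [h4, Matrix.mulVec_smul, h1, h2', Matrix.mulVec_smul, h4, smul_comm]
    exact Matrix.toLin'.injective hlin
  -- the vectors `a`, `b`
  have hδ0 : δ ≠ 0 := by
    rintro rfl
    exact hns ⟨0, by ring⟩
  have hab : ∃ (W : Submodule F (ι → F)) (ε : F), ε * ε = 1 ∧
      (∀ u ∈ W, (∀ v ∈ W, QuadraticMap.polar (⇑Q) u v = 0) → u = 0) ∧ 2 ≤ finrank F W ∧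
      ∀ w ∈ W, (x : Matrix ι ι F) *ᵥ w = ε • w := by
    by_cases hk : 1 ≤ d - kM
    · exact ⟨fixS X, 1, by ring, fun u hu h => hndP u hu (fun v hv => h v hv), by omega,
        fun w hw => c3qspos_fix _ _ hw⟩
    · exact ⟨cycS 2 X, -1, by ring, fun u hu h => hndM u hu (fun v hv => h v hv), by omega,
        fun w hw => c3qspos_cyc _ _ hw⟩
  obtain ⟨W, ε, hε, hWnd, hWdim, hWe⟩ := hab
  obtain ⟨a, haW, hQa⟩ := s_univ h2 Q W hWnd hWdim 1 one_ne_zero
  obtain ⟨b, hbW, hQb⟩ := s_univ h2 Q W hWnd hWdim δ hδ0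
  have ha : Q a ≠ 0 := by rw [hQa]; exact one_ne_zero
  have hb : Q b ≠ 0 := by rw [hQb]; exact hδ0
  refine ⟨A', a, b, ha, hb, hGen, ?_, ?_, ?_⟩
  · rw [hQa]; exact ⟨1, by ring⟩
  · rw [hQb]; exact hns
  · intro ρ hρ
    rw [c3qspos_four Q x hiso a b ha hb ε hε (hWe a haW) (hWe b hbW) ρ hρ]
    exact Or.inl hcomm

end Cfsg.Agent.Lib.Helper10.C3Q
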