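import Mathlib
import Cfsg.Agent.Lib.Helper10.C3Q.Defs

set_option autoImplicit false
set_option linter.unusedVariables false
set_option linter.unusedSectionVars false

/-!
# Project C3Q (S5977 + S5978; designer helper10), row NODD (`n_odd`): CORE with the conclusions of NEX, NCOMM, NKODD and
`Ω ≤ isometry group` as hypotheses (helper29).
-/

namespace Cfsg.Agent.Lib.Helper10.C3Q

open Matrix

universe u

variable {F : Type u} [Field F] {ι : Type} [Fintype ι] [DecidableEq ι]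

/-- conjugation does not change the rank of `x - 1` -/
theorem c3qnodd_rank (g x : GL ι F) :
    (((g⁻¹ * x * g : GL ι F) : Matrix ι ι F) - 1).rank = ((x : Matrix ι ι F) - 1).rank := by
  have h1 : ((g⁻¹ : GL ι F) : Matrix ι ι F) * (g : Matrix ι ι F) = 1 := by
    rw [← Units.val_mul, inv_mul_cancel, Units.val_one]
  have hconj : ((g⁻¹ * x * g : GL ι F) : Matrix ι ι F) - 1
      = ((g⁻¹ : GL ι F) : Matrix ι ι F) * ((x : Matrix ι ι F) - 1) * (g : Matrix ι ι F) := by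
    rw [Units.val_mul, Units.val_mul, Matrix.mul_sub, Matrix.sub_mul, Matrix.mul_one, h1]
  rw [hconj]
  have hg : IsUnit (g : Matrix ι ι F).det := (Matrix.isUnit_iff_isUnit_det _).mp g.isUnit
  have hg' : IsUnit ((g⁻¹ : GL ι F) : Matrix ι ι F).det := (Matrix.isUnit_iff_isUnit_det _).mp (g⁻¹).isUnit
  rw [Matrix.rank_mul_eq_left_of_isUnit_det _ _ hg, Matrix.rank_mul_eq_right_of_isUnit_det _ _ hg']

/-- NODD core -/
theorem c3qnodd_core (Q : (ι → F) → F) (A : Matrix ι ι F) (r c : ℕ) (hodd : Odd (c / 2))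
    (hNEX : ∃ x : GL ι F, x ∈ Cfsg.Geo.omegaGL Q ∧ x ^ r = 1 ∧ ((x : Matrix ι ι F) - 1).rank = c)
    (hNCOMM : ∀ y : GL ι F, NrmA A y → ∀ z : F, ((y ^ r : GL ι F) : Matrix ι ι F) = z • (1 : Matrix ι ι F) →
      (y : Matrix ι ι F) * A = A * (y : Matrix ι ι F))
    (hNKODD : ∀ y : GL ι F, y ∈ Cfsg.isometryGroup F Q →
      (y : Matrix ι ι F) * A = A * (y : Matrix ι ι F) → y ^ r = 1 → 4 ∣ ((y : Matrix ι ι F) - 1).rank)
    (hle : ∀ x : GL ι F, x ∈ Cfsg.Geo.omegaGL Q → x ∈ Cfsg.isometryGroup F Q) :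
    ¬ AllConjA Q A r := by
  intro hall
  obtain ⟨x, hxΩ, hxr, hrank⟩ := hNEX
  have hbad : ¬ 4 ∣ c := by
    rintro ⟨k, hk⟩
    obtain ⟨t, ht⟩ := hodd
    omega
  have hone : ∀ y : GL ι F, y ^ r = 1 →
      ((y ^ r : GL ι F) : Matrix ι ι F) = (1 : F) • (1 : Matrix ι ι F) := by
    intro y hy
    rw [hy, one_smul, Units.val_one]
  have hns : ∀ z : F, (x : Matrix ι ι F) ≠ z • (1 : Matrix ι ι F) := by
    intro z hz
    have hcomm : (x : Matrix ι ι F) * A = A * (x : Matrix ι ι F) := by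
      rw [hz, Matrix.smul_mul, Matrix.mul_smul, Matrix.one_mul, Matrix.mul_one]
    have h4 := hNKODD x (hle x hxΩ) hcomm hxr
    rw [hrank] at h4
    exact hbad h4
  obtain ⟨g, hgΩ, hN⟩ := hall x hxΩ ⟨1, hone x hxr⟩ hns
  have hyr : (g⁻¹ * x * g) ^ r = 1 := by
    have h1 : g⁻¹ * x * g = g⁻¹ * x * (g⁻¹)⁻¹ := by rw [inv_inv]
    rw [h1, conj_pow, hxr, mul_one, mul_inv_cancel]
  have hyΩ : g⁻¹ * x * g ∈ Cfsg.Geo.omegaGL Q :=
    Subgroup.mul_mem _ (Subgroup.mul_mem _ (Subgroup.inv_mem _ hgΩ) hxΩ) hgΩ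
  have hcomm := hNCOMM _ hN 1 (hone _ hyr)
  have h4 := hNKODD _ (hle _ hyΩ) hcomm hyr
  rw [c3qnodd_rank, hrank] at h4
  exact hbad h4

end Cfsg.Agent.Lib.Helper10.C3Q
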