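import Mathlib
import Cfsg.Agent.Lib.helper23.Syl21b

set_option autoImplicit false

namespace Cfsg.Agent.Lib.Helper29

open Cfsg.Agent.Lib.helper8 Cfsg.Agent.Lib.helper23

/-- a nontrivial element of `2`-power order `∣ 8` has a power of order 2 -/
theorem m11_pow_invol {G : Type*} [Group G] (t : G) (ht8 : t ^ 8 = 1) (ht1 : t ≠ 1) :
    ∃ k : ℕ, orderOf (t ^ k) = 2 := by
  have ho : orderOf t ∣ 8 := orderOf_dvd_of_pow_eq_one ht8
  have hmem : orderOf t ∈ Nat.divisors 8 := Nat.mem_divisors.mpr ⟨ho, by norm_num⟩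
  have e8 : Nat.divisors 8 = {1, 2, 4, 8} := by decide +kernel
  rw [e8] at hmem
  simp only [Finset.mem_insert, Finset.mem_singleton] at hmem
  rcases hmem with h | h | h | h
  · exact absurd (orderOf_eq_one_iff.mp h) ht1
  · exact ⟨1, by rw [pow_one]; exact h⟩
  · refine ⟨2, ?_⟩
    rw [orderOf_pow_of_dvd (by norm_num) (by rw [h]; norm_num), h]
  · refine ⟨4, ?_⟩
    rw [orderOf_pow_of_dvd (by norm_num) (by rw [h]; norm_num), h]

variable {G : Type*} [Group G] [Finite G] [IsSimpleGroup G]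

theorem m11_n11_ne_12 (hnc : ¬ IsMulCommutative G)
    [Fact (Nat.Prime 11)] (P : Sylow 11 G) (hP : Nat.card (P : Subgroup G) = 11)
    (hn : Nat.card (Sylow 11 G) = 12)
    (h2 : 2 ∣ Nat.card (Subgroup.centralizer ((P : Subgroup G) : Set G))) : False := by
  obtain ⟨c, hcC, hc2, f, hf, hf11, hf4, hflt, hrest⟩ :=
    og3_invol_package hnc 11 ⟨5, by norm_num⟩ P hP h2 (by rw [hn]; norm_num)
  rw [hn] at hf4 hflt
  unfold Nat.ModEq at hf11
  obtain ⟨k, hk⟩ := hf4
  omega

theorem m11_n11_ne_45 (hG : Nat.card G = 7920) (hnc : ¬ IsMulCommutative G)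
    [Fact (Nat.Prime 11)] (P : Sylow 11 G) (hP : Nat.card (P : Subgroup G) = 11)
    (hn : Nat.card (Sylow 11 G) = 45)
    (hC : Nat.card (Subgroup.centralizer ((P : Subgroup G) : Set G)) = 88) : False := by
  haveI : Fact (Nat.Prime 2) := ⟨Nat.prime_two⟩
  set N := Subgroup.normalizer ((P : Subgroup G) : Set G) with hN
  set C := Subgroup.centralizer ((P : Subgroup G) : Set G) with hCdef
  have hXc : Nat.card (G ⧸ N) = 45 := by
    rw [← hn]; exact P.card_eq_card_quotient_normalizer.symm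
  have hidx : N.index = 45 := by
    rw [← hn]; exact (h8_nsylow_eq_index_normalizer 11 P).symm
  have hNtop : N ≠ ⊤ := by
    intro h
    rw [h, Subgroup.index_top] at hidx
    omega
  have h8 : 2 ^ 3 ∣ Nat.card ↥C := by rw [hC]; norm_num
  obtain ⟨K, hK⟩ := Sylow.exists_subgroup_card_pow_prime 2 h8
  set T : Subgroup G := K.map C.subtype with hT
  have hTc : Nat.card T = 8 := by
    rw [hT, Subgroup.card_map_of_injective C.subtype_injective, hK]; norm_num
  have hTC : T ≤ C := by
    rw [hT]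
    intro x hx
    obtain ⟨y, _, rfl⟩ := Subgroup.mem_map.mp hx
    exact y.2
  have hCN : C ≤ N := Subgroup.centralizer_le_normalizer _
  -- involutions of C have exactly one fixed point
  have hinv : ∀ u : G, u ∈ C → orderOf u = 2 →
      Nat.card (MulAction.fixedBy (G ⧸ N) u) = 1 := by
    intro u huC hu2
    have h1 : Nat.card (MulAction.fixedBy (G ⧸ N) u) ≡ 1 [MOD 11] :=
      og2_card_fixedBy_modEq_one 11 P hP u huC
    have h4 := h8_simple_involution_fixed (X := G ⧸ N) hnc u
      (by rw [← hu2]; exact pow_orderOf_eq_one _)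
    have hu1 : u ≠ 1 := by
      intro h
      rw [h] at hu2
      simp at hu2
    have h5 : Nat.card (MulAction.fixedBy (G ⧸ N) u) ≤ Nat.card (G ⧸ N) :=
      Finite.card_subtype_le _
    have h6 : Nat.card (MulAction.fixedBy (G ⧸ N) u) ≠ Nat.card (G ⧸ N) :=
      fun h => hu1 (og2_eq_one_of_card_fixedBy N hNtop _ h)
    rw [hXc] at h4 h5 h6
    unfold Nat.ModEq at h1
    obtain ⟨k, hk⟩ := h4
    omega
  have hfix : ∀ t ∈ T, t ≠ 1 → Nat.card (MulAction.fixedBy (G ⧸ N) t) = 1 := by
    intro t htT ht1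
    have ht8 : t ^ 8 = 1 := by
      have h1 : (⟨t, htT⟩ : T) ^ Nat.card T = 1 := pow_card_eq_one'
      rw [hTc] at h1
      exact congrArg Subtype.val h1
    obtain ⟨k, hk⟩ := m11_pow_invol t ht8 ht1
    have hle := s21_fixedBy_pow_le (X := G ⧸ N) t k
    rw [hinv (t ^ k) (C.pow_mem (hTC htT) k) hk] at hle
    have hpos : 1 ≤ Nat.card (MulAction.fixedBy (G ⧸ N) t) := by
      apply Nat.card_pos_iff.mpr
      exact ⟨⟨⟨((1 : G) : G ⧸ N), og2_base_fixed N t (hCN (hTC htT))⟩⟩, inferInstance⟩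
    omega
  have hdvd := s21_sr_dvd (X := G ⧸ N) T 1 hfix
  rw [hTc, hXc] at hdvd
  omega

theorem m11_syl11 (hG : Nat.card G = 7920) [Fact (Nat.Prime 11)] (P : Sylow 11 G) :
    Nat.card (P : Subgroup G) = 11 ∧ Nat.card (Sylow 11 G) = 144 ∧
    Nat.card (Subgroup.normalizer ((P : Subgroup G) : Set G)) = 55 ∧
    Nat.card (Subgroup.centralizer ((P : Subgroup G) : Set G)) = 11 := by
  have hnc : ¬ IsMulCommutative G := h8_not_comm_of_card (by rw [hG]; norm_num)
  have hG11 : Nat.card G = 11 ^ 1 * 720 := by rw [hG]; norm_num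
  have hnd : ¬ 11 ∣ 720 := by norm_num
  obtain ⟨hP, hN, hX, r, hr10, hr1, hC⟩ := og3_sylow_data 11 720 hG11 hnd (by norm_num) P
  have hr : r = 2 ∨ r = 5 ∨ r = 10 := by
    have hr10' : r ∣ 10 := hr10
    have hmem : r ∈ Nat.divisors 10 := Nat.mem_divisors.mpr ⟨hr10', by norm_num⟩
    have e10 : Nat.divisors 10 = {1, 2, 5, 10} := by decide +kernel
    rw [e10] at hmem
    simp only [Finset.mem_insert, Finset.mem_singleton] at hmem
    rcases hmem with h | h | h | h
    · exact absurd h hr1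
    · exact Or.inl h
    · exact Or.inr (Or.inl h)
    · exact Or.inr (Or.inr h)
  have h1 := h8_nsylow_mem (G := G) 11 1 720 hG11 hnd
  have e : (Nat.divisors 720).filter (fun d => d % 11 = 1) = {1, 12, 45, 144} := by
    decide +kernel
  rw [e] at h1
  simp only [Finset.mem_insert, Finset.mem_singleton] at h1
  rw [hG] at hN
  rcases h1 with h | h | h | h
  · exact absurd h (h8_simple_nsylow_ne_one 11 1 720 hG11 hnd (by norm_num) (by norm_num))
  · exfalso
    rw [h] at hN
    have hN' : Nat.card (Subgroup.normalizer ((P : Subgroup G) : Set G)) = 660 := by omega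
    rw [hN'] at hC
    apply m11_n11_ne_12 hnc P hP h
    rcases hr with rfl | rfl | rfl <;> omega
  · exfalso
    rw [h] at hN
    have hN' : Nat.card (Subgroup.normalizer ((P : Subgroup G) : Set G)) = 176 := by omega
    rw [hN'] at hC
    apply m11_n11_ne_45 hG hnc P hP h
    rcases hr with rfl | rfl | rfl <;> omega
  · rw [h] at hN
    have hN' : Nat.card (Subgroup.normalizer ((P : Subgroup G) : Set G)) = 55 := by omega
    rw [hN'] at hC
    refine ⟨hP, h, hN', ?_⟩
    rcases hr with rfl | rfl | rfl <;> omega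

end Cfsg.Agent.Lib.Helper29
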