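import Mathlib
import Cfsg.Agent.Lib.Helper29.M11A
import Cfsg.Agent.S1018

set_option autoImplicit false

namespace Cfsg.Agent.Lib.Helper29

open Cfsg.Agent.Lib.helper8 Cfsg.Agent.Lib.helper23

/-- orbit–stabilizer bound: if all `H`-translates of the base coset of `G ⧸ K` lie in `S`
then `|H| ≤ |S| * d` for a common divisor `d` of `|H|` and `|K|`. -/
theorem m11_card_le_fix {G : Type*} [Group G] [Finite G] (H K : Subgroup G) (S : Set (G ⧸ K))
    (hS : ∀ h ∈ H, ((h : G) : G ⧸ K) ∈ S) :
    ∃ d, d ∣ Nat.card H ∧ d ∣ Nat.card K ∧ Nat.card H ≤ Nat.card S * d := by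
  classical
  set b : G ⧸ K := ((1 : G) : G ⧸ K) with hb
  refine ⟨Nat.card (MulAction.stabilizer ↥H b), Subgroup.card_subgroup_dvd_card _, ?_, ?_⟩
  · have hle : (MulAction.stabilizer ↥H b).map H.subtype ≤ K := by
      intro g hg
      obtain ⟨h, hh, rfl⟩ := Subgroup.mem_map.mp hg
      rw [MulAction.mem_stabilizer_iff] at hh
      have h1 : (h : G) • b = b := hh
      rw [hb, MulAction.Quotient.smul_mk, QuotientGroup.eq] at h1
      have h2 := K.inv_mem h1
      simpa using h2
    have hc : Nat.card ((MulAction.stabilizer ↥H b).map H.subtype) =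
        Nat.card (MulAction.stabilizer ↥H b) :=
      Subgroup.card_map_of_injective H.subtype_injective
    rw [← hc]
    exact Subgroup.card_dvd_of_le hle
  · have e := Nat.card_congr (MulAction.orbitProdStabilizerEquivGroup ↥H b)
    rw [Nat.card_prod] at e
    rw [← e]
    apply Nat.mul_le_mul_right
    apply Nat.card_le_card_of_injective
      (fun a : MulAction.orbit ↥H b => (⟨a.1, by
        obtain ⟨h, hh⟩ := a.2
        have h1 : (h : G) • b = a.1 := hh
        rw [← h1, hb, MulAction.Quotient.smul_mk]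
        have := hS (h : G) h.2
        simpa using this⟩ : S))
    intro a a' haa
    apply Subtype.ext
    exact congrArg (fun z => z.1) haa

variable {G : Type*} [Group G] [Finite G] [IsSimpleGroup G]

theorem m11_fact11 (hG : Nat.card G = 7920) : (Nat.card G).factorization 11 = 1 :=
  h8_factorization_of_eq 11 1 720 _ (by norm_num) (by rw [hG]; norm_num) (by norm_num)

theorem m11_fact5 (hG : Nat.card G = 7920) : (Nat.card G).factorization 5 = 1 :=
  h8_factorization_of_eq 5 1 1584 _ (by norm_num) (by rw [hG]; norm_num) (by norm_num)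

/-- the centralizer of an element of order 11 is the group it generates -/
theorem m11_cent11 (hG : Nat.card G = 7920) (y g : G) (hy : orderOf y = 11)
    (hc : Commute g y) : g ∈ Subgroup.zpowers y := by
  haveI : Fact (Nat.Prime 11) := ⟨by norm_num⟩
  let Y : Sylow 11 G := Sylow.ofCard (Subgroup.zpowers y) (by
    rw [Nat.card_zpowers, hy, m11_fact11 hG, pow_one])
  have hY : (Y : Subgroup G) = Subgroup.zpowers y := Sylow.coe_ofCard _ _
  obtain ⟨hP, _, _, hC⟩ := m11_syl11 hG Y
  have hle : (Y : Subgroup G) ≤ Subgroup.centralizer ((Y : Subgroup G) : Set G) := by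
    rw [hY]
    intro a ha
    rw [Subgroup.mem_centralizer_iff]
    intro b hb
    obtain ⟨i, rfl⟩ := Subgroup.mem_zpowers_iff.mp ha
    obtain ⟨j, rfl⟩ := Subgroup.mem_zpowers_iff.mp hb
    exact ((Commute.refl y).zpow_zpow j i).eq
  have heq : (Y : Subgroup G) = Subgroup.centralizer ((Y : Subgroup G) : Set G) :=
    Subgroup.eq_of_le_of_card_ge hle (by rw [hP, hC])
  have hg : g ∈ Subgroup.centralizer ((Y : Subgroup G) : Set G) := by
    rw [hY, Subgroup.mem_centralizer_iff]
    intro b hb
    obtain ⟨j, rfl⟩ := Subgroup.mem_zpowers_iff.mp hb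
    exact (hc.zpow_right j).eq.symm
  rw [← heq, hY] at hg
  exact hg

/-- no element commuting with an element of order 11 has order prime to 11 (other than 1) -/
theorem m11_no_comm11 (hG : Nat.card G = 7920) (y g : G) (hy : orderOf y = 11)
    (hc : Commute g y) : orderOf g ∣ 11 := by
  have h := m11_cent11 hG y g hy hc
  have h1 := orderOf_dvd_natCard (x := (⟨g, h⟩ : Subgroup.zpowers y))
  rw [Nat.card_zpowers, hy] at h1
  rw [← Subgroup.orderOf_coe] at h1
  exact h1

/-- `11` does not divide the order of the centralizer of a set containing an element whose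
order is not `1` or `11`. -/
theorem m11_not_dvd_centralizer (hG : Nat.card G = 7920) (S : Set G) (g : G) (hg : g ∈ S)
    (hg1 : orderOf g ≠ 1) (hg11 : orderOf g ≠ 11) :
    ¬ 11 ∣ Nat.card (Subgroup.centralizer S) := by
  haveI : Fact (Nat.Prime 11) := ⟨by norm_num⟩
  intro h
  obtain ⟨y', hy'⟩ := exists_prime_orderOf_dvd_card' 11 h
  have hy : orderOf (y' : G) = 11 := by rw [Subgroup.orderOf_coe]; exact hy'
  have hc : Commute g (y' : G) := (Subgroup.mem_centralizer_iff.mp y'.2 g hg)
  have hd := m11_no_comm11 hG (y' : G) g hy hc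
  rcases (Nat.dvd_prime (by norm_num : Nat.Prime 11)).mp hd with h1 | h1
  · exact hg1 h1
  · exact hg11 h1

theorem m11_syl5 (hG : Nat.card G = 7920) [Fact (Nat.Prime 5)] (Q : Sylow 5 G) :
    Nat.card (Q : Subgroup G) = 5 ∧ Nat.card (Sylow 5 G) = 396 ∧
    Nat.card (Subgroup.normalizer ((Q : Subgroup G) : Set G)) = 20 ∧
    (Nat.card (Subgroup.centralizer ((Q : Subgroup G) : Set G)) = 5 ∨
      Nat.card (Subgroup.centralizer ((Q : Subgroup G) : Set G)) = 10) := by
  haveI : Fact (Nat.Prime 11) := ⟨by norm_num⟩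
  have hG5 : Nat.card G = 5 ^ 1 * 1584 := by rw [hG]; norm_num
  have hnd : ¬ 5 ∣ 1584 := by norm_num
  -- a Sylow 11-subgroup and an element of order 5 normalizing it
  obtain ⟨P⟩ : Nonempty (Sylow 11 G) := inferInstance
  obtain ⟨hP, hn11, hNP, hCP⟩ := m11_syl11 hG P
  have h5N : 5 ∣ Nat.card (Subgroup.normalizer ((P : Subgroup G) : Set G)) := by
    rw [hNP]; norm_num
  obtain ⟨x', hx'⟩ := exists_prime_orderOf_dvd_card' 5 h5N
  have hx : orderOf (x' : G) = 5 := by rw [Subgroup.orderOf_coe]; exact hx'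
  have hxC : (x' : G) ∉ Subgroup.centralizer ((P : Subgroup G) : Set G) := by
    intro h
    have h1 := orderOf_dvd_natCard (x := (⟨(x' : G), h⟩ :
      Subgroup.centralizer ((P : Subgroup G) : Set G)))
    rw [hCP, ← Subgroup.orderOf_coe] at h1
    simp only at h1
    rw [hx] at h1
    omega
  have hfix := Cfsg.Agent.S1018.part_b 11 P hP (x' : G) x'.2 hxC
  have horb := h8_card_orbits_sylow_prime 11 P hP
  rw [hn11] at horb
  have hfix14 : Nat.card (MulAction.fixedBy
      (G ⧸ Subgroup.normalizer ((P : Subgroup G) : Set G)) (x' : G)) ≤ 14 := by omega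
  -- the Sylow 5-subgroup generated by x
  let Q0 : Sylow 5 G := Sylow.ofCard (Subgroup.zpowers (x' : G)) (by
    rw [Nat.card_zpowers, hx, m11_fact5 hG, pow_one])
  have hQ0 : (Q0 : Subgroup G) = Subgroup.zpowers (x' : G) := Sylow.coe_ofCard _ _
  obtain ⟨hQ0c, hN0, _, r0, hr0, _, hC0⟩ := og3_sylow_data 5 1584 hG5 hnd (by norm_num) Q0
  have hx1 : orderOf (x' : G) ≠ 1 := by rw [hx]; norm_num
  have hx11 : orderOf (x' : G) ≠ 11 := by rw [hx]; norm_num
  have hxQ0 : (x' : G) ∈ ((Q0 : Subgroup G) : Set G) := by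
    rw [hQ0]; exact Subgroup.mem_zpowers _
  have h11C0 := m11_not_dvd_centralizer hG ((Q0 : Subgroup G) : Set G) (x' : G) hxQ0 hx1 hx11
  have h11N0 : ¬ 11 ∣ Nat.card (Subgroup.normalizer ((Q0 : Subgroup G) : Set G)) := by
    rw [← hC0]
    intro h
    rcases (Nat.Prime.dvd_mul (by norm_num : Nat.Prime 11)).mp h with h1 | h1
    · exact h11C0 h1
    · have h2 : r0 ∣ 4 := hr0
      have h3 : (11 : ℕ) ∣ 4 := dvd_trans h1 h2
      omega
  -- orbit-stabilizer bound for N(Q0)
  obtain ⟨d, hd1, hd2, hd3⟩ := m11_card_le_fix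
    (Subgroup.normalizer ((Q0 : Subgroup G) : Set G))
    (Subgroup.normalizer ((P : Subgroup G) : Set G))
    (MulAction.fixedBy (G ⧸ Subgroup.normalizer ((P : Subgroup G) : Set G)) (x' : G))
    (by
      intro h hh
      rw [MulAction.mem_fixedBy, MulAction.Quotient.smul_mk, QuotientGroup.eq]
      have h1 : h⁻¹ * (x' : G)⁻¹ * h ∈ (Q0 : Subgroup G) := by
        have := (Subgroup.mem_normalizer_iff''.mp hh ((x' : G)⁻¹)).mp
          ((Q0 : Subgroup G).inv_mem hxQ0)
        exact this
      have h2 : ((x' : G) • h)⁻¹ * h = h⁻¹ * (x' : G)⁻¹ * h := by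
        rw [smul_eq_mul]; group
      rw [h2]
      have h3 : (Q0 : Subgroup G) ≤ Subgroup.normalizer ((P : Subgroup G) : Set G) := by
        rw [hQ0, Subgroup.zpowers_le]
        exact x'.2
      exact h3 h1)
  rw [hNP] at hd2
  have hd5 : d ≤ 5 := by
    have hmem : d ∈ Nat.divisors 55 := Nat.mem_divisors.mpr ⟨hd2, by norm_num⟩
    have e55 : Nat.divisors 55 = {1, 5, 11, 55} := by decide +kernel
    rw [e55] at hmem
    simp only [Finset.mem_insert, Finset.mem_singleton] at hmem
    rcases hmem with h | h | h | h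
    · omega
    · omega
    · exfalso; rw [h] at hd1; exact h11N0 hd1
    · exfalso; rw [h] at hd1; exact h11N0 (dvd_trans (by norm_num) hd1)
  have hN0le : Nat.card (Subgroup.normalizer ((Q0 : Subgroup G) : Set G)) ≤ 70 := by
    calc Nat.card (Subgroup.normalizer ((Q0 : Subgroup G) : Set G))
        ≤ Nat.card (MulAction.fixedBy
          (G ⧸ Subgroup.normalizer ((P : Subgroup G) : Set G)) (x' : G)) * d := hd3
      _ ≤ 14 * 5 := Nat.mul_le_mul hfix14 hd5
  -- now the Sylow count
  obtain ⟨hQc, hN, _, r, hr, hr1, hC⟩ := og3_sylow_data 5 1584 hG5 hnd (by norm_num) Q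
  have h1 := h8_nsylow_mem (G := G) 5 1 1584 hG5 hnd
  have e : (Nat.divisors 1584).filter (fun d => d % 5 = 1) =
      {1, 6, 11, 16, 36, 66, 176, 396} := by
    decide +kernel
  rw [e] at h1
  simp only [Finset.mem_insert, Finset.mem_singleton] at h1
  rw [hG] at hN hN0
  have hr4 : r = 2 ∨ r = 4 := by
    have hr' : r ∣ 4 := hr
    have hmem : r ∈ Nat.divisors 4 := Nat.mem_divisors.mpr ⟨hr', by norm_num⟩
    have e4 : Nat.divisors 4 = {1, 2, 4} := by decide +kernel
    rw [e4] at hmem
    simp only [Finset.mem_insert, Finset.mem_singleton] at hmem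
    rcases hmem with h | h | h
    · exact absurd h hr1
    · exact Or.inl h
    · exact Or.inr h
  rcases h1 with h | h | h | h | h | h | h | h <;> rw [h] at hN hN0
  · exfalso; omega
  · exfalso; omega
  · exfalso; omega
  · exfalso; omega
  · exfalso; omega
  · exfalso; omega
  · exfalso
    have hN' : Nat.card (Subgroup.normalizer ((Q : Subgroup G) : Set G)) = 45 := by omega
    rw [hN'] at hC
    rcases hr4 with rfl | rfl <;> omega
  · have hN' : Nat.card (Subgroup.normalizer ((Q : Subgroup G) : Set G)) = 20 := by omega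
    rw [hN'] at hC
    refine ⟨hQc, h, hN', ?_⟩
    rcases hr4 with rfl | rfl
    · right; omega
    · left; omega

end Cfsg.Agent.Lib.Helper29
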