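import Mathlib
import Cfsg.Agent.Lib.Helper29.M11B
import Cfsg.Agent.S1019

set_option autoImplicit false

namespace Cfsg.Agent.Lib.Helper29

open Cfsg.Agent.Lib.helper8 Cfsg.Agent.Lib.helper23

/-- pair counting: if a conjugate `r` of `u` inverts an element `x` of order 5 generating a
Sylow 5-subgroup, then `20 * n_5 ≤ |u^G|^2`. -/
theorem m11_pair_inj {G : Type*} [Group G] [Finite G] [Fact (Nat.Prime 5)] (Q : Sylow 5 G)
    (hQ : Nat.card (Q : Subgroup G) = 5) (x r u : G) (hxQ : x ∈ (Q : Subgroup G))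
    (hx : orderOf x = 5) (hr : r * x * r⁻¹ = x⁻¹) (hur : IsConj u r) :
    Nat.card (Sylow 5 G) * 20 ≤ Nat.card {g : G // IsConj u g} * Nat.card {g : G // IsConj u g} := by
  classical
  have hx5 : x ^ 5 = 1 := by rw [← hx]; exact pow_orderOf_eq_one x
  have hinvpow : ∀ n : ℕ, r * x ^ n * r⁻¹ = (x ^ n)⁻¹ := by
    intro n
    have h1 : (MulAut.conj r) (x ^ n) = ((MulAut.conj r) x) ^ n := map_pow _ _ _
    simp only [MulAut.conj_apply] at h1
    rw [h1, hr, inv_pow]
  have hcomm : ∀ n : ℕ, x ^ n * r = r * (x ^ n)⁻¹ := by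
    intro n
    have h := hinvpow n
    calc x ^ n * r = ((x ^ n)⁻¹)⁻¹ * r := by rw [inv_inv]
      _ = (r * x ^ n * r⁻¹)⁻¹ * r := by rw [h]
      _ = r * (x ^ n)⁻¹ := by group
  have hconj : ∀ j : ℕ, IsConj u (r * x ^ j) := by
    intro j
    refine hur.trans ?_
    rw [isConj_iff]
    refine ⟨x ^ (2 * j), ?_⟩
    rw [hcomm, mul_assoc, ← mul_inv_rev, ← pow_add]
    congr 1
    rw [inv_eq_iff_eq_inv, eq_inv_iff_mul_eq_one, ← pow_add]
    have e : 2 * j + 2 * j + j = 5 * j := by ring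
    rw [e, pow_mul, hx5, one_pow]
  have hconj' : ∀ (g : G) (j : ℕ), IsConj u (g * (r * x ^ j) * g⁻¹) :=
    fun g j => (hconj j).trans (isConj_iff.mpr ⟨g, rfl⟩)
  have hgq : ∀ Q' : Sylow 5 G, ∃ g : G, g • Q = Q' := fun Q' => MulAction.exists_smul_eq G Q Q'
  choose gq hgq using hgq
  let Φ : Sylow 5 G × Fin 5 × Fin 4 → {g : G // IsConj u g} × {g : G // IsConj u g} := fun t =>
    (⟨gq t.1 * (r * x ^ (t.2.1 : ℕ)) * (gq t.1)⁻¹, hconj' _ _⟩,
     ⟨gq t.1 * (r * x ^ ((t.2.1 : ℕ) + (t.2.2 : ℕ) + 1)) * (gq t.1)⁻¹, hconj' _ _⟩)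
  have hpowinj : ∀ a b : ℕ, x ^ a = x ^ b → a % 5 = b % 5 := by
    intro a b hab
    have := pow_inj_mod.mp hab
    rwa [hx] at this
  have hinj : Function.Injective Φ := by
    rintro ⟨Q1, i1, k1⟩ ⟨Q2, i2, k2⟩ h
    have h1 : gq Q1 * (r * x ^ (i1 : ℕ)) * (gq Q1)⁻¹ = gq Q2 * (r * x ^ (i2 : ℕ)) * (gq Q2)⁻¹ :=
      congrArg (fun p => (p.1 : G)) h
    have h2 : gq Q1 * (r * x ^ ((i1 : ℕ) + (k1 : ℕ) + 1)) * (gq Q1)⁻¹ =
        gq Q2 * (r * x ^ ((i2 : ℕ) + (k2 : ℕ) + 1)) * (gq Q2)⁻¹ :=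
      congrArg (fun p => (p.2 : G)) h
    have e : ∀ (g : G) (i k : ℕ), g * x ^ (k + 1) * g⁻¹ =
        (g * (r * x ^ i) * g⁻¹)⁻¹ * (g * (r * x ^ (i + k + 1)) * g⁻¹) := by
      intro g i k
      rw [add_assoc, pow_add x i (k + 1)]
      group
    have hz : gq Q1 * x ^ ((k1 : ℕ) + 1) * (gq Q1)⁻¹ = gq Q2 * x ^ ((k2 : ℕ) + 1) * (gq Q2)⁻¹ := by
      rw [e _ i1 k1, e _ i2 k2, h1, h2]
    have hmem : ∀ (Q' : Sylow 5 G) (n : ℕ), gq Q' * x ^ n * (gq Q')⁻¹ ∈ (Q' : Subgroup G) := by
      intro Q' n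
      have h3 : gq Q' * x ^ n * (gq Q')⁻¹ ∈ ((gq Q' • Q : Sylow 5 G) : Subgroup G) := by
        rw [h8_mem_smul_sylow]
        have e2 : (gq Q')⁻¹ * (gq Q' * x ^ n * (gq Q')⁻¹) * gq Q' = x ^ n := by group
        rw [e2]
        exact (Q : Subgroup G).pow_mem hxQ n
      rw [hgq Q'] at h3
      exact h3
    have hne : gq Q1 * x ^ ((k1 : ℕ) + 1) * (gq Q1)⁻¹ ≠ 1 := by
      intro h4
      have h5 : x ^ ((k1 : ℕ) + 1) = 1 := by
        have : x ^ ((k1 : ℕ) + 1) = (gq Q1)⁻¹ * (gq Q1 * x ^ ((k1 : ℕ) + 1) * (gq Q1)⁻¹) * gq Q1 := by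
          group
        rw [this, h4]; group
      have h6 := hpowinj _ 0 (by rw [h5, pow_zero])
      have := k1.2
      omega
    have hQ1c : Nat.card (Q1 : Subgroup G) = 5 := by rw [h8_sylow_card_eq 5 Q1 Q, hQ]
    have hQ2c : Nat.card (Q2 : Subgroup G) = 5 := by rw [h8_sylow_card_eq 5 Q2 Q, hQ]
    have hz1 := h8_zpowers_eq_of_prime_card 5 (by norm_num) (Q1 : Subgroup G) hQ1c _
      (hmem Q1 ((k1 : ℕ) + 1)) hne
    have hz2 := h8_zpowers_eq_of_prime_card 5 (by norm_num) (Q2 : Subgroup G) hQ2c _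
      (hz ▸ hmem Q2 ((k2 : ℕ) + 1)) hne
    have hQQ : Q1 = Q2 := Sylow.ext (hz1.symm.trans hz2)
    subst hQQ
    have hk : x ^ ((k1 : ℕ) + 1) = x ^ ((k2 : ℕ) + 1) := by
      have := mul_left_cancel (mul_right_cancel hz)
      exact this
    have hk' := hpowinj _ _ hk
    have hk1 := k1.2
    have hk2 := k2.2
    have hkk : k1 = k2 := Fin.ext (by omega)
    have hi : x ^ (i1 : ℕ) = x ^ (i2 : ℕ) := by
      have := mul_left_cancel (mul_right_cancel h1)
      exact mul_left_cancel this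
    have hi' := hpowinj _ _ hi
    have hi1 := i1.2
    have hi2 := i2.2
    have hii : i1 = i2 := Fin.ext (by omega)
    rw [hkk, hii]
  have hcard := Nat.card_le_card_of_injective Φ hinj
  rw [Nat.card_prod, Nat.card_prod, Nat.card_prod] at hcard
  simp only [Nat.card_eq_fintype_card, Fintype.card_fin] at hcard
  omega

variable {G : Type*} [Group G] [Finite G] [IsSimpleGroup G]

theorem m11_cent5 (hG : Nat.card G = 7920) [Fact (Nat.Prime 5)] (Q : Sylow 5 G) :
    Nat.card (Subgroup.centralizer ((Q : Subgroup G) : Set G)) = 5 := by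
  obtain ⟨hQ, hn5, hN, hC⟩ := m11_syl5 hG Q
  rcases hC with hC | hC
  · exact hC
  exfalso
  haveI : Fact (Nat.Prime 2) := ⟨Nat.prime_two⟩
  have hnc : ¬ IsMulCommutative G := h8_not_comm_of_card (by rw [hG]; norm_num)
  set N := Subgroup.normalizer ((Q : Subgroup G) : Set G) with hNdef
  set C := Subgroup.centralizer ((Q : Subgroup G) : Set G) with hCdef
  have hCN : C ≤ N := Subgroup.centralizer_le_normalizer _
  -- generator of Q
  obtain ⟨x', hx'⟩ := exists_prime_orderOf_dvd_card' 5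
    (by rw [hQ] : 5 ∣ Nat.card (Q : Subgroup G))
  have hx : orderOf (x' : G) = 5 := by rw [Subgroup.orderOf_coe]; exact hx'
  set x : G := (x' : G) with hxdef
  have hxQ : x ∈ (Q : Subgroup G) := x'.2
  have hx1 : x ≠ 1 := by
    intro h; rw [h] at hx; simp at hx
  have hx5 : x ^ 5 = 1 := by rw [← hx]; exact pow_orderOf_eq_one x
  have hzx : Subgroup.zpowers x = (Q : Subgroup G) :=
    h8_zpowers_eq_of_prime_card 5 (by norm_num) (Q : Subgroup G) hQ x hxQ hx1
  have hCx : ∀ g : G, g * x = x * g → g ∈ C := by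
    intro g hg
    rw [hCdef, Subgroup.mem_centralizer_iff]
    intro a ha
    rw [SetLike.mem_coe, ← hzx] at ha
    obtain ⟨j, rfl⟩ := Subgroup.mem_zpowers_iff.mp ha
    have hc : Commute g x := hg
    exact (hc.zpow_right j).eq.symm
  have hxC : ∀ g : G, g ∈ C → g * x = x * g := by
    intro g hg
    exact (Subgroup.mem_centralizer_iff.mp hg x hxQ).symm
  have hQC : (Q : Subgroup G) ≤ C := by
    intro a ha
    apply hCx
    rw [← hzx] at ha
    obtain ⟨j, rfl⟩ := Subgroup.mem_zpowers_iff.mp ha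
    exact ((Commute.refl x).zpow_left j).eq
  -- an involution of C
  obtain ⟨u', hu'⟩ := exists_prime_orderOf_dvd_card' 2
    (by rw [hC]; norm_num : 2 ∣ Nat.card C)
  have hu2 : orderOf (u' : G) = 2 := by rw [Subgroup.orderOf_coe]; exact hu'
  set u : G := (u' : G) with hudef
  have huC : u ∈ C := u'.2
  have hu1 : u ≠ 1 := by
    intro h; rw [h] at hu2; simp at hu2
  have hcnt := og2_invol_count 5 ⟨2, by norm_num⟩ (Q : Subgroup G) C hQ hQC
    (fun d hd a ha => (Subgroup.mem_centralizer_iff.mp hd a ha).symm) u hu2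
  have huniq : ∀ g : G, IsConj u g → g ∈ C → g = u := by
    intro g hg hgC
    have h1 : Nat.card {g : G // IsConj u g ∧ g ∈ C} ≤ 1 := by rw [hC] at hcnt; omega
    have hsub : Subsingleton {g : G // IsConj u g ∧ g ∈ C} :=
      (Finite.card_le_one_iff_subsingleton).mp h1
    have := Subsingleton.elim (⟨g, hg, hgC⟩ : {g : G // IsConj u g ∧ g ∈ C})
      ⟨u, IsConj.refl u, huC⟩
    exact congrArg Subtype.val this
  -- the centralizer of u
  set Z := Subgroup.centralizer ({u} : Set G) with hZdef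
  have hZmem : ∀ g : G, g ∈ Z ↔ g * u = u * g := by
    intro g
    rw [hZdef, Subgroup.mem_centralizer_iff]
    constructor
    · intro h; exact (h u (Set.mem_singleton u)).symm
    · intro h a ha
      rw [Set.mem_singleton_iff] at ha
      rw [ha]; exact h.symm
  have hconjC : ∀ g : G, g * u * g⁻¹ ∈ C → g ∈ Z := by
    intro g hg
    have h1 := huniq _ (isConj_iff.mpr ⟨g, rfl⟩) hg
    rw [hZmem]
    calc g * u = g * u * g⁻¹ * g := by group
      _ = u * g := by rw [h1]
  have hNZ : N ≤ Z := by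
    intro n hn
    apply hconjC
    apply hCx
    have h1 : n⁻¹ * x * n ∈ (Q : Subgroup G) :=
      (Subgroup.mem_normalizer_iff''.mp hn x).mp hxQ
    have h2 : u * (n⁻¹ * x * n) = (n⁻¹ * x * n) * u :=
      (Subgroup.mem_centralizer_iff.mp huC _ h1).symm
    calc n * u * n⁻¹ * x = n * (u * (n⁻¹ * x * n)) * n⁻¹ := by group
      _ = n * ((n⁻¹ * x * n) * u) * n⁻¹ := by rw [h2]
      _ = x * (n * u * n⁻¹) := by group
  have hxZ : x ∈ Z := hNZ (hCN (hQC hxQ))
  have huZ : u ∈ Z := (hZmem u).mpr rfl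
  have hux : Commute u x := hxC u huC
  -- x has exactly one fixed point on G ⧸ Z
  have hfixx : Nat.card (MulAction.fixedBy (G ⧸ Z) x) = 1 := by
    rw [Nat.card_eq_one_iff_unique]
    constructor
    · constructor
      rintro ⟨a, ha⟩ ⟨b, hb⟩
      rw [Subtype.mk.injEq]
      have key : ∀ a : G ⧸ Z, a ∈ MulAction.fixedBy (G ⧸ Z) x → a = ((1 : G) : G ⧸ Z) := by
        intro a ha
        obtain ⟨g, rfl⟩ := QuotientGroup.mk_surjective a
        rw [MulAction.mem_fixedBy, MulAction.Quotient.smul_mk, QuotientGroup.eq] at ha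
        have h1 : g⁻¹ * x⁻¹ * g ∈ Z := by
          have e : (x • g)⁻¹ * g = g⁻¹ * x⁻¹ * g := by rw [smul_eq_mul]; group
          rw [← e]; exact ha
        have h2 : g⁻¹ * x * g ∈ Z := by
          have := Z.inv_mem h1
          have e : (g⁻¹ * x⁻¹ * g)⁻¹ = g⁻¹ * x * g := by group
          rw [← e]; exact this
        rw [hZmem] at h2
        have h3 : g ∈ Z := by
          apply hconjC
          apply hCx
          calc g * u * g⁻¹ * x = g * (u * (g⁻¹ * x * g)) * g⁻¹ := by group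
            _ = g * ((g⁻¹ * x * g) * u) * g⁻¹ := by rw [h2]
            _ = x * (g * u * g⁻¹) := by group
        symm
        rw [QuotientGroup.eq]
        simpa using h3
      rw [key a ha, key b hb]
    · exact ⟨⟨((1 : G) : G ⧸ Z), og2_base_fixed Z x hxZ⟩⟩
  have hxp : IsPGroup 5 (Subgroup.zpowers x) := by
    apply IsPGroup.of_card (n := 1)
    rw [Nat.card_zpowers, hx, pow_one]
  have hYmod := s35_card_fixedBy_modEq (α := G ⧸ Z) x hxp
  rw [hfixx] at hYmod
  -- order of Z
  have hZ20 : 20 ∣ Nat.card Z := by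
    rw [← hN]; exact Subgroup.card_dvd_of_le hNZ
  have hZ11 : ¬ 11 ∣ Nat.card Z :=
    m11_not_dvd_centralizer hG ({u} : Set G) u (Set.mem_singleton u)
      (by rw [hu2]; norm_num) (by rw [hu2]; norm_num)
  have hZidx : Nat.card Z * Z.index = 7920 := by rw [Z.card_mul_index, hG]
  have hYc : Nat.card (G ⧸ Z) = Z.index := (Subgroup.index_eq_card Z).symm
  have hK := Cfsg.Agent.Lib.Helper18.card_isConj_mul_card_centralizer u
  rw [hG] at hK
  have hKidx : Nat.card {g : G // IsConj u g} = Z.index := by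
    have hpos : 0 < Nat.card Z := Nat.card_pos
    have : Nat.card {g : G // IsConj u g} * Nat.card Z = Z.index * Nat.card Z := by
      rw [hK, mul_comm, hZidx]
    exact Nat.eq_of_mul_eq_mul_right hpos this
  have hidx : Z.index = 11 ∨ Z.index = 66 ∨ Z.index = 396 := by
    obtain ⟨k, hk⟩ := hZ20
    rw [hk] at hZidx hZ11
    have h396 : k * Z.index = 396 := by
      have : 20 * (k * Z.index) = 20 * 396 := by rw [← mul_assoc, hZidx]
      exact Nat.eq_of_mul_eq_mul_left (by norm_num) this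
    have hdvd : Z.index ∣ 396 := ⟨k, by rw [← h396, mul_comm]⟩
    have h11 : 11 ∣ Z.index := by
      have h1 : 11 ∣ k * Z.index := by rw [h396]; norm_num
      rcases (Nat.Prime.dvd_mul (by norm_num : Nat.Prime 11)).mp h1 with h2 | h2
      · exfalso; exact hZ11 (dvd_trans h2 (Dvd.intro_left 20 rfl))
      · exact h2
    have hmem : Z.index ∈ (Nat.divisors 396).filter (fun d => d % 11 = 0 ∧ d % 5 = 1) := by
      rw [Finset.mem_filter, Nat.mem_divisors]
      refine ⟨⟨hdvd, by norm_num⟩, Nat.mod_eq_zero_of_dvd h11, ?_⟩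
      rw [hYc] at hYmod
      exact hYmod
    have e : (Nat.divisors 396).filter (fun d => d % 11 = 0 ∧ d % 5 = 1) = {11, 66, 396} := by
      decide +kernel
    rw [e] at hmem
    simpa using hmem
  -- the action on the Sylow 5-subgroups
  have hNidx : N.index = 396 := by
    rw [← hn5]; exact (h8_nsylow_eq_index_normalizer 5 Q).symm
  have hXc : Nat.card (G ⧸ N) = 396 := by
    rw [← Subgroup.index_eq_card]; exact hNidx
  have hNtop : N ≠ ⊤ := by
    intro h
    rw [h, Subgroup.index_top] at hNidx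
    omega
  have hZtop : Z ≠ ⊤ := by
    intro h
    rw [h, Subgroup.index_top] at hidx
    omega
  have hf5 : Nat.card (MulAction.fixedBy (G ⧸ N) u) ≡ 1 [MOD 5] :=
    og2_card_fixedBy_modEq_one 5 Q hQ u huC
  have hu2' : u ^ 2 = 1 := by rw [← hu2]; exact pow_orderOf_eq_one _
  have hf4 := h8_simple_involution_fixed (X := G ⧸ N) hnc u hu2'
  have hfle : Nat.card (MulAction.fixedBy (G ⧸ N) u) ≤ Nat.card (G ⧸ N) :=
    Finite.card_subtype_le _
  have hfne : Nat.card (MulAction.fixedBy (G ⧸ N) u) ≠ Nat.card (G ⧸ N) :=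
    fun h => hu1 (og2_eq_one_of_card_fixedBy N hNtop _ h)
  rw [hXc] at hf4 hfle hfne
  have hcount := Cfsg.Agent.S1019.result N u (hCN huC)
  rw [hNidx, hKidx] at hcount
  -- at most 15 conjugates of u in N
  have hc15 : Nat.card {g : G // IsConj u g ∧ g ∈ N} + 5 ≤ 20 := by
    rw [← hQ, ← hN, ← Nat.card_sum]
    apply Nat.card_le_card_of_injective
      (Sum.elim (fun g : {g : G // IsConj u g ∧ g ∈ N} => (⟨g.1, g.2.2⟩ : N))
        (fun a : (Q : Subgroup G) => (⟨a.1, hCN (hQC a.2)⟩ : N)))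
    rintro (a | a) (b | b) hab
    · have : a.1 = b.1 := congrArg (fun z : N => (z : G)) hab
      rw [Subtype.ext this]
    · exfalso
      have h1 : a.1 = b.1 := congrArg (fun z : N => (z : G)) hab
      have h2 : orderOf a.1 = 2 := by rw [og_orderOf_of_isConj a.2.1, hu2]
      have h3 : orderOf b.1 ∣ 5 := by
        have := orderOf_dvd_natCard (x := b)
        rw [hQ, ← Subgroup.orderOf_coe] at this
        exact this
      rw [← h1, h2] at h3
      omega
    · exfalso
      have h1 : a.1 = b.1 := congrArg (fun z : N => (z : G)) hab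
      have h2 : orderOf b.1 = 2 := by rw [og_orderOf_of_isConj b.2.1, hu2]
      have h3 : orderOf a.1 ∣ 5 := by
        have := orderOf_dvd_natCard (x := a)
        rw [hQ, ← Subgroup.orderOf_coe] at this
        exact this
      rw [h1, h2] at h3
      omega
    · have : a.1 = b.1 := congrArg (fun z : N => (z : G)) hab
      rw [Subtype.ext this]
  unfold Nat.ModEq at hf5
  rcases hidx with hi | hi | hi
  · -- index 11
    rw [hi] at hYc
    have hg4 := h8_simple_involution_fixed (X := G ⧸ Z) hnc u hu2'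
    have hgle : Nat.card (MulAction.fixedBy (G ⧸ Z) u) ≤ Nat.card (G ⧸ Z) :=
      Finite.card_subtype_le _
    have hgne : Nat.card (MulAction.fixedBy (G ⧸ Z) u) ≠ Nat.card (G ⧸ Z) :=
      fun h => hu1 (og2_eq_one_of_card_fixedBy Z hZtop _ h)
    have hg5 := og2_card_fixedBy_modEq_of_commute (X := G ⧸ Z) u x hux hxp
    have hj1 : 1 ≤ Nat.card {y : G ⧸ Z // u • y = y ∧ x • y = y} := by
      apply Nat.card_pos_iff.mpr
      exact ⟨⟨⟨((1 : G) : G ⧸ Z), og2_base_fixed Z u huZ, og2_base_fixed Z x hxZ⟩⟩,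
        inferInstance⟩
    have hj2 : Nat.card {y : G ⧸ Z // u • y = y ∧ x • y = y} ≤
        Nat.card (MulAction.fixedBy (G ⧸ Z) x) := by
      apply Nat.card_le_card_of_injective
        (fun a : {y : G ⧸ Z // u • y = y ∧ x • y = y} =>
          (⟨a.1, a.2.2⟩ : MulAction.fixedBy (G ⧸ Z) x))
      intro a b hab
      apply Subtype.ext
      exact congrArg (fun z => z.1) hab
    rw [hfixx] at hj2
    have hj : Nat.card {y : G ⧸ Z // u • y = y ∧ x • y = y} = 1 := by omega
    unfold Nat.ModEq at hg5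
    rw [hj] at hg5
    rw [hYc] at hg4 hgle hgne
    obtain ⟨k, hk⟩ := hg4
    omega
  · -- index 66
    rw [hi] at hcount hKidx
    have hc6 : Nat.card {g : G // IsConj u g ∧ g ∈ N} = 6 := by
      obtain ⟨k, hk⟩ := hf4
      omega
    have hnt : Nontrivial {g : G // IsConj u g ∧ g ∈ N} := by
      rw [← Finite.one_lt_card_iff_nontrivial, hc6]; norm_num
    obtain ⟨⟨r, hur, hrN⟩, hrne⟩ := exists_ne (⟨u, IsConj.refl u, hCN huC⟩ :
      {g : G // IsConj u g ∧ g ∈ N})
    have hru : r ≠ u := fun h => hrne (Subtype.ext h)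
    have hrC : r ∉ C := fun h => hru (huniq r hur h)
    have hr2 : r ^ 2 = 1 := by
      have : orderOf r = 2 := by rw [og_orderOf_of_isConj hur, hu2]
      rw [← this]; exact pow_orderOf_eq_one _
    have hrx : r * x * r⁻¹ ∈ Subgroup.zpowers x := by
      rw [hzx]
      exact (Subgroup.mem_normalizer_iff.mp hrN x).mp hxQ
    rw [← mem_powers_iff_mem_zpowers] at hrx
    obtain ⟨k, hk⟩ := (Submonoid.mem_powers_iff _ _).mp hrx
    -- x = x^(k*k)
    have hkk : x ^ (k * k) = x ^ 1 := by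
      have h1 : r * (x ^ k) * r⁻¹ = (r * x * r⁻¹) ^ k := by
        have h1 : (MulAut.conj r) (x ^ k) = ((MulAut.conj r) x) ^ k := map_pow _ _ _
        simpa only [MulAut.conj_apply] using h1
      rw [← hk, ← pow_mul] at h1
      have hrr : r * r = 1 := by rw [← pow_two]; exact hr2
      have hrinv : r⁻¹ = r := inv_eq_of_mul_eq_one_right hrr
      have h2 : r * (r * x * r⁻¹) * r⁻¹ = x := by
        rw [hrinv]
        calc r * (r * x * r) * r = (r * r) * x * (r * r) := by simp only [mul_assoc]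
          _ = x := by rw [hrr, one_mul, mul_one]
      rw [pow_one, ← h1, hk, h2]
    have hkk' := pow_inj_mod.mp hkk
    rw [hx] at hkk'
    have hk5 : x ^ k = x ^ (k % 5) := by
      rw [← hx]; exact (pow_mod_orderOf x k).symm
    have hkcases : k % 5 = 1 ∨ k % 5 = 4 := by
      have h5 : k % 5 < 5 := Nat.mod_lt _ (by norm_num)
      have h6 : (k * k) % 5 = ((k % 5) * (k % 5)) % 5 := Nat.mul_mod k k 5
      rw [h6] at hkk'
      generalize k % 5 = m at h5 hkk'
      interval_cases m <;> omega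
    rcases hkcases with h1 | h4
    · exfalso
      apply hrC
      apply hCx
      rw [h1, pow_one] at hk5
      rw [hk5] at hk
      calc r * x = (r * x * r⁻¹) * r := by group
        _ = x * r := by rw [← hk]
    · have hrinvx : r * x * r⁻¹ = x⁻¹ := by
        rw [← hk, hk5, h4]
        rw [eq_inv_iff_mul_eq_one, ← pow_succ]
        exact hx5
      have hpair := m11_pair_inj Q hQ x r u hxQ hx hrinvx hur
      rw [hn5, hKidx] at hpair
      omega
  · -- index 396
    rw [hi] at hcount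
    obtain ⟨k, hk⟩ := hf4
    have : Nat.card (MulAction.fixedBy (G ⧸ N) u) = Nat.card {g : G // IsConj u g ∧ g ∈ N} := by
      rw [mul_comm] at hcount
      exact Nat.eq_of_mul_eq_mul_left (by norm_num) hcount
    omega

end Cfsg.Agent.Lib.Helper29
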