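import Mathlib
import Cfsg.Agent.Lib.Helper29.M11C

set_option autoImplicit false

namespace Cfsg.Agent.Lib.Helper29

open Cfsg.Agent.Lib.helper8 Cfsg.Agent.Lib.helper23

variable {G : Type*} [Group G] [Finite G] [IsSimpleGroup G]

/-- in a simple group of order 7920 an element `x` of order 5 has centralizer of order 5 and is
conjugate to all nonidentity elements of the Sylow 5-subgroup containing it. -/
theorem m11_q5_conj (hG : Nat.card G = 7920) [Fact (Nat.Prime 5)] (Q : Sylow 5 G) (x : G)
    (hxQ : x ∈ (Q : Subgroup G)) (hx1 : x ≠ 1) :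
    Nat.card (Subgroup.centralizer ({x} : Set G)) = 5 ∧
      ∀ y ∈ (Q : Subgroup G), y ≠ 1 → IsConj x y := by
  classical
  obtain ⟨hQ, hn5, hN, _⟩ := m11_syl5 hG Q
  have hC := m11_cent5 hG Q
  have hzx : Subgroup.zpowers x = (Q : Subgroup G) :=
    h8_zpowers_eq_of_prime_card 5 (by norm_num) (Q : Subgroup G) hQ x hxQ hx1
  have hx : orderOf x = 5 := by
    rw [← Nat.card_zpowers, hzx, hQ]
  have hcent : Subgroup.centralizer ({x} : Set G) =
      Subgroup.centralizer ((Q : Subgroup G) : Set G) := by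
    ext g
    rw [Subgroup.mem_centralizer_iff, Subgroup.mem_centralizer_iff]
    constructor
    · intro h a ha
      rw [SetLike.mem_coe, ← hzx] at ha
      obtain ⟨j, rfl⟩ := Subgroup.mem_zpowers_iff.mp ha
      have hc : Commute x g := h x (Set.mem_singleton x)
      exact (hc.zpow_left j).eq
    · intro h a ha
      rw [Set.mem_singleton_iff] at ha
      rw [ha]
      exact h x hxQ
  have hcx : Nat.card (Subgroup.centralizer ({x} : Set G)) = 5 := by rw [hcent, hC]
  refine ⟨hcx, ?_⟩
  set N := Subgroup.normalizer ((Q : Subgroup G) : Set G) with hNdef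
  have hxN : x ∈ N := Subgroup.le_normalizer hxQ
  have hfix := Cfsg.Agent.S1018.part_a 5 Q hQ x hx
  have hcount := Cfsg.Agent.S1019.result N x hxN
  have hK := Cfsg.Agent.Lib.Helper18.card_isConj_mul_card_centralizer x
  rw [hG, hcx] at hK
  have hK' : Nat.card {g : G // IsConj x g} = 1584 := by omega
  have hNidx : N.index = 396 := by
    rw [← hn5]; exact (h8_nsylow_eq_index_normalizer 5 Q).symm
  rw [hfix, hK', hNidx] at hcount
  have hc4 : Nat.card {g : G // IsConj x g ∧ g ∈ N} = 4 := by omega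
  have hmemQ : ∀ g : G, IsConj x g → g ∈ N → g ∈ (Q : Subgroup G) := by
    intro g hg hgN
    apply h8_mem_sylow_of_mem_normalizer 5 Q g 1 _ hgN
    rw [og_orderOf_of_isConj hg, hx, pow_one]
  haveI : Fintype (Q : Subgroup G) := Fintype.ofFinite _
  have hQ4 : Nat.card {y : (Q : Subgroup G) // y ≠ 1} = 4 := by
    rw [Nat.card_eq_fintype_card,
      Fintype.card_subtype_compl (fun y : (Q : Subgroup G) => y = 1)]
    simp only [Fintype.card_unique]
    rw [← Nat.card_eq_fintype_card, hQ]
  let ι : {g : G // IsConj x g ∧ g ∈ N} → {y : (Q : Subgroup G) // y ≠ 1} := fun g =>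
    ⟨⟨g.1, hmemQ g.1 g.2.1 g.2.2⟩, by
      intro h
      have h1 : g.1 = 1 := congrArg Subtype.val h
      have h2 := g.2.1
      rw [h1] at h2
      exact hx1 (isConj_one_left.mp h2)⟩
  have hinj : Function.Injective ι := by
    intro a b hab
    apply Subtype.ext
    have := congrArg (fun z : {y : (Q : Subgroup G) // y ≠ 1} => ((z : (Q : Subgroup G)) : G)) hab
    exact this
  have hbij := hinj.bijective_of_nat_card_le (by rw [hc4, hQ4])
  intro y hy hy1
  obtain ⟨g, hg⟩ := hbij.2 ⟨⟨y, hy⟩, fun h => hy1 (congrArg Subtype.val h)⟩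
  have hgy : g.1 = y :=
    congrArg (fun z : {y : (Q : Subgroup G) // y ≠ 1} => ((z : (Q : Subgroup G)) : G)) hg
  rw [← hgy]
  exact g.2.1

end Cfsg.Agent.Lib.Helper29
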