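import Mathlib
import Cfsg.Agent.Lib.Helper29.M11F
import Cfsg.Agent.Lib.Helper11.TISylCong

set_option autoImplicit false

namespace Cfsg.Agent.Lib.Helper29

open Cfsg.Agent.Lib.helper8 Cfsg.Agent.Lib.helper23
open Cfsg.Agent.Lib.Helper11.TISylCong

variable {G : Type*} [Group G] [Finite G] [IsSimpleGroup G]

/-- a Sylow 5-subgroup of a simple group of order 7920 is its own centralizer -/
theorem m11_cq_eq (hG : Nat.card G = 7920) [Fact (Nat.Prime 5)] (Q : Sylow 5 G) :
    Subgroup.centralizer ((Q : Subgroup G) : Set G) = (Q : Subgroup G) := by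
  obtain ⟨hQ, _, _, _⟩ := m11_syl5 hG Q
  have hC := m11_cent5 hG Q
  have hle : (Q : Subgroup G) ≤ Subgroup.centralizer ((Q : Subgroup G) : Set G) := by
    intro a ha
    rw [Subgroup.mem_centralizer_iff]
    intro b hb
    have hcomm := h8_comm_of_card_prime_sq 5 (Q : Subgroup G)
    -- Q has prime order hence is cyclic hence commutative
    haveI : IsCyclic (Q : Subgroup G) := isCyclic_of_prime_card (p := 5) hQ
    have h1 : (⟨b, hb⟩ : (Q : Subgroup G)) * ⟨a, ha⟩ = ⟨a, ha⟩ * ⟨b, hb⟩ :=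
      IsCyclic.commGroup.mul_comm _ _
    exact congrArg Subtype.val h1
  exact (Subgroup.eq_of_le_of_card_ge hle (by rw [hQ, hC])).symm

/-- an involution normalizing a Sylow 5-subgroup inverts it -/
theorem m11_invol_inverts (hG : Nat.card G = 7920) [Fact (Nat.Prime 5)] (Q : Sylow 5 G)
    (r : G) (hrN : r ∈ Subgroup.normalizer ((Q : Subgroup G) : Set G)) (hr2 : orderOf r = 2)
    (x : G) (hxQ : x ∈ (Q : Subgroup G)) : r * x * r⁻¹ = x⁻¹ := by
  obtain ⟨hQ, _, _, _⟩ := m11_syl5 hG Q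
  by_cases hx1 : x = 1
  · rw [hx1]; group
  have hzx : Subgroup.zpowers x = (Q : Subgroup G) :=
    h8_zpowers_eq_of_prime_card 5 (by norm_num) (Q : Subgroup G) hQ x hxQ hx1
  have hx : orderOf x = 5 := by rw [← Nat.card_zpowers, hzx, hQ]
  have hx5 : x ^ 5 = 1 := by rw [← hx]; exact pow_orderOf_eq_one x
  have hr2' : r ^ 2 = 1 := by rw [← hr2]; exact pow_orderOf_eq_one _
  have hrC : r ∉ Subgroup.centralizer ((Q : Subgroup G) : Set G) := by
    rw [m11_cq_eq hG Q]
    intro h
    have h1 := orderOf_dvd_natCard (x := (⟨r, h⟩ : (Q : Subgroup G)))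
    rw [hQ, ← Subgroup.orderOf_coe] at h1
    simp only at h1
    rw [hr2] at h1
    omega
  have hrx : r * x * r⁻¹ ∈ Subgroup.zpowers x := by
    rw [hzx]
    exact (Subgroup.mem_normalizer_iff.mp hrN x).mp hxQ
  rw [← mem_powers_iff_mem_zpowers] at hrx
  obtain ⟨k, hk⟩ := (Submonoid.mem_powers_iff _ _).mp hrx
  have hkk : x ^ (k * k) = x ^ 1 := by
    have h1 : r * (x ^ k) * r⁻¹ = (r * x * r⁻¹) ^ k := by
      have h1 : (MulAut.conj r) (x ^ k) = ((MulAut.conj r) x) ^ k := map_pow _ _ _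
      simpa only [MulAut.conj_apply] using h1
    rw [← hk, ← pow_mul] at h1
    have hrr : r * r = 1 := by rw [← pow_two]; exact hr2'
    have hrinv : r⁻¹ = r := inv_eq_of_mul_eq_one_right hrr
    have h2 : r * (r * x * r⁻¹) * r⁻¹ = x := by
      rw [hrinv]
      calc r * (r * x * r) * r = (r * r) * x * (r * r) := by simp only [mul_assoc]
        _ = x := by rw [hrr, one_mul, mul_one]
    rw [pow_one, ← h1, hk, h2]
  have hkk' := pow_inj_mod.mp hkk
  rw [hx] at hkk'
  have hk5 : x ^ k = x ^ (k % 5) := by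
    rw [← hx]; exact (pow_mod_orderOf x k).symm
  have hkcases : k % 5 = 1 ∨ k % 5 = 4 := by
    have h5 : k % 5 < 5 := Nat.mod_lt _ (by norm_num)
    have h6 : (k * k) % 5 = ((k % 5) * (k % 5)) % 5 := Nat.mul_mod k k 5
    rw [h6] at hkk'
    generalize k % 5 = m at h5 hkk'
    interval_cases m <;> omega
  rcases hkcases with h1 | h4
  · exfalso
    apply hrC
    rw [Subgroup.mem_centralizer_iff]
    intro a ha
    rw [SetLike.mem_coe, ← hzx] at ha
    obtain ⟨j, rfl⟩ := Subgroup.mem_zpowers_iff.mp ha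
    rw [h1, pow_one] at hk5
    rw [hk5] at hk
    have hc : Commute r x := by
      show r * x = x * r
      calc r * x = (r * x * r⁻¹) * r := by group
        _ = x * r := by rw [← hk]
    exact (hc.zpow_right j).eq.symm
  · rw [← hk, hk5, h4, eq_inv_iff_mul_eq_one, ← pow_succ]
    exact hx5

/-- there is an involution normalizing a Sylow 5-subgroup -/
theorem m11_exists_invol_normalizer (hG : Nat.card G = 7920) [Fact (Nat.Prime 5)]
    (Q : Sylow 5 G) :
    ∃ t : G, t ∈ Subgroup.normalizer ((Q : Subgroup G) : Set G) ∧ orderOf t = 2 := by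
  haveI : Fact (Nat.Prime 2) := ⟨Nat.prime_two⟩
  obtain ⟨_, _, hN, _⟩ := m11_syl5 hG Q
  obtain ⟨t', ht'⟩ := exists_prime_orderOf_dvd_card' 2
    (by rw [hN]; norm_num : 2 ∣ Nat.card (Subgroup.normalizer ((Q : Subgroup G) : Set G)))
  exact ⟨(t' : G), t'.2, by rw [Subgroup.orderOf_coe]; exact ht'⟩

/-- two involutions normalizing the same Sylow 5-subgroup differ by an element of it -/
theorem m11_invol_normalizer_mul (hG : Nat.card G = 7920) [Fact (Nat.Prime 5)] (Q : Sylow 5 G)
    (r r' : G) (hrN : r ∈ Subgroup.normalizer ((Q : Subgroup G) : Set G))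
    (hr2 : orderOf r = 2) (hrN' : r' ∈ Subgroup.normalizer ((Q : Subgroup G) : Set G))
    (hr2' : orderOf r' = 2) : r * r' ∈ (Q : Subgroup G) := by
  rw [← m11_cq_eq hG Q, Subgroup.mem_centralizer_iff]
  intro a ha
  have h1 := m11_invol_inverts hG Q r hrN hr2 a⁻¹ ((Q : Subgroup G).inv_mem ha)
  have h2 := m11_invol_inverts hG Q r' hrN' hr2' a ha
  rw [inv_inv] at h1
  -- (r r') a (r r')⁻¹ = a
  have h3 : r * r' * a * (r * r')⁻¹ = a := by
    calc r * r' * a * (r * r')⁻¹ = r * (r' * a * r'⁻¹) * r⁻¹ := by group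
      _ = r * a⁻¹ * r⁻¹ := by rw [h2]
      _ = a := h1
  calc a * (r * r') = (r * r' * a * (r * r')⁻¹) * (r * r') := by rw [h3]
    _ = r * r' * a := by group

/-- an involution normalizing `Q` times an element of `Q` is a conjugate involution -/
theorem m11_invol_mul_mem (hG : Nat.card G = 7920) [Fact (Nat.Prime 5)] (Q : Sylow 5 G)
    (r : G) (hrN : r ∈ Subgroup.normalizer ((Q : Subgroup G) : Set G)) (hr2 : orderOf r = 2)
    (q : G) (hq : q ∈ (Q : Subgroup G)) :
    orderOf (r * q) = 2 ∧ IsConj r (r * q) ∧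
      r * q ∈ Subgroup.normalizer ((Q : Subgroup G) : Set G) := by
  obtain ⟨hQ, _, _, _⟩ := m11_syl5 hG Q
  have hinv : ∀ a ∈ (Q : Subgroup G), r * a = a⁻¹ * r := by
    intro a ha
    have h := m11_invol_inverts hG Q r hrN hr2 a ha
    calc r * a = (r * a * r⁻¹) * r := by group
      _ = a⁻¹ * r := by rw [h]
  have hr2' : r * r = 1 := by
    rw [← pow_two, ← hr2]; exact pow_orderOf_eq_one _
  have hq5 : q ^ 5 = 1 := by
    have h1 : (⟨q, hq⟩ : (Q : Subgroup G)) ^ Nat.card (Q : Subgroup G) = 1 := pow_card_eq_one'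
    rw [hQ] at h1
    exact congrArg Subtype.val h1
  have hconj : IsConj r (r * q) := by
    rw [isConj_iff]
    refine ⟨q ^ 2, ?_⟩
    have h1 := hinv (q ^ 2) ((Q : Subgroup G).pow_mem hq 2)
    -- q² r q⁻² = r q⁻² q⁻² = r q⁻⁴ = r q
    have h2 : q ^ 2 * r = r * (q ^ 2)⁻¹ := by
      calc q ^ 2 * r = ((q ^ 2)⁻¹)⁻¹ * r := by rw [inv_inv]
        _ = r * (q ^ 2)⁻¹ := by
          rw [← hinv ((q ^ 2)⁻¹) ((Q : Subgroup G).inv_mem ((Q : Subgroup G).pow_mem hq 2))]
    rw [h2, mul_assoc, ← mul_inv_rev, ← pow_add]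
    congr 1
    rw [inv_eq_iff_eq_inv, eq_inv_iff_mul_eq_one, ← pow_succ]
    exact hq5
  refine ⟨?_, hconj, ?_⟩
  · rw [og_orderOf_of_isConj hconj, hr2]
  · exact Subgroup.mul_mem _ hrN (Subgroup.le_normalizer hq)

/-- an element inverting a generator of a Sylow 5-subgroup normalizes it -/
theorem m11_mem_normalizer_of_inverts [Fact (Nat.Prime 5)] (Q : Sylow 5 G) (x r : G)
    (hzx : Subgroup.zpowers x = (Q : Subgroup G)) (hr : r * r = 1)
    (hinv : r * x * r⁻¹ = x⁻¹) :
    r ∈ Subgroup.normalizer ((Q : Subgroup G) : Set G) := by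
  have hrinv : r⁻¹ = r := inv_eq_of_mul_eq_one_right hr
  have key : ∀ h : G, h ∈ Subgroup.zpowers x → r * h * r⁻¹ ∈ Subgroup.zpowers x := by
    intro h hh
    obtain ⟨k, rfl⟩ := Subgroup.mem_zpowers_iff.mp hh
    have h1 : r * (x ^ k) * r⁻¹ = (r * x * r⁻¹) ^ k := by
      have h1 : (MulAut.conj r) (x ^ k) = ((MulAut.conj r) x) ^ k := map_zpow _ _ _
      simpa only [MulAut.conj_apply] using h1
    rw [h1, hinv]
    exact Subgroup.zpow_mem _ (Subgroup.inv_mem _ (Subgroup.mem_zpowers x)) k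
  rw [Subgroup.mem_normalizer_iff]
  intro h
  rw [← hzx]
  constructor
  · exact key h
  · intro hh
    have h2 := key _ hh
    have h3 : r * (r * h * r⁻¹) * r⁻¹ = h := by
      rw [hrinv]
      calc r * (r * h * r) * r = (r * r) * h * (r * r) := by simp only [mul_assoc]
        _ = h := by rw [hr, one_mul, mul_one]
    rwa [h3] at h2

open Classical in
/-- if all involutions are conjugate to `t`, each element of order 5 is a product of two
conjugates of `t` in exactly five ways -/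
theorem m11_pairs_five [Fintype G] (hG : Nat.card G = 7920) [Fact (Nat.Prime 5)] (t : G)
    (hall : ∀ u : G, orderOf u = 2 → IsConj t u) (ht : orderOf t = 2) (x : G)
    (hx : orderOf x = 5) :
    ((Cl t ×ˢ Cl t).filter (fun w : G × G => w.1 * w.2 = x)).card = 5 := by
  have hx1 : x ≠ 1 := by
    intro h; rw [h, orderOf_one] at hx; omega
  have hpg : IsPGroup 5 (Subgroup.zpowers x) :=
    IsPGroup.of_card (n := 1) (by rw [Nat.card_zpowers, hx]; norm_num)
  obtain ⟨Q, hQle⟩ := hpg.exists_le_sylow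
  have hxQ : x ∈ (Q : Subgroup G) := hQle (Subgroup.mem_zpowers x)
  obtain ⟨hQ, _, _, _⟩ := m11_syl5 hG Q
  have hzx : Subgroup.zpowers x = (Q : Subgroup G) :=
    h8_zpowers_eq_of_prime_card 5 (by norm_num) (Q : Subgroup G) hQ x hxQ hx1
  obtain ⟨t', ht'N, ht'2⟩ := m11_exists_invol_normalizer hG Q
  have ht'sq : t' * t' = 1 := by
    rw [← pow_two, ← ht'2]; exact pow_orderOf_eq_one _
  haveI : Fintype ↥(Q : Subgroup G) := Fintype.ofFinite _
  have hsq_of : ∀ r : G, orderOf r = 2 → r * r = 1 := by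
    intro r hr
    rw [← pow_two, ← hr]; exact pow_orderOf_eq_one _
  have hset : (Cl t ×ˢ Cl t).filter (fun w : G × G => w.1 * w.2 = x) =
      (Finset.univ : Finset ↥(Q : Subgroup G)).image
        (fun q : ↥(Q : Subgroup G) => (t' * (q : G), (t' * (q : G))⁻¹ * x)) := by
    ext w
    rw [Finset.mem_filter, Finset.mem_product, mem_Cl, mem_Cl, Finset.mem_image]
    constructor
    · rintro ⟨⟨h1, h2⟩, h3⟩
      have ho1 : orderOf w.1 = 2 := by rw [og_orderOf_of_isConj h1, ht]
      have ho2 : orderOf w.2 = 2 := by rw [og_orderOf_of_isConj h2, ht]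
      have hr := hsq_of _ ho1
      have hs := hsq_of _ ho2
      have hrinv : w.1⁻¹ = w.1 := inv_eq_of_mul_eq_one_right hr
      have hsinv : w.2⁻¹ = w.2 := inv_eq_of_mul_eq_one_right hs
      have hinv : w.1 * x * w.1⁻¹ = x⁻¹ := by
        rw [← h3, mul_inv_rev, hrinv, hsinv]
        calc w.1 * (w.1 * w.2) * w.1 = (w.1 * w.1) * w.2 * w.1 := by simp only [mul_assoc]
          _ = w.2 * w.1 := by rw [hr, one_mul]
      have hN := m11_mem_normalizer_of_inverts Q x w.1 hzx hr hinv
      have hq := m11_invol_normalizer_mul hG Q t' w.1 ht'N ht'2 hN ho1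
      refine ⟨⟨t' * w.1, hq⟩, Finset.mem_univ _, ?_⟩
      have e1 : t' * (t' * w.1) = w.1 := by rw [← mul_assoc, ht'sq, one_mul]
      apply Prod.ext
      · exact e1
      · show (t' * (t' * w.1))⁻¹ * x = w.2
        rw [e1, ← h3, ← mul_assoc, inv_mul_cancel, one_mul]
    · rintro ⟨q, _, rfl⟩
      obtain ⟨ho, hconj, hN⟩ := m11_invol_mul_mem hG Q t' ht'N ht'2 (q : G) q.2
      set r := t' * (q : G) with hrdef
      have hr := hsq_of _ ho
      have hrinv : r⁻¹ = r := inv_eq_of_mul_eq_one_right hr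
      have hinv := m11_invol_inverts hG Q r hN ho x hxQ
      have hs2 : orderOf (r⁻¹ * x) = 2 := by
        apply orderOf_eq_prime
        · rw [pow_two, hrinv]
          calc r * x * (r * x) = (r * x * r⁻¹) * x := by rw [hrinv]; simp only [mul_assoc]
            _ = 1 := by rw [hinv, inv_mul_cancel]
        · intro h
          have h1 : x = r := by
            have := congrArg (fun z => r * z) h
            simpa using this
          rw [h1, ho] at hx
          omega
      exact ⟨⟨hall _ ho, hall _ hs2⟩, by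
        show r * (r⁻¹ * x) = x
        rw [← mul_assoc, mul_inv_cancel, one_mul]⟩
  rw [hset, Finset.card_image_of_injective, Finset.card_univ, ← Nat.card_eq_fintype_card, hQ]
  intro a b hab
  have h1 : t' * (a : G) = t' * (b : G) := congrArg Prod.fst hab
  exact Subtype.ext (mul_left_cancel h1)

end Cfsg.Agent.Lib.Helper29
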