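import Mathlib
import Cfsg.Agent.Lib.Helper26.ExcFinal
import Cfsg.Agent.Lib.Helper11.TIFNStar

set_option autoImplicit false
set_option linter.unusedSectionVars false

namespace Cfsg.Agent.Lib.Helper29

open scoped ComplexConjugate
open Cfsg.Agent.Lib.Helper11 Cfsg.Agent.Lib.helper7 Cfsg.Agent.Lib.Helper25 Cfsg.Agent.Lib.helper2

/-- Character values on a self-centralizing subgroup `Q` of prime order all of whose
nonidentity elements are conjugate: the values are rational integers `c χ` with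
`∑ c² = p`, `∑ c d = 0` and `d + (p-1) c ≡ 0 (mod p)`. -/
theorem m11_rational_class {G : Type*} [Group G] [Fintype G] [Fintype (Cfsg.IrrCharacter G)]
    (p : ℕ) [hp : Fact p.Prime] (Q : Subgroup G) [Fintype Q] (hQ : Nat.card Q = p) (x : G)
    (hx1 : x ≠ 1) (hconj : ∀ y ∈ Q, y ≠ 1 → IsConj x y)
    (hcent : Nat.card (Subgroup.centralizer ({x} : Set G)) = p) :
    ∃ c : Cfsg.IrrCharacter G → ℤ, (∀ χ : Cfsg.IrrCharacter G, (χ : G → ℂ) x = (c χ : ℂ)) ∧
      ∑ χ, c χ ^ 2 = (p : ℤ) ∧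
      ∑ χ, c χ * (Cfsg.charDegree (χ : G → ℂ) : ℤ) = 0 ∧
      (∀ χ : Cfsg.IrrCharacter G, ∃ k : ℤ,
        (Cfsg.charDegree (χ : G → ℂ) : ℤ) + ((p : ℤ) - 1) * c χ = p * k) ∧
      c (trivIrr G) = 1 := by
  classical
  have hp1 : 1 < p := hp.out.one_lt
  have hsum : ∀ χ : Cfsg.IrrCharacter G, ∃ k : ℕ,
      (χ : G → ℂ) 1 + ((p : ℂ) - 1) * (χ : G → ℂ) x = (p : ℂ) * k := by
    intro χ
    obtain ⟨k, hk⟩ := sum_subgroup_irr Q χ
    refine ⟨k, ?_⟩
    rw [hQ] at hk
    rw [← hk, ← Finset.add_sum_erase Finset.univ _ (Finset.mem_univ (1 : Q))]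
    congr 1
    have h1 : ∀ y ∈ (Finset.univ : Finset Q).erase 1, (χ : G → ℂ) (y : G) = (χ : G → ℂ) x := by
      intro y hy
      have hy1 : (y : G) ≠ 1 := by
        intro h
        exact (Finset.mem_erase.mp hy).1 (Subtype.ext h)
      exact (irr_isConj_eq χ (hconj y y.2 hy1)).symm
    rw [Finset.sum_congr rfl h1, Finset.sum_const, Finset.card_erase_of_mem (Finset.mem_univ _),
      Finset.card_univ, ← Nat.card_eq_fintype_card, hQ, nsmul_eq_mul, Nat.cast_sub hp1.le,
      Nat.cast_one]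
  have hint : ∀ χ : Cfsg.IrrCharacter G, ∃ m : ℤ, (χ : G → ℂ) x = (m : ℂ) := by
    intro χ
    obtain ⟨k, hk⟩ := hsum χ
    have hd := (charDegree_irr χ).1
    have hp1' : ((p : ℂ) - 1) ≠ 0 := by
      intro h
      have h2 : (p : ℂ) = 1 := by linear_combination h
      have h3 : (p : ℕ) = 1 := by exact_mod_cast h2
      omega
    apply int_of_rat_of_isIntegral _
      (((p : ℚ) * k - (Cfsg.charDegree (χ : G → ℂ) : ℚ)) / ((p : ℚ) - 1)) _ (irr_integral χ x)
    push_cast
    rw [eq_div_iff hp1', hd]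
    linear_combination hk
  choose c hc using hint
  refine ⟨c, hc, ?_, ?_, ?_, ?_⟩
  · have h := irr_column_orthogonality (G := G) x x
    rw [if_pos (IsConj.refl x), hcent] at h
    have h2 : ∑ χ : Cfsg.IrrCharacter G, (χ : G → ℂ) x * conj ((χ : G → ℂ) x) =
        ((∑ χ : Cfsg.IrrCharacter G, c χ ^ 2 : ℤ) : ℂ) := by
      push_cast
      apply Finset.sum_congr rfl
      intro χ _
      rw [hc χ, map_intCast]
      ring
    rw [h2] at h
    exact_mod_cast h
  · have h := irr_column_orthogonality (G := G) 1 x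
    have hne : ¬ IsConj x 1 := by
      intro h
      exact hx1 (isConj_one_left.mp h)
    rw [if_neg hne] at h
    have h2 : ∑ χ : Cfsg.IrrCharacter G, (χ : G → ℂ) 1 * conj ((χ : G → ℂ) x) =
        ((∑ χ : Cfsg.IrrCharacter G, c χ * (Cfsg.charDegree (χ : G → ℂ) : ℤ) : ℤ) : ℂ) := by
      push_cast
      apply Finset.sum_congr rfl
      intro χ _
      rw [hc χ, map_intCast, ← (charDegree_irr χ).1]
      ring
    rw [h2] at h
    exact_mod_cast h
  · intro χ
    obtain ⟨k, hk⟩ := hsum χ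
    refine ⟨k, ?_⟩
    rw [hc χ, ← (charDegree_irr χ).1] at hk
    exact_mod_cast hk
  · have h := hc (trivIrr G)
    rw [trivIrr_apply] at h
    exact_mod_cast h.symm

end Cfsg.Agent.Lib.Helper29
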