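import Mathlib

set_option autoImplicit false

namespace Cfsg.Agent.Lib.Helper29

open Finset

/-- table of the non-exceptional `11`-block coefficient by degree -/
def m11_tw (k : ℕ) : ℤ :=
  if k = 1 then 1 else if k = 9 then -2 else if k = 10 then -1 else if k = 20 then -2
  else if k = 24 then 2 else if k = 45 then 1 else 0

/-- table of the value on elements of order 5 by degree -/
def m11_tc (k : ℕ) : ℤ :=
  if k = 1 then 1 else if k = 9 then -1 else if k = 11 then 1 else if k = 24 then -1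
  else if k = 44 then -1 else if k = 66 then 1 else 0

theorem m11_sum_by_degree {X : Type*} [DecidableEq X] (U : Finset X) (d : X → ℕ)
    (D : Finset ℕ) (hD : ∀ χ ∈ U, d χ ∈ D) (F : ℕ → ℤ) :
    ∑ χ ∈ U, F (d χ) = ∑ k ∈ D, ((U.filter (fun χ => d χ = k)).card : ℤ) * F k := by
  rw [← Finset.sum_fiberwise_of_maps_to hD]
  apply Finset.sum_congr rfl
  intro k _
  have h1 : ∀ χ ∈ U.filter (fun χ => d χ = k), F (d χ) = F k := by
    intro χ hχ
    rw [(Finset.mem_filter.mp hχ).2]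
  rw [Finset.sum_congr rfl h1, Finset.sum_const, nsmul_eq_mul]

theorem m11_div88 (n : ℕ) (h : n ∣ 7920) (h88 : n ≤ 88) :
    n ∈ ({1,2,3,4,5,6,8,9,10,11,12,15,16,18,20,22,24,30,33,36,40,44,45,48,55,60,66,72,80,88} :
      Finset ℕ) := by
  have e : (Nat.divisors 7920).filter (· ≤ 88) =
      {1,2,3,4,5,6,8,9,10,11,12,15,16,18,20,22,24,30,33,36,40,44,45,48,55,60,66,72,80,88} := by
    decide +kernel
  rw [← e, Finset.mem_filter, Nat.mem_divisors]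
  exact ⟨⟨h, by norm_num⟩, h88⟩

/-- pointwise table for non-exceptional characters -/
theorem m11_pointwise (n : ℕ) (w c m k : ℤ) (h : n ∣ 7920) (h88 : n ≤ 88)
    (hw : -2 ≤ w ∧ w ≤ 2) (hc : -1 ≤ c ∧ c ≤ 1) (h11 : (n : ℤ) = 11 * m - 5 * (2 * w))
    (h5 : (n : ℤ) + 4 * c = 5 * k) :
    n ∈ ({1, 9, 10, 11, 20, 24, 44, 45, 55, 66} : Finset ℕ) ∧ w = m11_tw n ∧ c = m11_tc n := by
  have hmem := m11_div88 n h h88
  simp only [Finset.mem_insert, Finset.mem_singleton] at hmem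
  rcases hmem with rfl | rfl | rfl | rfl | rfl | rfl | rfl | rfl | rfl | rfl | rfl | rfl | rfl |
    rfl | rfl | rfl | rfl | rfl | rfl | rfl | rfl | rfl | rfl | rfl | rfl | rfl | rfl | rfl |
    rfl | rfl <;>
  first
    | (exfalso; omega)
    | (refine ⟨by decide, ?_, ?_⟩ <;> simp only [m11_tw, m11_tc] <;> norm_num <;> omega)

/-- pointwise table for the exceptional characters -/
theorem m11_pointwise_exc (n : ℕ) (ε' c m k : ℤ) (h : n ∣ 7920) (h88 : n ≤ 88)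
    (hε' : ε' = 1 ∨ ε' = -1 ∨ ε' = 3 ∨ ε' = -3)
    (hc : -1 ≤ c ∧ c ≤ 1) (h11 : (n : ℤ) = 11 * m - 5 * ε')
    (h5 : (n : ℤ) + 4 * c = 5 * k) :
    (n = 4 ∧ c = -1 ∧ ε' = -3) ∨ (n = 5 ∧ c = 0 ∧ ε' = -1) ∨ (n = 6 ∧ c = 1 ∧ ε' = 1) ∨
      (n = 15 ∧ c = 0 ∧ ε' = -3) ∨ (n = 16 ∧ c = 1 ∧ ε' = -1) ∨ (n = 40 ∧ c = 0 ∧ ε' = 3) ∨
      (n = 60 ∧ c = 0 ∧ ε' = -1) := by
  have e : (Nat.divisors 7920).filter (fun n => n ≤ 88 ∧
      (n % 11 = 4 ∨ n % 11 = 5 ∨ n % 11 = 6 ∨ n % 11 = 7) ∧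
      (n % 5 = 0 ∨ n % 5 = 1 ∨ n % 5 = 4)) = {4, 5, 6, 15, 16, 40, 60} := by
    decide +kernel
  have hmem : n ∈ ({4, 5, 6, 15, 16, 40, 60} : Finset ℕ) := by
    rw [← e, Finset.mem_filter, Nat.mem_divisors]
    refine ⟨⟨h, by norm_num⟩, h88, ?_, ?_⟩
    · clear h5 h
      rcases hε' with rfl | rfl | rfl | rfl <;> omega
    · clear h11 h
      have hc3 : c = -1 ∨ c = 0 ∨ c = 1 := by omega
      rcases hc3 with rfl | rfl | rfl <;> omega
  simp only [Finset.mem_insert, Finset.mem_singleton] at hmem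
  rcases hmem with rfl | rfl | rfl | rfl | rfl | rfl | rfl <;>
    rcases hε' with rfl | rfl | rfl | rfl <;> omega


set_option maxHeartbeats 1000000 in
theorem m11_arith (D : ℕ) (cθ e' n9 n10 n11 n20 n24 n44 n45 n55 n66 : ℤ)
    (h9 : 0 ≤ n9) (h10 : 0 ≤ n10) (h11 : 0 ≤ n11) (h20 : 0 ≤ n20) (h24 : 0 ≤ n24)
    (h44 : 0 ≤ n44) (h45 : 0 ≤ n45) (h55 : 0 ≤ n55) (h66 : 0 ≤ n66)
    (hexc : (D = 4 ∧ cθ = -1 ∧ e' = -3) ∨ (D = 5 ∧ cθ = 0 ∧ e' = -1) ∨ (D = 6 ∧ cθ = 1 ∧ e' = 1) ∨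
      (D = 15 ∧ cθ = 0 ∧ e' = -3) ∨ (D = 16 ∧ cθ = 1 ∧ e' = -1) ∨ (D = 40 ∧ cθ = 0 ∧ e' = 3) ∨
      (D = 60 ∧ cθ = 0 ∧ e' = -1))
    (hE1' : 2 * (1 + 4 * n9 + n10 + 4 * n20 + 4 * n24 + n45) = 11 - e' ^ 2)
    (hE2 : 1 - 18 * n9 - 10 * n10 - 40 * n20 + 48 * n24 + 45 * n45 + e' * (D : ℤ) = 0)
    (hE3 : 1 + n9 + n11 + n24 + n44 + n66 + cθ ^ 2 + cθ ^ 2 = 5)
    (hE4 : 1 - 9 * n9 + 11 * n11 - 24 * n24 - 44 * n44 + 66 * n66 + (cθ + cθ) * (D : ℤ) = 0)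
    (hE5 : 1 + 81 * n9 + 100 * n10 + 121 * n11 + 400 * n20 + 576 * n24 + 1936 * n44 +
      2025 * n45 + 3025 * n55 + 4356 * n66 + 2 * (D : ℤ) ^ 2 = 7920) :
    D = 16 ∧ n9 = 0 ∧ n10 = 3 ∧ n11 = 1 ∧ n20 = 0 ∧ n24 = 0 ∧ n44 = 1 ∧ n45 = 1 ∧
      n55 = 1 ∧ n66 = 0 := by
  have stageA : ∀ R T : ℤ, R ≤ 4 → 4 * n9 + n10 + 4 * n20 + 4 * n24 + n45 = R →
      -18 * n9 - 10 * n10 - 40 * n20 + 48 * n24 + 45 * n45 = T →
      T = 15 ∨ T = 4 ∨ T = 59 ∨ T = -7 ∨ T = 11 ∨ T = 44 ∨ T = -121 →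
      (T = 15 ∧ R = 4 ∧ n9 = 0 ∧ n10 = 3 ∧ n20 = 0 ∧ n24 = 0 ∧ n45 = 1) ∨ (R ≤ 0 ∧ T = 0) := by
    intro R T hR h1 h2 hT
    have b9 : n9 ≤ 1 := by omega
    have b20 : n20 ≤ 1 := by omega
    have b24 : n24 ≤ 1 := by omega
    have b45 : n45 ≤ 4 := by omega
    have b10 : n10 ≤ 4 := by omega
    interval_cases n9 <;> interval_cases n20 <;> interval_cases n24 <;> interval_cases n45 <;>
      interval_cases n10 <;> omega
  rcases hexc with ⟨hD, hcθ, he⟩ | ⟨hD, hcθ, he⟩ | ⟨hD, hcθ, he⟩ | ⟨hD, hcθ, he⟩ |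
      ⟨hD, hcθ, he⟩ | ⟨hD, hcθ, he⟩ | ⟨hD, hcθ, he⟩ <;> subst hD <;> subst hcθ <;> subst he <;>
      norm_num at hE1' hE2 hE3 hE4 hE5
  · exfalso
    rcases stageA 0 11 (by norm_num) (by linarith) (by linarith) (by norm_num) with h | h <;> omega
  · exfalso
    rcases stageA 4 4 (by norm_num) (by linarith) (by linarith) (by norm_num) with h | h <;> omega
  · exfalso
    rcases stageA 4 (-7) (by norm_num) (by linarith) (by linarith) (by norm_num) with h | h <;> omega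
  · exfalso
    rcases stageA 0 44 (by norm_num) (by linarith) (by linarith) (by norm_num) with h | h <;> omega
  · rcases stageA 4 15 (by norm_num) (by linarith) (by linarith) (by norm_num) with h | h
    · obtain ⟨_, _, rfl, rfl, rfl, rfl, rfl⟩ := h
      have hs : n11 + n44 + n66 = 2 := by linarith
      have b11 : n11 ≤ 2 := by omega
      have b44 : n44 ≤ 2 := by omega
      have b66 : n66 ≤ 2 := by omega
      have hB : n11 = 1 ∧ n44 = 1 ∧ n66 = 0 := by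
        clear hE5
        interval_cases n11 <;> interval_cases n44 <;> interval_cases n66 <;> omega
      obtain ⟨rfl, rfl, rfl⟩ := hB
      have h55' : n55 = 1 := by linarith
      subst h55'
      simp
    · omega
  · exfalso
    rcases stageA 0 (-121) (by norm_num) (by linarith) (by linarith) (by norm_num) with h | h <;> omega
  · exfalso
    rcases stageA 4 59 (by norm_num) (by linarith) (by linarith) (by norm_num) with h | h <;> omega


set_option maxHeartbeats 1600000 in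
theorem m11_count {X : Type*} [Fintype X] [DecidableEq X] (d : X → ℕ) (w c : X → ℤ)
    (S : Finset X) (ε a : ℤ) (x₀ : X)
    (hε : ε = 1 ∨ ε = -1) (hS : S.card = 2) (hwa : ∀ χ ∈ S, w χ = a)
    (hnorm : ∑ χ, w χ ^ 2 + 2 * ε * a = 5)
    (hdeg : ∀ θ ∈ S, ∑ χ, w χ * (d χ : ℤ) + ε * (d θ : ℤ) = 0)
    (hcS : ∀ χ ∈ S, ∃ m : ℤ, (d χ : ℤ) = 11 * m - 5 * (2 * w χ + ε))
    (hcN : ∀ χ ∉ S, ∃ m : ℤ, (d χ : ℤ) = 11 * m - 5 * (2 * w χ))
    (hw1 : w x₀ = 1) (htS : x₀ ∉ S)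
    (hc2 : ∑ χ, c χ ^ 2 = 5) (hcd : ∑ χ, c χ * (d χ : ℤ) = 0)
    (hc5 : ∀ χ, ∃ k : ℤ, (d χ : ℤ) + 4 * c χ = 5 * k) (hc1 : c x₀ = 1)
    (hdvd : ∀ χ, d χ ∣ 7920) (hsq : ∑ χ, (d χ : ℤ) ^ 2 = 7920)
    (hd1 : ∀ χ, d χ = 1 → χ = x₀) (hd0 : d x₀ = 1) :
    ∀ n : ℕ, (Finset.univ.filter (fun χ => d χ = n)).card =
      (if n = 1 ∨ n = 11 ∨ n = 44 ∨ n = 45 ∨ n = 55 then 1 else if n = 10 then 3
        else if n = 16 then 2 else 0) := by
  -- degree bound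
  have hd88 : ∀ χ, d χ ≤ 88 := by
    intro χ
    have h1 : (d χ : ℤ) ^ 2 ≤ ∑ χ, (d χ : ℤ) ^ 2 :=
      Finset.single_le_sum (f := fun χ => (d χ : ℤ) ^ 2) (fun i _ => sq_nonneg _)
        (Finset.mem_univ χ)
    rw [hsq] at h1
    by_contra hlt
    push Not at hlt
    have h2 : (89 : ℤ) ≤ (d χ : ℤ) := by exact_mod_cast hlt
    nlinarith
  -- |c| ≤ 2
  have hcsq : ∀ χ, c χ ^ 2 ≤ 5 := by
    intro χ
    have h1 : c χ ^ 2 ≤ ∑ χ, c χ ^ 2 :=
      Finset.single_le_sum (f := fun χ => c χ ^ 2) (fun i _ => sq_nonneg _) (Finset.mem_univ χ)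
    rwa [hc2] at h1
  have hsplit : ∀ (f : X → ℤ) (χ₁ : X), χ₁ ≠ x₀ →
      ∑ χ, f χ = f x₀ + f χ₁ + ∑ χ ∈ (univ.erase x₀).erase χ₁, f χ := by
    intro f χ₁ h
    rw [← Finset.add_sum_erase univ f (mem_univ x₀),
      ← Finset.add_sum_erase (univ.erase x₀) f (mem_erase.mpr ⟨h, mem_univ _⟩)]
    ring
  -- |c| ≤ 1
  have hc01 : ∀ χ, -1 ≤ c χ ∧ c χ ≤ 1 := by
    intro χ₁
    by_contra hcon
    have h4 : 4 ≤ c χ₁ ^ 2 := by
      by_cases h : c χ₁ ≤ -2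
      · nlinarith
      · have : 2 ≤ c χ₁ := by
          by_contra h'
          apply hcon
          constructor <;> omega
        nlinarith
    have hne : χ₁ ≠ x₀ := by
      intro h
      rw [h, hc1] at h4
      norm_num at h4
    have h5 := hsplit (fun χ => c χ ^ 2) χ₁ hne
    simp only [hc2, hc1] at h5
    have hnn : 0 ≤ ∑ χ ∈ (univ.erase x₀).erase χ₁, c χ ^ 2 :=
      Finset.sum_nonneg (fun i _ => sq_nonneg _)
    have hrest0 : ∑ χ ∈ (univ.erase x₀).erase χ₁, c χ ^ 2 = 0 := by linarith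
    have hc4 : c χ₁ ^ 2 = 4 := by linarith
    have hz : ∀ χ ∈ (univ.erase x₀).erase χ₁, c χ = 0 := by
      intro χ hχ
      have := (Finset.sum_eq_zero_iff_of_nonneg (fun i _ => sq_nonneg (c i))).mp hrest0 χ hχ
      exact pow_eq_zero_iff (by norm_num) |>.mp this
    have h6 := hsplit (fun χ => c χ * (d χ : ℤ)) χ₁ hne
    simp only [hcd, hc1, hd0] at h6
    have hz2 : ∑ χ ∈ (univ.erase x₀).erase χ₁, c χ * (d χ : ℤ) = 0 := by
      apply Finset.sum_eq_zero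
      intro χ hχ
      rw [hz χ hχ, zero_mul]
    rw [hz2] at h6
    have hc22 : c χ₁ = 2 ∨ c χ₁ = -2 := by
      have : (c χ₁ - 2) * (c χ₁ + 2) = 0 := by linear_combination hc4
      rcases mul_eq_zero.mp this with h | h
      · left; linarith
      · right; linarith
    rcases hc22 with h | h <;> rw [h] at h6 <;> push_cast at h6 <;> omega
  -- the exceptional set
  obtain ⟨θ₁, θ₂, hθne, hSeq⟩ := Finset.card_eq_two.mp hS
  have hθ₁S : θ₁ ∈ S := by rw [hSeq]; simp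
  have hθ₂S : θ₂ ∈ S := by rw [hSeq]; simp
  have hsumS : ∀ f : X → ℤ, ∑ χ, f χ = ∑ χ ∈ Sᶜ, f χ + (f θ₁ + f θ₂) := by
    intro f
    rw [← Finset.sum_compl_add_sum S f, hSeq, Finset.sum_pair hθne]
  have hDeq : d θ₁ = d θ₂ := by
    have h1 := hdeg θ₁ hθ₁S
    have h2 := hdeg θ₂ hθ₂S
    have h3 : ε * ((d θ₁ : ℤ) - (d θ₂ : ℤ)) = 0 := by linear_combination h1 - h2
    rcases hε with rfl | rfl
    · have : (d θ₁ : ℤ) = (d θ₂ : ℤ) := by linarith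
      exact_mod_cast this
    · have : (d θ₁ : ℤ) = (d θ₂ : ℤ) := by linarith
      exact_mod_cast this
  -- the non-exceptional part of the norm
  have hnormU : ∑ χ ∈ Sᶜ, w χ ^ 2 = 5 - 2 * ε * a - 2 * a ^ 2 := by
    have h1 := hsumS (fun χ => w χ ^ 2)
    simp only [hwa θ₁ hθ₁S, hwa θ₂ hθ₂S] at h1
    linarith
  have hx₀U : x₀ ∈ Sᶜ := Finset.mem_compl.mpr htS
  have hwU : ∀ χ ∈ Sᶜ, w χ ^ 2 ≤ 5 - 2 * ε * a - 2 * a ^ 2 := by
    intro χ hχ
    rw [← hnormU]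
    exact Finset.single_le_sum (f := fun χ => w χ ^ 2) (fun i _ => sq_nonneg _) hχ
  have ha_bd : 2 * ε * a + 2 * a ^ 2 ≤ 4 := by
    have := hwU x₀ hx₀U
    rw [hw1] at this
    linarith
  have hε' : 2 * a + ε = 1 ∨ 2 * a + ε = -1 ∨ 2 * a + ε = 3 ∨ 2 * a + ε = -3 := by
    rcases hε with rfl | rfl
    · have h1 : -2 ≤ a := by nlinarith
      have h2 : a ≤ 1 := by nlinarith
      interval_cases a <;> simp
    · have h1 : -1 ≤ a := by nlinarith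
      have h2 : a ≤ 2 := by nlinarith
      interval_cases a <;> simp
  have hw22 : ∀ χ ∈ Sᶜ, -2 ≤ w χ ∧ w χ ≤ 2 := by
    intro χ hχ
    have h1 := hwU χ hχ
    have h2 : w χ ^ 2 ≤ 5 := by
      have : 0 ≤ 2 * ε * a + 2 * a ^ 2 := by
        rcases hε with rfl | rfl
        · nlinarith [sq_nonneg (2 * a + 1)]
        · nlinarith [sq_nonneg (2 * a - 1)]
      linarith
    constructor <;> nlinarith
  -- pointwise tables
  have hptU : ∀ χ ∈ Sᶜ, d χ ∈ ({1, 9, 10, 11, 20, 24, 44, 45, 55, 66} : Finset ℕ) ∧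
      w χ = m11_tw (d χ) ∧ c χ = m11_tc (d χ) := by
    intro χ hχ
    obtain ⟨m, hm⟩ := hcN χ (Finset.mem_compl.mp hχ)
    obtain ⟨k, hk⟩ := hc5 χ
    exact m11_pointwise (d χ) (w χ) (c χ) m k (hdvd χ) (hd88 χ) (hw22 χ hχ) (hc01 χ) hm hk
  -- sums by degree
  have hexp : ∀ F : ℕ → ℤ, ∑ χ ∈ Sᶜ, F (d χ) =
      ((Sᶜ.filter (fun χ => d χ = 1)).card : ℤ) * F 1 +
      ((Sᶜ.filter (fun χ => d χ = 9)).card : ℤ) * F 9 +
      ((Sᶜ.filter (fun χ => d χ = 10)).card : ℤ) * F 10 +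
      ((Sᶜ.filter (fun χ => d χ = 11)).card : ℤ) * F 11 +
      ((Sᶜ.filter (fun χ => d χ = 20)).card : ℤ) * F 20 +
      ((Sᶜ.filter (fun χ => d χ = 24)).card : ℤ) * F 24 +
      ((Sᶜ.filter (fun χ => d χ = 44)).card : ℤ) * F 44 +
      ((Sᶜ.filter (fun χ => d χ = 45)).card : ℤ) * F 45 +
      ((Sᶜ.filter (fun χ => d χ = 55)).card : ℤ) * F 55 +
      ((Sᶜ.filter (fun χ => d χ = 66)).card : ℤ) * F 66 := by
    intro F
    rw [m11_sum_by_degree Sᶜ d _ (fun χ hχ => (hptU χ hχ).1) F]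
    simp [Finset.sum_insert]
    ring
  have hN1 : (Sᶜ.filter (fun χ => d χ = 1)).card = 1 := by
    rw [Finset.card_eq_one]
    refine ⟨x₀, ?_⟩
    ext χ
    rw [Finset.mem_filter, Finset.mem_singleton]
    constructor
    · intro h; exact hd1 χ h.2
    · intro h; rw [h]; exact ⟨hx₀U, hd0⟩
  generalize hn9 : ((Sᶜ.filter (fun χ => d χ = 9)).card : ℤ) = n9 at hexp
  generalize hn10 : ((Sᶜ.filter (fun χ => d χ = 10)).card : ℤ) = n10 at hexp
  generalize hn11 : ((Sᶜ.filter (fun χ => d χ = 11)).card : ℤ) = n11 at hexp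
  generalize hn20 : ((Sᶜ.filter (fun χ => d χ = 20)).card : ℤ) = n20 at hexp
  generalize hn24 : ((Sᶜ.filter (fun χ => d χ = 24)).card : ℤ) = n24 at hexp
  generalize hn44 : ((Sᶜ.filter (fun χ => d χ = 44)).card : ℤ) = n44 at hexp
  generalize hn45 : ((Sᶜ.filter (fun χ => d χ = 45)).card : ℤ) = n45 at hexp
  generalize hn55 : ((Sᶜ.filter (fun χ => d χ = 55)).card : ℤ) = n55 at hexp
  generalize hn66 : ((Sᶜ.filter (fun χ => d χ = 66)).card : ℤ) = n66 at hexp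
  rw [hN1] at hexp
  have hpos : 0 ≤ n9 ∧ 0 ≤ n10 ∧ 0 ≤ n11 ∧ 0 ≤ n20 ∧ 0 ≤ n24 ∧ 0 ≤ n44 ∧ 0 ≤ n45 ∧ 0 ≤ n55 ∧
      0 ≤ n66 := by
    refine ⟨?_, ?_, ?_, ?_, ?_, ?_, ?_, ?_, ?_⟩ <;>
      first
        | (rw [← hn9]; exact Int.natCast_nonneg _)
        | (rw [← hn10]; exact Int.natCast_nonneg _)
        | (rw [← hn11]; exact Int.natCast_nonneg _)
        | (rw [← hn20]; exact Int.natCast_nonneg _)
        | (rw [← hn24]; exact Int.natCast_nonneg _)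
        | (rw [← hn44]; exact Int.natCast_nonneg _)
        | (rw [← hn45]; exact Int.natCast_nonneg _)
        | (rw [← hn55]; exact Int.natCast_nonneg _)
        | (rw [← hn66]; exact Int.natCast_nonneg _)
  -- E1
  have hE1 : 1 + 4 * n9 + n10 + 4 * n20 + 4 * n24 + n45 = 5 - 2 * ε * a - 2 * a ^ 2 := by
    rw [← hnormU]
    have h1 : ∑ χ ∈ Sᶜ, w χ ^ 2 = ∑ χ ∈ Sᶜ, (fun k => m11_tw k ^ 2) (d χ) :=
      Finset.sum_congr rfl (fun χ hχ => by rw [(hptU χ hχ).2.1])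
    rw [h1.trans (hexp (fun k => m11_tw k ^ 2))]
    simp only [m11_tw]
    norm_num
    ring
  -- E2
  have hE2 : 1 - 18 * n9 - 10 * n10 - 40 * n20 + 48 * n24 + 45 * n45 +
      (2 * a + ε) * (d θ₁ : ℤ) = 0 := by
    have h0 := hdeg θ₁ hθ₁S
    rw [hsumS (fun χ => w χ * (d χ : ℤ))] at h0
    simp only [hwa θ₁ hθ₁S, hwa θ₂ hθ₂S, ← hDeq] at h0
    have h1 : ∑ χ ∈ Sᶜ, w χ * (d χ : ℤ) = ∑ χ ∈ Sᶜ, (fun k => m11_tw k * (k : ℤ)) (d χ) :=
      Finset.sum_congr rfl (fun χ hχ => by rw [(hptU χ hχ).2.1])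
    rw [h1.trans (hexp (fun k => m11_tw k * (k : ℤ)))] at h0
    simp only [m11_tw] at h0
    norm_num at h0
    linear_combination h0
  -- E3
  have hE3 : 1 + n9 + n11 + n24 + n44 + n66 + c θ₁ ^ 2 + c θ₂ ^ 2 = 5 := by
    rw [← hc2, hsumS (fun χ => c χ ^ 2)]
    have h1 : ∑ χ ∈ Sᶜ, c χ ^ 2 = ∑ χ ∈ Sᶜ, (fun k => m11_tc k ^ 2) (d χ) :=
      Finset.sum_congr rfl (fun χ hχ => by rw [(hptU χ hχ).2.2])
    rw [h1.trans (hexp (fun k => m11_tc k ^ 2))]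
    simp only [m11_tc]
    norm_num
    ring
  -- E4
  have hE4 : 1 - 9 * n9 + 11 * n11 - 24 * n24 - 44 * n44 + 66 * n66 +
      (c θ₁ + c θ₂) * (d θ₁ : ℤ) = 0 := by
    have h0 := hcd
    rw [hsumS (fun χ => c χ * (d χ : ℤ))] at h0
    simp only [← hDeq] at h0
    have h1 : ∑ χ ∈ Sᶜ, c χ * (d χ : ℤ) = ∑ χ ∈ Sᶜ, (fun k => m11_tc k * (k : ℤ)) (d χ) :=
      Finset.sum_congr rfl (fun χ hχ => by rw [(hptU χ hχ).2.2])
    rw [h1.trans (hexp (fun k => m11_tc k * (k : ℤ)))] at h0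
    simp only [m11_tc] at h0
    norm_num at h0
    linear_combination h0
  -- E5
  have hE5 : 1 + 81 * n9 + 100 * n10 + 121 * n11 + 400 * n20 + 576 * n24 + 1936 * n44 +
      2025 * n45 + 3025 * n55 + 4356 * n66 + 2 * (d θ₁ : ℤ) ^ 2 = 7920 := by
    have h0 := hsq
    rw [hsumS (fun χ => (d χ : ℤ) ^ 2)] at h0
    simp only [← hDeq] at h0
    have h1 : ∑ χ ∈ Sᶜ, (d χ : ℤ) ^ 2 = ∑ χ ∈ Sᶜ, (fun k : ℕ => (k : ℤ) ^ 2) (d χ) := rfl
    rw [h1.trans (hexp (fun k : ℕ => (k : ℤ) ^ 2))] at h0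
    norm_num at h0
    linear_combination h0
  -- exceptional data
  obtain ⟨m₁, hm₁⟩ := hcS θ₁ hθ₁S
  rw [hwa θ₁ hθ₁S] at hm₁
  obtain ⟨k₁, hk₁⟩ := hc5 θ₁
  obtain ⟨k₂, hk₂⟩ := hc5 θ₂
  rw [← hDeq] at hk₂
  have hcc : c θ₂ = c θ₁ := by
    have h1 := hc01 θ₁
    have h2 := hc01 θ₂
    omega
  rw [hcc] at hE3 hE4
  have hexc := m11_pointwise_exc (d θ₁) (2 * a + ε) (c θ₁) m₁ k₁ (hdvd θ₁) (hd88 θ₁) hε'
    (hc01 θ₁) hm₁ hk₁
  have hE1' : 2 * (1 + 4 * n9 + n10 + 4 * n20 + 4 * n24 + n45) = 11 - (2 * a + ε) ^ 2 := by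
    rcases hε with rfl | rfl <;> linear_combination 2 * hE1
  have hkey := m11_arith (d θ₁) (c θ₁) (2 * a + ε) n9 n10 n11 n20 n24 n44 n45 n55 n66
    hpos.1 hpos.2.1 hpos.2.2.1 hpos.2.2.2.1 hpos.2.2.2.2.1 hpos.2.2.2.2.2.1 hpos.2.2.2.2.2.2.1
    hpos.2.2.2.2.2.2.2.1 hpos.2.2.2.2.2.2.2.2 hexc hE1' hE2 hE3 hE4 hE5
  obtain ⟨hD16, h9, h10, h11, h20, h24, h44, h45, h55, h66⟩ := hkey
  rw [h9] at hn9
  rw [h10] at hn10
  rw [h11] at hn11
  rw [h20] at hn20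
  rw [h24] at hn24
  rw [h44] at hn44
  rw [h45] at hn45
  rw [h55] at hn55
  rw [h66] at hn66
  have hD16' : d θ₂ = 16 := by rw [← hDeq]; exact hD16
  -- counting
  have hNother : ∀ k : ℕ, k ∉ ({1, 9, 10, 11, 20, 24, 44, 45, 55, 66} : Finset ℕ) →
      (Sᶜ.filter (fun χ => d χ = k)).card = 0 := by
    intro k hk
    rw [Finset.card_eq_zero, Finset.filter_eq_empty_iff]
    intro χ hχ hdk
    exact hk (hdk ▸ (hptU χ hχ).1)
  have hM16 : (S.filter (fun χ => d χ = 16)).card = 2 := by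
    rw [Finset.filter_true_of_mem, hS]
    intro χ hχ
    rw [hSeq] at hχ
    simp only [Finset.mem_insert, Finset.mem_singleton] at hχ
    rcases hχ with rfl | rfl
    · exact hD16
    · exact hD16'
  have hMother : ∀ k : ℕ, k ≠ 16 → (S.filter (fun χ => d χ = k)).card = 0 := by
    intro k hk
    rw [Finset.card_eq_zero, Finset.filter_eq_empty_iff]
    intro χ hχ hdk
    rw [hSeq] at hχ
    simp only [Finset.mem_insert, Finset.mem_singleton] at hχ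
    rcases hχ with rfl | rfl
    · exact hk (hdk ▸ hD16)
    · exact hk (hdk ▸ hD16')
  have hunion : ∀ k : ℕ, (Finset.univ.filter (fun χ => d χ = k)).card =
      (Sᶜ.filter (fun χ => d χ = k)).card + (S.filter (fun χ => d χ = k)).card := by
    intro k
    rw [← Finset.card_union_of_disjoint]
    · congr 1
      ext χ
      simp only [Finset.mem_filter, Finset.mem_univ, true_and, Finset.mem_union,
        Finset.mem_compl]
      by_cases h : χ ∈ S <;> simp [h]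
    · exact Finset.disjoint_filter_filter disjoint_compl_left
  intro n
  rw [hunion]
  by_cases hn : n ∈ ({1, 9, 10, 11, 16, 20, 24, 44, 45, 55, 66} : Finset ℕ)
  · simp only [Finset.mem_insert, Finset.mem_singleton] at hn
    rcases hn with rfl | rfl | rfl | rfl | rfl | rfl | rfl | rfl | rfl | rfl | rfl
    · rw [hN1, hMother 1 (by norm_num)]; norm_num
    · rw [hMother 9 (by norm_num)]
      have : (Sᶜ.filter (fun χ => d χ = 9)).card = 0 := by exact_mod_cast hn9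
      rw [this]; norm_num
    · rw [hMother 10 (by norm_num)]
      have : (Sᶜ.filter (fun χ => d χ = 10)).card = 3 := by exact_mod_cast hn10
      rw [this]; norm_num
    · rw [hMother 11 (by norm_num)]
      have : (Sᶜ.filter (fun χ => d χ = 11)).card = 1 := by exact_mod_cast hn11
      rw [this]; norm_num
    · rw [hM16, hNother 16 (by decide)]; norm_num
    · rw [hMother 20 (by norm_num)]
      have : (Sᶜ.filter (fun χ => d χ = 20)).card = 0 := by exact_mod_cast hn20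
      rw [this]; norm_num
    · rw [hMother 24 (by norm_num)]
      have : (Sᶜ.filter (fun χ => d χ = 24)).card = 0 := by exact_mod_cast hn24
      rw [this]; norm_num
    · rw [hMother 44 (by norm_num)]
      have : (Sᶜ.filter (fun χ => d χ = 44)).card = 1 := by exact_mod_cast hn44
      rw [this]; norm_num
    · rw [hMother 45 (by norm_num)]
      have : (Sᶜ.filter (fun χ => d χ = 45)).card = 1 := by exact_mod_cast hn45
      rw [this]; norm_num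
    · rw [hMother 55 (by norm_num)]
      have : (Sᶜ.filter (fun χ => d χ = 55)).card = 1 := by exact_mod_cast hn55
      rw [this]; norm_num
    · rw [hMother 66 (by norm_num)]
      have : (Sᶜ.filter (fun χ => d χ = 66)).card = 0 := by exact_mod_cast hn66
      rw [this]; norm_num
  · have h16 : n ≠ 16 := by
      intro h; apply hn; rw [h]; decide
    have hD0 : n ∉ ({1, 9, 10, 11, 20, 24, 44, 45, 55, 66} : Finset ℕ) := by
      intro h
      apply hn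
      exact Finset.mem_of_subset (by decide :
        ({1, 9, 10, 11, 20, 24, 44, 45, 55, 66} : Finset ℕ) ⊆
          {1, 9, 10, 11, 16, 20, 24, 44, 45, 55, 66}) h
    rw [hNother n hD0, hMother n h16]
    simp only [Finset.mem_insert, Finset.mem_singleton, not_or] at hn
    obtain ⟨e1, e9, e10, e11, e16, e20, e24, e44, e45, e55, e66⟩ := hn
    simp [e1, e10, e11, e16, e44, e45, e55]

end Cfsg.Agent.Lib.Helper29
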