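import Mathlib
import Cfsg.Agent.Lib.Helper29.M11G
import Cfsg.Agent.S4429
import Cfsg.Agent.Lib.helper7.BlockInd2
import Cfsg.Agent.Lib.Helper25.CharBound

set_option autoImplicit false

namespace Cfsg.Agent.Lib.Helper29

open Cfsg.Agent.Lib.Helper11 Cfsg.Agent.Lib.helper7 Cfsg.Agent.Lib.Helper25 Cfsg.Agent.Lib.helper2
open Cfsg.Agent.Lib.helper8 Cfsg.Agent.Lib.helper23 Cfsg.Agent.Lib.Helper24
open Cfsg.Agent.Lib.Helper26
open Cfsg.Agent.Lib.Helper11.TISylCong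

/-- indicator of the degrees not divisible by 5 -/
def m11_F (n : ℕ) : ℤ := if n = 1 ∨ n = 11 ∨ n = 16 ∨ n = 44 then 1 else 0

theorem m11_cval_arith (n : ℕ) (c k : ℤ)
    (hn : n ∈ ({1, 10, 11, 16, 44, 45, 55} : Finset ℕ)) (h5 : (n : ℤ) + 4 * c = 5 * k) :
    0 ≤ c ^ 2 - m11_F n ∧ (c ^ 2 - m11_F n = 0 →
      ((n = 1 ∨ n = 11 ∨ n = 16) ∧ c = 1 ∨ n = 44 ∧ c = -1 ∨
        (n = 10 ∨ n = 45 ∨ n = 55) ∧ c = 0)) := by
  have hsq1 : c ^ 2 - 1 = 0 → c = 1 ∨ c = -1 := by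
    intro h
    have h1 : (c - 1) * (c + 1) = 0 := by ring_nf; ring_nf at h; linarith
    rcases mul_eq_zero.mp h1 with h2 | h2
    · left; omega
    · right; omega
  have hsq0 : c ^ 2 - 0 = 0 → c = 0 := by
    intro h
    have : c ^ 2 = 0 := by linarith
    exact pow_eq_zero_iff (by norm_num) |>.mp this
  have hge : c ≠ 0 → 0 ≤ c ^ 2 - 1 := by
    intro h
    have h1 : c ≤ -1 ∨ 1 ≤ c := by omega
    rcases h1 with h1 | h1 <;> nlinarith
  simp only [Finset.mem_insert, Finset.mem_singleton] at hn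
  rcases hn with rfl | rfl | rfl | rfl | rfl | rfl | rfl
  · have hF : m11_F 1 = 1 := by decide
    rw [hF]
    refine ⟨hge (by omega), fun h => ?_⟩
    rcases hsq1 h with h1 | h1
    · left; exact ⟨by left; rfl, h1⟩
    · exfalso; rw [h1] at h5; omega
  · have hF : m11_F 10 = 0 := by decide
    rw [hF]
    refine ⟨by nlinarith [sq_nonneg c], fun h => ?_⟩
    right; right; exact ⟨by left; rfl, hsq0 h⟩
  · have hF : m11_F 11 = 1 := by decide
    rw [hF]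
    refine ⟨hge (by omega), fun h => ?_⟩
    rcases hsq1 h with h1 | h1
    · left; exact ⟨by right; left; rfl, h1⟩
    · exfalso; rw [h1] at h5; omega
  · have hF : m11_F 16 = 1 := by decide
    rw [hF]
    refine ⟨hge (by omega), fun h => ?_⟩
    rcases hsq1 h with h1 | h1
    · left; exact ⟨by right; right; rfl, h1⟩
    · exfalso; rw [h1] at h5; omega
  · have hF : m11_F 44 = 1 := by decide
    rw [hF]
    refine ⟨hge (by omega), fun h => ?_⟩
    rcases hsq1 h with h1 | h1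
    · exfalso; rw [h1] at h5; omega
    · right; left; exact ⟨rfl, h1⟩
  · have hF : m11_F 45 = 0 := by decide
    rw [hF]
    refine ⟨by nlinarith [sq_nonneg c], fun h => ?_⟩
    right; right; exact ⟨by right; left; rfl, hsq0 h⟩
  · have hF : m11_F 55 = 0 := by decide
    rw [hF]
    refine ⟨by nlinarith [sq_nonneg c], fun h => ?_⟩
    right; right; exact ⟨by right; right; rfl, hsq0 h⟩

open scoped ComplexConjugate in
/-- the column of an element of order 5 in the character table -/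
theorem m11_char_setup {G : Type*} [Group G] [Finite G] [IsSimpleGroup G] [Fintype G]
    [Fintype (Cfsg.IrrCharacter G)] (hG : Nat.card G = 7920) (x₀ : G) (hx₀ : orderOf x₀ = 5) :
    Nat.card (Subgroup.centralizer ({x₀} : Set G)) = 5 ∧
    ∃ (χ₁₁ χ₄₄ : Cfsg.IrrCharacter G), Cfsg.charDegree (χ₁₁ : G → ℂ) = 11 ∧
      Cfsg.charDegree (χ₄₄ : G → ℂ) = 44 ∧
      ∀ f : Cfsg.IrrCharacter G → ℂ,
        (∀ ψ : Cfsg.IrrCharacter G, Cfsg.charDegree (ψ : G → ℂ) = 16 → f ψ = 0) →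
        ∑ ψ : Cfsg.IrrCharacter G, conj ((ψ : G → ℂ) x₀) * f ψ =
          f (trivIrr G) + f χ₁₁ - f χ₄₄ := by
  classical
  haveI : Fact (Nat.Prime 5) := ⟨by norm_num⟩
  have hx1 : x₀ ≠ 1 := by
    intro h; rw [h, orderOf_one] at hx₀; omega
  have hpg : IsPGroup 5 (Subgroup.zpowers x₀) :=
    IsPGroup.of_card (n := 1) (by rw [Nat.card_zpowers, hx₀]; norm_num)
  obtain ⟨Q, hQle⟩ := hpg.exists_le_sylow
  have hxQ : x₀ ∈ (Q : Subgroup G) := hQle (Subgroup.mem_zpowers x₀)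
  obtain ⟨hQ, _, _, _⟩ := m11_syl5 hG Q
  obtain ⟨hcx, hconj⟩ := m11_q5_conj hG Q x₀ hxQ hx1
  haveI : Fintype ↥(Q : Subgroup G) := Fintype.ofFinite _
  obtain ⟨c, hc, hc2, hcd, hc5, hc1⟩ :=
    m11_rational_class 5 (Q : Subgroup G) hQ x₀ hx1 hconj hcx
  refine ⟨hcx, ?_⟩
  obtain ⟨_, hcnt⟩ := Cfsg.Agent.S4429.result hG
  have hcount : ∀ n : ℕ, (Finset.univ.filter
      (fun χ : Cfsg.IrrCharacter G => Cfsg.charDegree (χ : G → ℂ) = n)).card =
      (if n = 1 ∨ n = 11 ∨ n = 44 ∨ n = 45 ∨ n = 55 then 1 else if n = 10 then 3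
        else if n = 16 then 2 else 0) := by
    intro n
    rw [← hcnt n, Nat.card_eq_fintype_card, Fintype.card_subtype]
  have hmem : ∀ χ ∈ (Finset.univ : Finset (Cfsg.IrrCharacter G)),
      Cfsg.charDegree (χ : G → ℂ) ∈ ({1, 10, 11, 16, 44, 45, 55} : Finset ℕ) := by
    intro χ _
    by_contra hcon
    have h0 := hcount (Cfsg.charDegree (χ : G → ℂ))
    simp only [Finset.mem_insert, Finset.mem_singleton, not_or] at hcon
    obtain ⟨e1, e10, e11, e16, e44, e45, e55⟩ := hcon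
    simp only [e1, e10, e11, e16, e44, e45, e55, or_self, if_false] at h0
    have : χ ∈ Finset.univ.filter (fun ψ : Cfsg.IrrCharacter G =>
        Cfsg.charDegree (ψ : G → ℂ) = Cfsg.charDegree (χ : G → ℂ)) := by
      simp
    rw [Finset.card_eq_zero] at h0
    rw [h0] at this
    simp at this
  have hF : ∑ χ : Cfsg.IrrCharacter G, m11_F (Cfsg.charDegree (χ : G → ℂ)) = 5 := by
    rw [m11_sum_by_degree Finset.univ (fun χ : Cfsg.IrrCharacter G => Cfsg.charDegree (χ : G → ℂ))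
      _ hmem m11_F]
    simp only [hcount]
    decide
  have harith : ∀ χ : Cfsg.IrrCharacter G, 0 ≤ c χ ^ 2 - m11_F (Cfsg.charDegree (χ : G → ℂ)) ∧
      (c χ ^ 2 - m11_F (Cfsg.charDegree (χ : G → ℂ)) = 0 →
      ((Cfsg.charDegree (χ : G → ℂ) = 1 ∨ Cfsg.charDegree (χ : G → ℂ) = 11 ∨
        Cfsg.charDegree (χ : G → ℂ) = 16) ∧ c χ = 1 ∨
        Cfsg.charDegree (χ : G → ℂ) = 44 ∧ c χ = -1 ∨
        (Cfsg.charDegree (χ : G → ℂ) = 10 ∨ Cfsg.charDegree (χ : G → ℂ) = 45 ∨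
          Cfsg.charDegree (χ : G → ℂ) = 55) ∧ c χ = 0)) := by
    intro χ
    obtain ⟨k, hk⟩ := hc5 χ
    exact m11_cval_arith _ (c χ) k (hmem χ (Finset.mem_univ _)) (by push_cast at hk; linarith)
  have hzero : ∀ χ : Cfsg.IrrCharacter G,
      c χ ^ 2 - m11_F (Cfsg.charDegree (χ : G → ℂ)) = 0 := by
    have hs : ∑ χ : Cfsg.IrrCharacter G,
        (c χ ^ 2 - m11_F (Cfsg.charDegree (χ : G → ℂ))) = 0 := by
      rw [Finset.sum_sub_distrib, hc2, hF]; norm_num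
    intro χ
    exact (Finset.sum_eq_zero_iff_of_nonneg (fun χ _ => (harith χ).1)).mp hs χ
      (Finset.mem_univ _)
  have hcval := fun χ => (harith χ).2 (hzero χ)
  -- the unique characters of degrees 1, 11, 44
  obtain ⟨χ₁, hχ₁⟩ := Finset.card_eq_one.mp (by rw [hcount 1]; simp :
    (Finset.univ.filter
      (fun χ : Cfsg.IrrCharacter G => Cfsg.charDegree (χ : G → ℂ) = 1)).card = 1)
  obtain ⟨χ₁₁, hχ₁₁⟩ := Finset.card_eq_one.mp (by rw [hcount 11]; simp :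
    (Finset.univ.filter
      (fun χ : Cfsg.IrrCharacter G => Cfsg.charDegree (χ : G → ℂ) = 11)).card = 1)
  obtain ⟨χ₄₄, hχ₄₄⟩ := Finset.card_eq_one.mp (by rw [hcount 44]; simp :
    (Finset.univ.filter
      (fun χ : Cfsg.IrrCharacter G => Cfsg.charDegree (χ : G → ℂ) = 44)).card = 1)
  have htriv : χ₁ = trivIrr G := by
    have : trivIrr G ∈ Finset.univ.filter
        (fun χ : Cfsg.IrrCharacter G => Cfsg.charDegree (χ : G → ℂ) = 1) := by
      rw [Finset.mem_filter]; exact ⟨Finset.mem_univ _, exc_degree_triv G⟩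
    rw [hχ₁, Finset.mem_singleton] at this
    exact this.symm
  have hd11 : Cfsg.charDegree (χ₁₁ : G → ℂ) = 11 := by
    have : χ₁₁ ∈ Finset.univ.filter
        (fun χ : Cfsg.IrrCharacter G => Cfsg.charDegree (χ : G → ℂ) = 11) := by
      rw [hχ₁₁]; exact Finset.mem_singleton_self _
    exact (Finset.mem_filter.mp this).2
  have hd44 : Cfsg.charDegree (χ₄₄ : G → ℂ) = 44 := by
    have : χ₄₄ ∈ Finset.univ.filter
        (fun χ : Cfsg.IrrCharacter G => Cfsg.charDegree (χ : G → ℂ) = 44) := by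
      rw [hχ₄₄]; exact Finset.mem_singleton_self _
    exact (Finset.mem_filter.mp this).2
  refine ⟨χ₁₁, χ₄₄, hd11, hd44, ?_⟩
  intro f hf
  have hconjc : ∀ ψ : Cfsg.IrrCharacter G, conj ((ψ : G → ℂ) x₀) * f ψ = (c ψ : ℂ) * f ψ := by
    intro ψ; rw [hc ψ, map_intCast]
  rw [Finset.sum_congr rfl (fun ψ _ => hconjc ψ)]
  rw [← Finset.sum_fiberwise_of_maps_to hmem]
  have hcv1 : ∀ ψ : Cfsg.IrrCharacter G, Cfsg.charDegree (ψ : G → ℂ) = 1 → c ψ = 1 := by
    intro ψ h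
    rcases hcval ψ with ⟨_, h2⟩ | ⟨h1, _⟩ | ⟨h1, _⟩
    · exact h2
    · omega
    · omega
  have hcv11 : ∀ ψ : Cfsg.IrrCharacter G, Cfsg.charDegree (ψ : G → ℂ) = 11 → c ψ = 1 := by
    intro ψ h
    rcases hcval ψ with ⟨_, h2⟩ | ⟨h1, _⟩ | ⟨h1, _⟩
    · exact h2
    · omega
    · omega
  have hcv44 : ∀ ψ : Cfsg.IrrCharacter G, Cfsg.charDegree (ψ : G → ℂ) = 44 → c ψ = -1 := by
    intro ψ h
    rcases hcval ψ with ⟨h1, _⟩ | ⟨_, h2⟩ | ⟨h1, _⟩
    · omega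
    · exact h2
    · omega
  have hcv0 : ∀ ψ : Cfsg.IrrCharacter G, (Cfsg.charDegree (ψ : G → ℂ) = 10 ∨
      Cfsg.charDegree (ψ : G → ℂ) = 45 ∨ Cfsg.charDegree (ψ : G → ℂ) = 55) → c ψ = 0 := by
    intro ψ h
    rcases hcval ψ with ⟨h1, _⟩ | ⟨h1, _⟩ | ⟨_, h2⟩
    · omega
    · omega
    · exact h2
  have e1 : ∑ ψ ∈ Finset.univ.filter
      (fun χ : Cfsg.IrrCharacter G => Cfsg.charDegree (χ : G → ℂ) = 1), (c ψ : ℂ) * f ψ =
      f (trivIrr G) := by
    rw [hχ₁, Finset.sum_singleton, htriv, hc1]; simp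
  have e11 : ∑ ψ ∈ Finset.univ.filter
      (fun χ : Cfsg.IrrCharacter G => Cfsg.charDegree (χ : G → ℂ) = 11), (c ψ : ℂ) * f ψ =
      f χ₁₁ := by
    rw [hχ₁₁, Finset.sum_singleton, hcv11 χ₁₁ hd11]; simp
  have e44 : ∑ ψ ∈ Finset.univ.filter
      (fun χ : Cfsg.IrrCharacter G => Cfsg.charDegree (χ : G → ℂ) = 44), (c ψ : ℂ) * f ψ =
      - f χ₄₄ := by
    rw [hχ₄₄, Finset.sum_singleton, hcv44 χ₄₄ hd44]; simp
  have e16 : ∑ ψ ∈ Finset.univ.filter
      (fun χ : Cfsg.IrrCharacter G => Cfsg.charDegree (χ : G → ℂ) = 16), (c ψ : ℂ) * f ψ = 0 := by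
    apply Finset.sum_eq_zero
    intro ψ hψ
    rw [hf ψ (Finset.mem_filter.mp hψ).2, mul_zero]
  have e0 : ∀ n : ℕ, (n = 10 ∨ n = 45 ∨ n = 55) → ∑ ψ ∈ Finset.univ.filter
      (fun χ : Cfsg.IrrCharacter G => Cfsg.charDegree (χ : G → ℂ) = n), (c ψ : ℂ) * f ψ = 0 := by
    intro n hn
    apply Finset.sum_eq_zero
    intro ψ hψ
    have h1 := (Finset.mem_filter.mp hψ).2
    rw [hcv0 ψ (by rw [h1]; exact hn)]
    simp
  rw [Finset.sum_insert (by decide), Finset.sum_insert (by decide), Finset.sum_insert (by decide),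
    Finset.sum_insert (by decide), Finset.sum_insert (by decide), Finset.sum_insert (by decide),
    Finset.sum_singleton, e1, e11, e44, e16, e0 10 (by left; rfl), e0 45 (by right; left; rfl),
    e0 55 (by right; right; rfl)]
  ring

end Cfsg.Agent.Lib.Helper29
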