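import Mathlib
import Cfsg.Agent.Lib.Helper29.M11H
import Cfsg.Agent.Lib.Helper25.ConstDiff
import Cfsg.Agent.Lib.Helper25.CharOrth
import Cfsg.Agent.Lib.helper2.PModular2

set_option autoImplicit false

namespace Cfsg.Agent.Lib.Helper29

open Cfsg.Agent.Lib.Helper11 Cfsg.Agent.Lib.helper7 Cfsg.Agent.Lib.Helper25 Cfsg.Agent.Lib.helper2
open Cfsg.Agent.Lib.helper8 Cfsg.Agent.Lib.helper23 Cfsg.Agent.Lib.Helper24
open Cfsg.Agent.Lib.Helper26
open Cfsg.Agent.Lib.Helper11.TISylCong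

open scoped ComplexConjugate in
open Classical in
/-- the class multiplication coefficient formula for an involution `u` and an element `x₀` of
order 5 -/
theorem m11_invol_formula {G : Type*} [Group G] [Finite G] [IsSimpleGroup G] [Fintype G]
    [Fintype (Cfsg.IrrCharacter G)] (hG : Nat.card G = 7920) (x₀ : G) (hx₀ : orderOf x₀ = 5)
    (u : G) (hu : orderOf u = 2) :
    ∃ e : ℤ, -11 ≤ e ∧ e ≤ 11 ∧
      220 * (((Cl u ×ˢ Cl u).filter (fun w : G × G => IsConj x₀ (w.1 * w.2))).card : ℤ) *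
        (Nat.card (Subgroup.centralizer ({u} : Set G)) : ℤ) ^ 2 =
        7920 ^ 2 * (3 * e ^ 2 - 2 * e + 43) := by
  obtain ⟨hcx, χ₁₁, χ₄₄, hd11, hd44, hsum⟩ := m11_char_setup hG x₀ hx₀
  have hu1 : u ≠ 1 := by
    intro h; rw [h, orderOf_one] at hu; omega
  -- integrality
  obtain ⟨e, he⟩ : ∃ e : ℤ, (χ₁₁ : G → ℂ) u = e := by
    apply value_int (isCharacter_of_irr χ₁₁) (Subgroup.zpowers u) _ (Subgroup.mem_zpowers u) hu1
    intro z hz z' hz' hz1 hz1'
    rcases cdf_mem_zpowers_order_two u z hu hz with h | h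
    · exact absurd h hz1
    rcases cdf_mem_zpowers_order_two u z' hu hz' with h' | h'
    · exact absurd h' hz1'
    rw [h, h']
  have hbound : -11 ≤ e ∧ e ≤ 11 := by
    have h1 := irr_norm_le χ₁₁ u
    rw [he, ← (charDegree_irr χ₁₁).1, hd11] at h1
    rw [Complex.norm_intCast, Complex.norm_natCast] at h1
    have h2 := abs_le.mp h1
    push_cast at h2
    constructor
    · have : ((-11 : ℤ) : ℝ) ≤ (e : ℝ) := by push_cast; linarith [h2.1]
      exact_mod_cast this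
    · have : (e : ℝ) ≤ ((11 : ℤ) : ℝ) := by push_cast; linarith [h2.2]
      exact_mod_cast this
  refine ⟨e, hbound.1, hbound.2, ?_⟩
  -- vanishing of the characters of degree 16 on involutions
  haveI : Fact (Nat.Prime 2) := ⟨Nat.prime_two⟩
  obtain ⟨M, hM⟩ := exists_isPModular 2 Nat.prime_two
  have h16 : ∀ ψ : Cfsg.IrrCharacter G, Cfsg.charDegree (ψ : G → ℂ) = 16 →
      (ψ : G → ℂ) u = 0 := by
    intro ψ h
    exact h7_defect_zero_vanish hM ψ (by rw [hG, h]; norm_num) u (by rw [hu])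
  -- column orthogonality between u and x₀
  have hnc : ¬ IsConj x₀ u := by
    intro h
    have := og_orderOf_of_isConj h
    rw [hu, hx₀] at this; omega
  have hO1 := irr_column_orthogonality u x₀
  rw [if_neg hnc] at hO1
  have h44 : (χ₄₄ : G → ℂ) u = 1 + e := by
    have h := hsum (fun ψ => (ψ : G → ℂ) u) h16
    simp only [trivIrr_apply] at h
    have h' : ∑ ψ : Cfsg.IrrCharacter G, conj ((ψ : G → ℂ) x₀) * (ψ : G → ℂ) u = 0 := by
      rw [← hO1]; apply Finset.sum_congr rfl; intros; ring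
    rw [h', he] at h
    linear_combination h
  -- the class multiplication coefficient
  set K : ℕ := ((Cl u ×ˢ Cl u).filter (fun w : G × G => IsConj x₀ (w.1 * w.2))).card with hKdef
  set C : ℕ := Nat.card (Subgroup.centralizer ({u} : Set G)) with hCdef
  have hSS : ∀ ψ : Cfsg.IrrCharacter G, (C : ℂ) * (C : ℂ) * SS (ψ : G → ℂ) u u =
      (7920 : ℂ) ^ 2 * (ψ : G → ℂ) u * (ψ : G → ℂ) u / (ψ : G → ℂ) 1 := by
    intro ψ
    have := SS_eq ψ u u
    rw [hG] at this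
    rw [this]; norm_num
  have hmain := hsum (fun ψ => (7920 : ℂ) ^ 2 * (ψ : G → ℂ) u * (ψ : G → ℂ) u / (ψ : G → ℂ) 1)
    (by intro ψ h; simp [h16 ψ h])
  have hK : ∑ ψ : Cfsg.IrrCharacter G, conj ((ψ : G → ℂ) x₀) * SS (ψ : G → ℂ) u u =
      5 * (K : ℂ) := by
    have h1 : ∀ ψ : Cfsg.IrrCharacter G, conj ((ψ : G → ℂ) x₀) * SS (ψ : G → ℂ) u u =
        ∑ w ∈ Cl u ×ˢ Cl u, (ψ : G → ℂ) (w.1 * w.2) * conj ((ψ : G → ℂ) x₀) := by
      intro ψ
      unfold SS
      rw [Finset.sum_product, Finset.mul_sum]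
      apply Finset.sum_congr rfl; intro x _
      rw [Finset.mul_sum]
      apply Finset.sum_congr rfl; intro y _
      ring
    rw [Finset.sum_congr rfl (fun ψ _ => h1 ψ), Finset.sum_comm]
    have h2 : ∀ w ∈ Cl u ×ˢ Cl u, ∑ ψ : Cfsg.IrrCharacter G,
        (ψ : G → ℂ) (w.1 * w.2) * conj ((ψ : G → ℂ) x₀) =
        if IsConj x₀ (w.1 * w.2) then (5 : ℂ) else 0 := by
      intro w _
      rw [irr_column_orthogonality (w.1 * w.2) x₀, hcx]; norm_num
    rw [Finset.sum_congr rfl h2, Finset.sum_ite, Finset.sum_const, Finset.sum_const_zero,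
      add_zero, nsmul_eq_mul]
    ring
  have hcomb : (C : ℂ) * (C : ℂ) * (5 * (K : ℂ)) =
      (7920 : ℂ) ^ 2 * (1 + (e : ℂ) ^ 2 / 11 - (1 + (e : ℂ)) ^ 2 / 44) := by
    calc (C : ℂ) * (C : ℂ) * (5 * (K : ℂ))
        = ∑ ψ : Cfsg.IrrCharacter G, conj ((ψ : G → ℂ) x₀) *
            ((C : ℂ) * (C : ℂ) * SS (ψ : G → ℂ) u u) := by
          rw [← hK, Finset.mul_sum]; apply Finset.sum_congr rfl; intros; ring
      _ = ∑ ψ : Cfsg.IrrCharacter G, conj ((ψ : G → ℂ) x₀) *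
            ((7920 : ℂ) ^ 2 * (ψ : G → ℂ) u * (ψ : G → ℂ) u / (ψ : G → ℂ) 1) := by
          apply Finset.sum_congr rfl; intro ψ _; rw [hSS ψ]
      _ = _ := hmain
      _ = _ := by
          simp only [trivIrr_apply, he, h44, ← (charDegree_irr χ₁₁).1, ← (charDegree_irr χ₄₄).1,
            hd11, hd44]
          push_cast
          ring
  have hfin : ((220 * (K : ℤ) * (C : ℤ) ^ 2 : ℤ) : ℂ) =
      ((7920 ^ 2 * (3 * e ^ 2 - 2 * e + 43) : ℤ) : ℂ) := by
    push_cast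
    linear_combination 44 * hcomb
  exact_mod_cast hfin

end Cfsg.Agent.Lib.Helper29
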