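import Mathlib
import Cfsg.Agent.Lib.Helper29.M11I
import Cfsg.Agent.Lib.Helper11.FixedCount

set_option autoImplicit false

namespace Cfsg.Agent.Lib.Helper29

open Cfsg.Agent.Lib.Helper11 Cfsg.Agent.Lib.helper7 Cfsg.Agent.Lib.Helper25 Cfsg.Agent.Lib.helper2
open Cfsg.Agent.Lib.helper8 Cfsg.Agent.Lib.helper23 Cfsg.Agent.Lib.Helper24
open Cfsg.Agent.Lib.Helper26
open Cfsg.Agent.Lib.Helper11.TISylCong

theorem m11_final_arith (n : ℕ) (e : ℤ) (h1 : -11 ≤ e) (h2 : e ≤ 11)
    (h : (n : ℤ) ^ 2 = 36 * (3 * e ^ 2 - 2 * e + 43)) : n = 48 := by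
  have hpos : 0 ≤ 3 * e ^ 2 - 2 * e + 43 := by nlinarith [sq_nonneg (e - 1)]
  obtain ⟨m, hm⟩ : ∃ m : ℕ, (m : ℤ) = 3 * e ^ 2 - 2 * e + 43 :=
    ⟨(3 * e ^ 2 - 2 * e + 43).toNat, Int.toNat_of_nonneg hpos⟩
  have h36 : 6 ^ 2 ∣ n ^ 2 := by
    have : ((n ^ 2 : ℕ) : ℤ) = ((36 * m : ℕ) : ℤ) := by push_cast; rw [h, hm]
    have h3 : n ^ 2 = 36 * m := by exact_mod_cast this
    rw [h3]; exact ⟨m, by norm_num⟩
  have h6 : 6 ∣ n := (Nat.pow_dvd_pow_iff (by norm_num)).mp h36
  obtain ⟨k, rfl⟩ := h6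
  have hk : (k : ℤ) ^ 2 = 3 * e ^ 2 - 2 * e + 43 := by
    push_cast at h; nlinarith
  have hk20 : k ≤ 20 := by
    by_contra hcon
    have : (21 : ℤ) ≤ k := by exact_mod_cast (not_le.mp hcon)
    nlinarith
  have key : ∀ e ∈ Finset.Icc (-11 : ℤ) 11, ∀ k ∈ Finset.range 21,
      (k : ℤ) ^ 2 = 3 * e ^ 2 - 2 * e + 43 → k = 8 := by decide
  have := key e (Finset.mem_Icc.mpr ⟨h1, h2⟩) k (Finset.mem_range.mpr (by omega)) hk
  rw [this]

/-- the centralizer of an involution in a simple group of order 7920 has order 48, and all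
involutions are conjugate -/
theorem m11_invol_centralizer {G : Type*} [Group G] [Finite G] [IsSimpleGroup G]
    (hG : Nat.card G = 7920) :
    (∀ x : G, orderOf x = 2 → Nat.card (Subgroup.centralizer ({x} : Set G)) = 48) ∧
    ∀ x y : G, orderOf x = 2 → orderOf y = 2 → IsConj x y := by
  classical
  haveI : Fact (Nat.Prime 5) := ⟨by norm_num⟩
  haveI : Fintype G := Fintype.ofFinite G
  haveI : Fintype (Cfsg.IrrCharacter G) := Fintype.ofFinite _
  obtain ⟨Q⟩ : Nonempty (Sylow 5 G) := inferInstance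
  obtain ⟨hQ, _, hNQ, _⟩ := m11_syl5 hG Q
  obtain ⟨x', hx'⟩ := exists_prime_orderOf_dvd_card' 5
    (by rw [hQ] : 5 ∣ Nat.card (Q : Subgroup G))
  obtain ⟨x₀, hx₀def⟩ : ∃ x₀ : G, x₀ = (x' : G) := ⟨_, rfl⟩
  have hx₀ : orderOf x₀ = 5 := by rw [hx₀def, Subgroup.orderOf_coe]; exact hx'
  have hx₀Q : x₀ ∈ (Q : Subgroup G) := by rw [hx₀def]; exact x'.2
  have hx₀1 : x₀ ≠ 1 := by
    intro h; rw [h, orderOf_one] at hx₀; omega
  have hzx : Subgroup.zpowers x₀ = (Q : Subgroup G) :=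
    h8_zpowers_eq_of_prime_card 5 (by norm_num) (Q : Subgroup G) hQ x₀ hx₀Q hx₀1
  obtain ⟨t, htN, ht2⟩ := m11_exists_invol_normalizer hG Q
  have hsq_of : ∀ r : G, orderOf r = 2 → r * r = 1 := by
    intro r hr
    rw [← pow_two, ← hr]; exact pow_orderOf_eq_one _
  -- all involutions are conjugate to t
  have hall : ∀ u : G, orderOf u = 2 → IsConj t u := by
    intro u hu
    obtain ⟨e, _, _, hform⟩ := m11_invol_formula hG x₀ hx₀ u hu
    have hKpos : ((Cl u ×ˢ Cl u).filter (fun w : G × G => IsConj x₀ (w.1 * w.2))).Nonempty := by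
      rw [← Finset.card_pos]
      by_contra h
      have h0 : ((Cl u ×ˢ Cl u).filter (fun w : G × G => IsConj x₀ (w.1 * w.2))).card = 0 := by
        omega
      rw [h0] at hform
      have hp : 0 < 3 * e ^ 2 - 2 * e + 43 := by nlinarith [sq_nonneg (e - 1), sq_nonneg e]
      have hp2 := mul_pos (by norm_num : (0 : ℤ) < 7920 ^ 2) hp
      rw [← hform] at hp2
      simp at hp2
    obtain ⟨w, hw⟩ := hKpos
    rw [Finset.mem_filter, Finset.mem_product, mem_Cl, mem_Cl] at hw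
    obtain ⟨⟨h1, h2⟩, h3⟩ := hw
    obtain ⟨g, hg⟩ := isConj_iff.mp h3
    obtain ⟨r, hrdef⟩ : ∃ r : G, r = g⁻¹ * w.1 * g := ⟨_, rfl⟩
    obtain ⟨s, hsdef⟩ : ∃ s : G, s = g⁻¹ * w.2 * g := ⟨_, rfl⟩
    have hr2 : orderOf r = 2 := by
      have hc : IsConj w.1 r := isConj_iff.mpr ⟨g⁻¹, by rw [hrdef]; group⟩
      rw [og_orderOf_of_isConj hc, og_orderOf_of_isConj h1, hu]
    have hs2 : orderOf s = 2 := by
      have hc : IsConj w.2 s := isConj_iff.mpr ⟨g⁻¹, by rw [hsdef]; group⟩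
      rw [og_orderOf_of_isConj hc, og_orderOf_of_isConj h2, hu]
    have hrs : r * s = x₀ := by
      rw [hrdef, hsdef]
      calc (g⁻¹ * w.1 * g) * (g⁻¹ * w.2 * g) = g⁻¹ * (w.1 * w.2) * g := by group
        _ = g⁻¹ * (g * x₀ * g⁻¹) * g := by rw [hg]
        _ = x₀ := by group
    have hrr := hsq_of r hr2
    have hss := hsq_of s hs2
    have hrinv : r⁻¹ = r := inv_eq_of_mul_eq_one_right hrr
    have hsinv : s⁻¹ = s := inv_eq_of_mul_eq_one_right hss
    have hinv : r * x₀ * r⁻¹ = x₀⁻¹ := by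
      rw [← hrs, mul_inv_rev, hrinv, hsinv]
      calc r * (r * s) * r = (r * r) * s * r := by simp only [mul_assoc]
        _ = s * r := by rw [hrr, one_mul]
    have hN := m11_mem_normalizer_of_inverts Q x₀ r hzx hrr hinv
    have hq := m11_invol_normalizer_mul hG Q t r htN ht2 hN hr2
    obtain ⟨_, hconj, _⟩ := m11_invol_mul_mem hG Q t htN ht2 (t * r) hq
    have e1 : t * (t * r) = r := by rw [← mul_assoc, hsq_of t ht2, one_mul]
    rw [e1] at hconj
    -- r is conjugate to w.1 which is conjugate to u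
    have hc : IsConj w.1 r := isConj_iff.mpr ⟨g⁻¹, by rw [hrdef]; group⟩
    exact hconj.trans (hc.symm.trans h1.symm)
  -- the exact count
  obtain ⟨e, he1, he2, hform⟩ := m11_invol_formula hG x₀ hx₀ t ht2
  have hcx := (m11_char_setup hG x₀ hx₀).1
  have hK : ((Cl t ×ˢ Cl t).filter (fun w : G × G => IsConj x₀ (w.1 * w.2))).card = 7920 := by
    rw [Finset.card_eq_sum_card_fiberwise (f := fun w : G × G => w.1 * w.2) (t := Cl x₀)
      (by intro w hw; exact mem_Cl.mpr (Finset.mem_filter.mp hw).2)]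
    have h5 : ∀ g ∈ Cl x₀, (((Cl t ×ˢ Cl t).filter
        (fun w : G × G => IsConj x₀ (w.1 * w.2))).filter
        (fun w : G × G => w.1 * w.2 = g)).card = 5 := by
      intro g hg
      rw [Finset.filter_filter]
      have hset : (Cl t ×ˢ Cl t).filter
          (fun w : G × G => IsConj x₀ (w.1 * w.2) ∧ w.1 * w.2 = g) =
          (Cl t ×ˢ Cl t).filter (fun w : G × G => w.1 * w.2 = g) := by
        apply Finset.filter_congr
        intro w _
        constructor
        · exact And.right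
        · intro h
          exact ⟨h ▸ mem_Cl.mp hg, h⟩
      rw [hset]
      exact m11_pairs_five hG t hall ht2 g (by rw [og_orderOf_of_isConj (mem_Cl.mp hg), hx₀])
    rw [Finset.sum_congr rfl h5, Finset.sum_const, smul_eq_mul, card_Cl_eq_index]
    have := Subgroup.card_mul_index (Subgroup.centralizer ({x₀} : Set G))
    rw [hcx, hG] at this
    omega
  rw [hK] at hform
  have hCt : Nat.card (Subgroup.centralizer ({t} : Set G)) = 48 := by
    apply m11_final_arith _ e he1 he2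
    push_cast at hform ⊢
    linarith
  constructor
  · intro x hx
    rw [card_centralizer_of_isConj (hall x hx), hCt]
  · intro x y hx hy
    exact (hall x hx).symm.trans (hall y hy)

end Cfsg.Agent.Lib.Helper29
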