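import Mathlib
import Cfsg.Agent.Lib.Helper29.M11J

set_option autoImplicit false

namespace Cfsg.Agent.Lib.Helper29

open Cfsg.Agent.Lib.helper8 Cfsg.Agent.Lib.helper23

variable {G : Type*} [Group G] [Finite G] [IsSimpleGroup G]

/-- the centralizer of an element of order 5 has order 5 -/
theorem m11_card_cent5 (hG : Nat.card G = 7920) (x : G) (hx : orderOf x = 5) :
    Nat.card (Subgroup.centralizer ({x} : Set G)) = 5 := by
  classical
  haveI : Fintype G := Fintype.ofFinite G
  haveI : Fintype (Cfsg.IrrCharacter G) := Fintype.ofFinite _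
  exact (m11_char_setup hG x hx).1

/-- no element of order different from 1, 5 commutes with an element of order 5 -/
theorem m11_not_dvd_centralizer5 (hG : Nat.card G = 7920) (S : Set G) (g : G) (hg : g ∈ S)
    (hg1 : orderOf g ≠ 1) (hg5 : orderOf g ≠ 5) :
    ¬ 5 ∣ Nat.card (Subgroup.centralizer S) := by
  haveI : Fact (Nat.Prime 5) := ⟨by norm_num⟩
  intro h
  obtain ⟨x', hx'⟩ := exists_prime_orderOf_dvd_card' 5 h
  have hx : orderOf (x' : G) = 5 := by rw [Subgroup.orderOf_coe]; exact hx'
  have hc : g ∈ Subgroup.centralizer ({(x' : G)} : Set G) := by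
    rw [Subgroup.mem_centralizer_singleton_iff]
    exact ((Subgroup.mem_centralizer_iff.mp x'.2) g hg)
  have h1 := orderOf_dvd_natCard (⟨g, hc⟩ : Subgroup.centralizer ({(x' : G)} : Set G))
  rw [m11_card_cent5 hG _ hx, ← Subgroup.orderOf_coe] at h1
  have h2 : orderOf g = 1 ∨ orderOf g = 5 :=
    (Nat.dvd_prime (by norm_num : Nat.Prime 5)).mp h1
  rcases h2 with h2 | h2
  · exact hg1 h2
  · exact hg5 h2

theorem m11_fact3 (hG : Nat.card G = 7920) : (Nat.card G).factorization 3 = 2 :=
  h8_factorization_of_eq 3 2 880 _ (by norm_num) (by rw [hG]; norm_num) (by norm_num)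

/-- a subgroup containing an element of order 3 whose order is prime to 5 and 11 has order
dividing 144 -/
theorem m11_card_dvd_144 (hG : Nat.card G = 7920) (H : Subgroup G)
    (h5 : ¬ 5 ∣ Nat.card H) (h11 : ¬ 11 ∣ Nat.card H) : Nat.card H ∣ 144 := by
  have h := Subgroup.card_subgroup_dvd_card H
  rw [hG] at h
  have hc5 : Nat.Coprime (Nat.card H) 5 :=
    ((Nat.Prime.coprime_iff_not_dvd (by norm_num)).mpr h5).symm
  have hc11 : Nat.Coprime (Nat.card H) 11 :=
    ((Nat.Prime.coprime_iff_not_dvd (by norm_num)).mpr h11).symm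
  have hc : Nat.Coprime (Nat.card H) 55 := by
    have : (55 : ℕ) = 5 * 11 := by norm_num
    rw [this]
    exact Nat.Coprime.mul_right hc5 hc11
  have h2 : Nat.card H ∣ 144 * 55 := by norm_num; exact h
  exact hc.dvd_of_dvd_mul_right h2

/-- the centralizer of an element of order 3 -/
theorem m11_cent3 (hG : Nat.card G = 7920) (y : G) (hy : orderOf y = 3) :
    9 ∣ Nat.card (Subgroup.centralizer ({y} : Set G)) ∧
      Nat.card (Subgroup.centralizer ({y} : Set G)) ∣ 144 := by
  haveI : Fact (Nat.Prime 3) := ⟨by norm_num⟩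
  constructor
  · have hpg : IsPGroup 3 (Subgroup.zpowers y) :=
      IsPGroup.of_card (n := 1) (by rw [Nat.card_zpowers, hy]; norm_num)
    obtain ⟨P, hP⟩ := hpg.exists_le_sylow
    have hyP : y ∈ (P : Subgroup G) := hP (Subgroup.mem_zpowers y)
    have hPcard : Nat.card (P : Subgroup G) = 3 ^ 2 := by
      rw [Sylow.card_eq_multiplicity, m11_fact3 hG]
    have hcomm := h8_comm_of_card_prime_sq 3 (P : Subgroup G) hPcard
    have hle : (P : Subgroup G) ≤ Subgroup.centralizer ({y} : Set G) := by
      intro a ha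
      rw [Subgroup.mem_centralizer_singleton_iff]
      exact hcomm a ha y hyP
    have := Subgroup.card_dvd_of_le hle
    rw [hPcard] at this
    exact this
  · apply m11_card_dvd_144 hG
    · exact m11_not_dvd_centralizer5 hG _ y rfl (by rw [hy]; norm_num) (by rw [hy]; norm_num)
    · exact m11_not_dvd_centralizer hG _ y rfl (by rw [hy]; norm_num) (by rw [hy]; norm_num)

/-- a Sylow 3-subgroup is its own centralizer -/
theorem m11_cp3 (hG : Nat.card G = 7920) [Fact (Nat.Prime 3)] (P : Sylow 3 G) :
    Subgroup.centralizer ((P : Subgroup G) : Set G) = (P : Subgroup G) := by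
  haveI : Fact (Nat.Prime 2) := ⟨Nat.prime_two⟩
  have hPcard : Nat.card (P : Subgroup G) = 3 ^ 2 := by
    rw [Sylow.card_eq_multiplicity, m11_fact3 hG]
  have hcomm := h8_comm_of_card_prime_sq 3 (P : Subgroup G) hPcard
  have hle : (P : Subgroup G) ≤ Subgroup.centralizer ((P : Subgroup G) : Set G) := by
    intro a ha
    rw [Subgroup.mem_centralizer_iff]
    intro b hb
    exact hcomm b hb a ha
  -- an element of order 3 in P
  obtain ⟨y', hy'⟩ := exists_prime_orderOf_dvd_card' 3
    (by rw [hPcard]; norm_num : 3 ∣ Nat.card (P : Subgroup G))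
  have hy : orderOf (y' : G) = 3 := by rw [Subgroup.orderOf_coe]; exact hy'
  have h144 : Nat.card (Subgroup.centralizer ((P : Subgroup G) : Set G)) ∣ 144 := by
    apply m11_card_dvd_144 hG
    · exact m11_not_dvd_centralizer5 hG _ (y' : G) y'.2 (by rw [hy]; norm_num)
        (by rw [hy]; norm_num)
    · exact m11_not_dvd_centralizer hG _ (y' : G) y'.2 (by rw [hy]; norm_num)
        (by rw [hy]; norm_num)
  have hodd : ¬ 2 ∣ Nat.card (Subgroup.centralizer ((P : Subgroup G) : Set G)) := by
    intro h2
    obtain ⟨u', hu'⟩ := exists_prime_orderOf_dvd_card' 2 h2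
    have hu : orderOf (u' : G) = 2 := by rw [Subgroup.orderOf_coe]; exact hu'
    have h48 := (m11_invol_centralizer hG).1 (u' : G) hu
    have hle2 : (P : Subgroup G) ≤ Subgroup.centralizer ({(u' : G)} : Set G) := by
      intro a ha
      rw [Subgroup.mem_centralizer_singleton_iff]
      exact ((Subgroup.mem_centralizer_iff.mp u'.2) a ha)
    have := Subgroup.card_dvd_of_le hle2
    rw [hPcard, h48] at this
    omega
  have h9 : Nat.card (Subgroup.centralizer ((P : Subgroup G) : Set G)) ∣ 9 := by
    have hc : Nat.Coprime (Nat.card (Subgroup.centralizer ((P : Subgroup G) : Set G))) 16 := by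
      have : (16 : ℕ) = 2 ^ 4 := by norm_num
      rw [this]
      exact Nat.Coprime.pow_right 4
        ((Nat.Prime.coprime_iff_not_dvd Nat.prime_two).mpr hodd).symm
    have h2 : Nat.card (Subgroup.centralizer ((P : Subgroup G) : Set G)) ∣ 9 * 16 := by
      norm_num; exact h144
    exact hc.dvd_of_dvd_mul_right h2
  symm
  apply Subgroup.eq_of_le_of_card_ge hle
  rw [hPcard]
  exact Nat.le_of_dvd (by norm_num) h9

end Cfsg.Agent.Lib.Helper29
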