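import Mathlib
import Cfsg.Agent.Lib.Helper29.M11J
import Cfsg.Agent.S0969
import Cfsg.Agent.S0919
import Cfsg.Agent.S0917
import Cfsg.Agent.S0953
import Cfsg.Agent.S0936
import Cfsg.Agent.S0908
import Cfsg.Agent.S0906
import Cfsg.Agent.Lib.Helper26.MuraiExt
import Cfsg.Agent.Lib.helper7.BlockDefGrp

set_option autoImplicit false

namespace Cfsg.Agent.Lib.Helper29

open Cfsg.Agent.Lib.Helper11 Cfsg.Agent.Lib.helper7 Cfsg.Agent.Lib.Helper25 Cfsg.Agent.Lib.helper2
open Cfsg.Agent.Lib.helper8 Cfsg.Agent.Lib.helper23 Cfsg.Agent.Lib.Helper24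
open Cfsg.Agent.Lib.Helper26

theorem m11_fac3_two (n : ℕ) (hn : n ≠ 0) (h9 : 9 ∣ n) (h27 : ¬ 27 ∣ n) :
    n.factorization 3 = 2 := by
  have hp : Nat.Prime 3 := by norm_num
  apply le_antisymm
  · by_contra h
    have h3 : 3 ≤ n.factorization 3 := by omega
    exact h27 ((hp.pow_dvd_iff_le_factorization hn).mpr h3)
  · exact (hp.pow_dvd_iff_le_factorization hn).mp h9

theorem m11_fac3_one (n : ℕ) (hn : n ≠ 0) (h3 : 3 ∣ n) (h9 : ¬ 9 ∣ n) :
    n.factorization 3 = 1 := by
  have hp : Nat.Prime 3 := by norm_num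
  apply le_antisymm
  · by_contra h
    have h3 : 2 ≤ n.factorization 3 := by omega
    exact h9 ((hp.pow_dvd_iff_le_factorization hn).mpr h3)
  · exact (hp.pow_dvd_iff_le_factorization hn).mp (by simpa using h3)

theorem m11_fac3_zero (n : ℕ) (h3 : ¬ 3 ∣ n) : n.factorization 3 = 0 :=
  Nat.factorization_eq_zero_of_not_dvd h3

/-- the degrees of a simple group of order 7920 -/
theorem m11_degree_mem {G : Type*} [Group G] [Finite G] [IsSimpleGroup G]
    (hG : Nat.card G = 7920) (χ : Cfsg.IrrCharacter G) :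
    Cfsg.charDegree (χ : G → ℂ) ∈ ({1, 10, 11, 16, 44, 45, 55} : Finset ℕ) := by
  classical
  haveI : Fintype (Cfsg.IrrCharacter G) := Fintype.ofFinite _
  obtain ⟨_, hcnt⟩ := Cfsg.Agent.S4429.result hG
  by_contra hcon
  have h0 := hcnt (Cfsg.charDegree (χ : G → ℂ))
  simp only [Finset.mem_insert, Finset.mem_singleton, not_or] at hcon
  obtain ⟨e1, e10, e11, e16, e44, e45, e55⟩ := hcon
  simp only [e1, e10, e11, e16, e44, e45, e55, or_self, if_false] at h0
  rw [Nat.card_eq_fintype_card, Fintype.card_eq_zero_iff] at h0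
  exact h0.false ⟨χ, rfl⟩

theorem m11_degree_fac3 {G : Type*} [Group G] [Finite G] [IsSimpleGroup G]
    (hG : Nat.card G = 7920) (χ : Cfsg.IrrCharacter G) :
    (Cfsg.charDegree (χ : G → ℂ)).factorization 3 = 0 ∨
      (Cfsg.charDegree (χ : G → ℂ)).factorization 3 = 2 := by
  have h := m11_degree_mem hG χ
  simp only [Finset.mem_insert, Finset.mem_singleton] at h
  rcases h with h | h | h | h | h | h | h <;> rw [h]
  · left; exact m11_fac3_zero _ (by norm_num)
  · left; exact m11_fac3_zero _ (by norm_num)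
  · left; exact m11_fac3_zero _ (by norm_num)
  · left; exact m11_fac3_zero _ (by norm_num)
  · left; exact m11_fac3_zero _ (by norm_num)
  · right; exact m11_fac3_two _ (by norm_num) (by norm_num) (by norm_num)
  · left; exact m11_fac3_zero _ (by norm_num)

/-- every block is nonempty: it contains the character defining it -/
theorem m11_mem_blockOf {K : Type*} [Group K] {M : Ideal Cfsg.AlgInt} (hM : M.IsPrime)
    (χ : Cfsg.IrrCharacter K) : χ ∈ Cfsg.blockOf M (χ : K → ℂ) := by
  show Cfsg.SameBlock M (χ : K → ℂ) (χ : K → ℂ)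
  intro g
  rw [sub_self]
  exact h7_memLocalIdeal_zero hM

/-- the defect of the principal block -/
theorem m11_principal_defect {K : Type*} [Group K] {M : Ideal Cfsg.AlgInt} (hM : M.IsPrime)
    (p : ℕ) : Cfsg.blockDefect p (Cfsg.principalBlock M K) = (Nat.card K).factorization p := by
  unfold Cfsg.blockDefect
  have h0 : sInf ((fun χ : Cfsg.IrrCharacter K =>
      (Cfsg.charDegree (χ : K → ℂ)).factorization p) '' Cfsg.principalBlock M K) = 0 := by
    rw [Nat.sInf_eq_zero]
    left
    refine ⟨trivIrr K, m11_mem_blockOf hM (trivIrr K), ?_⟩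
    show (Cfsg.charDegree (trivIrr K : K → ℂ)).factorization p = 0
    rw [exc_degree_triv]
    simp
  rw [h0, Nat.sub_zero]

/-- in a simple group of order 7920 the centralizer of an element of order 3 has no irreducible
character of degree divisible by 3 -/
theorem m11_no_deg3 {G : Type*} [Group G] [Finite G] [IsSimpleGroup G]
    (hG : Nat.card G = 7920) (y : G) (hy : orderOf y = 3)
    (hC9 : 9 ∣ Nat.card (Subgroup.centralizer ({y} : Set G)))
    (hC144 : Nat.card (Subgroup.centralizer ({y} : Set G)) ∣ 144)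
    (hCP : ∀ P : Sylow 3 G, Subgroup.centralizer ((P : Subgroup G) : Set G) = (P : Subgroup G))
    (η : Cfsg.IrrCharacter ↥(Subgroup.centralizer ({y} : Set G))) :
    ¬ 3 ∣ Cfsg.charDegree (η : ↥(Subgroup.centralizer ({y} : Set G)) → ℂ) := by
  classical
  intro hdvd
  haveI : Fact (Nat.Prime 3) := ⟨by norm_num⟩
  haveI : Fintype G := Fintype.ofFinite G
  obtain ⟨M, hM⟩ := exists_isPModular 3 (by norm_num)
  have hMp : M.IsPrime := hM.2.1.isPrime
  have hCpos : Nat.card (Subgroup.centralizer ({y} : Set G)) ≠ 0 := Nat.card_pos.ne'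
  have hC27 : ¬ 27 ∣ Nat.card (Subgroup.centralizer ({y} : Set G)) := by
    intro h
    have := dvd_trans h hC144
    omega
  haveI : Fintype ↥(Subgroup.centralizer ({y} : Set G)) := Fintype.ofFinite _
  -- the central subgroup D = ⟨y⟩ of C
  have hyC : y ∈ Subgroup.centralizer ({y} : Set G) :=
    Subgroup.mem_centralizer_singleton_iff.mpr rfl
  obtain ⟨y', hy'⟩ : ∃ y' : ↥(Subgroup.centralizer ({y} : Set G)), (y' : G) = y := ⟨⟨y, hyC⟩, rfl⟩
  have hy'ord : orderOf y' = 3 := by rw [← Subgroup.orderOf_coe, hy', hy]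
  have hDcard : Nat.card (Subgroup.zpowers y') = 3 := by rw [Nat.card_zpowers, hy'ord]
  have hDZ : Subgroup.zpowers y' ≤ Subgroup.center ↥(Subgroup.centralizer ({y} : Set G)) := by
    rw [Subgroup.zpowers_le, Subgroup.mem_center_iff]
    intro c
    apply Subtype.ext
    have hc := Subgroup.mem_centralizer_singleton_iff.mp c.2
    show (c : G) * (y' : G) = (y' : G) * (c : G)
    rw [hy']
    exact hc
  have hDp : IsPGroup 3 (Subgroup.zpowers y') := IsPGroup.of_card (n := 1) (by rw [hDcard]; norm_num)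
  have hDidx : 3 * (Subgroup.zpowers y').index =
      Nat.card ↥(Subgroup.centralizer ({y} : Set G)) := by
    have := (Subgroup.zpowers y').card_mul_index
    rw [hDcard] at this
    exact this
  have hidx3 : 3 ∣ (Subgroup.zpowers y').index := by
    obtain ⟨k, hk⟩ := hC9
    exact ⟨k, by omega⟩
  have hidx9 : ¬ 9 ∣ (Subgroup.zpowers y').index := by
    rintro ⟨k, hk⟩
    exact hC27 ⟨k, by omega⟩
  have hidxpos : (Subgroup.zpowers y').index ≠ 0 := by
    intro h; rw [h] at hDidx; omega
  have hdeg_dvd := mur_degree_dvd η (Subgroup.zpowers y') hDZ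
  have hdegpos : Cfsg.charDegree (η : ↥(Subgroup.centralizer ({y} : Set G)) → ℂ) ≠ 0 :=
    (charDegree_irr η).2.ne'
  have hfac : (Cfsg.charDegree (η : ↥(Subgroup.centralizer ({y} : Set G)) → ℂ)).factorization 3 =
      (Subgroup.zpowers y').index.factorization 3 := by
    rw [m11_fac3_one _ hidxpos hidx3 hidx9,
      m11_fac3_one _ hdegpos hdvd (fun h => hidx9 (dvd_trans h hdeg_dvd))]
  obtain ⟨hdefD, _⟩ := Cfsg.Agent.S0969.result 3 M hM (Subgroup.zpowers y') hDp hDZ η hfac
  have hbB : Cfsg.IsPBlock M (Cfsg.blockOf M (η : ↥(Subgroup.centralizer ({y} : Set G)) → ℂ)) :=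
    ⟨η, rfl⟩
  have hbdef : Cfsg.blockDefect 3
      (Cfsg.blockOf M (η : ↥(Subgroup.centralizer ({y} : Set G)) → ℂ)) = 1 := by
    have h := Cfsg.Agent.S0908.result 3 M hM _ hbB (Subgroup.zpowers y') hdefD
    rw [hDcard] at h
    have h2 : (3 : ℕ) ^ 1 = 3 ^ Cfsg.blockDefect 3
        (Cfsg.blockOf M (η : ↥(Subgroup.centralizer ({y} : Set G)) → ℂ)) := by
      rw [pow_one]; exact h
    exact (Nat.pow_right_injective (by norm_num : 2 ≤ 3) h2).symm
  -- the induced block is defined
  have hzp : IsPGroup 3 (Subgroup.zpowers y) :=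
    IsPGroup.of_card (n := 1) (by rw [Nat.card_zpowers, hy]; norm_num)
  have hPH : Subgroup.zpowers y ≤ Subgroup.centralizer ({y} : Set G) := by
    rw [Subgroup.zpowers_le]; exact hyC
  have hCH : Subgroup.centralizer ((Subgroup.zpowers y : Subgroup G) : Set G) ≤
      Subgroup.centralizer ({y} : Set G) := by
    apply Subgroup.centralizer_le
    intro z hz
    rw [Set.mem_singleton_iff] at hz
    rw [hz]
    exact Subgroup.mem_zpowers y
  have hHN : Subgroup.centralizer ({y} : Set G) ≤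
      Subgroup.normalizer ((Subgroup.zpowers y : Subgroup G) : Set G) := by
    intro c hc
    have hc' := Subgroup.mem_centralizer_singleton_iff.mp hc
    rw [Subgroup.mem_normalizer_iff]
    intro h
    have hcomm : ∀ z ∈ Subgroup.zpowers y, c * z * c⁻¹ = z := by
      intro z hz
      obtain ⟨k, rfl⟩ := Subgroup.mem_zpowers_iff.mp hz
      have : Commute c (y ^ k) := (show Commute c y from hc').zpow_right k
      rw [this.eq, mul_assoc, mul_inv_cancel, mul_one]
    constructor
    · intro hh; rw [hcomm h hh]; exact hh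
    · intro hh
      have h2 := hcomm _ hh
      have h3 : c * h * c⁻¹ = h := by
        have : c * (c * h * c⁻¹) * c⁻¹ = c * h * c⁻¹ := h2
        calc c * h * c⁻¹ = c⁻¹ * (c * (c * h * c⁻¹) * c⁻¹) * c := by group
          _ = c⁻¹ * (c * h * c⁻¹) * c := by rw [this]
          _ = h := by group
      rw [← h3]; exact hh
  have hdefined := Cfsg.Agent.S0919.result 3 M hM (Subgroup.zpowers y)
    (Subgroup.centralizer ({y} : Set G)) hzp hPH hCH hHN _ hbB
  obtain ⟨B, hind⟩ := hdefined
  have hBblock : Cfsg.IsPBlock M B := hind.2.1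
  obtain ⟨E, hE, hDE⟩ := Cfsg.Agent.S0917.result 3 M hM _ _ hbB B hBblock hind
    (Subgroup.zpowers y') hdefD
  -- the defect of B is 2
  have hG3 : (Nat.card G).factorization 3 = 2 := by
    rw [hG]; exact m11_fac3_two _ (by norm_num) (by norm_num) (by norm_num)
  have hEcard := Cfsg.Agent.S0908.result 3 M hM B hBblock E hE
  have hE3 : 3 ≤ Nat.card E := by
    have h1 : Nat.card ((Subgroup.zpowers y').map
        (Subgroup.centralizer ({y} : Set G)).subtype) = 3 := by
      rw [Subgroup.card_map_of_injective (Subgroup.subtype_injective _), hDcard]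
    rw [← h1]
    exact Subgroup.card_le_of_le hDE
  obtain ⟨χB, hχB⟩ := hBblock
  have hBne : χB ∈ B := by rw [hχB]; exact m11_mem_blockOf hMp χB
  have hBdefect : Cfsg.blockDefect 3 B = 2 := by
    have hmem : sInf ((fun χ : Cfsg.IrrCharacter G =>
        (Cfsg.charDegree (χ : G → ℂ)).factorization 3) '' B) ∈
        ((fun χ : Cfsg.IrrCharacter G =>
        (Cfsg.charDegree (χ : G → ℂ)).factorization 3) '' B) :=
      Nat.sInf_mem ⟨_, ⟨χB, hBne, rfl⟩⟩
    obtain ⟨χ, _, hχ⟩ := hmem
    have hcases := m11_degree_fac3 hG χ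
    simp only at hχ
    unfold Cfsg.blockDefect at hEcard ⊢
    rw [hG3] at hEcard ⊢
    rw [← hχ] at hEcard ⊢
    rcases hcases with h0 | h2
    · rw [h0]
    · exfalso
      rw [h2] at hEcard
      have h1 : Nat.card ↥E = 1 := by rw [hEcard]; norm_num
      omega
  rw [hBdefect] at hEcard
  -- E is a Sylow 3-subgroup
  obtain ⟨P, hPE⟩ : ∃ P : Sylow 3 G, (P : Subgroup G) = E :=
    ⟨Sylow.ofCard E (by rw [hEcard, hG3]), Sylow.coe_ofCard _ _⟩
  have hBP : Cfsg.IsDefectGroup 3 M B (P : Subgroup G) := by rw [hPE]; exact hE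
  -- the principal block also has defect group P
  have hB0block : Cfsg.IsPBlock M (Cfsg.principalBlock M G) := ⟨trivIrr G, rfl⟩
  obtain ⟨g₀, hg₀⟩ := Cfsg.Agent.S0906.result 3 M hM _ hB0block
  obtain ⟨Q₀⟩ : Nonempty (Sylow 3 (Subgroup.centralizer ({g₀} : Set G))) := inferInstance
  have hE₀ : Cfsg.IsDefectGroup 3 M (Cfsg.principalBlock M G)
      ((Q₀ : Subgroup (Subgroup.centralizer ({g₀} : Set G))).map
        (Subgroup.centralizer ({g₀} : Set G)).subtype) := ⟨g₀, hg₀, Q₀, rfl⟩
  have hE₀card := Cfsg.Agent.S0908.result 3 M hM _ hB0block _ hE₀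
  rw [m11_principal_defect hMp, hG3] at hE₀card
  obtain ⟨P₀, hP₀⟩ : ∃ P₀ : Sylow 3 G, (P₀ : Subgroup G) =
      (Q₀ : Subgroup (Subgroup.centralizer ({g₀} : Set G))).map
        (Subgroup.centralizer ({g₀} : Set G)).subtype :=
    ⟨Sylow.ofCard _ (by rw [hE₀card, hG3]), Sylow.coe_ofCard _ _⟩
  obtain ⟨x, hx⟩ := MulAction.exists_smul_eq G P₀ P
  have hB0P : Cfsg.IsDefectGroup 3 M (Cfsg.principalBlock M G) (P : Subgroup G) := by
    have h1 := h7_isDefectGroup_conj 3 M _ _ hE₀ x
    have h2 : (P : Subgroup G) = ((Q₀ : Subgroup (Subgroup.centralizer ({g₀} : Set G))).map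
        (Subgroup.centralizer ({g₀} : Set G)).subtype).map (MulAut.conj x).toMonoidHom := by
      rw [← hP₀, ← hx, Sylow.coe_subgroup_smul, Subgroup.pointwise_smul_def]
      rfl
    rw [h2]; exact h1
  -- there is only one block with defect group P
  have hcount := Cfsg.Agent.S0953.result 3 M hM P
  have hrhs : Nat.card {c : ConjClasses (Subgroup.normalizer ((P : Subgroup G) : Set G)) //
      ∀ n : Subgroup.normalizer ((P : Subgroup G) : Set G), ConjClasses.mk n = c →
        ¬ 3 ∣ orderOf n ∧ (n : G) ∈ Subgroup.centralizer ((P : Subgroup G) : Set G)} ≤ 1 := by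
    rw [Finite.card_le_one_iff_subsingleton]
    constructor
    rintro ⟨c₁, h₁⟩ ⟨c₂, h₂⟩
    apply Subtype.ext
    show c₁ = c₂
    have key : ∀ c : ConjClasses (Subgroup.normalizer ((P : Subgroup G) : Set G)),
        (∀ n : Subgroup.normalizer ((P : Subgroup G) : Set G), ConjClasses.mk n = c →
        ¬ 3 ∣ orderOf n ∧ (n : G) ∈ Subgroup.centralizer ((P : Subgroup G) : Set G)) →
        c = ConjClasses.mk 1 := by
      intro c hc
      obtain ⟨n, rfl⟩ := ConjClasses.exists_rep c
      obtain ⟨hn3, hnC⟩ := hc n rfl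
      rw [hCP P] at hnC
      have hdvd9 : orderOf (n : G) ∣ 3 ^ 2 := by
        have h1 := orderOf_dvd_natCard (⟨(n : G), hnC⟩ : (P : Subgroup G))
        rw [Sylow.card_eq_multiplicity P, hG3, ← Subgroup.orderOf_coe] at h1
        exact h1
      rw [Subgroup.orderOf_coe] at hdvd9
      obtain ⟨k, _, hk⟩ := (Nat.dvd_prime_pow (by norm_num : Nat.Prime 3)).mp hdvd9
      have hk0 : k = 0 := by
        by_contra hk0
        apply hn3
        rw [hk]
        exact dvd_pow_self 3 hk0
      rw [hk0, pow_zero, orderOf_eq_one_iff] at hk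
      rw [hk]
    rw [key c₁ h₁, key c₂ h₂]
  rw [← hcount, Finite.card_le_one_iff_subsingleton] at hrhs
  have hBB0 : B = Cfsg.principalBlock M G := by
    have := hrhs.elim ⟨B, ⟨χB, hχB⟩, hBP⟩ ⟨Cfsg.principalBlock M G, hB0block, hB0P⟩
    exact congrArg Subtype.val this
  rw [hBB0] at hind
  have hb0 := (Cfsg.Agent.S0936.result 3 M hM _ _ ⟨_, hind⟩).mp hind
  rw [hb0, m11_principal_defect hMp, m11_fac3_two _ hCpos hC9 hC27] at hbdef
  omega

end Cfsg.Agent.Lib.Helper29
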