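import Mathlib
import Cfsg.Agent.Lib.Helper29.M11K
import Cfsg.Agent.Lib.Helper29.M11L
import Cfsg.Agent.Lib.helper7.Thompson
import Cfsg.Agent.Lib.Helper24.Cdc1

set_option autoImplicit false

namespace Cfsg.Agent.Lib.Helper29

open Cfsg.Agent.Lib.Helper11 Cfsg.Agent.Lib.helper7 Cfsg.Agent.Lib.Helper25 Cfsg.Agent.Lib.helper2
open Cfsg.Agent.Lib.helper8 Cfsg.Agent.Lib.helper23 Cfsg.Agent.Lib.Helper24
open Cfsg.Agent.Lib.Helper26

/-- generic: if the Sylow `p`-subgroup `P` meets every other Sylow `p`-subgroup trivially, the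
number of Sylow `p`-subgroups is `≡ 1` modulo `|P|` -/
theorem m11_ti_count {G : Type*} [Group G] [Finite G] {p : ℕ} [Fact p.Prime] (P : Sylow p G)
    (hTI : ∀ P' : Sylow p G, P' ≠ P → (P : Subgroup G) ⊓ (P' : Subgroup G) = ⊥) :
    Nat.card (Sylow p G) ≡ 1 [MOD Nat.card (P : Subgroup G)] := by
  classical
  haveI : Fintype G := Fintype.ofFinite G
  haveI : Fintype (Sylow p G) := Fintype.ofFinite _
  haveI : Fintype ↥(P : Subgroup G) := Fintype.ofFinite _
  haveI : Fintype (Quotient (MulAction.orbitRel ↥(P : Subgroup G) (Sylow p G))) :=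
    Fintype.ofFinite _
  have hB := MulAction.sum_card_fixedBy_eq_card_orbits_mul_card_group ↥(P : Subgroup G)
    (Sylow p G)
  -- fixed points of non-identity elements
  have hfix : ∀ a : ↥(P : Subgroup G), a ≠ 1 →
      Fintype.card ↥(MulAction.fixedBy (Sylow p G) a) = 1 := by
    intro a ha
    rw [Fintype.card_eq_one_iff]
    refine ⟨⟨P, ?_⟩, ?_⟩
    · rw [MulAction.mem_fixedBy]
      show (a : G) • P = P
      rw [Sylow.smul_eq_iff_mem_normalizer]
      exact Subgroup.le_normalizer a.2
    · rintro ⟨P', hP'⟩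
      apply Subtype.ext
      show P' = P
      by_contra hne
      apply ha
      rw [MulAction.mem_fixedBy] at hP'
      have hP'' : (a : G) • P' = P' := hP'
      rw [Sylow.smul_eq_iff_mem_normalizer] at hP''
      -- the p-group K = P ⊓ N(P') fixes P', hence lies in P'
      have hK : IsPGroup p ↥((P : Subgroup G) ⊓
          Subgroup.normalizer ((P' : Subgroup G) : Set G)) :=
        P.isPGroup'.to_le inf_le_left
      have hfixed : P' ∈ MulAction.fixedPoints ↥((P : Subgroup G) ⊓
          Subgroup.normalizer ((P' : Subgroup G) : Set G)) (Sylow p G) := by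
        rw [MulAction.mem_fixedPoints]
        intro k
        show (k : G) • P' = P'
        rw [Sylow.smul_eq_iff_mem_normalizer]
        exact k.2.2
      have hle := (hK.sylow_mem_fixedPoints_iff).mp hfixed
      have hmem : (a : G) ∈ (P : Subgroup G) ⊓ (P' : Subgroup G) :=
        ⟨a.2, hle ⟨a.2, hP''⟩⟩
      rw [hTI P' hne, Subgroup.mem_bot] at hmem
      exact Subtype.ext hmem
  have hfix1 : Fintype.card ↥(MulAction.fixedBy (Sylow p G) (1 : ↥(P : Subgroup G))) =
      Fintype.card (Sylow p G) := by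
    apply Fintype.card_congr
    exact (Equiv.subtypeUnivEquiv (fun P' => by rw [MulAction.mem_fixedBy, one_smul]))
  rw [← Finset.add_sum_erase Finset.univ _ (Finset.mem_univ (1 : ↥(P : Subgroup G))), hfix1,
    Finset.sum_congr rfl (fun a ha => hfix a (Finset.mem_erase.mp ha).1), Finset.sum_const,
    Finset.card_erase_of_mem (Finset.mem_univ _), Finset.card_univ, smul_eq_mul, mul_one] at hB
  rw [Nat.card_eq_fintype_card, Nat.card_eq_fintype_card]
  have hpos : 1 ≤ Fintype.card ↥(P : Subgroup G) := Fintype.card_pos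
  -- n + (|P| - 1) = k * |P|
  set n := Fintype.card (Sylow p G)
  set q := Fintype.card ↥(P : Subgroup G)
  set k := Fintype.card (Quotient (MulAction.orbitRel ↥(P : Subgroup G) (Sylow p G)))
  have h1 : n + q = k * q + 1 := by omega
  show n % q = 1 % q
  calc n % q = (n + q) % q := (Nat.add_mod_right n q).symm
    _ = (k * q + 1) % q := by rw [h1]
    _ = 1 % q := by rw [Nat.mul_comm, Nat.mul_add_mod]

/-- the centralizer of an element of order 3 has a normal subgroup of order 9 containing all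
its 3-elements -/
theorem m11_cent3_normal {G : Type*} [Group G] [Finite G] [IsSimpleGroup G]
    (hG : Nat.card G = 7920) (y : G) (hy : orderOf y = 3) :
    ∃ N : Subgroup ↥(Subgroup.centralizer ({y} : Set G)), Nat.card N = 9 ∧
      ∀ a : ↥(Subgroup.centralizer ({y} : Set G)), orderOf a ∣ 9 → a ∈ N := by
  classical
  haveI : Fact (Nat.Prime 3) := ⟨by norm_num⟩
  haveI : Fact (Nat.Prime 2) := ⟨Nat.prime_two⟩
  haveI : Fintype ↥(Subgroup.centralizer ({y} : Set G)) := Fintype.ofFinite _
  obtain ⟨hC9, hC144⟩ := m11_cent3 hG y hy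
  have hdeg : ∀ χ : ↥(Subgroup.centralizer ({y} : Set G)) → ℂ,
      Cfsg.IsIrrCharacter ↥(Subgroup.centralizer ({y} : Set G)) χ →
      ∀ d : ℕ, χ 1 = (d : ℂ) → d ≠ 1 → 2 ∣ d := by
    intro χ hχ d hd hd1
    have h1 : Cfsg.charDegree χ = d := by
      have h := (charDegree_irr (⟨χ, hχ⟩ : Cfsg.IrrCharacter _)).1
      simp only at h
      rw [hd] at h
      exact_mod_cast h
    have h2 : d ∣ 144 := by
      have h := cdc_degree_dvd (⟨χ, hχ⟩ : Cfsg.IrrCharacter _)
      simp only at h
      rw [h1] at h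
      exact dvd_trans h hC144
    have h3 : ¬ 3 ∣ d := by
      have h := m11_no_deg3 hG y hy hC9 hC144 (fun P => m11_cp3 hG P)
        (⟨χ, hχ⟩ : Cfsg.IrrCharacter _)
      simp only at h
      rw [h1] at h
      exact h
    have h4 : d ∣ 16 := by
      have hc : Nat.Coprime d 9 := by
        have : (9 : ℕ) = 3 ^ 2 := by norm_num
        rw [this]
        exact Nat.Coprime.pow_right 2
          ((Nat.Prime.coprime_iff_not_dvd (by norm_num : Nat.Prime 3)).mpr h3).symm
      have h5 : d ∣ 16 * 9 := by norm_num; exact h2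
      exact hc.dvd_of_dvd_mul_right h5
    have h5 : d ∈ Nat.divisors 16 := Nat.mem_divisors.mpr ⟨h4, by norm_num⟩
    have h6 : Nat.divisors 16 = {1, 2, 4, 8, 16} := by decide
    rw [h6] at h5
    simp only [Finset.mem_insert, Finset.mem_singleton] at h5
    rcases h5 with rfl | rfl | rfl | rfl | rfl
    · exact absurd rfl hd1
    all_goals norm_num
  obtain ⟨N, hNn, hNc, k, hNk⟩ := h7_thompson 2 hdeg
  have hmul := N.card_mul_index
  rw [hNk] at hmul
  have hN144 : Nat.card N ∣ 144 := dvd_trans ⟨_, hmul.symm⟩ hC144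
  have hNodd : Nat.Coprime (Nat.card N) 16 := by
    have : (16 : ℕ) = 2 ^ 4 := by norm_num
    rw [this]
    exact Nat.Coprime.pow_right 4 hNc
  have hN9 : Nat.card N ∣ 9 := by
    have h5 : Nat.card N ∣ 9 * 16 := by
      rw [show (9 * 16 : ℕ) = 144 by norm_num]; exact hN144
    exact hNodd.dvd_of_dvd_mul_right h5
  have h9N : 9 ∣ Nat.card N := by
    have hc : Nat.Coprime 9 (2 ^ k) := by
      apply Nat.Coprime.pow_right
      norm_num
    have h5 : 9 ∣ Nat.card N * 2 ^ k := by rw [hmul]; exact hC9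
    exact hc.dvd_of_dvd_mul_right h5
  have hNcard : Nat.card N = 9 := Nat.dvd_antisymm hN9 h9N
  refine ⟨N, hNcard, ?_⟩
  intro a ha
  haveI := hNn
  have h1 : orderOf (QuotientGroup.mk a : ↥(Subgroup.centralizer ({y} : Set G)) ⧸ N) ∣ 9 :=
    dvd_trans (orderOf_dvd_of_pow_eq_one (by
      rw [← QuotientGroup.mk_pow, pow_orderOf_eq_one]; rfl)) ha
  have h2 : orderOf (QuotientGroup.mk a : ↥(Subgroup.centralizer ({y} : Set G)) ⧸ N) ∣ 2 ^ k := by
    have := orderOf_dvd_natCard (QuotientGroup.mk a : ↥(Subgroup.centralizer ({y} : Set G)) ⧸ N)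
    rw [← Subgroup.index_eq_card, hNk] at this
    exact this
  have h3 : orderOf (QuotientGroup.mk a : ↥(Subgroup.centralizer ({y} : Set G)) ⧸ N) = 1 := by
    have hc : Nat.Coprime 9 (2 ^ k) := by
      apply Nat.Coprime.pow_right
      norm_num
    exact Nat.eq_one_of_dvd_coprimes hc h1 h2
  rw [orderOf_eq_one_iff, QuotientGroup.eq_one_iff] at h3
  exact h3

/-- distinct Sylow 3-subgroups of a simple group of order 7920 meet trivially -/
theorem m11_syl3_ti {G : Type*} [Group G] [Finite G] [IsSimpleGroup G]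
    (hG : Nat.card G = 7920) [Fact (Nat.Prime 3)] (P P' : Sylow 3 G) (hne : P' ≠ P) :
    (P : Subgroup G) ⊓ (P' : Subgroup G) = ⊥ := by
  by_contra hbot
  have hPcard : ∀ Q : Sylow 3 G, Nat.card (Q : Subgroup G) = 3 ^ 2 := by
    intro Q; rw [Sylow.card_eq_multiplicity, m11_fact3 hG]
  have hKdvd : Nat.card ↥((P : Subgroup G) ⊓ (P' : Subgroup G)) ∣ 3 ^ 2 := by
    rw [← hPcard P]; exact Subgroup.card_dvd_of_le inf_le_left
  obtain ⟨j, _, hj⟩ := (Nat.dvd_prime_pow (by norm_num : Nat.Prime 3)).mp hKdvd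
  have hj0 : j ≠ 0 := by
    intro h0
    rw [h0, pow_zero, Subgroup.card_eq_one] at hj
    exact hbot hj
  have h3K : 3 ∣ Nat.card ↥((P : Subgroup G) ⊓ (P' : Subgroup G)) := by
    rw [hj]; exact dvd_pow_self 3 hj0
  obtain ⟨y', hy'⟩ := exists_prime_orderOf_dvd_card' 3 h3K
  have hy : orderOf (y' : G) = 3 := by rw [Subgroup.orderOf_coe]; exact hy'
  obtain ⟨N, hNcard, hN⟩ := m11_cent3_normal hG (y' : G) hy
  have key : ∀ Q : Sylow 3 G, (y' : G) ∈ (Q : Subgroup G) → (Q : Subgroup G) =
      N.map (Subgroup.centralizer ({(y' : G)} : Set G)).subtype := by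
    intro Q hyQ
    have hcomm := h8_comm_of_card_prime_sq 3 (Q : Subgroup G) (hPcard Q)
    apply Subgroup.eq_of_le_of_card_ge
    · intro a ha
      have haC : a ∈ Subgroup.centralizer ({(y' : G)} : Set G) := by
        rw [Subgroup.mem_centralizer_singleton_iff]
        exact hcomm a ha _ hyQ
      have hord : orderOf (⟨a, haC⟩ : ↥(Subgroup.centralizer ({(y' : G)} : Set G))) ∣ 9 := by
        rw [← Subgroup.orderOf_coe]
        have h1 := orderOf_dvd_natCard (⟨a, ha⟩ : (Q : Subgroup G))
        rw [hPcard Q, ← Subgroup.orderOf_coe] at h1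
        exact h1
      exact ⟨⟨a, haC⟩, hN _ hord, rfl⟩
    · rw [Subgroup.card_map_of_injective (Subgroup.subtype_injective _), hNcard, hPcard Q]
      norm_num
  have e1 := key P y'.2.1
  have e2 := key P' y'.2.2
  exact hne (Sylow.ext (e2.trans e1.symm))

/-- the normalizer of a Sylow 3-subgroup of a simple group of order 7920 has order 144 -/
theorem m11_syl3_normalizer {G : Type*} [Group G] [Finite G] [IsSimpleGroup G]
    (hG : Nat.card G = 7920) [Fact (Nat.Prime 3)] (P : Sylow 3 G) :
    Nat.card (Subgroup.normalizer ((P : Subgroup G) : Set G)) = 144 := by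
  have hnc : ¬ IsMulCommutative G := h8_not_comm_of_card (by rw [hG]; norm_num)
  have hPcard : Nat.card (P : Subgroup G) = 9 := by
    rw [Sylow.card_eq_multiplicity, m11_fact3 hG]; norm_num
  have hmod := m11_ti_count P (fun P' hne => m11_syl3_ti hG P P' hne)
  rw [hPcard] at hmod
  have hidx : (P : Subgroup G).index = 880 := by
    have := (P : Subgroup G).card_mul_index
    rw [hPcard, hG] at this
    omega
  have hdvd : Nat.card (Sylow 3 G) ∣ 880 := by
    rw [← hidx]; exact Sylow.card_dvd_index P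
  have hn : Nat.card (Sylow 3 G) ∈ ({1, 10, 55} : Finset ℕ) := by
    have e : (Nat.divisors 880).filter (fun n => n % 9 = 1) = {1, 10, 55} := by decide +kernel
    rw [← e, Finset.mem_filter, Nat.mem_divisors]
    exact ⟨⟨hdvd, by norm_num⟩, hmod⟩
  have hcardN : Nat.card (Sylow 3 G) =
      (Subgroup.normalizer ((P : Subgroup G) : Set G)).index := Sylow.card_eq_index_normalizer P
  have hmul := (Subgroup.normalizer ((P : Subgroup G) : Set G)).card_mul_index
  rw [← hcardN, hG] at hmul
  simp only [Finset.mem_insert, Finset.mem_singleton] at hn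
  rcases hn with h | h | h
  · exfalso
    rw [h] at hcardN
    have htop : Subgroup.normalizer ((P : Subgroup G) : Set G) = ⊤ :=
      Subgroup.index_eq_one.mp hcardN.symm
    have hnorm : (P : Subgroup G).Normal := Subgroup.normalizer_eq_top_iff.mp htop
    rcases hnorm.eq_bot_or_eq_top with hb | ht
    · rw [hb, Subgroup.card_bot] at hPcard; omega
    · rw [ht, Subgroup.card_top, hG] at hPcard; omega
  · exfalso
    have hne : Subgroup.normalizer ((P : Subgroup G) : Set G) ≠ ⊤ := by
      intro htop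
      rw [htop, Subgroup.index_top] at hcardN
      omega
    have h2 := h8_simple_two_mul_card_dvd_factorial hnc _ hne
    rw [← hcardN, h, hG] at h2
    revert h2
    decide
  · rw [h] at hmul
    omega

end Cfsg.Agent.Lib.Helper29
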