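import Mathlib
import Cfsg.Agent.Lib.Helper18.PRL.Defs
import Cfsg.Agent.Lib.Helper20.PolySeq
import Cfsg.Agent.Lib.helper23.PRLCH3

/-!
# Project MCP (S5238), piece CLS : the conjugacy class of an element with a small centralizer
-/

set_option autoImplicit false

namespace Cfsg.Agent.Lib.helper4.MCP

open Cfsg.Agent.Lib.Helper18.PRL
open Cfsg.Agent.Lib.Helper20.PolySeq
open scoped commutatorElement

universe u

/-- if `|K'| ≤ |K : C_K(t)|`, every element of `K'` is a commutator `⁅g, t⁆` -/
theorem h29cls_surj {K : Type*} [Group K] [Finite K] (t : K)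
    (hcard : Nat.card ↥(commutator K) ≤ (Subgroup.centralizer ({t} : Set K)).index) :
    ∀ c ∈ commutator K, ∃ g : K, ⁅g, t⁆ = c := by
  classical
  set C : Subgroup K := Subgroup.centralizer ({t} : Set K) with hC
  have hmemC : ∀ x : K, x ∈ C ↔ t * x = x * t := by
    intro x
    rw [hC, Subgroup.mem_centralizer_iff]
    constructor
    · intro h; exact h t rfl
    · rintro h y rfl; exact h
  let g : K ⧸ C → ↥(commutator K) := fun q =>
    ⟨⁅q.out, t⁆, Subgroup.commutator_mem_commutator (Subgroup.mem_top _) (Subgroup.mem_top _)⟩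
  have hg : Function.Injective g := by
    intro q1 q2 h12
    have h : ⁅q1.out, t⁆ = ⁅q2.out, t⁆ := congrArg Subtype.val h12
    rw [← QuotientGroup.out_eq' q1, ← QuotientGroup.out_eq' q2, QuotientGroup.eq, hmemC]
    rw [commutatorElement_def, commutatorElement_def] at h
    have h' : q1.out * t * q1.out⁻¹ = q2.out * t * q2.out⁻¹ := mul_right_cancel h
    calc t * (q1.out⁻¹ * q2.out) = q1.out⁻¹ * (q1.out * t * q1.out⁻¹) * q2.out := by group
      _ = q1.out⁻¹ * (q2.out * t * q2.out⁻¹) * q2.out := by rw [h']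
      _ = q1.out⁻¹ * q2.out * t := by group
  have hbij : Function.Bijective g := hg.bijective_of_nat_card_le (by
    rw [show Nat.card (K ⧸ C) = C.index from rfl]
    exact hcard)
  intro c hc
  obtain ⟨q, hq⟩ := hbij.2 ⟨c, hc⟩
  exact ⟨q.out, congrArg Subtype.val hq⟩

section mc
variable {p : ℕ} [Fact p.Prime] {G : Type u} [Group G] [Finite G] {n : ℕ}

/-- MCP-CLS -/
theorem conj_of_mem_commutator (h : MC p G n) (hn : 3 ≤ n) (s : G)
    (hs : Nat.card (Subgroup.centralizer ({s} : Set G)) ≤ p ^ 2) (c : G)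
    (hc : c ∈ commutator G) : ∃ g : G, g * s * g⁻¹ = s * c := by
  have hp : p.Prime := Fact.out
  have hcomm : Nat.card ↥(commutator G) = p ^ (n - 2) := h23_card_commutator h hn
  have hidx : p ^ (n - 2) ≤ (Subgroup.centralizer ({s} : Set G)).index := by
    have h1 := Subgroup.card_mul_index (Subgroup.centralizer ({s} : Set G))
    rw [h.1] at h1
    have hsplit : p ^ n = p ^ 2 * p ^ (n - 2) := by
      rw [← pow_add]
      congr 1
      omega
    have h2 : p ^ 2 * p ^ (n - 2) ≤ p ^ 2 * (Subgroup.centralizer ({s} : Set G)).index := by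
      rw [← hsplit, ← h1]
      exact Nat.mul_le_mul_right _ hs
    exact Nat.le_of_mul_le_mul_left h2 (pow_pos hp.pos 2)
  have hnorm : (commutator G).Normal := inferInstance
  have hc' : s * c * s⁻¹ ∈ commutator G := hnorm.conj_mem c hc s
  obtain ⟨g, hg⟩ := h29cls_surj s (by rw [hcomm]; exact hidx) (s * c * s⁻¹) hc'
  refine ⟨g, ?_⟩
  rw [commutatorElement_def] at hg
  exact mul_right_cancel hg

/-- MCP-CLS (second half) -/
theorem pow_mul_eq (h : MC p G n) (hn : 3 ≤ n) (s : G)
    (hs : Nat.card (Subgroup.centralizer ({s} : Set G)) ≤ p ^ 2)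
    (hsp : s ^ p ∈ Subgroup.center G) (c : G) (hc : c ∈ commutator G) :
    (s * c) ^ p = s ^ p := by
  obtain ⟨g, hg⟩ := conj_of_mem_commutator h hn s hs c hc
  rw [← hg, conj_pow]
  have := Subgroup.mem_center_iff.mp hsp g
  rw [this, mul_inv_cancel_right]

end mc

end Cfsg.Agent.Lib.helper4.MCP
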