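import Mathlib
import Cfsg.Agent.Lib.Helper18.PRL.Defs
import Cfsg.Agent.Lib.Helper20.PolySeq
import Cfsg.Agent.Lib.Helper1.Frat
import Cfsg.Agent.Lib.Helper1.BurnsideBasis

/-!
# Project MCP (S5238), piece GEN : `|H| ≤ p ^ k |℧(H)|` implies that `H` is `k`-generated
-/

set_option autoImplicit false

namespace Cfsg.Agent.Lib.helper4.MCP

open Cfsg.Agent.Lib.Helper18.PRL
open Cfsg.Agent.Lib.Helper20.PolySeq
open scoped commutatorElement

/-- MCP-GEN -/
theorem gen_of_card_le_agemo {p : ℕ} [Fact p.Prime] {P : Type*} [Group P] [Finite P]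
    (hP : IsPGroup p P) (H : Subgroup P) (k : ℕ)
    (hH : Nat.card H ≤ p ^ k * Nat.card (Subgroup.closure {z : P | ∃ x ∈ H, z = x ^ p})) :
    ∃ T : Finset P, T.card ≤ k ∧ Subgroup.closure (T : Set P) = H := by
  classical
  have hp : p.Prime := Fact.out
  have hHp : IsPGroup p ↥H := hP.to_subgroup H
  set A : Subgroup P := Subgroup.closure {z : P | ∃ x ∈ H, z = x ^ p} with hA
  have hAH : A ≤ H := by
    rw [hA, Subgroup.closure_le]
    rintro z ⟨x, hx, rfl⟩
    exact H.pow_mem hx p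
  -- `℧(H) ≤ Φ(H)`
  have hAF : A ≤ (frattini ↥H).map H.subtype := by
    rw [hA, Subgroup.closure_le]
    rintro z ⟨x, hx, rfl⟩
    refine ⟨(⟨x, hx⟩ : ↥H) ^ p, Cfsg.Agent.Lib.Helper1.pgroup_pow_mem_frattini hHp _, ?_⟩
    simp
  have hcardF : Nat.card ((frattini ↥H).map H.subtype) = Nat.card (frattini ↥H) :=
    Subgroup.card_map_of_injective H.subtype_injective
  have hAle : Nat.card A ≤ Nat.card (frattini ↥H) := by
    rw [← hcardF]
    exact Subgroup.card_le_of_le hAF
  have hidx : (frattini ↥H).index ≤ p ^ k := by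
    have h1 := Subgroup.card_mul_index (frattini ↥H)
    have hpos : 0 < Nat.card (frattini ↥H) := Nat.card_pos
    have h2 : Nat.card (frattini ↥H) * (frattini ↥H).index ≤
        Nat.card (frattini ↥H) * p ^ k := by
      rw [h1]
      calc Nat.card ↥H ≤ p ^ k * Nat.card A := hH
        _ ≤ p ^ k * Nat.card (frattini ↥H) := Nat.mul_le_mul_left _ hAle
        _ = Nat.card (frattini ↥H) * p ^ k := by ring
    exact Nat.le_of_mul_le_mul_left h2 hpos
  obtain ⟨m, hm⟩ := hHp.exists_card_eq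
  have hdvd : (frattini ↥H).index ∣ p ^ m := hm ▸ Subgroup.index_dvd_card (frattini ↥H)
  obtain ⟨n, -, hn⟩ := (Nat.dvd_prime_pow hp).mp hdvd
  have hnk : n ≤ k := by
    rw [hn] at hidx
    exact (Nat.pow_le_pow_iff_right hp.one_lt).mp hidx
  have : Fintype ↥H := Fintype.ofFinite _
  obtain ⟨T, -, hTc, hT⟩ := Cfsg.Agent.Lib.Helper1.burnside_basis_upper (G := ↥H) p n hHp hn
    _ (Finset.univ : Finset ↥H) rfl (by
      rw [Finset.coe_univ, Subgroup.closure_univ])
  refine ⟨T.image H.subtype, ?_, ?_⟩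
  · exact (Finset.card_image_le).trans (hTc ▸ hnk)
  · rw [Finset.coe_image, ← MonoidHom.map_closure, hT, ← MonoidHom.range_eq_map, Subgroup.range_subtype]

end Cfsg.Agent.Lib.helper4.MCP
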