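import Mathlib
import Cfsg.Agent.Lib.Helper10.PGM.Defs
import Cfsg.Agent.Lib.helper15.UBlk
import Cfsg.Agent.Lib.Helper24.PGME5
import Cfsg.Agent.Lib.Helper24.PGME6
import Cfsg.Agent.Lib.Helper24.PGME8

set_option autoImplicit false

/-!
# Project PGM (S2263, designer helper10), rows E9 / E10: cores on the statements of E1, E2, E3, E4 (helper29).
-/

namespace Cfsg.Agent.Lib.Helper10.PGM

open Matrix Cfsg.Agent.Lib.helper15.UNat Cfsg.Agent.Lib.helper15.UBlk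

universe u

/-- a finite field of order `q^2` has `2 ≤ q` -/
theorem pgme9_two_le {F : Type*} [Field F] [Fintype F] {q : ℕ} (hF : Fintype.card F = q ^ 2) : 2 ≤ q := by
  have h1 : 1 < Fintype.card F := Fintype.one_lt_card
  rw [hF] at h1
  by_contra h
  have : q ≤ 1 := by omega
  have : q ^ 2 ≤ 1 ^ 2 := Nat.pow_le_pow_left this 2
  omega

/-- E9 core: `E1`, `E2`, `E4` as hypotheses -/
theorem pgme9_core {F : Type*} [Field F] [Fintype F] (q m : ℕ) (hF : Fintype.card F = q ^ 2) (hm : 1 ≤ m)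
    (hE1 : ∀ (Y : Matrix (Fin (m + m)) (Fin (m + m)) F) (Z : Matrix (Fin 1) (Fin 1) F),
      SelfDual q Y → SelfDual q Z → SelfDual q (blk Y Z))
    (hE2 : ∀ (A : Matrix (Fin (m + m + 1)) (Fin (m + m + 1)) F), SelfDual q A → ∀ N : ℕ, 0 < N →
      (∀ t : ℕ, (∃ c : F, A ^ t = c • 1) ↔ N ∣ t) → ∃ g : PGU (m + m + 1) F q, orderOf g = N)
    (hE4 : ∃ Y : Matrix (Fin (m + m)) (Fin (m + m)) F, SelfDual q Y ∧
      ∀ t : ℕ, Y ^ t = 1 ↔ (q ^ (m + m) - 1) ∣ t) :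
    ∃ g : PGU (m + m + 1) F q, orderOf g = q ^ (m + m) - 1 := by
  obtain ⟨Y, hY, hYt⟩ := hE4
  have hq2 := pgme9_two_le hF
  have hone := one_block (F := F) q
  refine hE2 (blk Y 1) (hE1 Y 1 hY hone.1) _ ?_ ?_
  · have : 2 ^ (m + m) ≤ q ^ (m + m) := Nat.pow_le_pow_left hq2 _
    have h2 : 2 ^ 1 ≤ 2 ^ (m + m) := Nat.pow_le_pow_right (by norm_num) (by omega)
    omega
  · intro t
    constructor
    · rintro ⟨c, hc⟩
      rw [blk_scalar_iff] at hc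
      have hc1 : c = 1 := (hone.2 t c).1 hc.2
      rw [← hYt t, hc.1, hc1, one_smul]
    · intro h
      refine ⟨1, ?_⟩
      rw [blk_scalar_iff]
      refine ⟨?_, (hone.2 t 1).2 rfl⟩
      rw [(hYt t).2 h, one_smul]

/-- E10 core: `E1`, `E2`, `E3` as hypotheses -/
theorem pgme10_core {F : Type*} [Field F] [Fintype F] (p f q k : ℕ) [Fact p.Prime]
    [CharP F p] (hf : 1 ≤ f) (hq : q = p ^ f) (hF : Fintype.card F = q ^ 2) (hk : Odd k)
    (hE1 : ∀ (Y : Matrix (Fin k) (Fin k) F) (Z : Matrix (Fin 2) (Fin 2) F),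
      SelfDual q Y → SelfDual q Z → SelfDual q (blk Y Z))
    (hE2 : ∀ (A : Matrix (Fin (k + 2)) (Fin (k + 2)) F), SelfDual q A → ∀ N : ℕ, 0 < N →
      (∀ t : ℕ, (∃ c : F, A ^ t = c • 1) ↔ N ∣ t) → ∃ g : PGU (k + 2) F q, orderOf g = N)
    (hE3 : ∃ Y : Matrix (Fin k) (Fin k) F, SelfDual q Y ∧ ∀ t : ℕ, Y ^ t = 1 ↔ (q ^ k + 1) ∣ t) :
    ∃ g : PGU (k + 2) F q, orderOf g = (q ^ k + 1) * p := by
  obtain ⟨Y, hY, hYt⟩ := hE3
  have hp : p.Prime := Fact.out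
  have hj2 := j2_block (F := F) p f q hq
  have hk1 : 1 ≤ k := by
    obtain ⟨r, rfl⟩ := hk
    omega
  have hcop : Nat.Coprime (q ^ k + 1) p := by
    have hpq : p ∣ q ^ k := by
      rw [hq, ← pow_mul]
      exact dvd_pow_self p (by positivity)
    rw [Nat.coprime_comm, Nat.Prime.coprime_iff_not_dvd hp]
    intro h
    have : p ∣ 1 := (Nat.dvd_add_right hpq).mp h
    exact hp.one_lt.ne' (Nat.dvd_one.mp this)
  refine hE2 (blk Y !![1, 1; 0, 1]) (hE1 Y _ hY hj2.1) _ ?_ ?_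
  · exact Nat.mul_pos (Nat.succ_pos _) hp.pos
  · intro t
    constructor
    · rintro ⟨c, hc⟩
      rw [blk_scalar_iff] at hc
      obtain ⟨hc1, hpt⟩ := (hj2.2 t c).1 hc.2
      have h1 : (q ^ k + 1) ∣ t := by
        rw [← hYt t, hc.1, hc1, one_smul]
      exact Nat.Coprime.mul_dvd_of_dvd_of_dvd hcop h1 hpt
    · intro h
      refine ⟨1, ?_⟩
      rw [blk_scalar_iff]
      have h1 : (q ^ k + 1) ∣ t := dvd_trans (dvd_mul_right _ _) h
      have h2 : p ∣ t := dvd_trans (dvd_mul_left _ _) h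
      refine ⟨?_, (hj2.2 t 1).2 ⟨rfl, h2⟩⟩
      rw [(hYt t).2 h1, one_smul]

end Cfsg.Agent.Lib.Helper10.PGM
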