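import Mathlib
import Cfsg.Agent.Lib.Helper10.PGM.Defs
import Cfsg.Agent.Lib.helper15.UBlk
import Cfsg.Agent.Lib.Helper29.PGME9core
import Cfsg.Agent.Lib.Helper24.PGME1
import Cfsg.Agent.Lib.Helper24.PGME2
import Cfsg.Agent.Lib.Helper10.PGME3

set_option autoImplicit false

/-!
# Project PGM (S2263, designer helper10), row E10: `lower_odd_prime` (helper29).
-/

namespace Cfsg.Agent.Lib.Helper10.PGM

open Matrix Cfsg.Agent.Lib.helper15.UNat Cfsg.Agent.Lib.helper15.UBlk

universe u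

/-- E10 : `d = k+2`, `k` odd, order `(q^k + 1) p` -/
theorem lower_odd_prime {F : Type*} [Field F] [Fintype F] (p f q k : ℕ) [Fact p.Prime]
    [CharP F p] (hf : 1 ≤ f) (hq : q = p ^ f) (hF : Fintype.card F = q ^ 2) (hk : Odd k) :
    ∃ g : PGU (k + 2) F q, orderOf g = (q ^ k + 1) * p :=
  pgme10_core p f q k hf hq hF hk (fun Y Z hY hZ => selfdual_blk hF Y Z hY hZ)
    (fun A hA N hN h => exists_of_selfdual hF (by omega) A hA N hN h)
    (odd_torus p f q k hq hF hk)

end Cfsg.Agent.Lib.Helper10.PGM
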