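import Mathlib
import Cfsg.Agent.Lib.Helper10.PGM.Defs
import Cfsg.Agent.Lib.helper15.UBlk
import Cfsg.Agent.Lib.Helper29.PGME9core
import Cfsg.Agent.Lib.Helper24.PGME1
import Cfsg.Agent.Lib.Helper24.PGME2
import Cfsg.Agent.Lib.Helper10.PGME4

set_option autoImplicit false

/-!
# Project PGM (S2263, designer helper10), row E9: `lower_odd_big` (helper29).
-/

namespace Cfsg.Agent.Lib.Helper10.PGM

open Matrix Cfsg.Agent.Lib.helper15.UNat Cfsg.Agent.Lib.helper15.UBlk

universe u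

/-- E9 : `d = 2m+1`, order `q^(2m) - 1` -/
theorem lower_odd_big {F : Type*} [Field F] [Fintype F] (p f q m : ℕ) [Fact p.Prime] [CharP F p]
    (hq : q = p ^ f) (hF : Fintype.card F = q ^ 2) (hm : 1 ≤ m) :
    ∃ g : PGU (m + m + 1) F q, orderOf g = q ^ (m + m) - 1 :=
  pgme9_core q m hF hm (fun Y Z hY hZ => selfdual_blk hF Y Z hY hZ)
    (fun A hA N hN h => exists_of_selfdual hF (by omega) A hA N hN h)
    (even_torus p f q m hq hF hm)

end Cfsg.Agent.Lib.Helper10.PGM
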