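import Mathlib
import Cfsg.Agent.Lib.Helper18.BLK.Defs
import Cfsg.Agent.Lib.Helper20.BLKS0
import Cfsg.Agent.Lib.Helper20.HupA
import Cfsg.Agent.Lib.helper4.BLKS1
import Cfsg.Agent.Lib.Helper18.BLKS567

/-!
# Project BLK (helper18), piece B5a (core) : for `p ≥ 5` the element `g` can be taken of order `p`
-/

set_option autoImplicit false
set_option linter.unusedVariables false
set_option linter.unusedSectionVars false
set_option linter.style.haveILetI false

namespace Cfsg.Agent.Lib.Helper18.BLK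

universe u


/-- **B5a**, core: the statement of `Base.exists_order_p` with the conclusion of B2 (`C_C(g) = Z`)
as an explicit hypothesis `hB2`. -/
theorem Base.h29_exists_order_p_core {G : Type u} [Group G] [Finite G] {p : ℕ} [Fact p.Prime]
    {E : Subgroup G} {z₀ : G} (B : Base p E z₀) (u₁ : G)
    (hu : u₁ ∈ Subgroup.centralizer (E : Set G)) (hup : u₁ ^ p = z₀) (hp3 : p ≠ 3) (g : G)
    (hg : g ∉ Subgroup.centralizer (E : Set G)) (hgu : rc u₁ g ∉ Subgroup.zpowers z₀)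
    (hB2 : ∀ c ∈ Subgroup.centralizer (E : Set G), c * g = g * c → c ∈ Subgroup.zpowers z₀) :
    ∃ x : G, x ∉ Subgroup.centralizer (E : Set G) ∧ x ^ p = 1 ∧
      rc u₁ x ∉ Subgroup.zpowers z₀ := by
  classical
  have hp := (Fact.out : p.Prime)
  have hp5 : 5 ≤ p := by
    have h2 := hp.two_le
    have hne2 := B.hp2
    rcases Nat.lt_or_ge p 5 with h | h
    · exfalso
      interval_cases p
      · exact hne2 rfl
      · exact hp3 rfl
      · exact absurd hp (by decide)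
    · exact h
  have hz₀p : z₀ ^ p = 1 := by rw [← B.z₀o]; exact pow_orderOf_eq_one z₀
  haveI : E.Normal := B.nE
  haveI hCn : (Subgroup.centralizer (E : Set G)).Normal := Subgroup.normal_centralizer
  -- `g ^ p ∈ Z`
  have hgpC : g ^ p ∈ Subgroup.centralizer (E : Set G) := by
    have := Subgroup.pow_index_mem (Subgroup.centralizer (E : Set G)) g
    rwa [B.index_C] at this
  have hgpZ : g ^ p ∈ Subgroup.zpowers z₀ :=
    hB2 (g ^ p) hgpC (by rw [← pow_succ, ← pow_succ'])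
  obtain ⟨i, hi⟩ := h20_mem_zpowers_nat hgpZ
  -- the correction
  set j : ℕ := (p - 1) * i with hj
  set m : G := u₁ ^ j with hm
  have hmC : m ∈ Subgroup.centralizer (E : Set G) := Subgroup.pow_mem _ hu _
  have hrE : rc u₁ g ∈ E := B.rc_u1_mem_E u₁ hu hup g
  set m₁ : G := rc m g with hm₁
  have hm₁eq : m₁ = rc u₁ g ^ j := by
    have := B.rc_DZ u₁ hu hup j 1 E.one_mem g
    rw [mul_one, rc_one_left, mul_one] at this
    exact this
  have hm₁E : m₁ ∈ E := by rw [hm₁eq]; exact E.pow_mem hrE _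
  set m₂ : G := rc m₁ g with hm₂
  have hm₂Z : m₂ ∈ Subgroup.zpowers z₀ := B.rc_mem_Z m₁ hm₁E g
  have hm₂c : m₂ ∈ Subgroup.center G := B.h20_Z_le_center hm₂Z
  have hm₂E : m₂ ∈ E := B.h20_Z_le_E hm₂Z
  have hCE : ∀ c ∈ Subgroup.centralizer (E : Set G), ∀ e ∈ E, Commute c e := by
    intro c hc e he
    exact ((Subgroup.mem_centralizer_iff.mp hc) e he).symm
  have h1 : g⁻¹ * m * g = m * m₁ := conj_eq m g
  have h2 : g⁻¹ * m₁ * g = m₁ * m₂ := conj_eq m₁ g
  have h3 : g⁻¹ * m₂ * g = m₂ := by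
    rw [mul_assoc, ← (Subgroup.mem_center_iff.mp hm₂c) g, ← mul_assoc, inv_mul_cancel, one_mul]
  have hF := Cfsg.Agent.Lib.Helper20.Hup.norm_formula g m m₁ m₂ h1 h2 h3 (hCE m hmC m₁ hm₁E)
    (hCE m hmC m₂ hm₂E) (B.cE m₁ hm₁E m₂ hm₂E) p
  have hmp : m ^ p = z₀ ^ j := by
    rw [hm, ← pow_mul, mul_comm, pow_mul, hup]
  have hc2 : m₁ ^ (p.choose 2) = 1 := by
    obtain ⟨k, hk⟩ := hp.dvd_choose_self (by norm_num : (2 : ℕ) ≠ 0) (by omega : 2 < p)
    rw [hk, pow_mul, B.eE m₁ hm₁E, one_pow]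
  have hc3 : m₂ ^ (p.choose 3) = 1 := by
    obtain ⟨k, hk⟩ := hp.dvd_choose_self (by norm_num : (3 : ℕ) ≠ 0) (by omega : 3 < p)
    rw [hk, pow_mul, B.eE m₂ hm₂E, one_pow]
  have hxp : (g * m) ^ p = 1 := by
    rw [hF, hmp, hc2, hc3, mul_one, mul_one, hi, ← pow_add, hj]
    have e : i + (p - 1) * i = p * i := by
      have : p - 1 + 1 = p := Nat.sub_add_cancel hp.one_le
      calc i + (p - 1) * i = (p - 1 + 1) * i := by ring
        _ = p * i := by rw [this]
    rw [e, pow_mul, hz₀p, one_pow]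
  refine ⟨g * m, ?_, hxp, ?_⟩
  · intro hx
    apply hg
    have := Subgroup.mul_mem _ hx (Subgroup.inv_mem _ hmC)
    rwa [mul_inv_cancel_right] at this
  · have hrc : rc u₁ (g * m) = rc u₁ g := by
      rw [rc_mul_right]
      have e1 : rc u₁ m = 1 := by
        rw [rc_eq_one_iff, hm, ← pow_succ', ← pow_succ]
      have e2 : m⁻¹ * rc u₁ g * m = rc u₁ g := by
        have hc := hCE m hmC _ hrE
        rw [mul_assoc, ← hc.eq, ← mul_assoc, inv_mul_cancel, one_mul]
      rw [e1, e2, one_mul]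
    rw [hrc]
    exact hgu

end Cfsg.Agent.Lib.Helper18.BLK
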