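import Mathlib
import Cfsg.Agent.Lib.Helper18.BLK.Defs
import Cfsg.Agent.Lib.Helper20.BLKS0

/-!
# Project BLK (helper18), piece P3 : order `p³` (metacyclic or the extraspecial group of exponent `p`)
-/

set_option autoImplicit false
set_option linter.unusedVariables false
set_option linter.unusedSectionVars false
set_option linter.style.haveILetI false

namespace Cfsg.Agent.Lib.Helper18.BLK

universe u

/-- a group of order `p³` with an element `g`, `g ^ p ≠ 1`, is metacyclic -/
theorem blkP3_metacyclic {G : Type u} [Group G] [Finite G] {p : ℕ} [Fact p.Prime]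
    (hn : Nat.card G = p ^ 3) (g : G) (hg : g ^ p ≠ 1) : Cfsg.IsMetacyclic G := by
  have hp := (Fact.out : p.Prime)
  have hord : orderOf g ∣ p ^ 3 := by rw [← hn]; exact orderOf_dvd_natCard g
  obtain ⟨k, hk3, hk⟩ := (Nat.dvd_prime_pow hp).mp hord
  have hk2 : 2 ≤ k := by
    by_contra hlt
    push Not at hlt
    apply hg
    have h1 : orderOf g ∣ p := by
      rw [hk]
      calc p ^ k ∣ p ^ 1 := pow_dvd_pow p (by omega)
        _ = p := pow_one p
    exact orderOf_dvd_iff_pow_eq_one.mp h1
  have hcardN : Nat.card (Subgroup.zpowers g) = p ^ k := by rw [Nat.card_zpowers, hk]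
  have hidx : (Subgroup.zpowers g).index * p ^ k = p ^ 3 := by
    rw [← hcardN, ← hn, mul_comm]
    exact Subgroup.card_mul_index _
  have hidx' : (Subgroup.zpowers g).index = p ^ (3 - k) := by
    have h3 : p ^ 3 = p ^ (3 - k) * p ^ k := by rw [← pow_add]; congr 1; omega
    rw [h3] at hidx
    exact Nat.eq_of_mul_eq_mul_right (pow_pos hp.pos k) hidx
  have hcases : k = 2 ∨ k = 3 := by omega
  rcases hcases with rfl | rfl
  · -- index `p`
    have hidxp : (Subgroup.zpowers g).index = p := by rw [hidx']; norm_num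
    have hnorm : (Subgroup.zpowers g).Normal := by
      apply Subgroup.normal_of_index_eq_minFac_card
      rw [hidxp, hn, Nat.Prime.pow_minFac hp (by norm_num)]
    refine ⟨Subgroup.zpowers g, hnorm, inferInstance, ?_⟩
    have hcq : Nat.card (G ⧸ Subgroup.zpowers g) = p := by
      rw [← Subgroup.index_eq_card, hidxp]
    exact isCyclic_of_prime_card hcq
  · -- index `1`
    have hidx1 : (Subgroup.zpowers g).index = 1 := by rw [hidx']; norm_num
    have htop : Subgroup.zpowers g = ⊤ := Subgroup.index_eq_one.mp hidx1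
    have hnorm : (Subgroup.zpowers g).Normal := by rw [htop]; infer_instance
    refine ⟨Subgroup.zpowers g, hnorm, inferInstance, ?_⟩
    have hcq : Nat.card (G ⧸ Subgroup.zpowers g) = 1 := by
      rw [← Subgroup.index_eq_card, hidx1]
    haveI : Subsingleton (G ⧸ Subgroup.zpowers g) := (Nat.card_eq_one_iff_unique.mp hcq).1
    exact isCyclic_of_subsingleton

/-- **P3**. order `p³`. -/
theorem Base.card_cube {G : Type u} [Group G] [Finite G] {p : ℕ} [Fact p.Prime]
    {E : Subgroup G} {z₀ : G} (B : Base p E z₀) (hn : Nat.card G = p ^ 3) :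
    Cfsg.IsMetacyclic G ∨ ∃ x y z : G, Subgroup.closure ({x, y, z} : Set G) = ⊤ ∧ x ^ p = 1 ∧
      y ^ p = 1 ∧ z ^ p = 1 ∧ x * z = z * x ∧ y * z = z * y ∧ x⁻¹ * y * x = y * z := by
  classical
  have hp := (Fact.out : p.Prime)
  obtain ⟨e₁, he₁, he₁z⟩ := B.exists_e1
  -- an element outside `C`
  have hgex : ∃ g, g ∉ Subgroup.centralizer (E : Set G) := by
    by_contra hall
    push Not at hall
    apply he₁z
    apply B.cent _ he₁
    rw [Subgroup.mem_center_iff]
    intro g
    exact ((Subgroup.mem_centralizer_iff.mp (hall g)) _ he₁).symm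
  have hEC : E ≤ Subgroup.centralizer (E : Set G) := by
    intro a ha
    rw [Subgroup.mem_centralizer_iff]
    intro b hb
    exact B.cE b hb a ha
  by_cases hcase : ∃ x, x ∉ Subgroup.centralizer (E : Set G) ∧ x ^ p = 1
  · right
    obtain ⟨x, hxC, hxp⟩ := hcase
    have hzZ : rc e₁ x ∈ Subgroup.zpowers z₀ := B.rc_mem_Z e₁ he₁ x
    have hz1 : rc e₁ x ≠ 1 := B.rc_ne_one e₁ he₁ he₁z x hxC
    have hzc : rc e₁ x ∈ Subgroup.center G := B.h20_Z_le_center hzZ
    have hzE : rc e₁ x ∈ E := B.h20_Z_le_E hzZ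
    refine ⟨x, e₁, rc e₁ x, ?_, hxp, B.eE e₁ he₁, B.eE _ hzE,
      ((Subgroup.mem_center_iff.mp hzc) x), ((Subgroup.mem_center_iff.mp hzc) e₁),
      conj_eq e₁ x⟩
    -- the closure is everything
    set H := Subgroup.closure ({x, e₁, rc e₁ x} : Set G) with hH
    have hxH : x ∈ H := Subgroup.subset_closure (by simp)
    have heH : e₁ ∈ H := Subgroup.subset_closure (by simp)
    have hzH : rc e₁ x ∈ H := Subgroup.subset_closure (by simp)
    have hz₀H : z₀ ∈ H := by
      have hcard : Nat.card (Subgroup.zpowers z₀) = p := B.h20_card_Z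
      have hne : (⟨rc e₁ x, hzZ⟩ : Subgroup.zpowers z₀) ≠ 1 := by
        intro h1
        exact hz1 (congrArg Subtype.val h1)
      have hmem := mem_zpowers_of_prime_card (G := Subgroup.zpowers z₀) hcard hne
        (g' := ⟨z₀, Subgroup.mem_zpowers z₀⟩)
      obtain ⟨k, hk⟩ := Subgroup.mem_zpowers_iff.mp hmem
      have hk' : rc e₁ x ^ k = z₀ := by
        have := congrArg Subtype.val hk
        simpa using this
      rw [← hk']
      exact H.zpow_mem hzH k
    have hEH : E ≤ H := by
      intro e he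
      obtain ⟨i, j, rfl⟩ := B.E_eq e₁ he₁ he₁z e he
      exact H.mul_mem (H.pow_mem hz₀H i) (H.pow_mem heH j)
    have hxE : x ∉ E := fun h => hxC (hEC h)
    have hdvd1 : Nat.card E ∣ Nat.card H := Subgroup.card_dvd_of_le hEH
    have hdvd2 : Nat.card H ∣ p ^ 3 := by rw [← hn]; exact Subgroup.card_subgroup_dvd_card H
    obtain ⟨m, hm3, hm⟩ := (Nat.dvd_prime_pow hp).mp hdvd2
    rw [B.cardE, hm] at hdvd1
    have hm2 : 2 ≤ m := (Nat.pow_dvd_pow_iff_le_right hp.one_lt).mp hdvd1
    have hmne : m ≠ 2 := by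
      rintro rfl
      have hEeq : E = H := Subgroup.eq_of_le_of_card_ge hEH (by rw [hm, B.cardE])
      exact hxE (hEeq ▸ hxH)
    have hm3' : m = 3 := by omega
    apply Subgroup.eq_top_of_card_eq
    rw [hm, hm3', hn]
  · left
    push Not at hcase
    obtain ⟨g, hg⟩ := hgex
    exact blkP3_metacyclic hn g (fun h => hcase g hg h)

end Cfsg.Agent.Lib.Helper18.BLK
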