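import Mathlib
import Cfsg.Agent.Lib.Helper18.BLK.Defs
import Cfsg.Agent.Lib.Helper20.BLKS0
import Cfsg.Agent.Lib.helper6.BLKSM
import Cfsg.Agent.Lib.Helper18.BLKS3

/-!
# Project BLK (helper18), piece S4 : if `C ≠ E` there is `u₁ ∈ C` with `u₁ ^ p = z₀`
-/

set_option autoImplicit false
set_option linter.unusedVariables false
set_option linter.unusedSectionVars false
set_option linter.style.haveILetI false

namespace Cfsg.Agent.Lib.Helper18.BLK

universe u


/-- from `d ∈ C` with `d ^ p ∈ Z \ 1` -/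
theorem blkS4_of_pow_mem_Z {G : Type u} [Group G] [Finite G] {p : ℕ} [Fact p.Prime] {E : Subgroup G}
    {z₀ : G} (B : Base p E z₀) (d : G) (hd : d ∈ Subgroup.centralizer (E : Set G))
    (hdz : d ^ p ∈ Subgroup.zpowers z₀) (hd1 : d ^ p ≠ 1) :
    ∃ u₁ ∈ Subgroup.centralizer (E : Set G), u₁ ^ p = z₀ := by
  have hp := (Fact.out : p.Prime)
  have hz₀p : z₀ ^ p = 1 := by rw [← B.z₀o]; exact pow_orderOf_eq_one z₀
  obtain ⟨i, hi⟩ := Subgroup.mem_zpowers_iff.mp hdz
  have hpi : ¬ (p : ℤ) ∣ i := by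
    intro hdvd
    apply hd1
    obtain ⟨k, rfl⟩ := hdvd
    rw [← hi, zpow_mul, zpow_natCast, hz₀p, one_zpow]
  obtain ⟨a, b, hab⟩ := (Prime.coprime_iff_not_dvd (Nat.prime_iff_prime_int.mp hp)).mpr hpi
  refine ⟨d ^ b, Subgroup.zpow_mem _ hd b, ?_⟩
  have h1 : (d ^ b) ^ p = (d ^ p) ^ b := by
    rw [← zpow_natCast, ← zpow_mul, mul_comm, zpow_mul, zpow_natCast]
  rw [h1, ← hi, ← zpow_mul]
  have h2 : i * b = 1 - a * p := by linarith
  rw [h2, zpow_sub, zpow_one, zpow_mul, zpow_natCast]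
  have h3 : (z₀ ^ a) ^ p = 1 := by
    rw [← zpow_natCast, ← zpow_mul, mul_comm, zpow_mul, zpow_natCast, hz₀p, one_zpow]
  rw [h3, inv_one, mul_one]

/-- **S4**. if `C ≠ E` there is `u₁ ∈ C` with `u₁^p = z₀`. -/
theorem Base.exists_u1 {G : Type u} [Group G] [Finite G] {p : ℕ} [Fact p.Prime] {E : Subgroup G}
    {z₀ : G} (B : Base p E z₀) (hCE : ∃ c ∈ Subgroup.centralizer (E : Set G), c ∉ E) :
    ∃ u₁ ∈ Subgroup.centralizer (E : Set G), u₁ ^ p = z₀ := by
  classical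
  obtain ⟨c, hcC, hcE⟩ := hCE
  have hp := (Fact.out : p.Prime)
  have hEab : Cfsg.IsElementaryAbelian p E :=
    ⟨⟨⟨fun a b => Subtype.ext (B.cE a a.2 b b.2)⟩⟩, B.eE⟩
  obtain ⟨k, hk⟩ := B.pG c
  have hex : ∃ j, c ^ p ^ j ∈ E := ⟨k, by rw [hk]; exact E.one_mem⟩
  have hj : c ^ p ^ (Nat.find hex) ∈ E := Nat.find_spec hex
  have hj0 : Nat.find hex ≠ 0 := by
    intro h0
    rw [h0, pow_zero, pow_one] at hj
    exact hcE hj
  obtain ⟨j', hj'⟩ : ∃ j', Nat.find hex = j' + 1 := Nat.exists_eq_succ_of_ne_zero hj0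
  set d := c ^ p ^ j' with hd
  have hdC : d ∈ Subgroup.centralizer (E : Set G) := Subgroup.pow_mem _ hcC _
  have hdE : d ∉ E := Nat.find_min hex (by omega : j' < Nat.find hex)
  have hdp : d ^ p ∈ E := by
    rw [hd, ← pow_mul, ← pow_succ, ← hj']
    exact hj
  have hd1 : d ^ p ≠ 1 := fun h => hdE (mem_E_of_pow B.rk E hEab B.cardE d hdC h)
  by_cases hdz : d ^ p ∈ Subgroup.zpowers z₀
  · exact blkS4_of_pow_mem_Z B d hdC hdz hd1
  · have hgex : ∃ g, g ∉ Subgroup.centralizer (E : Set G) := by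
      by_contra hall
      push Not at hall
      apply hdz
      apply B.cent _ hdp
      rw [Subgroup.mem_center_iff]
      intro g
      exact ((Subgroup.mem_centralizer_iff.mp (hall g)) _ hdp).symm
    obtain ⟨g, hg⟩ := hgex
    haveI : E.Normal := B.nE
    have hCn : (Subgroup.centralizer (E : Set G)).Normal := Subgroup.normal_centralizer
    have hconjC : g⁻¹ * d * g ∈ Subgroup.centralizer (E : Set G) := by
      have := hCn.conj_mem d hdC g⁻¹
      rwa [inv_inv] at this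
    have hrc : rc d g = d⁻¹ * (g⁻¹ * d * g) := by
      unfold rc
      group
    have hd'C : rc d g ∈ Subgroup.centralizer (E : Set G) := by
      rw [hrc]
      exact Subgroup.mul_mem _ (Subgroup.inv_mem _ hdC) hconjC
    have hconjp : (g⁻¹ * d * g) ^ p = g⁻¹ * d ^ p * g := by
      have := conj_pow (a := g⁻¹) (b := d) (i := p)
      rwa [inv_inv] at this
    have hconjE : g⁻¹ * d ^ p * g ∈ E := by
      have := B.nE.conj_mem _ hdp g⁻¹
      rwa [inv_inv] at this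
    have hd'p : rc d g ^ p = rc (d ^ p) g := by
      rw [hrc, B.pow_mul_C d⁻¹ (g⁻¹ * d * g) (Subgroup.inv_mem _ hdC) hconjC
        (by rw [inv_pow]; exact E.inv_mem hdp) (by rw [hconjp]; exact hconjE), hconjp, inv_pow]
      unfold rc
      group
    refine blkS4_of_pow_mem_Z B (rc d g) hd'C ?_ ?_
    · rw [hd'p]
      exact B.rc_mem_Z _ hdp g
    · rw [hd'p]
      exact B.rc_ne_one _ hdp hdz g hg

end Cfsg.Agent.Lib.Helper18.BLK
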