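import Mathlib
import Cfsg.Agent.Lib.Helper10.RES.Defs
import Cfsg.Agent.S3888

/-!
# Project RES (helper10, S5289), piece BR : Blackburn's theorem (S3888) for the subgroup `S` of `Ω`.
-/

set_option autoImplicit false
set_option linter.unusedVariables false

namespace Cfsg.Agent.Lib.Helper10.RES

open Cfsg

variable {Ω : Type*} [Group Ω]
variable {S : Subgroup Ω} {p n s : ℕ} [Fact p.Prime] {x y z : Ω}

/-- the closure of the images of three elements of `↥S` generating `↥S` is `S` -/
theorem resbr_closure (a b c : ↥S) (h : Subgroup.closure ({a, b, c} : Set ↥S) = ⊤) :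
    Subgroup.closure ({(a : Ω), (b : Ω), (c : Ω)} : Set Ω) = S := by
  have h1 : (Subgroup.closure ({a, b, c} : Set ↥S)).map S.subtype =
      Subgroup.closure (S.subtype '' ({a, b, c} : Set ↥S)) := MonoidHom.map_closure _ _
  rw [h, ← MonoidHom.range_eq_map, Subgroup.range_subtype] at h1
  have h2 : ({(a : Ω), (b : Ω), (c : Ω)} : Set Ω) = S.subtype '' ({a, b, c} : Set ↥S) := by
    ext w
    simp only [Set.mem_image, Set.mem_insert_iff, Set.mem_singleton_iff, Subgroup.coe_subtype]
    constructor
    · rintro (hw | hw | hw)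
      · exact ⟨a, Or.inl rfl, hw.symm⟩
      · exact ⟨b, Or.inr (Or.inl rfl), hw.symm⟩
      · exact ⟨c, Or.inr (Or.inr rfl), hw.symm⟩
    · rintro ⟨v, hv | hv | hv, rfl⟩
      · left; rw [hv]
      · right; left; rw [hv]
      · right; right; rw [hv]
  rw [h2]
  exact h1.symm


omit [Fact p.Prime] in
/-- the rank hypothesis for the group `↥S` -/
theorem resbr_rank
    (hrank3 : ∀ E : Subgroup Ω, E ≤ S → Cfsg.IsElementaryAbelian p E → Nat.card E ≤ p ^ 2) :
    Cfsg.PRankLE p 2 ↥S := by
  intro A hA hAp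
  have hle : A.map S.subtype ≤ S := by
    rintro _ ⟨a, _, rfl⟩
    exact a.2
  have hel : Cfsg.IsElementaryAbelian p (A.map S.subtype) := by
    refine ⟨⟨⟨?_⟩⟩, ?_⟩
    · rintro ⟨_, a, ha, rfl⟩ ⟨_, b, hb, rfl⟩
      apply Subtype.ext
      have := hA.is_comm.comm ⟨a, ha⟩ ⟨b, hb⟩
      have h2 : a * b = b * a := congrArg Subtype.val this
      simp only [Subgroup.coe_subtype, MulMemClass.mk_mul_mk]
      rw [← Subgroup.coe_mul, ← Subgroup.coe_mul, h2]
    · rintro _ ⟨a, ha, rfl⟩
      have := hAp a ha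
      rw [Subgroup.coe_subtype, ← Subgroup.coe_pow, this, Subgroup.coe_one]
  have hcard : Nat.card (A.map S.subtype) = Nat.card A :=
    Nat.card_congr (A.equivMapOfInjective S.subtype S.subtype_injective).symm.toEquiv
  rw [← hcard]
  exact hrank3 _ hle hel

theorem trichotomy [Finite S] (hp5 : 5 ≤ p) (hS : IsPGroup p S)
    (hrank3 : ∀ E : Subgroup Ω, E ≤ S → Cfsg.IsElementaryAbelian p E → Nat.card E ≤ p ^ 2) :
    Cfsg.IsMetacyclic ↥S ∨ (∃ (n : ℕ) (x y z : Ω), F1Set p n S x y z) ∨
      ∃ (n s : ℕ) (x y z : Ω), F2Set p n s S x y z := by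
  have hpp : p.Prime := Fact.out
  obtain ⟨n, hn⟩ := (IsPGroup.iff_card.1 hS)
  have hp2 : p ≠ 2 := by omega
  rcases Cfsg.Agent.S3888.result hp2 n hn (resbr_rank hrank3) with hm | ⟨hn3, a, b, c, hgen, ha, hb,
    hc, hac, hbc, hab⟩ | ⟨hn4, s, a, b, c, hs, hgen, ha, hb, hc, hbc, hab, hac⟩ | ⟨hp3, -, -⟩
  · exact Or.inl hm
  · right; left
    refine ⟨n, a, b, c, ⟨hn, hn3, resbr_closure a b c hgen, ?_, ?_, ?_, ?_, ?_, ?_⟩⟩
    · have := congrArg Subtype.val ha; simpa using this
    · have := congrArg Subtype.val hb; simpa using this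
    · have := congrArg Subtype.val hc; simpa using this
    · have := congrArg Subtype.val hac; simpa using this
    · have := congrArg Subtype.val hbc; simpa using this
    · have := congrArg Subtype.val hab; simpa using this
  · right; right
    have hps : ¬ p ∣ s := by
      intro hdvd
      rcases hs with rfl | hs
      · exact hpp.one_lt.ne' (Nat.dvd_one.1 hdvd)
      · apply hs
        have : (s : ZMod p) = 0 := (ZMod.natCast_eq_zero_iff s p).2 hdvd
        rw [this]
        exact ⟨0, by simp⟩
    refine ⟨n, s, a, b, c, ⟨hn, hn4, hps, resbr_closure a b c hgen, ?_, ?_, ?_, ?_, ?_, ?_⟩⟩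
    · have := congrArg Subtype.val ha; simpa using this
    · have := congrArg Subtype.val hb; simpa using this
    · have := congrArg Subtype.val hc; simpa using this
    · have := congrArg Subtype.val hbc; simpa using this
    · have := congrArg Subtype.val hab; simpa using this
    · have := congrArg Subtype.val hac; simpa using this
  · omega

end Cfsg.Agent.Lib.Helper10.RES
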