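import Mathlib
import Cfsg.Agent.Lib.Helper10.RES.Defs

/-!
# Project RES (helper10, S5289), piece FN : a subgroup normalized by `S` is fully normalized.
-/

set_option autoImplicit false
set_option linter.unusedVariables false

namespace Cfsg.Agent.Lib.Helper10.RES

open Cfsg Cfsg.FusionSystem

variable {Ω : Type*} [Group Ω]
variable {S : Subgroup Ω}

theorem fullyNormalized_of_normal [Finite S] (F : FusionSystem S) {Q : Subgroup Ω} (hQS : Q ≤ S)
    (hn : S ≤ Subgroup.normalizer (Q : Set Ω)) : F.IsFullyNormalized Q := by
  refine ⟨hQS, fun Q' _ => ?_⟩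
  have h1 : normalizerIn S Q = S := by
    unfold normalizerIn
    exact inf_eq_left.2 hn
  rw [h1]
  have h2 : normalizerIn S Q' ≤ S := by
    unfold normalizerIn
    exact inf_le_left
  exact Subgroup.card_le_of_le h2

end Cfsg.Agent.Lib.Helper10.RES
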