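import Mathlib
import Cfsg.Agent.Lib.Helper10.RES.Defs
import Cfsg.Agent.Lib.Helper27.EssStab2

/-!
# Project RES (helper10, S5289), piece FS : `stab_mem`
(from `Helper27.EssStab2.mem_of_stab'` with `B = ⊥`).
-/

set_option autoImplicit false
set_option linter.unusedVariables false

namespace Cfsg.Agent.Lib.Helper10.RES

open Cfsg Cfsg.FusionSystem Cfsg.Agent.Lib.Helper26

variable {Ω : Type*} [Group Ω]
variable {S : Subgroup Ω}

theorem stab_mem [Finite S] {p : ℕ} [Fact p.Prime] (hS : IsPGroup p S) (F : FusionSystem S)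
    {E : Subgroup Ω} (hE : F.IsEssential p E) {T : Subgroup Ω} (hTE : T ≤ E)
    (hinv : ∀ α ∈ F.autGroup E, ∀ t (ht : t ∈ T), ((α ⟨t, hTE ht⟩ : E) : Ω) ∈ T)
    (u : Ω) (huS : u ∈ S) (huE : u ∈ Subgroup.normalizer (E : Set Ω))
    (hcomm : ∀ e ∈ E, e⁻¹ * (u * e * u⁻¹) ∈ T) (hcent : ∀ t ∈ T, u * t * u⁻¹ = t) :
    u ∈ E := by
  have hES : E ≤ S := hE.1.1
  have : Finite T := finite_of_le (hTE.trans hES)
  refine Cfsg.Agent.Lib.Helper27.EssStab2.mem_of_stab' hS F hE hTE hinv (⊥ : Subgroup (MulAut T))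
    ?_ ?_ u huS huE hcomm ?_
  · intro γ hγ β hβ
    rw [Subgroup.mem_bot] at hβ
    subst hβ
    rw [mul_one, mul_inv_cancel]
    exact Subgroup.one_mem _
  · exact IsPGroup.of_bot
  · refine ⟨1, Subgroup.one_mem _, fun y => ?_⟩
    rw [MulAut.one_apply]
    exact (hcent y y.2).symm

end Cfsg.Agent.Lib.Helper10.RES
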