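import Mathlib
import Cfsg.Agent.Lib.Helper10.RES.Defs
import Cfsg.Agent.Lib.Helper27.EssExt

/-!
# Project RES (helper10, S5289), piece FX : `extend_normalizing`
(from `Helper27.EssExt.exists_extension` and restriction).
-/

set_option autoImplicit false
set_option linter.unusedVariables false

namespace Cfsg.Agent.Lib.Helper10.RES

open Cfsg Cfsg.FusionSystem Cfsg.Agent.Lib.Helper26

variable {Ω : Type*} [Group Ω]
variable {S : Subgroup Ω}

theorem extend_normalizing [Finite S] {p : ℕ} [Fact p.Prime] (hS : IsPGroup p S)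
    (F : FusionSystem S) (hF : F.IsSaturated p) {R : Subgroup Ω} (hfn : F.IsFullyNormalized R)
    (h : MulAut R) (hh : h ∈ F.autGroup R)
    (hnorm : ∀ β ∈ autInducedBy S R, h * β * h⁻¹ ∈ autInducedBy S R)
    (M : Subgroup Ω) (hMS : M ≤ S) (hMR : M ≤ Subgroup.normalizer (R : Set Ω)) (hRM : R ≤ M) :
    ∃ ψ : ↥M →* Ω, ψ ∈ F.Hom M ∧
      ∀ (r : Ω) (hr : r ∈ R), ψ ⟨r, hRM hr⟩ = ((h ⟨r, hr⟩ : R) : Ω) := by
  have hM : ∀ u (hu : u ∈ M), ∃ g ∈ S, ∀ x : R,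
      ((h ⟨u * x * u⁻¹, conj_mem_of_mem_normalizer (hMR hu) x⟩ : R) : Ω) =
        g * ((h x : R) : Ω) * g⁻¹ := by
    intro u hu
    have hβ : conjAut R u (hMR hu) ∈ autInducedBy S R :=
      conjAut_mem_autInducedBy (hMS hu) (hMR hu)
    obtain ⟨g, hgS, hg⟩ := mem_autInducedBy_iff.1 (hnorm _ hβ)
    refine ⟨g, hgS, fun x => ?_⟩
    have h1 := hg (h x)
    rw [← h1, MulAut.mul_apply, MulAut.mul_apply, MulAut.inv_apply_self]
    rfl
  obtain ⟨ψ, hψ, hψR⟩ := Cfsg.Agent.Lib.Helper27.EssExt.exists_extension hS F hF hfn h hh M hMS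
    hMR hM
  have hsub : M ≤ R ⊔ M := le_sup_right
  refine ⟨ψ.comp (Subgroup.inclusion hsub), restrict_mem F hψ hsub, fun r hr => ?_⟩
  have := hψR ⟨r, hr⟩
  rw [← this]
  rfl

end Cfsg.Agent.Lib.Helper10.RES
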