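import Mathlib
import Cfsg.Agent.Lib.Helper10.SLB.Defs

/-! Project SLB (leader helper10), row A01 `fixW_ne_bot` (helper29): a `p`-subgroup of `SL_n(F)`,
`F` finite of characteristic `p`, `n ≥ 1`, fixes a non-zero vector. -/

set_option autoImplicit false

open Polynomial

namespace Cfsg.Agent.Lib.Helper10.SLB

open Cfsg.Agent.Lib.Helper16.AP

universe u

section A

variable {F : Type u} [Field F]

/-- the natural action of a subgroup of `SL_n(F)` on `F^n` -/
def slba01_act {n : ℕ} (D : Subgroup (Matrix.SpecialLinearGroup (Fin n) F)) :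
    MulAction D (Fin n → F) where
  smul d w := ((d : Matrix.SpecialLinearGroup (Fin n) F) : Matrix (Fin n) (Fin n) F).mulVec w
  one_smul w := by
    show ((((1 : D) : Matrix.SpecialLinearGroup (Fin n) F)) : Matrix (Fin n) (Fin n) F).mulVec w = w
    rw [Subgroup.coe_one, Matrix.SpecialLinearGroup.coe_one, Matrix.one_mulVec]
  mul_smul a b w := by
    show ((((a * b : D) : Matrix.SpecialLinearGroup (Fin n) F)) : Matrix (Fin n) (Fin n) F).mulVec w
      = ((a : Matrix.SpecialLinearGroup (Fin n) F) : Matrix (Fin n) (Fin n) F).mulVec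
        (((b : Matrix.SpecialLinearGroup (Fin n) F) : Matrix (Fin n) (Fin n) F).mulVec w)
    rw [Subgroup.coe_mul, Matrix.SpecialLinearGroup.coe_mul, Matrix.mulVec_mulVec]

/-- A01 [M]  the p-group `D` acts on the finite set `Fin n → F` (`d • w = d.1.mulVec w`), `|Fin n → F| = q^n ≡ 0` mod p (`n ≥ 1`), so the number of fixed points is `≡ 0` mod p
(`IsPGroup.card_modEq_card_fixedPoints`); `0` is fixed, so there is a fixed `w ≠ 0`. -/
theorem fixW_ne_bot [Fintype F] (p : ℕ) [Fact p.Prime] [CharP F p] (n : ℕ) (hn : 1 ≤ n)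
    (D : Subgroup (Matrix.SpecialLinearGroup (Fin n) F)) (hD : IsPGroup p D) : fixW D ≠ ⊥ := by
  classical
  intro hbot
  let _ : MulAction D (Fin n → F) := slba01_act D
  have hfix : ∀ w : Fin n → F, w ∈ MulAction.fixedPoints D (Fin n → F) ↔ w = 0 := by
    intro w
    constructor
    · intro hw
      have hw' : w ∈ fixW D := by
        rw [mem_fixW]
        intro d hd
        exact hw ⟨d, hd⟩
      rw [hbot] at hw'
      exact (Submodule.mem_bot F).1 hw'
    · rintro rfl
      intro d
      show ((d : Matrix.SpecialLinearGroup (Fin n) F) : Matrix (Fin n) (Fin n) F).mulVec 0 = 0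
      rw [Matrix.mulVec_zero]
  have hcardfix : Nat.card (MulAction.fixedPoints D (Fin n → F)) = 1 := by
    rw [Nat.card_eq_one_iff_unique]
    refine ⟨⟨?_⟩, ⟨⟨0, (hfix 0).2 rfl⟩⟩⟩
    rintro ⟨a, ha⟩ ⟨b, hb⟩
    apply Subtype.ext
    show a = b
    rw [(hfix a).1 ha, (hfix b).1 hb]
  have hmod := hD.card_modEq_card_fixedPoints (Fin n → F)
  rw [hcardfix] at hmod
  -- `p ∣ |F^n|`
  have hp : p ∣ Nat.card (Fin n → F) := by
    rw [Nat.card_eq_fintype_card, Fintype.card_fun, Fintype.card_fin]
    obtain ⟨k, hk1, hk2⟩ := FiniteField.card F p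
    have hpF : p ∣ Fintype.card F := by
      rw [hk2]
      exact dvd_pow_self p (PNat.ne_zero k)
    exact dvd_trans hpF (dvd_pow_self _ (by omega))
  have h0 : Nat.card (Fin n → F) % p = 0 := Nat.mod_eq_zero_of_dvd hp
  have h1 : (1 : ℕ) % p = 1 := Nat.mod_eq_of_lt (Fact.out : p.Prime).one_lt
  unfold Nat.ModEq at hmod
  rw [h0, h1] at hmod
  exact absurd hmod (by norm_num)

end A

end Cfsg.Agent.Lib.Helper10.SLB
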