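import Mathlib
import Cfsg.Agent.Lib.Helper10.SLB.Defs

/-! Project SLB (leader helper10), row A02 `fixW_ne_top` (helper29): the fixed space of a non-trivial
subgroup of `SL_n(F)` is not everything. -/

set_option autoImplicit false

open Polynomial

namespace Cfsg.Agent.Lib.Helper10.SLB

open Cfsg.Agent.Lib.Helper16.AP

universe u

section A

variable {F : Type u} [Field F]

/-- a matrix fixing every vector is `1` -/
theorem slba02_eq_one {n : ℕ} (M : Matrix (Fin n) (Fin n) F)
    (h : ∀ w : Fin n → F, M.mulVec w = w) : M = 1 := by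
  ext i j
  have h1 := congrFun (h (Pi.single j 1)) i
  rw [Matrix.mulVec_single_one] at h1
  rw [Matrix.one_apply]
  rw [Pi.single_apply] at h1
  simpa [eq_comm] using h1

/-- A02 [S]  if every vector is fixed by every `d ∈ D` then `d.1 = 1` (`Matrix.mulVec` on `Pi.single j 1` / `Matrix.ext`), so `D = ⊥`. -/
theorem fixW_ne_top (n : ℕ) (D : Subgroup (Matrix.SpecialLinearGroup (Fin n) F)) (hD : D ≠ ⊥) :
    fixW D ≠ ⊤ := by
  intro htop
  apply hD
  rw [Subgroup.eq_bot_iff_forall]
  intro d hd
  have hall : ∀ w : Fin n → F, (d : Matrix (Fin n) (Fin n) F).mulVec w = w := by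
    intro w
    have hw : w ∈ fixW D := by rw [htop]; exact Submodule.mem_top
    exact (mem_fixW D w).1 hw d hd
  have h1 := slba02_eq_one (d : Matrix (Fin n) (Fin n) F) hall
  apply Subtype.ext
  rw [h1]
  rfl

end A

end Cfsg.Agent.Lib.Helper10.SLB
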