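import Mathlib
import Cfsg.Prelude.Def_LieTypeChar
import Cfsg.Prelude.Def_ChevStructure
import Cfsg.Agent.Lib.helper14.SQD.Defs

/-!
Project SQD = S4625 (designer helper14), row X1 (`sqd_of_closure`).
-/

set_option autoImplicit false

namespace Cfsg.Agent.Lib.helper14.SQD

open Cfsg Cfsg.Lie Matrix
open scoped commutatorElement

universe u v

/-- X1 [E-M]. `T = {x ∈ U | x ^ 2 ∈ ⁅U, U⁆}` is closed under products and inverses:
`(x * y) ^ 2 = x ^ 2 * ⁅x⁻¹, y⁆ * y ^ 2` (`⁅a, b⁆ = a * b * a⁻¹ * b⁻¹`, `group`), `(x⁻¹) ^ 2 = (x ^ 2)⁻¹`;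
`Subgroup.closure_induction`, `Subgroup.commutator_mem_commutator`. -/
theorem sqd_of_closure {G : Type u} [Group G] (U : Subgroup G) (S : Set G)
    (hU : U = Subgroup.closure S) (hS : ∀ s ∈ S, s ^ 2 ∈ ⁅U, U⁆) : SqD U := by
  intro x hx
  have key : ∀ y ∈ Subgroup.closure S, y ∈ U ∧ y ^ 2 ∈ ⁅U, U⁆ := by
    intro y hy
    induction hy using Subgroup.closure_induction with
    | mem s hs => exact ⟨hU ▸ Subgroup.subset_closure hs, hS s hs⟩
    | one => exact ⟨U.one_mem, by rw [one_pow]; exact Subgroup.one_mem _⟩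
    | mul a b _ _ iha ihb =>
      refine ⟨U.mul_mem iha.1 ihb.1, ?_⟩
      have hcomm : ⁅a⁻¹, b⁆ ∈ ⁅U, U⁆ :=
        Subgroup.commutator_mem_commutator (U.inv_mem iha.1) ihb.1
      have : (a * b) ^ 2 = a ^ 2 * ⁅a⁻¹, b⁆ * b ^ 2 := by
        rw [commutatorElement_def, pow_two, pow_two, pow_two]
        group
      rw [this]
      exact Subgroup.mul_mem _ (Subgroup.mul_mem _ iha.2 hcomm) ihb.2
    | inv a _ iha =>
      refine ⟨U.inv_mem iha.1, ?_⟩
      rw [inv_pow]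
      exact Subgroup.inv_mem _ iha.2
  exact (key x (hU ▸ hx)).2

end Cfsg.Agent.Lib.helper14.SQD
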