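import Mathlib
import Cfsg.Agent.Lib.Helper10.TEM.Defs
import Cfsg.Agent.Lib.helper8.ChevTwQ6

/-!
# TEM A2 (helper29): `nrho_act`, verbatim from helper10's `TEM/Skel`

`nrho = n * m * n⁻¹` with `n = nO lr = h8nWU (flatO lr)`, `m = h8nU 46 1` (`46 = chevE6.simple 1`): the three signed actions
`H8ActS` (`h8actS_word` inverted, `h8actS_nU`, `h8actS_word`) composed; the root bookkeeping is `decide`.
-/

set_option autoImplicit false

namespace Cfsg.Agent.Lib.Helper10.TEM

open Cfsg.Lie Cfsg.Lie.ChevalleyDatum Matrix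
open Cfsg.Agent.Lib.helper8

universe u

variable {K : Type u} [Field K] {q : ℕ} {f : K ≃+* K} {M H : Subgroup (GG K)}

/-- a signed action can be inverted -/
theorem tema2_actS_inv (g : GG K) (r r' : ℕ) (h : H8ActS chevE6 hB g r r') : H8ActS chevE6 hB g⁻¹ r' r := by
  obtain ⟨c, hc, h1⟩ := h
  refine ⟨c, hc, fun t => ?_⟩
  have hcc : c * (c * t) = t := by
    rcases hc with rfl | rfl
    · rw [one_mul, one_mul]
    · rw [neg_one_mul, neg_one_mul, neg_neg]
  have h2 := h1 (c * t)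
  rw [hcc] at h2
  rw [← h2, inv_inv]
  group

set_option synthInstance.maxSize 1024 in
/-- the root data of the four pairs -/
theorem tema2_data : (∀ i ∈ flatO lr, i < chevE6.rank) ∧ 1 < chevE6.rank ∧ chevE6.simple 1 = 46 ∧
    ∀ x ∈ rhoPairs, x.1 < chevE6.nroots ∧
      h8sW chevE6 (flatO lr).reverse x.1 < chevE6.nroots ∧
      h8sW chevE6 (flatO lr) (h8sW chevE6 (flatO lr).reverse x.1) = x.1 ∧
      chevE6.reflectRoot 1 (h8sW chevE6 (flatO lr).reverse x.1) < chevE6.nroots ∧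
      h8sW chevE6 (flatO lr) (chevE6.reflectRoot 1 (h8sW chevE6 (flatO lr).reverse x.1)) = x.2 := by
  decide +kernel

-- ROW A2  [S-M]  `H8ActS` of `nO lr`, `h8nU … 46 1 = nW [1]`, `(nO lr)⁻¹` (C6) composed; `decide` on words.
theorem nrho_act (b b' : ℕ) (h : (b, b') ∈ rhoPairs) :
    ∃ ε : K, (ε = 1 ∨ ε = -1) ∧ ∀ t : K, nrho * X b t * nrho⁻¹ = X b' (ε * t) := by
  obtain ⟨hw, h1r, hs1, hd⟩ := tema2_data
  obtain ⟨hb, hr1, e1, hr2, e2⟩ := hd (b, b') h
  dsimp only at hb hr1 e1 hr2 e2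
  have hn1 : H8ActS (K := K) chevE6 hB (h8nWU chevE6 hB (flatO lr)) (h8sW chevE6 (flatO lr).reverse b) b := by
    have := h8actS_word (K := K) chevE6 hB hA (flatO lr) hw (h8sW chevE6 (flatO lr).reverse b) hr1
    rw [e1] at this
    exact this
  have hn1' := tema2_actS_inv _ _ _ hn1
  have hm : H8ActS (K := K) chevE6 hB (h8nU chevE6 hB 46 (1 : K)) (h8sW chevE6 (flatO lr).reverse b)
      (chevE6.reflectRoot 1 (h8sW chevE6 (flatO lr).reverse b)) := by
    have := h8actS_nU (K := K) chevE6 hB hA 1 h1r (h8sW chevE6 (flatO lr).reverse b) hr1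
    rw [hs1] at this
    exact this
  have hn2 : H8ActS (K := K) chevE6 hB (h8nWU chevE6 hB (flatO lr))
      (chevE6.reflectRoot 1 (h8sW chevE6 (flatO lr).reverse b)) b' := by
    have := h8actS_word (K := K) chevE6 hB hA (flatO lr) hw _ hr2
    rw [e2] at this
    exact this
  have h12 := h8actS_mul chevE6 hB _ _ _ _ _ hm hn2
  have h123 := h8actS_mul chevE6 hB _ _ _ _ _ hn1' h12
  exact h123

end Cfsg.Agent.Lib.Helper10.TEM
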