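import Mathlib
import Cfsg.Agent.Lib.Helper10.TEM.Defs
import Cfsg.Agent.Lib.helper8.ChevTwP3
import Cfsg.Agent.Lib.helper8.ChevTw7

/-!
# TEM A3 (helper29): `comm_long`, verbatim from helper10's `TEM/Skel`

For `(b, b', a) ∈ longTriples`: `commTerms b' b = [(a, ±1, 1, 1)]` (`decide`), so `h8R_pair` gives
`X b s * X b' t = X b' t * X b s * X a (∓ t s)`, and `X a` commutes with `X b`, `X b'` (`h8xU_commute`).
-/

set_option autoImplicit false

namespace Cfsg.Agent.Lib.Helper10.TEM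

open Cfsg.Lie Cfsg.Lie.ChevalleyDatum Matrix
open Cfsg.Agent.Lib.helper8

universe u

variable {K : Type u} [Field K] {q : ℕ} {f : K ≃+* K} {M H : Subgroup (GG K)}

set_option synthInstance.maxSize 1024 in
/-- the root data of the six long triples -/
theorem tema3_data : ∀ x ∈ longTriples,
    x.1 < chevE6.nroots ∧ x.2.1 < chevE6.nroots ∧ x.2.2 < chevE6.nroots ∧
    x.1 ≠ x.2.1 ∧ x.1 ≠ chevE6.negIdx.getD x.2.1 0 ∧
    (chevE6.commTerms x.2.1 x.1 = [(x.2.2, 1, 1, 1)] ∨ chevE6.commTerms x.2.1 x.1 = [(x.2.2, -1, 1, 1)]) ∧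
    x.1 ≠ x.2.2 ∧ x.1 ≠ chevE6.negIdx.getD x.2.2 0 ∧ chevE6.commTerms x.2.2 x.1 = [] ∧
    x.2.1 ≠ x.2.2 ∧ x.2.1 ≠ chevE6.negIdx.getD x.2.2 0 ∧ chevE6.commTerms x.2.2 x.2.1 = [] := by
  decide +kernel

/-- group form: if `B A = A B Z` with `Z` commuting with `A` and `B`, then `[B, A] = Z` -/
theorem tema3_comm {G : Type*} [Group G] {A B Z : G} (h : B * A = A * B * Z) (hA : Commute Z A) (hB : Commute Z B) :
    B * A * B⁻¹ * A⁻¹ = Z := by
  rw [h, mul_assoc (A * B), hB.inv_right.eq, ← mul_assoc, mul_assoc A, mul_inv_cancel, mul_one, mul_assoc,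
    hA.inv_right.eq, ← mul_assoc, mul_inv_cancel, one_mul]

-- ROW A3  [S-M]  `h8R_pair` (ChevTwP3): `commTerms b' b = [(a, ε, 1, 1)]` (`decide`), and `X a` commutes
-- with `X b`, `X b'` (`h8xU_commute`).
theorem comm_long (b b' a : ℕ) (h : (b, b', a) ∈ longTriples) :
    ∃ ε : K, (ε = 1 ∨ ε = -1) ∧ ∀ s t : K,
      X b s * X b' t * (X b s)⁻¹ * (X b' t)⁻¹ = X a (ε * s * t) := by
  obtain ⟨hb, hb', ha, h1, h2, h3, h4, h5, h6, h7, h8, h9⟩ := tema3_data (b, b', a) h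
  dsimp only at hb hb' ha h1 h2 h3 h4 h5 h6 h7 h8 h9
  have key : ∀ ε0 : ℤ, (ε0 = 1 ∨ ε0 = -1) → chevE6.commTerms b' b = [(a, ε0, 1, 1)] →
      ∃ ε : K, (ε = 1 ∨ ε = -1) ∧ ∀ s t : K,
        X b s * X b' t * (X b s)⁻¹ * (X b' t)⁻¹ = X a (ε * s * t) := by
    intro ε0 hε0 hct
    refine ⟨-((ε0 : ℤ) : K), ?_, fun s t => ?_⟩
    · rcases hε0 with rfl | rfl
      · right; simp
      · left; simp
    · have hR := h8R_pair (K := K) chevE6 hB hC b' b a hb' hb h1 h2 ε0 hct t s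
      unfold H8R at hR
      have hZb : Commute (h8xU chevE6 hB a (((ε0 : ℤ) : K) * (-t) * s)) (h8xU chevE6 hB b s) :=
        h8xU_commute chevE6 hB hC a b ha hb h4 h5 h6 _ _
      have hZb' : Commute (h8xU chevE6 hB a (((ε0 : ℤ) : K) * (-t) * s)) (h8xU chevE6 hB b' t) :=
        h8xU_commute chevE6 hB hC a b' ha hb' h7 h8 h9 _ _
      have e := tema3_comm hR hZb' hZb
      unfold X
      rw [e]
      congr 1
      ring
  rcases h3 with h3 | h3
  · exact key 1 (Or.inl rfl) h3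
  · exact key (-1) (Or.inr rfl) h3

end Cfsg.Agent.Lib.Helper10.TEM
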