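import Mathlib
import Cfsg.Agent.Lib.Helper24.APF.Defs

/-!
# Project APF (helper24), piece LOC0 : transport of `Good` along isomorphisms of symmetric groups
-/

set_option autoImplicit false
set_option linter.unusedVariables false
set_option linter.unusedSectionVars false
set_option linter.style.haveILetI false

namespace Cfsg.Agent.Lib.Helper24.APF

open Equiv

/-- `Good` is invariant under group isomorphisms of the ambient symmetric groups -/
theorem h29_good_mulEquiv (p : ℕ) {β γ : Type*} [Fintype β] [DecidableEq β] [Fintype γ]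
    [DecidableEq γ] (φ : Perm β ≃* Perm γ) (u w : Perm β) (h : Good p u w) :
    Good p (φ u) (φ w) := by
  obtain ⟨h1, h2⟩ := h
  refine ⟨?_, ?_⟩
  · rintro ⟨k, hk⟩
    apply h1
    refine ⟨k, ?_⟩
    rw [← map_mul, MulEquiv.orderOf_eq] at hk
    exact hk
  · intro hsol
    apply h2
    have himg : (Subgroup.closure ({u, w} : Set (Perm β))).map (φ : Perm β →* Perm γ) =
        Subgroup.closure ({φ u, φ w} : Set (Perm γ)) := by
      rw [MonoidHom.map_closure, Set.image_pair]
      rfl
    have hsol' : Group.IsSolvable
        ↥((Subgroup.closure ({u, w} : Set (Perm β))).map (φ : Perm β →* Perm γ)) := by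
      rw [himg]
      exact hsol
    haveI := hsol'
    exact solvable_of_solvable_injective
      (f := (φ.subgroupMap (Subgroup.closure ({u, w} : Set (Perm β)))).toMonoidHom)
      (φ.subgroupMap (Subgroup.closure ({u, w} : Set (Perm β)))).injective

theorem good_permCongr (p : ℕ) {β γ : Type*} [Fintype β] [DecidableEq β] [Fintype γ]
    [DecidableEq γ] (e : β ≃ γ) (u w : Perm β) (h : Good p u w) :
    Good p (e.permCongr u) (e.permCongr w) := by
  have := h29_good_mulEquiv p e.permCongrHom u w h
  rwa [Equiv.permCongrHom_coe] at this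

theorem good_conj (p : ℕ) {β : Type*} [Fintype β] [DecidableEq β] (g u w : Perm β)
    (h : Good p u w) : Good p (g * u * g⁻¹) (g * w * g⁻¹) := by
  have := h29_good_mulEquiv p (MulAut.conj g) u w h
  simpa [MulAut.conj_apply] using this

theorem good_symm (p : ℕ) {β : Type*} [Fintype β] [DecidableEq β] (u w : Perm β)
    (h : Good p u w) : Good p w u := by
  obtain ⟨h1, h2⟩ := h
  refine ⟨?_, ?_⟩
  · rintro ⟨k, hk⟩
    apply h1
    refine ⟨k, ?_⟩
    have e : w * u = (MulAut.conj u⁻¹) (u * w) := by
      rw [MulAut.conj_apply]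
      group
    rw [e, MulEquiv.orderOf_eq] at hk
    exact hk
  · rw [Set.pair_comm]
    exact h2

/-- the cycle type is invariant under `permCongr` -/
theorem h29_cycleType_permCongr {β γ : Type*} [Fintype β] [DecidableEq β] [Fintype γ]
    [DecidableEq γ] (e : β ≃ γ) (u : Perm β) : (e.permCongr u).cycleType = u.cycleType := by
  have h : e.permCongr u =
      u.extendDomain (e.trans (Equiv.subtypeUnivEquiv (p := fun _ : γ => True)
        (fun _ => trivial)).symm) := by
    ext x
    have hx : x = ((e.trans (Equiv.subtypeUnivEquiv (p := fun _ : γ => True)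
        (fun _ => trivial)).symm) (e.symm x) : γ) := by
      simp
    conv_rhs => rw [hx, Equiv.Perm.extendDomain_apply_image]
    simp
  rw [h, Equiv.Perm.cycleType_extendDomain]

theorem cfg_of_fintype (p : ℕ) {β : Type*} [Fintype β] [DecidableEq β] (u w : Perm β)
    (h : Good p u w) : Cfg p u.cycleType w.cycleType (Fintype.card β) := by
  refine ⟨(Fintype.equivFin β).permCongr u, (Fintype.equivFin β).permCongr w,
    h29_cycleType_permCongr _ u, h29_cycleType_permCongr _ w, good_permCongr p _ u w h⟩

theorem cfg2_of_fintype (p : ℕ) {β : Type*} [Fintype β] [DecidableEq β] (u w d : Perm β)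
    (hd : Perm.sign d = -1) (h : Good p u w) (h' : Good p u (d * w * d⁻¹)) :
    Cfg2 p u.cycleType w.cycleType (Fintype.card β) := by
  refine ⟨(Fintype.equivFin β).permCongr u, (Fintype.equivFin β).permCongr w,
    (Fintype.equivFin β).permCongr d,
    h29_cycleType_permCongr _ u, h29_cycleType_permCongr _ w, ?_, good_permCongr p _ u w h, ?_⟩
  · rw [Equiv.Perm.sign_permCongr, hd]
  · have := good_permCongr p (Fintype.equivFin β) u (d * w * d⁻¹) h'
    have e : (Fintype.equivFin β).permCongr (d * w * d⁻¹) =
        (Fintype.equivFin β).permCongr d * (Fintype.equivFin β).permCongr w *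
          ((Fintype.equivFin β).permCongr d)⁻¹ := by
      rw [← Equiv.permCongrHom_coe, map_mul, map_mul, map_inv]
    rwa [e] at this

end Cfsg.Agent.Lib.Helper24.APF
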