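import Mathlib
import Cfsg.Prelude.Def_GeometricClasses
import Cfsg.Agent.Lib.Helper27.ASC.Defs
import Cfsg.Agent.Lib.Helper19.ASG.Defs
import Cfsg.Agent.Lib.Helper26.ASGD1.Defs

set_option autoImplicit false
set_option linter.unusedVariables false

/-!
# Project ASG, block D1, piece SYMALT (helper29): an invertible bilinear Gram matrix fixed by an absolutely irreducible
group is symmetric or alternating (odd characteristic).
-/

namespace Cfsg.Agent.Lib.Helper19.ASG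

open Cfsg Cfsg.Geo Cfsg.Agent.Lib.Helper27.ASC
open scoped MatrixGroups Matrix

variable {n : ℕ} {F : Type*} [Field F] [Fintype F]

theorem asgd1symalt_two_ne_zero (hF : Odd (Fintype.card F)) : (2 : F) ≠ 0 := by
  intro h2
  have hchar : ringChar F = 2 := CharP.ringChar_of_prime_eq_zero Nat.prime_two (by exact_mod_cast h2)
  have := FiniteField.even_card_of_char_two hchar
  rcases hF with ⟨k, hk⟩
  omega

omit [Fintype F] in
/-- `y ⬝ A x = x ⬝ Aᵀ y` -/
theorem asgd1symalt_swap (A : Matrix (Fin n) (Fin n) F) (x y : Fin n → F) :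
    y ⬝ᵥ (A *ᵥ x) = x ⬝ᵥ (Aᵀ *ᵥ y) := by
  rw [dotProduct_comm, ← Matrix.vecMul_transpose, ← Matrix.dotProduct_mulVec]

omit [Fintype F] in
/-- `(s u) ⬝ A (s v) = u ⬝ (sᵀ A s) v` -/
theorem asgd1symalt_transport (A s : Matrix (Fin n) (Fin n) F) (u v : Fin n → F) :
    (s *ᵥ u) ⬝ᵥ (A *ᵥ (s *ᵥ v)) = u ⬝ᵥ ((sᵀ * A * s) *ᵥ v) := by
  rw [← Matrix.mulVec_mulVec, ← Matrix.mulVec_mulVec, Matrix.dotProduct_mulVec u, Matrix.vecMul_transpose]

omit [Fintype F] in
/-- an invertible matrix gives a non-degenerate pairing -/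
theorem asgd1symalt_nondeg (A : Matrix (Fin n) (Fin n) F) (hAu : IsUnit A.det) (v : Fin n → F) (hv : v ≠ 0) :
    ∃ x : Fin n → F, x ⬝ᵥ (A *ᵥ v) ≠ 0 := by
  classical
  have hAv : A *ᵥ v ≠ 0 := by
    intro h0
    apply hv
    have := congrArg (fun w => A⁻¹ *ᵥ w) h0
    simp only [Matrix.mulVec_mulVec, Matrix.nonsing_inv_mul A hAu, Matrix.one_mulVec, Matrix.mulVec_zero] at this
    exact this
  obtain ⟨i, hi⟩ : ∃ i, (A *ᵥ v) i ≠ 0 := by
    by_contra hcon
    push Not at hcon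
    exact hAv (funext hcon)
  refine ⟨Pi.single i 1, ?_⟩
  rw [single_dotProduct, one_mul]
  exact hi

/-- D1-SYMALT : an invertible bilinear Gram matrix fixed by an absolutely irreducible group is symmetric or alternating
(`Aᵀ = ε A` by Schur, `ε = ±1`), odd characteristic -/
theorem d1_symalt {R : Subgroup (GL (Fin n) F)} (hA : AbsIrr R) (hodd : Odd (Fintype.card F))
    (A : Matrix (Fin n) (Fin n) F) (hAu : IsUnit A.det)
    (hfix : ∀ x ∈ R, (x : Matrix (Fin n) (Fin n) F)ᵀ * A * (x : Matrix (Fin n) (Fin n) F) = A) :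
    (∃ Q : (Fin n → F) → F, IsNondegenerateQuadraticForm Q ∧ FixesQuadForm (matrixSet R) Q) ∨
    (∃ f : (Fin n → F) → (Fin n → F) → F, IsSymplecticForm f ∧ FixesForm (matrixSet R) f) := by
  classical
  have h2 : (2 : F) ≠ 0 := asgd1symalt_two_ne_zero hodd
  have hAinv : A⁻¹ * A = 1 := Matrix.nonsing_inv_mul A hAu
  have hAinv' : A * A⁻¹ = 1 := Matrix.mul_nonsing_inv A hAu
  -- Schur: `A⁻¹ Aᵀ` commutes with `R`
  have hcomm : ∀ s ∈ matrixSet R, (A⁻¹ * Aᵀ) * s = s * (A⁻¹ * Aᵀ) := by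
    rintro _ ⟨x, hx, rfl⟩
    have h1 := hfix x hx
    have h1t : (x : Matrix (Fin n) (Fin n) F)ᵀ * Aᵀ * (x : Matrix (Fin n) (Fin n) F) = Aᵀ := by
      have := congrArg Matrix.transpose h1
      rw [Matrix.transpose_mul, Matrix.transpose_mul, Matrix.transpose_transpose] at this
      rw [← mul_assoc] at this
      exact this
    have hx1 : (x : Matrix (Fin n) (Fin n) F) * ((x⁻¹ : GL (Fin n) F) : Matrix (Fin n) (Fin n) F) = 1 := by
      rw [← Units.val_mul, mul_inv_cancel, Units.val_one]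
    -- `xᵀ A = A x⁻¹`
    have h3 : (x : Matrix (Fin n) (Fin n) F)ᵀ * A = A * ((x⁻¹ : GL (Fin n) F) : Matrix (Fin n) (Fin n) F) := by
      calc (x : Matrix (Fin n) (Fin n) F)ᵀ * A
          = (x : Matrix (Fin n) (Fin n) F)ᵀ * A * ((x : Matrix (Fin n) (Fin n) F) *
              ((x⁻¹ : GL (Fin n) F) : Matrix (Fin n) (Fin n) F)) := by rw [hx1, mul_one]
        _ = ((x : Matrix (Fin n) (Fin n) F)ᵀ * A * (x : Matrix (Fin n) (Fin n) F)) *
              ((x⁻¹ : GL (Fin n) F) : Matrix (Fin n) (Fin n) F) := by simp only [mul_assoc]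
        _ = A * ((x⁻¹ : GL (Fin n) F) : Matrix (Fin n) (Fin n) F) := by rw [h1]
    -- `x A⁻¹ xᵀ = A⁻¹`
    have h4 : (x : Matrix (Fin n) (Fin n) F) * A⁻¹ * (x : Matrix (Fin n) (Fin n) F)ᵀ = A⁻¹ := by
      have h5 : ((x : Matrix (Fin n) (Fin n) F) * A⁻¹ * (x : Matrix (Fin n) (Fin n) F)ᵀ) * A = 1 := by
        calc ((x : Matrix (Fin n) (Fin n) F) * A⁻¹ * (x : Matrix (Fin n) (Fin n) F)ᵀ) * A
            = (x : Matrix (Fin n) (Fin n) F) * A⁻¹ * ((x : Matrix (Fin n) (Fin n) F)ᵀ * A) := by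
              simp only [mul_assoc]
          _ = (x : Matrix (Fin n) (Fin n) F) * (A⁻¹ * A) *
                ((x⁻¹ : GL (Fin n) F) : Matrix (Fin n) (Fin n) F) := by rw [h3]; simp only [mul_assoc]
          _ = 1 := by rw [hAinv, mul_one, hx1]
      calc (x : Matrix (Fin n) (Fin n) F) * A⁻¹ * (x : Matrix (Fin n) (Fin n) F)ᵀ
          = ((x : Matrix (Fin n) (Fin n) F) * A⁻¹ * (x : Matrix (Fin n) (Fin n) F)ᵀ) * (A * A⁻¹) := by
            rw [hAinv', mul_one]
        _ = (((x : Matrix (Fin n) (Fin n) F) * A⁻¹ * (x : Matrix (Fin n) (Fin n) F)ᵀ) * A) * A⁻¹ := by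
            simp only [mul_assoc]
        _ = A⁻¹ := by rw [h5, one_mul]
    calc (A⁻¹ * Aᵀ) * (x : Matrix (Fin n) (Fin n) F)
        = ((x : Matrix (Fin n) (Fin n) F) * A⁻¹ * (x : Matrix (Fin n) (Fin n) F)ᵀ) * Aᵀ *
            (x : Matrix (Fin n) (Fin n) F) := by rw [h4]
      _ = (x : Matrix (Fin n) (Fin n) F) * A⁻¹ * ((x : Matrix (Fin n) (Fin n) F)ᵀ * Aᵀ *
            (x : Matrix (Fin n) (Fin n) F)) := by simp only [mul_assoc]
      _ = (x : Matrix (Fin n) (Fin n) F) * (A⁻¹ * Aᵀ) := by rw [h1t]; simp only [mul_assoc]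
  obtain ⟨ε, hε⟩ := hA.2 (A⁻¹ * Aᵀ) hcomm
  have hAt : Aᵀ = ε • A := by
    calc Aᵀ = (A * A⁻¹) * Aᵀ := by rw [hAinv', one_mul]
      _ = A * (A⁻¹ * Aᵀ) := by rw [mul_assoc]
      _ = ε • A := by rw [hε, Matrix.mul_smul, mul_one]
  -- invariance of the pairing
  have hinv : ∀ s ∈ matrixSet R, ∀ u v : Fin n → F, (s *ᵥ u) ⬝ᵥ (A *ᵥ (s *ᵥ v)) = u ⬝ᵥ (A *ᵥ v) := by
    rintro _ ⟨x, hx, rfl⟩ u v
    rw [asgd1symalt_transport, hfix x hx]
  by_cases hε1 : ε = 1
  · -- symmetric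
    left
    have hsym : Aᵀ = A := by rw [hAt, hε1, one_smul]
    have hswap : ∀ x y : Fin n → F, y ⬝ᵥ (A *ᵥ x) = x ⬝ᵥ (A *ᵥ y) := by
      intro x y
      rw [asgd1symalt_swap, hsym]
    have hpolar : ∀ x y : Fin n → F,
        QuadraticMap.polar (fun v : Fin n → F => v ⬝ᵥ (A *ᵥ v)) x y = 2 * (x ⬝ᵥ (A *ᵥ y)) := by
      intro x y
      unfold QuadraticMap.polar
      simp only [Matrix.mulVec_add, add_dotProduct, dotProduct_add]
      rw [hswap x y]
      ring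
    refine ⟨fun v => v ⬝ᵥ (A *ᵥ v), ⟨?_, ⟨?_, ?_, ?_, ?_⟩, ?_⟩, ?_⟩
    · intro c v
      simp only [Matrix.mulVec_smul, smul_dotProduct, dotProduct_smul, smul_eq_mul]
      ring
    · intro x y v
      rw [hpolar, hpolar, hpolar, add_dotProduct]
      ring
    · intro c x v
      rw [hpolar, hpolar, smul_dotProduct, smul_eq_mul]
      ring
    · intro v x y
      rw [hpolar, hpolar, hpolar, Matrix.mulVec_add, dotProduct_add]
      ring
    · intro c v x
      rw [hpolar, hpolar, Matrix.mulVec_smul, dotProduct_smul, smul_eq_mul]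
      ring
    · intro v hv
      obtain ⟨x, hx⟩ := asgd1symalt_nondeg A hAu v hv
      refine ⟨⟨x, ?_⟩, ⟨x, ?_⟩⟩
      · rw [hpolar]
        exact mul_ne_zero h2 hx
      · rw [hpolar, hswap x v]
        exact mul_ne_zero h2 hx
    · intro s hs v
      exact hinv s hs v v
  · -- alternating
    right
    have hskew : Aᵀ = -A := by
      rcases Nat.eq_zero_or_pos n with h0 | hpos
      · subst h0
        exact Subsingleton.elim _ _
      · have h3 : A = (ε * ε) • A := by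
          have := congrArg Matrix.transpose hAt
          rw [Matrix.transpose_transpose, Matrix.transpose_smul, hAt, smul_smul] at this
          exact this
        have h4 : (1 : Matrix (Fin n) (Fin n) F) = (ε * ε) • (1 : Matrix (Fin n) (Fin n) F) := by
          calc (1 : Matrix (Fin n) (Fin n) F) = A * A⁻¹ := hAinv'.symm
            _ = ((ε * ε) • A) * A⁻¹ := by rw [← h3]
            _ = (ε * ε) • (1 : Matrix (Fin n) (Fin n) F) := by rw [Matrix.smul_mul, hAinv']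
        have h5 := congrFun (congrFun h4 ⟨0, hpos⟩) ⟨0, hpos⟩
        rw [Matrix.smul_apply, Matrix.one_apply_eq, smul_eq_mul, mul_one] at h5
        have h6 : (ε - 1) * (ε + 1) = 0 := by ring_nf; ring_nf at h5; rw [← h5]; ring
        rcases mul_eq_zero.mp h6 with h7 | h7
        · exact absurd (sub_eq_zero.mp h7) hε1
        · have : ε = -1 := eq_neg_of_add_eq_zero_left h7
          rw [hAt, this, neg_smul, one_smul]
    have hswap : ∀ x y : Fin n → F, y ⬝ᵥ (A *ᵥ x) = - (x ⬝ᵥ (A *ᵥ y)) := by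
      intro x y
      rw [asgd1symalt_swap, hskew, Matrix.neg_mulVec, dotProduct_neg]
    refine ⟨fun u v => u ⬝ᵥ (A *ᵥ v), ⟨⟨?_, ?_, ?_, ?_⟩, ?_, ?_, ?_⟩, ?_⟩
    · intro x y v
      exact add_dotProduct _ _ _
    · intro c x v
      show (c • x) ⬝ᵥ (A *ᵥ v) = c * (x ⬝ᵥ (A *ᵥ v))
      rw [smul_dotProduct, smul_eq_mul]
    · intro v x y
      show v ⬝ᵥ (A *ᵥ (x + y)) = v ⬝ᵥ (A *ᵥ x) + v ⬝ᵥ (A *ᵥ y)
      rw [Matrix.mulVec_add, dotProduct_add]
    · intro c v x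
      show v ⬝ᵥ (A *ᵥ (c • x)) = c * (v ⬝ᵥ (A *ᵥ x))
      rw [Matrix.mulVec_smul, dotProduct_smul, smul_eq_mul]
    · intro v w
      exact hswap w v
    · intro v
      have h3 : v ⬝ᵥ (A *ᵥ v) = - (v ⬝ᵥ (A *ᵥ v)) := hswap v v
      have h4 : 2 * (v ⬝ᵥ (A *ᵥ v)) = 0 := by
        have : v ⬝ᵥ (A *ᵥ v) + v ⬝ᵥ (A *ᵥ v) = 0 := by
          nth_rewrite 1 [h3]
          exact neg_add_cancel _
        rw [two_mul]
        exact this
      rcases mul_eq_zero.mp h4 with h5 | h5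
      · exact absurd h5 h2
      · exact h5
    · intro v hv
      obtain ⟨x, hx⟩ := asgd1symalt_nondeg A hAu v hv
      refine ⟨⟨x, hx⟩, ⟨x, ?_⟩⟩
      show v ⬝ᵥ (A *ᵥ x) ≠ 0
      rw [hswap x v]
      exact neg_ne_zero.mpr hx
    · intro s hs u v
      exact hinv s hs u v

end Cfsg.Agent.Lib.Helper19.ASG
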