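import Mathlib
import Cfsg.Prelude.Def_GeometricClasses
import Cfsg.Agent.Lib.Helper27.ASC.Defs
import Cfsg.Agent.Lib.Helper19.ASG.Defs
import Cfsg.Agent.Lib.Helper26.ASGD1.Defs
import Cfsg.Agent.Lib.Helper29.ASCFORM
import Cfsg.Agent.Lib.Helper29.ASCGRAM
import Cfsg.Agent.Lib.Helper29.ASGD1SYMALT

set_option autoImplicit false
set_option linter.unusedVariables false

/-!
# Project ASG, block D1, piece HERM (helper29): an invertible `σ`-sesquilinear Gram matrix fixed by an absolutely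
irreducible group can be rescaled to a hermitian one.
-/

namespace Cfsg.Agent.Lib.Helper19.ASG

open Cfsg Cfsg.Geo Cfsg.Agent.Lib.Helper27.ASC
open scoped MatrixGroups Matrix

variable {n : ℕ} {F : Type*} [Field F] [Fintype F]

omit [Fintype F] in
/-- two `τ`-sesquilinear Gram matrices fixed by an absolutely irreducible group are proportional -/
theorem asgd1herm_prop (τ : F →+* F) {R : Subgroup (GL (Fin n) F)} (hA : AbsIrr R)
    (A A₂ : Matrix (Fin n) (Fin n) F) (hAu : IsUnit A.det)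
    (hinv : ∀ s ∈ R, (s : Matrix (Fin n) (Fin n) F)ᵀ * A * (s : Matrix (Fin n) (Fin n) F).map τ = A)
    (hinv2 : ∀ s ∈ R, (s : Matrix (Fin n) (Fin n) F)ᵀ * A₂ * (s : Matrix (Fin n) (Fin n) F).map τ = A₂) :
    ∃ c : F, A₂ = c • A := by
  classical
  obtain ⟨T', hT'⟩ : ∃ T' : Matrix (Fin n) (Fin n) F, T' = A₂ * A⁻¹ := ⟨_, rfl⟩
  have hT'A : T' * A = A₂ := by
    rw [hT', Matrix.mul_assoc, Matrix.nonsing_inv_mul A hAu, Matrix.mul_one]
  have step2 : ∀ s ∈ R, (s : Matrix (Fin n) (Fin n) F)ᵀ * T' = T' * (s : Matrix (Fin n) (Fin n) F)ᵀ := by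
    intro s hs
    obtain ⟨C, hC⟩ : ∃ C : Matrix (Fin n) (Fin n) F, C = A * (s : Matrix (Fin n) (Fin n) F).map τ := ⟨_, rfl⟩
    have hCu : IsUnit C.det := by
      rw [hC, Matrix.det_mul]
      exact hAu.mul (ascform_map_isUnit_det τ s)
    have key : (s : Matrix (Fin n) (Fin n) F)ᵀ * T' * C = T' * (s : Matrix (Fin n) (Fin n) F)ᵀ * C := by
      calc (s : Matrix (Fin n) (Fin n) F)ᵀ * T' * C
          = (s : Matrix (Fin n) (Fin n) F)ᵀ * (T' * A) * (s : Matrix (Fin n) (Fin n) F).map τ := by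
            rw [hC]; simp only [Matrix.mul_assoc]
        _ = A₂ := by rw [hT'A, hinv2 s hs]
        _ = T' * ((s : Matrix (Fin n) (Fin n) F)ᵀ * A * (s : Matrix (Fin n) (Fin n) F).map τ) := by
            rw [hinv s hs, hT'A]
        _ = T' * (s : Matrix (Fin n) (Fin n) F)ᵀ * C := by
            rw [hC]; simp only [Matrix.mul_assoc]
    have := congrArg (fun X => X * C⁻¹) key
    simp only [Matrix.mul_assoc, Matrix.mul_nonsing_inv C hCu, Matrix.mul_one] at this
    exact this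
  have step3 : ∀ s ∈ matrixSet R, T'ᵀ * s = s * T'ᵀ := by
    rintro _ ⟨g, hg, rfl⟩
    have h1 := congrArg Matrix.transpose (step2 g hg)
    rw [Matrix.transpose_mul, Matrix.transpose_mul, Matrix.transpose_transpose] at h1
    exact h1
  obtain ⟨c, hc⟩ := hA.2 T'ᵀ step3
  refine ⟨c, ?_⟩
  have hT'c : T' = c • (1 : Matrix (Fin n) (Fin n) F) := by
    have := congrArg Matrix.transpose hc
    rw [Matrix.transpose_transpose, Matrix.transpose_smul, Matrix.transpose_one] at this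
    exact this
  rw [← hT'A, hT'c, Matrix.smul_mul, Matrix.one_mul]

omit [Fintype F] in
/-- Hilbert 90 for an involution: `lam σ(lam) = 1` gives `μ ≠ 0` with `σ μ * lam = μ` -/
theorem asgd1herm_h90 (σ : F ≃+* F) (hσ1 : σ ≠ RingEquiv.refl F) (hσ : ∀ a : F, σ (σ a) = a)
    (lam : F) (hlam : σ lam * lam = 1) : ∃ μ : F, μ ≠ 0 ∧ σ μ * lam = μ := by
  have key : ∀ a : F, σ (a + lam * σ a) * lam = a + lam * σ a := by
    intro a
    rw [map_add, map_mul, hσ, add_mul]
    have : σ lam * a * lam = (σ lam * lam) * a := by ring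
    rw [this, hlam, one_mul, mul_comm (σ a) lam, add_comm]
  by_cases h1 : (1 : F) + lam = 0
  · -- `lam = -1`
    have hl : lam = -1 := eq_neg_of_add_eq_zero_right h1
    obtain ⟨a, ha⟩ : ∃ a : F, σ a ≠ a := by
      by_contra hcon
      push Not at hcon
      apply hσ1
      ext a
      exact hcon a
    refine ⟨a + lam * σ a, ?_, key a⟩
    rw [hl]
    intro h0
    apply ha
    have : a - σ a = 0 := by rw [← h0]; ring
    exact (sub_eq_zero.mp this).symm
  · refine ⟨1 + lam * σ 1, ?_, key 1⟩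
    rw [map_one, mul_one]
    exact h1

/-- D1-HERM : an invertible `σ`-sesquilinear Gram matrix fixed by an absolutely irreducible group can be rescaled to a hermitian
one (`A* = λ A` by Schur, `λ σ(λ) = 1`, Hilbert 90) -/
theorem d1_herm {R : Subgroup (GL (Fin n) F)} (hA : AbsIrr R) (σ : F ≃+* F) (hσ1 : σ ≠ RingEquiv.refl F)
    (hσ : ∀ a : F, σ (σ a) = a) (A : Matrix (Fin n) (Fin n) F) (hAu : IsUnit A.det)
    (hfix : ∀ x ∈ R, (x : Matrix (Fin n) (Fin n) F)ᵀ * A * (x : Matrix (Fin n) (Fin n) F).map σ = A) :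
    ∃ f : (Fin n → F) → (Fin n → F) → F, IsUnitaryForm σ f ∧ FixesForm (matrixSet R) f := by
  classical
  rcases Nat.eq_zero_or_pos n with h0 | hpos
  · subst h0
    refine ⟨fun _ _ => 0, ⟨hσ1, hσ, ?_, ?_, ?_, ?_⟩, ?_⟩
    · intro x y v; simp
    · intro c x v; simp
    · intro v w; simp
    · intro v hv
      exact absurd (Subsingleton.elim v 0) hv
    · intro s hs u v
      rfl
  obtain ⟨τ, hτ⟩ : ∃ τ : F →+* F, τ = (σ : F →+* F) := ⟨_, rfl⟩
  have hτa : ∀ a : F, τ a = σ a := fun a => by rw [hτ]; rfl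
  have hττ : ∀ M : Matrix (Fin n) (Fin n) F, (M.map τ).map τ = M := by
    intro M
    ext i j
    simp only [Matrix.map_apply, hτa, hσ]
  have hfix' : ∀ x ∈ R, (x : Matrix (Fin n) (Fin n) F)ᵀ * A * (x : Matrix (Fin n) (Fin n) F).map τ = A := by
    intro x hx
    have := hfix x hx
    rw [hτ]
    exact this
  -- the adjoint Gram matrix is fixed as well
  obtain ⟨B, hB⟩ : ∃ B : Matrix (Fin n) (Fin n) F, B = (A.map τ)ᵀ := ⟨_, rfl⟩
  have hfixB : ∀ x ∈ R, (x : Matrix (Fin n) (Fin n) F)ᵀ * B * (x : Matrix (Fin n) (Fin n) F).map τ = B := by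
    intro x hx
    have h1 := congrArg (fun M : Matrix (Fin n) (Fin n) F => (M.map τ)ᵀ) (hfix' x hx)
    simp only [Matrix.map_mul, Matrix.transpose_mul, hττ, Matrix.transpose_map, Matrix.transpose_transpose] at h1
    rw [hB, Matrix.mul_assoc]
    exact h1
  obtain ⟨lam, hlam⟩ := asgd1herm_prop τ hA A B hAu hfix' hfixB
  -- `σ lam * lam = 1`
  have hAB : ∀ i j, lam * A i j = σ (A j i) := by
    intro i j
    have h := congrFun (congrFun (hlam.symm.trans hB) i) j
    simpa [hτa] using h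
  have hAinv' : A * A⁻¹ = 1 := Matrix.mul_nonsing_inv A hAu
  have hlam1 : σ lam * lam = 1 := by
    have h1 : A = (σ lam * lam) • A := by
      ext i j
      have h2 := congrArg σ (hAB j i)
      rw [map_mul, hσ, ← hAB i j] at h2
      rw [Matrix.smul_apply, smul_eq_mul, mul_assoc]
      exact h2.symm
    have h4 : (1 : Matrix (Fin n) (Fin n) F) = (σ lam * lam) • (1 : Matrix (Fin n) (Fin n) F) := by
      calc (1 : Matrix (Fin n) (Fin n) F) = A * A⁻¹ := hAinv'.symm
        _ = ((σ lam * lam) • A) * A⁻¹ := by rw [← h1]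
        _ = (σ lam * lam) • (1 : Matrix (Fin n) (Fin n) F) := by rw [Matrix.smul_mul, hAinv']
    have h5 := congrFun (congrFun h4 ⟨0, hpos⟩) ⟨0, hpos⟩
    rw [Matrix.smul_apply, Matrix.one_apply_eq, smul_eq_mul, mul_one] at h5
    exact h5.symm
  obtain ⟨μ, hμ0, hμ⟩ := asgd1herm_h90 σ hσ1 hσ lam hlam1
  -- the hermitian Gram matrix
  obtain ⟨C, hC⟩ : ∃ C : Matrix (Fin n) (Fin n) F, C = μ • A := ⟨_, rfl⟩
  have hCherm : ∀ i j, C j i = σ (C i j) := by
    intro i j
    have h1 : B j i = σ (A i j) := by rw [hB]; simp only [Matrix.transpose_apply, Matrix.map_apply, hτa]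
    rw [hC, Matrix.smul_apply, Matrix.smul_apply, smul_eq_mul, smul_eq_mul, map_mul, ← h1, hlam,
      Matrix.smul_apply, smul_eq_mul, ← mul_assoc, hμ]
  have hCfix : ∀ s ∈ matrixSet R, sᵀ * C * s.map τ = C := by
    rintro _ ⟨x, hx, rfl⟩
    rw [hC, Matrix.mul_smul, Matrix.smul_mul, hfix' x hx]
  have hCmul : ∀ w : Fin n → F, C *ᵥ w = μ • (A *ᵥ w) := by
    intro w
    rw [hC, Matrix.smul_mulVec]
  refine ⟨fun u v => u ⬝ᵥ (C *ᵥ (fun j => τ (v j))), ⟨hσ1, hσ, ?_, ?_, ?_, ?_⟩, ?_⟩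
  · intro x y v
    exact add_dotProduct _ _ _
  · intro c x v
    show (c • x) ⬝ᵥ (C *ᵥ (fun j => τ (v j))) = c * (x ⬝ᵥ (C *ᵥ (fun j => τ (v j))))
    rw [smul_dotProduct, smul_eq_mul]
  · intro v w
    show v ⬝ᵥ (C *ᵥ (fun j => τ (w j))) = σ (w ⬝ᵥ (C *ᵥ (fun j => τ (v j))))
    simp only [dotProduct, Matrix.mulVec, map_sum, map_mul, Finset.mul_sum, hτa, hσ]
    rw [Finset.sum_comm]
    apply Finset.sum_congr rfl
    intro i _
    apply Finset.sum_congr rfl
    intro j _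
    rw [hCherm i j]
    ring
  · have hnd1 : ∀ v : Fin n → F, v ≠ 0 → ∃ x : Fin n → F, x ⬝ᵥ (C *ᵥ (fun j => τ (v j))) ≠ 0 := by
      intro v hv
      have hv' : (fun j => τ (v j)) ≠ 0 := by
        intro h0
        apply hv
        ext j
        have := congrFun h0 j
        simp only [Pi.zero_apply, hτa] at this
        have h2 := congrArg σ this
        rw [hσ, map_zero] at h2
        exact h2
      obtain ⟨x, hx⟩ := asgd1symalt_nondeg A hAu _ hv'
      refine ⟨x, ?_⟩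
      rw [hCmul, dotProduct_smul, smul_eq_mul]
      exact mul_ne_zero hμ0 hx
    intro v hv
    obtain ⟨x, hx⟩ := hnd1 v hv
    refine ⟨⟨x, hx⟩, ⟨x, ?_⟩⟩
    show v ⬝ᵥ (C *ᵥ (fun j => τ (x j))) ≠ 0
    have hherm : v ⬝ᵥ (C *ᵥ (fun j => τ (x j))) = σ (x ⬝ᵥ (C *ᵥ (fun j => τ (v j)))) := by
      simp only [dotProduct, Matrix.mulVec, map_sum, map_mul, Finset.mul_sum, hτa, hσ]
      rw [Finset.sum_comm]
      apply Finset.sum_congr rfl
      intro i _
      apply Finset.sum_congr rfl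
      intro j _
      rw [hCherm i j]
      ring
    rw [hherm]
    intro h0
    apply hx
    have := congrArg σ h0
    rw [hσ, map_zero] at this
    exact this
  · intro s hs u v
    show (s *ᵥ u) ⬝ᵥ (C *ᵥ (fun j => τ ((s *ᵥ v) j))) = u ⬝ᵥ (C *ᵥ (fun j => τ (v j)))
    rw [ascform_transport, hCfix s hs]

end Cfsg.Agent.Lib.Helper19.ASG
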