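import Mathlib
import Cfsg.Agent.Lib.helper3.C6U.Defs
import Cfsg.Agent.Lib.helper7.C6PWCZ
import Cfsg.Agent.Lib.helper7.C6PWSMUL
import Cfsg.Agent.Lib.helper15.C6UW1

set_option autoImplicit false
set_option linter.unusedVariables false
set_option linter.unusedSectionVars false

/-!
# Project C6U (S6001; designer helper3), row W3: a second copy of `wit_three_u` under the name `c6uw3_h29` (helper29).
-/

namespace Cfsg.Agent.Lib.helper3.C6U

open Polynomial Matrix
open Cfsg.Agent.Lib.Helper10.C6P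
open scoped MatrixGroups

variable {F : Type*} [Field F]

theorem c6uw3h29_UB_map (f : F →+* F) (i : F) : (UB i).map f = UB (f i) := by
  ext a b
  fin_cases a <;> fin_cases b <;> simp [UB]

theorem c6uw3h29_UBp_map (f : F →+* F) (i : F) : (UBp i).map f = UBp (f i) := by
  ext a b
  fin_cases a <;> fin_cases b <;> simp [UBp]

theorem c6uw3h29_UB_gram (i : F) (hi : i * i = -1) :
    (UB i).transpose * UB (-i) = (4 : F) • (1 : M4 F) := by
  ext a b
  fin_cases a <;> fin_cases b <;>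
    simp [UB, Matrix.mul_apply, Fin.sum_univ_four, Matrix.one_apply] <;> grind

theorem c6uw3h29_UBp_gram (i : F) (hi : i * i = -1) :
    (UBp i).transpose * UBp (-i) = (4 : F) • (1 : M4 F) := by
  ext a b
  fin_cases a <;> fin_cases b <;>
    simp [UBp, Matrix.mul_apply, Fin.sum_univ_four, Matrix.one_apply] <;> grind

section fin

variable [Fintype F] {p : ℕ} [Fact p.Prime] [CharP F p]

omit [Fintype F] in
theorem c6uw3h29_frob : (⇑(frobenius F p) : F → F) = fun a => a ^ p := by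
  funext a
  exact frobenius_def p a

omit [Fintype F] in
theorem c6uw3h29_two_pow : (2 : F) ^ p = 2 := by
  rw [← frobenius_def]
  exact map_ofNat (frobenius F p) 2

omit [Fintype F] in
/-- unitarity of a scalar multiple -/
theorem c6uw3h29_isU (c : F) (M M' : M4 F) (hmap : M.map (fun a => a ^ p) = M')
    (hg : M.transpose * M' = (4 : F) • (1 : M4 F)) (hc : c * c ^ p * 4 = 1) : IsU p (c • M) := by
  unfold IsU gram
  have h1 : (c • M).map (fun a => a ^ p) = c ^ p • M' := by
    rw [← hmap]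
    ext a b
    simp [Matrix.map_apply, mul_pow]
  rw [h1, Matrix.transpose_smul, Matrix.smul_mul, Matrix.mul_smul, hg, smul_smul, smul_smul]
  rw [hc, one_smul]

omit [Fintype F] in
theorem c6uw3h29_half (h2 : (2 : F) ≠ 0) : (2 : F)⁻¹ * ((2 : F)⁻¹) ^ p * 4 = 1 := by
  rw [inv_pow, c6uw3h29_two_pow]
  field_simp
  norm_num

omit [Fintype F] in
theorem c6uw3h29_isU_UB (i : F) (hi : i * i = -1) (h2 : (2 : F) ≠ 0) (hip : i ^ p = -i) :
    IsU p ((2 : F)⁻¹ • UB i) := by
  apply c6uw3h29_isU _ (UB i) (UB (-i)) _ (c6uw3h29_UB_gram i hi) (c6uw3h29_half h2)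
  rw [← c6uw3h29_frob, c6uw3h29_UB_map, frobenius_def, hip]

omit [Fintype F] in
theorem c6uw3h29_isU_UBp (i : F) (hi : i * i = -1) (h2 : (2 : F) ≠ 0) (hip : i ^ p = -i) :
    IsU p ((2 : F)⁻¹ • UBp i) := by
  apply c6uw3h29_isU _ (UBp i) (UBp (-i)) _ (c6uw3h29_UBp_gram i hi) (c6uw3h29_half h2)
  rw [← c6uw3h29_frob, c6uw3h29_UBp_map, frobenius_def, hip]

/-- W3 (same statement as `wit_three_u` of the Skel) -/
theorem c6uw3_h29 {i : F} {R : Subgroup (GL (Fin 4) F)} (h : IsStd i R) (h2 : (2 : F) ≠ 0) (h3 : (3 : F) ≠ 0) (hip : i ^ p = -i) :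
    (∃ y : M4 F, NrmU p R y ∧ y ^ 3 = 1 ∧ y ≠ 1 ∧ (y - 1).det ≠ 0) ∧
    (∃ y : M4 F, NrmU p R y ∧ y ^ 3 = 1 ∧ y ≠ 1 ∧ (y - 1).det = 0) := by
  have hi : i * i = -1 := h.1
  have h4 : (4 : F) ≠ 0 := by
    have : (4 : F) = 2 * 2 := by norm_num
    rw [this]; exact mul_ne_zero h2 h2
  obtain ⟨hNB, hq⟩ := nrm_UB h h2
  obtain ⟨hNA, hcube, hdet, hne⟩ := nrm_UA h h2
  constructor
  · refine ⟨(2 : F)⁻¹ • UB i, ⟨nrm_smul R (UB i) hNB _ (inv_ne_zero h2), c6uw3h29_isU_UB i hi h2 hip⟩, ?_⟩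
    set c : F := (2 : F)⁻¹ with hc
    set U : M4 F := UB i with hU
    have hc1 : c * c * 2 = c := by rw [hc]; field_simp
    have hc2 : c * c * 4 = 1 := by rw [hc]; field_simp; norm_num
    have hUU : U * U = -((2 : F) • U) - (4 : F) • (1 : M4 F) := by
      have := hq
      rw [add_assoc, add_eq_zero_iff_eq_neg] at this
      rw [this]; abel
    have hquad : (c • U) * (c • U) + c • U + 1 = 0 := by
      rw [Matrix.smul_mul, Matrix.mul_smul, smul_smul, hUU, smul_sub, smul_neg, smul_smul, smul_smul, hc1, hc2,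
        one_smul]
      abel
    have hgen : ∀ y : M4 F, y * y + y + 1 = 0 → y ^ 3 = 1 := by
      intro y hy
      have : y ^ 3 - 1 = (y - 1) * (y * y + y + 1) := by noncomm_ring
      rw [hy, mul_zero] at this
      exact sub_eq_zero.mp this
    have hy3 : (c • U) ^ 3 = 1 := hgen _ hquad
    refine ⟨hy3, ?_, ?_⟩
    · intro h1
      rw [h1] at hquad
      have h5 := congrFun (congrFun hquad 0) 0
      simp at h5
      apply h3
      rw [← h5]; norm_num
    · intro hd
      obtain ⟨v, hv0, hv⟩ := Matrix.exists_mulVec_eq_zero_iff.mpr hd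
      have hyv : (c • U) *ᵥ v = v := by
        rw [Matrix.sub_mulVec, Matrix.one_mulVec, sub_eq_zero] at hv
        exact hv
      have h0 : ((c • U) * (c • U) + c • U + 1) *ᵥ v = 0 := by rw [hquad, Matrix.zero_mulVec]
      rw [Matrix.add_mulVec, Matrix.add_mulVec, ← Matrix.mulVec_mulVec, hyv, hyv, Matrix.one_mulVec] at h0
      have h6 : (3 : F) • v = 0 := by
        rw [← h0]
        ext k
        simp
        ring
      rcases smul_eq_zero.mp h6 with h | h
      · exact h3 h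
      · exact hv0 h
  · have hprod : (4 : F)⁻¹ • UA i = ((2 : F)⁻¹ • UB i) * ((2 : F)⁻¹ • UBp i) := by
      unfold UA
      rw [Matrix.smul_mul, Matrix.mul_smul, smul_smul]
      congr 1
      rw [← mul_inv]; norm_num
    refine ⟨(4 : F)⁻¹ • UA i, ⟨nrm_smul R (UA i) hNA _ (inv_ne_zero h4), ?_⟩, ?_, ?_, ?_⟩
    · rw [hprod]
      exact c6uw1_isU_mul _ _ (c6uw3h29_isU_UB i hi h2 hip) (c6uw3h29_isU_UBp i hi h2 hip)
    · rw [_root_.smul_pow, hcube, smul_smul]
      have : ((4 : F)⁻¹) ^ 3 * 64 = 1 := by field_simp; norm_num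
      rw [this, one_smul]
    · intro h1
      apply hne
      have := congrArg (fun Y : M4 F => (4 : F) • Y) h1
      simp only [smul_smul, mul_inv_cancel₀ h4, one_smul] at this
      exact this
    · have : (4 : F)⁻¹ • UA i - 1 = (4 : F)⁻¹ • (UA i - (4 : F) • (1 : M4 F)) := by
        rw [smul_sub, smul_smul, inv_mul_cancel₀ h4, one_smul]
      rw [this, Matrix.det_smul, hdet, mul_zero]

end fin

end Cfsg.Agent.Lib.helper3.C6U
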