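import Mathlib
import Cfsg.Agent.Lib.helper3.C6U.Defs
import Cfsg.Agent.Lib.Helper29.C6UW3h29

set_option autoImplicit false
set_option linter.unusedVariables false
set_option linter.unusedSectionVars false

/-!
# Project C6U (S6001; designer helper3), row W3 (`wit_three_u`), verbatim wrapper of `c6uw3_h29` (helper29).
-/

namespace Cfsg.Agent.Lib.helper3.C6U

open Polynomial Matrix
open Cfsg.Agent.Lib.Helper10.C6P
open scoped MatrixGroups

variable {F : Type*} [Field F]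

section fin

variable [Fintype F] {p : ℕ} [Fact p.Prime] [CharP F p]

/-- W3 [M] -/
theorem wit_three_u {i : F} {R : Subgroup (GL (Fin 4) F)} (h : IsStd i R) (h2 : (2 : F) ≠ 0) (h3 : (3 : F) ≠ 0) (hip : i ^ p = -i) :
    (∃ y : M4 F, NrmU p R y ∧ y ^ 3 = 1 ∧ y ≠ 1 ∧ (y - 1).det ≠ 0) ∧
    (∃ y : M4 F, NrmU p R y ∧ y ^ 3 = 1 ∧ y ≠ 1 ∧ (y - 1).det = 0) :=
  c6uw3_h29 h h2 h3 hip

end fin

end Cfsg.Agent.Lib.helper3.C6U
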