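import Mathlib
import Cfsg.Agent.Lib.helper7.CEC.Defs
import Cfsg.Agent.Lib.Helper24.STCI1
import Cfsg.Agent.Lib.Helper24.STCB1

/-!
# Project CEC (designer helper7, S2092), rows L2 `Zl_add_left` and L3 `Dl_map`, `Dl_add_left`, `Dl_zero` (helper29), VERBATIM.
Own-name copies of the L1 facts `Zl_map`, `Zl_eq` inside (`cecl2_Zl_map`, `cecl2_Zl_eq`).
-/

set_option autoImplicit false

namespace Cfsg.Agent.Lib.helper7.CEC

open Cfsg.Agent.Lib.helper15.St2 Cfsg.Agent.Lib.helper7.Ce Cfsg.Agent.Lib.helper3.STC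

section L

variable {K : Type*} [Field K] {ι : Type*} {Γ G : Type*} [Group Γ] [Group G] {S : SysC K ι G} {σ : Γ →* G} {h : IsCE σ}

theorem cecl2_ne {a b : ι ⊕ ι} (hab : ab a ≠ ab b) : a ≠ b ∧ a ≠ ng b := by
  constructor
  · intro e
    exact hab (by rw [e])
  · intro e
    exact hab (ab_eq_iff.2 (Or.inr e))

/-- lifts of products commute when the four pairs of factors do -/
theorem cecl2_CL_mul (h : IsCE σ) {x₁ x₂ y₁ y₂ : G} (h11 : CL σ x₁ y₁) (h12 : CL σ x₁ y₂) (h21 : CL σ x₂ y₁)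
    (h22 : CL σ x₂ y₂) : CL σ (x₁ * x₂) (y₁ * y₂) := by
  have hy1 : CL σ (x₁ * x₂) y₁ := h.CL_mul_left h11 h21
  have hy2 : CL σ (x₁ * x₂) y₂ := h.CL_mul_left h12 h22
  exact (h.CL_mul_left hy1.symm hy2.symm).symm

/-- the long root `(a, ng a)` against the short root `(a, b)` -/
theorem cecl2_CL_long_ab (hC : HC S σ) {a b : ι ⊕ ι} (hab : ab a ≠ ab b) (t s : K) :
    CL σ (S.x a (ng a) t) (S.x a b s) := by
  obtain ⟨h1, h2⟩ := cecl2_ne hab
  exact hC a (ng a) a b (ne_ng a) h1 (ng_ne a) h1 (fun e => h1 (ng_inj.1 e)) (ne_ng a) t s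

/-- the long root `(a, ng a)` against the long root `(ng b, b)` -/
theorem cecl2_CL_long_nbb (hC : HC S σ) {a b : ι ⊕ ι} (hab : ab a ≠ ab b) (t s : K) :
    CL σ (S.x a (ng a) t) (S.x (ng b) b s) := by
  obtain ⟨h1, h2⟩ := cecl2_ne hab
  refine hC a (ng a) (ng b) b (ne_ng a) (ng_ne b) (fun e => h1 (ng_inj.1 e)) h1 (fun e => h1 (ng_inj.1 e)) ?_ t s
  rw [ng_ng]
  exact h1

/-- the short root `(a, b)` against itself -/
theorem cecl2_CL_ab_ab (hC : HC S σ) {a b : ι ⊕ ι} (hab : ab a ≠ ab b) (t s : K) :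
    CL σ (S.x a b t) (S.x a b s) := by
  obtain ⟨h1, h2⟩ := cecl2_ne hab
  exact hC a b a b h1 h1 h1.symm h1 (ne_ng b) (ne_ng a) t s

/-- the short root `(a, b)` against the long root `(ng b, b)` -/
theorem cecl2_CL_ab_nbb (hC : HC S σ) {a b : ι ⊕ ι} (hab : ab a ≠ ab b) (t s : K) :
    CL σ (S.x a b t) (S.x (ng b) b s) := by
  obtain ⟨h1, h2⟩ := cecl2_ne hab
  refine hC a b (ng b) b h1 (ng_ne b) (ne_ng b) h1 (ne_ng b) ?_ t s
  rw [ng_ng]
  exact h1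

/-- the long root `(ng b, b)` against itself -/
theorem cecl2_CL_nbb_nbb (hC : HC S σ) (b : ι ⊕ ι) (t s : K) :
    CL σ (S.x (ng b) b t) (S.x (ng b) b s) := by
  refine hC (ng b) b (ng b) b (ng_ne b) (ng_ne b) (ne_ng b) (ng_ne b) (ne_ng b) ?_ t s
  rw [ng_ng]
  exact ng_ne b

/-- products in the root subgroups `(a, b)`, `(ng b, b)`: lifts commute -/
theorem cecl2_CL_pair (h : IsCE σ) (hC : HC S σ) {a b : ι ⊕ ι} (hab : ab a ≠ ab b) (s₁ s₂ s₃ s₄ : K) :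
    CL σ (S.x a b s₁ * S.x (ng b) b s₂) (S.x a b s₃ * S.x (ng b) b s₄) :=
  cecl2_CL_mul h (cecl2_CL_ab_ab hC hab _ _) (cecl2_CL_ab_nbb hC hab _ _)
    (cecl2_CL_ab_nbb hC hab _ _).symm (cecl2_CL_nbb_nbb hC b _ _)

/-- own-name copy of L1 `Zl_map` -/
theorem cecl2_Zl_map (h : IsCE σ) {a b : ι ⊕ ι} (hab : ab a ≠ ab b) (t u : K) :
    σ (Zl S h a b t u) = S.x a b (t * u) * S.x (ng b) b (sg a * sg b * t * u ^ 2) := by
  obtain ⟨h1, h2⟩ := cecl2_ne hab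
  unfold Zl
  rw [map_cm, map_lf, map_lf]
  exact S.ls a b h1 h2 t u

/-- own-name copy of L1 `Zl_eq` -/
theorem cecl2_Zl_eq (h : IsCE σ) {a b : ι ⊕ ι} {t u : K} {p q : Γ} (hp : σ p = S.x a (ng a) t)
    (hq : σ q = S.x (ng a) b u) : cm p q = Zl S h a b t u := by
  unfold Zl
  exact h.cm_congr (by rw [hp, map_lf]) (by rw [hq, map_lf])

/-- L2 [M] -/
theorem Zl_add_left (h : IsCE σ) (hC : HC S σ) {a b : ι ⊕ ι} (hab : ab a ≠ ab b) (t t' u : K) :
    Zl S h a b (t + t') u = Zl S h a b t u * Zl S h a b t' u := by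
  have e1 : σ (lf h (S.x a (ng a) t) * lf h (S.x a (ng a) t')) = S.x a (ng a) (t + t') := by
    rw [map_mul, map_lf, map_lf, S.add a (ng a) (ne_ng a)]
  rw [← cecl2_Zl_eq h e1 (map_lf h (S.x (ng a) b u)), cm_mul_left]
  have e2 : lf h (S.x a (ng a) t) * cm (lf h (S.x a (ng a) t')) (lf h (S.x (ng a) b u)) =
      cm (lf h (S.x a (ng a) t')) (lf h (S.x (ng a) b u)) * lf h (S.x a (ng a) t) := by
    have hcl : CL σ (S.x a (ng a) t) (S.x a b (t' * u) * S.x (ng b) b (sg a * sg b * t' * u ^ 2)) :=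
      (h.CL_mul_left (cecl2_CL_long_ab hC hab t _).symm (cecl2_CL_long_nbb hC hab t _).symm).symm
    exact hcl _ _ (map_lf h _) (cecl2_Zl_map h hab t' u)
  rw [e2, mul_inv_cancel_right]
  exact cecl2_CL_pair h hC hab _ _ _ _ _ _ (cecl2_Zl_map h hab t' u) (cecl2_Zl_map h hab t u)

/-- L3 [S] -/
theorem Dl_map (h : IsCE σ) (L : ShortLift S h) {a b : ι ⊕ ι} (hab : ab a ≠ ab b) (t u : K) :
    σ (Dl L a b t u) = S.x (ng b) b (sg a * sg b * t * u ^ 2) := by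
  unfold Dl
  rw [map_mul, map_inv, L.map a b hab, cecl2_Zl_map h hab, inv_mul_cancel_left]

/-- L3 [M] -/
theorem Dl_add_left (hC : HC S σ) (L : ShortLift S h) {a b : ι ⊕ ι} (hab : ab a ≠ ab b) (t t' u : K) :
    Dl L a b (t + t') u = Dl L a b t u * Dl L a b t' u := by
  unfold Dl
  rw [add_mul, L.add a b hab, Zl_add_left h hC hab, mul_inv_rev]
  have hX : ∀ s, σ (L.X a b s) = S.x a b s * S.x (ng b) b 0 := by
    intro s
    rw [L.map a b hab, S.x_zero, mul_one]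
  have c1 : L.X a b (t' * u) * L.X a b (t * u) = L.X a b (t * u) * L.X a b (t' * u) :=
    cecl2_CL_pair h hC hab _ _ _ _ _ _ (hX _) (hX _)
  have c2 : L.X a b (t' * u) * Zl S h a b t u = Zl S h a b t u * L.X a b (t' * u) :=
    cecl2_CL_pair h hC hab _ _ _ _ _ _ (hX _) (cecl2_Zl_map h hab t u)
  have c1' : (L.X a b (t' * u))⁻¹ * (L.X a b (t * u))⁻¹ = (L.X a b (t * u))⁻¹ * (L.X a b (t' * u))⁻¹ := by
    rw [← mul_inv_rev, ← mul_inv_rev, c1]
  have c2' : (L.X a b (t' * u))⁻¹ * Zl S h a b t u = Zl S h a b t u * (L.X a b (t' * u))⁻¹ := by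
    rw [eq_mul_inv_iff_mul_eq, mul_assoc, ← c2, ← mul_assoc, inv_mul_cancel, one_mul]
  calc (L.X a b (t' * u))⁻¹ * (L.X a b (t * u))⁻¹ * (Zl S h a b t u * Zl S h a b t' u)
      = (L.X a b (t * u))⁻¹ * ((L.X a b (t' * u))⁻¹ * Zl S h a b t u) * Zl S h a b t' u := by
        rw [c1']; group
    _ = (L.X a b (t * u))⁻¹ * Zl S h a b t u * ((L.X a b (t' * u))⁻¹ * Zl S h a b t' u) := by
        rw [c2']; group

/-- L3 [S] -/
theorem Dl_zero (hC : HC S σ) (L : ShortLift S h) {a b : ι ⊕ ι} (hab : ab a ≠ ab b) (t u : K) :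
    Dl L a b 0 u = 1 ∧ Dl L a b t 0 = 1 := by
  constructor
  · have := Dl_add_left hC L hab 0 0 u
    rw [add_zero] at this
    exact mul_eq_left.1 this.symm
  · unfold Dl
    have hX0 : L.X a b 0 = 1 := by
      have := L.add a b hab 0 0
      rw [add_zero] at this
      exact mul_eq_left.1 this.symm
    have hz : σ (lf h (S.x (ng a) b 0)) = 1 := by rw [map_lf, S.x_zero]
    have hZ : Zl S h a b t 0 = 1 := by
      unfold Zl
      rw [cm_eq_one_iff]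
      exact (h.comm_of_map_one hz _).symm
    rw [mul_zero, hX0, hZ, inv_one, mul_one]

end L

end Cfsg.Agent.Lib.helper7.CEC
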