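import Mathlib
import Cfsg.Agent.Lib.helper3.SPM.Defs
import Cfsg.Agent.Lib.helper3.SPM.Defs2

/-!
# SPM row A3 (helper29): `sgm σ = Equiv.sumCongr σ σ` on the signed indices.
Statements verbatim from `helper3/SPM/Skel1.lean.txt`, block A.
-/

set_option autoImplicit false

namespace Cfsg.Agent.Lib.helper3.SPM

open Cfsg.Agent.Lib.helper3.STC Cfsg.Agent.Lib.helper3.STC.Mat Cfsg.Agent.Lib.helper17.SLP

universe u v w v'

section A
variable {ι : Type w} [DecidableEq ι]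

theorem sgm_inl (σ : Equiv.Perm ι) (i : ι) : sgm σ (Sum.inl i) = Sum.inl (σ i) := by
  rfl

theorem sgm_inr (σ : Equiv.Perm ι) (i : ι) : sgm σ (Sum.inr i) = Sum.inr (σ i) := by
  rfl

theorem sgm_one : sgm (1 : Equiv.Perm ι) = 1 := by
  ext a
  cases a <;> rfl

theorem sgm_mul (σ τ : Equiv.Perm ι) : sgm (σ * τ) = sgm σ * sgm τ := by
  ext a
  cases a <;> rfl

theorem sgm_ng (σ : Equiv.Perm ι) (a : ι ⊕ ι) : sgm σ (ng a) = ng (sgm σ a) := by
  cases a <;> rfl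

theorem ab_sgm (σ : Equiv.Perm ι) (a : ι ⊕ ι) : ab (sgm σ a) = σ (ab a) := by
  cases a <;> rfl

theorem sg_sgm {K : Type*} [One K] [Neg K] (σ : Equiv.Perm ι) (a : ι ⊕ ι) : (sg (sgm σ a) : K) = sg a := by
  cases a <;> rfl

end A

end Cfsg.Agent.Lib.helper3.SPM
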