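import Mathlib
import Cfsg.Agent.Lib.helper3.SPM.Defs
import Cfsg.Agent.Lib.helper3.SPM.Defs2
import Cfsg.Agent.Lib.Helper29.SPMA3

/-!
# SPM row A4 (helper29): the embedding `pe2 i j` of the signed indices of `Sp₄`.
Statements verbatim from `helper3/SPM/Skel1.lean.txt`, block A.
-/

set_option autoImplicit false

namespace Cfsg.Agent.Lib.helper3.SPM

open Cfsg.Agent.Lib.helper3.STC Cfsg.Agent.Lib.helper3.STC.Mat Cfsg.Agent.Lib.helper17.SLP

universe u v w v'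

section A
variable {ι : Type w} [DecidableEq ι]

/-- the values of `pe2` (own-name helpers). -/
theorem spma4_pe2_inl0 (i j : ι) : pe2 i j (Sum.inl 0) = Sum.inl i := rfl
theorem spma4_pe2_inl1 (i j : ι) : pe2 i j (Sum.inl 1) = Sum.inl j := rfl
theorem spma4_pe2_inr0 (i j : ι) : pe2 i j (Sum.inr 0) = Sum.inr i := rfl
theorem spma4_pe2_inr1 (i j : ι) : pe2 i j (Sum.inr 1) = Sum.inr j := rfl

/-- case analysis on the signed indices of `Sp₄`. -/
theorem spma4_cases {P : Fin 2 ⊕ Fin 2 → Prop} (h0 : P (Sum.inl 0)) (h1 : P (Sum.inl 1))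
    (h2 : P (Sum.inr 0)) (h3 : P (Sum.inr 1)) : ∀ a, P a := by
  intro a
  rcases a with k | k
  · fin_cases k
    · exact h0
    · exact h1
  · fin_cases k
    · exact h2
    · exact h3

theorem pe2_injective {i j : ι} (hij : i ≠ j) : Function.Injective (pe2 i j) := by
  have hf : Function.Injective (![i, j] : Fin 2 → ι) := by
    intro a b hab
    fin_cases a <;> fin_cases b
    · rfl
    · exact absurd hab hij
    · exact absurd hab.symm hij
    · rfl
  exact Sum.map_injective.mpr ⟨hf, hf⟩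

theorem pe2_ng (i j : ι) (a : Fin 2 ⊕ Fin 2) : pe2 i j (ng a) = ng (pe2 i j a) := by
  cases a <;> rfl

theorem sg_pe2 {K : Type*} [One K] [Neg K] (i j : ι) (a : Fin 2 ⊕ Fin 2) : (sg (pe2 i j a) : K) = sg a := by
  cases a <;> rfl

theorem ab_pe2 (i j : ι) (a : Fin 2 ⊕ Fin 2) : ab (pe2 i j a) = ![i, j] (ab a) := by
  cases a <;> rfl

theorem exists_pe2 (i j : ι) {a : ι ⊕ ι} (ha : ab a = i ∨ ab a = j) : ∃ a', pe2 i j a' = a := by
  rcases a with x | x
  · rcases ha with h | h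
    · exact ⟨Sum.inl 0, by rw [spma4_pe2_inl0]; exact congrArg Sum.inl h.symm⟩
    · exact ⟨Sum.inl 1, by rw [spma4_pe2_inl1]; exact congrArg Sum.inl h.symm⟩
  · rcases ha with h | h
    · exact ⟨Sum.inr 0, by rw [spma4_pe2_inr0]; exact congrArg Sum.inr h.symm⟩
    · exact ⟨Sum.inr 1, by rw [spma4_pe2_inr1]; exact congrArg Sum.inr h.symm⟩

theorem sgm_pe2 (σ : Equiv.Perm ι) (i j : ι) (a : Fin 2 ⊕ Fin 2) : sgm σ (pe2 i j a) = pe2 (σ i) (σ j) a := by
  revert a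
  apply spma4_cases <;> rfl

theorem pe_eq_pe2 (p : Pts ι) (a : Fin 2 ⊕ Fin 2) : pe p a = pe2 p.o0 p.o1 a := by
  rfl

theorem pe2_swap (i j : ι) (a : Fin 2 ⊕ Fin 2) : pe2 j i a = pe2 i j (sgm (Equiv.swap 0 1) a) := by
  revert a
  apply spma4_cases
  · show pe2 j i (Sum.inl 0) = pe2 i j (Sum.inl (Equiv.swap (0 : Fin 2) 1 0))
    rw [Equiv.swap_apply_left]; rfl
  · show pe2 j i (Sum.inl 1) = pe2 i j (Sum.inl (Equiv.swap (0 : Fin 2) 1 1))
    rw [Equiv.swap_apply_right]; rfl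
  · show pe2 j i (Sum.inr 0) = pe2 i j (Sum.inr (Equiv.swap (0 : Fin 2) 1 0))
    rw [Equiv.swap_apply_left]; rfl
  · show pe2 j i (Sum.inr 1) = pe2 i j (Sum.inr (Equiv.swap (0 : Fin 2) 1 1))
    rw [Equiv.swap_apply_right]; rfl

/-- `sn a k` is the signed index of `Sp₄` with the sign of `a` at the index `k`. -/
theorem pe2_sn_fst (i j : ι) {a : ι ⊕ ι} (ha : ab a = i) : pe2 i j (sn a 0) = a := by
  rcases a with x | x
  · show pe2 i j (Sum.inl 0) = Sum.inl x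
    rw [spma4_pe2_inl0]; exact congrArg Sum.inl ha.symm
  · show pe2 i j (Sum.inr 0) = Sum.inr x
    rw [spma4_pe2_inr0]; exact congrArg Sum.inr ha.symm

theorem pe2_sn_snd (i j : ι) {a : ι ⊕ ι} (ha : ab a = j) : pe2 i j (sn a 1) = a := by
  rcases a with x | x
  · show pe2 i j (Sum.inl 1) = Sum.inl x
    rw [spma4_pe2_inl1]; exact congrArg Sum.inl ha.symm
  · show pe2 i j (Sum.inr 1) = Sum.inr x
    rw [spma4_pe2_inr1]; exact congrArg Sum.inr ha.symm

theorem sn_pe2_fst (i j : ι) (a : Fin 2 ⊕ Fin 2) (k : Fin 2) : sn (pe2 i j a) k = sn a k := by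
  cases a <;> rfl

/-- an index different from a given one (own-name helper). -/
theorem spma4_exists_ne (p : Pts ι) (i : ι) : ∃ j, i ≠ j := by
  by_cases h : i = p.o0
  · exact ⟨p.o1, by rw [h]; exact p.h01⟩
  · exact ⟨p.o0, h⟩

/-- two signed indices lie in a common pair -/
theorem pair_cover (p : Pts ι) (a b : ι ⊕ ι) :
    ∃ i j, i ≠ j ∧ ∃ a' b', pe2 i j a' = a ∧ pe2 i j b' = b := by
  by_cases hab : ab a = ab b
  · obtain ⟨j, hj⟩ := spma4_exists_ne p (ab a)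
    refine ⟨ab a, j, hj, ?_⟩
    obtain ⟨a', ha'⟩ := exists_pe2 (ab a) j (a := a) (Or.inl rfl)
    obtain ⟨b', hb'⟩ := exists_pe2 (ab a) j (a := b) (Or.inl hab.symm)
    exact ⟨a', b', ha', hb'⟩
  · refine ⟨ab a, ab b, hab, ?_⟩
    obtain ⟨a', ha'⟩ := exists_pe2 (ab a) (ab b) (a := a) (Or.inl rfl)
    obtain ⟨b', hb'⟩ := exists_pe2 (ab a) (ab b) (a := b) (Or.inr rfl)
    exact ⟨a', b', ha', hb'⟩

end A

end Cfsg.Agent.Lib.helper3.SPM
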