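import Mathlib
import Cfsg.Agent.Lib.Helper27.MSS.Base

/-!
Project MSS (S5287), piece QDT-A : `qdt_comm`, `qdt_not_mem`.
-/

set_option autoImplicit false

namespace Cfsg.Agent.Lib.Helper27.MSS

section QDT

variable {G : Type*} [Group G] {k : ℕ} {r s : G}

/-- conjugation of a power -/
theorem mssqdta_conj_pow (c : ℕ) (hrs : s * r * s⁻¹ = r ^ c) (m : ℕ) :
    s * r ^ m * s⁻¹ = r ^ (c * m) := by
  have h1 : s * r ^ m * s⁻¹ = (s * r * s⁻¹) ^ m := by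
    rw [conj_pow]
  rw [h1, hrs, ← pow_mul]

/-- `s * r ^ m = r ^ (c m) * s` -/
theorem mssqdta_swap (c : ℕ) (hrs : s * r * s⁻¹ = r ^ c) (m : ℕ) :
    s * r ^ m = r ^ (c * m) * s := by
  rw [← mssqdta_conj_pow c hrs m]
  group

/-- QDT0: a power of `r` commuting with `s` is a power of `r ^ 2 ^ (k - 1)` -/
theorem qdt_comm (hk : 3 ≤ k) (hr : orderOf r = 2 ^ k)
    (hrs : s * r * s⁻¹ = r ^ (2 ^ (k - 1) - 1)) (m : ℕ) (h : s * r ^ m = r ^ m * s) :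
    2 ^ (k - 1) ∣ m := by
  obtain ⟨j, rfl⟩ : ∃ j, k = j + 3 := ⟨k - 3, by omega⟩
  have h1 := mssqdta_swap _ hrs m
  rw [h] at h1
  have h2 : r ^ m = r ^ ((2 ^ (j + 3 - 1) - 1) * m) := mul_right_cancel h1
  rw [pow_eq_pow_iff_modEq, hr] at h2
  have e1 : j + 3 - 1 = j + 2 := by omega
  rw [e1] at h2 ⊢
  have hpos : 0 < 2 ^ (j + 1) := by positivity
  -- `(2^(j+2) - 1) m - m = 2 (2^(j+1) - 1) m`
  have h3 : (2 : ℕ) ^ (j + 3) ∣ (2 ^ (j + 2) - 1) * m - m := (Nat.modEq_iff_dvd' (by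
    have : 1 ≤ 2 ^ (j + 2) - 1 := by
      have : 2 ≤ 2 ^ (j + 2) := by
        calc 2 = 2 ^ 1 := by norm_num
          _ ≤ 2 ^ (j + 2) := Nat.pow_le_pow_right (by norm_num) (by omega)
      omega
    calc m = 1 * m := by ring
      _ ≤ (2 ^ (j + 2) - 1) * m := Nat.mul_le_mul_right m this)).mp h2
  have h4 : (2 ^ (j + 2) - 1) * m - m = 2 * ((2 ^ (j + 1) - 1) * m) := by
    have e2 : (2 : ℕ) ^ (j + 2) = 2 * 2 ^ (j + 1) := by ring
    have e3 : 2 ^ (j + 2) - 1 = 2 * (2 ^ (j + 1) - 1) + 1 := by omega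
    rw [e3]
    have : (2 * (2 ^ (j + 1) - 1) + 1) * m = 2 * ((2 ^ (j + 1) - 1) * m) + m := by ring
    rw [this]
    omega
  rw [h4, show (2 : ℕ) ^ (j + 3) = 2 * 2 ^ (j + 2) by ring] at h3
  have h5 : (2 : ℕ) ^ (j + 2) ∣ (2 ^ (j + 1) - 1) * m := Nat.dvd_of_mul_dvd_mul_left (by norm_num) h3
  have hodd : Nat.Coprime (2 ^ (j + 2)) (2 ^ (j + 1) - 1) := by
    apply Nat.Coprime.pow_left
    rw [Nat.coprime_two_left]
    have : (2 : ℕ) ^ (j + 1) = 2 * 2 ^ j := by ring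
    rw [this]
    have hp : 0 < 2 ^ j := by positivity
    exact ⟨2 ^ j - 1, by omega⟩
  exact hodd.dvd_of_dvd_mul_left h5

/-- QDT1 -/
theorem qdt_not_mem (hk : 3 ≤ k) (hr : orderOf r = 2 ^ k)
    (hrs : s * r * s⁻¹ = r ^ (2 ^ (k - 1) - 1)) : s ∉ Subgroup.zpowers r := by
  intro hmem
  have hcomm : s * r ^ 1 = r ^ 1 * s := by
    obtain ⟨i, rfl⟩ := Subgroup.mem_zpowers_iff.mp hmem
    rw [pow_one, ← zpow_add_one, ← zpow_one_add, add_comm]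
  have h1 := qdt_comm hk hr hrs 1 hcomm
  have h2 : 2 ^ (k - 1) ≤ 1 := Nat.le_of_dvd (by norm_num) h1
  have h3 : 2 ^ 1 ≤ 2 ^ (k - 1) := Nat.pow_le_pow_right (by norm_num) (by omega)
  omega

end QDT

end Cfsg.Agent.Lib.Helper27.MSS
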