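import Mathlib
import Cfsg.Agent.Lib.Helper27.MSS.Base
import Cfsg.Agent.Lib.Helper29.MSSQDTA

/-!
Project MSS (S5287), piece QDT-B : `qdt_cases`, `qdt_sq`.
-/

set_option autoImplicit false
set_option linter.unusedVariables false

namespace Cfsg.Agent.Lib.Helper27.MSS

section QDT

variable {G : Type*} [Group G] {k : ℕ} {r s : G}

/-- QDT2 -/
theorem qdt_cases (hk : 3 ≤ k) (hr : orderOf r = 2 ^ k) (hs : s ^ 2 = 1)
    (hrs : s * r * s⁻¹ = r ^ (2 ^ (k - 1) - 1)) :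
    ∀ y ∈ Subgroup.closure {r, s}, ∃ i : ℕ, y = r ^ i ∨ y = r ^ i * s := by
  set c := 2 ^ (k - 1) - 1 with hc
  have hswap : ∀ m : ℕ, s * r ^ m = r ^ (c * m) * s := mssqdta_swap c hrs
  have hss : s * s = 1 := by rw [← pow_two, hs]
  have hsinv : s⁻¹ = s := inv_eq_of_mul_eq_one_right hss
  have hrn : r ^ (2 ^ k) = 1 := by rw [← hr]; exact pow_orderOf_eq_one r
  have hrinv : ∀ i : ℕ, (r ^ i)⁻¹ = r ^ (i * (2 ^ k - 1)) := by
    intro i
    apply inv_eq_of_mul_eq_one_right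
    rw [← pow_add]
    have hpos : 0 < 2 ^ k := by positivity
    have : i + i * (2 ^ k - 1) = 2 ^ k * i := by
      have e : 2 ^ k = (2 ^ k - 1) + 1 := by omega
      calc i + i * (2 ^ k - 1) = i * ((2 ^ k - 1) + 1) := by ring
        _ = 2 ^ k * i := by rw [← e]; ring
    rw [this, pow_mul, hrn, one_pow]
  intro y hy
  induction hy using Subgroup.closure_induction with
  | mem x hx =>
    rcases hx with rfl | hx
    · exact ⟨1, Or.inl (pow_one _).symm⟩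
    · rw [Set.mem_singleton_iff] at hx
      subst hx
      exact ⟨0, Or.inr (by rw [pow_zero, one_mul])⟩
  | one => exact ⟨0, Or.inl (pow_zero _).symm⟩
  | mul x y _ _ hx hy =>
    obtain ⟨i, rfl | rfl⟩ := hx <;> obtain ⟨j, rfl | rfl⟩ := hy
    · exact ⟨i + j, Or.inl (pow_add _ _ _).symm⟩
    · exact ⟨i + j, Or.inr (by rw [pow_add, mul_assoc])⟩
    · refine ⟨i + c * j, Or.inr ?_⟩
      rw [mul_assoc, hswap, ← mul_assoc, ← pow_add]
    · refine ⟨i + c * j, Or.inl ?_⟩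
      rw [mul_assoc, ← mul_assoc s, hswap, mul_assoc, hss, mul_one, ← pow_add]
  | inv x _ hx =>
    obtain ⟨i, rfl | rfl⟩ := hx
    · exact ⟨i * (2 ^ k - 1), Or.inl (hrinv i)⟩
    · refine ⟨c * (i * (2 ^ k - 1)), Or.inr ?_⟩
      rw [mul_inv_rev, hsinv, hrinv, hswap]

/-- QDT4 -/
theorem qdt_sq (hk : 3 ≤ k) (hr : orderOf r = 2 ^ k) (hs : s ^ 2 = 1)
    (hrs : s * r * s⁻¹ = r ^ (2 ^ (k - 1) - 1)) :
    ∀ y ∈ Subgroup.closure {r, s}, y ^ 2 ∈ Subgroup.zpowers r := by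
  intro y hy
  have hss : s * s = 1 := by rw [← pow_two, hs]
  obtain ⟨i, rfl | rfl⟩ := qdt_cases hk hr hs hrs y hy
  · rw [← pow_mul]
    exact Subgroup.npow_mem_zpowers r _
  · have h1 : (r ^ i * s) ^ 2 = r ^ (i + (2 ^ (k - 1) - 1) * i) := by
      rw [pow_two, mul_assoc, ← mul_assoc s, mssqdta_swap _ hrs, mul_assoc, hss, mul_one, ← pow_add]
    rw [h1]
    exact Subgroup.npow_mem_zpowers r _

end QDT

end Cfsg.Agent.Lib.Helper27.MSS
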