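import Mathlib
import Cfsg.Agent.Lib.helper8.RSM.Defs

/-!
# Project RSM (helper8), row A6 (`conic`), verbatim.
-/

set_option autoImplicit false

namespace Cfsg.Agent.Lib.helper8.RSM

universe u v w

variable {K : Type v} [Field K] [Fintype K] {m : ℕ}

/-- `3 = 0` in a field with `3 ^ (2 m + 1)` elements -/
theorem rsma6_three (hK : Fintype.card K = 3 ^ (2 * m + 1)) : (3 : K) = 0 := by
  have h := Nat.cast_card_eq_zero K
  rw [hK] at h
  push_cast at h
  exact pow_eq_zero_iff (n := 2 * m + 1) (by omega) |>.mp h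

/-- `-1` is not a square in a field with `3 ^ (2 m + 1)` elements -/
theorem rsma6_neg_one (hK : Fintype.card K = 3 ^ (2 * m + 1)) (a : K) : a ^ 2 ≠ -1 := by
  intro h
  have hsq : IsSquare (-1 : K) := ⟨a, by rw [← h]; ring⟩
  have h4 := FiniteField.isSquare_neg_one_iff.mp hsq
  apply h4
  rw [hK, pow_succ, pow_mul, Nat.mul_mod, Nat.pow_mod]
  norm_num

/-- a field with at least `27` elements has an element outside `{0, 1, -1}` -/
theorem rsma6_exists (hm : 1 ≤ m) (hK : Fintype.card K = 3 ^ (2 * m + 1)) :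
    ∃ w : K, w ≠ 0 ∧ w ≠ 1 ∧ w ≠ -1 := by
  classical
  by_contra hcon
  push Not at hcon
  have hsub : (Finset.univ : Finset K) ⊆ {0, 1, -1} := by
    intro w _
    by_cases h0 : w = 0
    · simp [h0]
    · by_cases h1 : w = 1
      · simp [h1]
      · have := hcon w h0 h1
        simp [this]
  have hle : Fintype.card K ≤ 3 := by
    calc Fintype.card K = (Finset.univ : Finset K).card := rfl
      _ ≤ ({0, 1, -1} : Finset K).card := Finset.card_le_card hsub
      _ ≤ 3 := Finset.card_le_three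
  have hge : 27 ≤ Fintype.card K := by
    rw [hK]
    calc 27 = 3 ^ 3 := by norm_num
      _ ≤ 3 ^ (2 * m + 1) := Nat.pow_le_pow_right (by norm_num) (by omega)
  omega

/-- A6 [M]. The conic `c + c' = 1` with `c, c'` non-zero squares: take `w ∉ {0, 1, -1}`
(`|K| ≥ 27`), `s₁ = (1 - w²) / (1 + w²)`, `s₂ = w / (1 + w²)` (`1 + w² ≠ 0` as `-1` is a non-square;
`(1 - w²)² + w² = (1 + w²)²` in characteristic 3).  `c c' = 1` would give `c² - c + 1 = (c + 1)² = 0`,
i.e. `c = -1`, a non-square. -/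
theorem conic (hm : 1 ≤ m) (hK : Fintype.card K = 3 ^ (2 * m + 1)) :
    ∃ c c' : K, (∃ s : K, s ≠ 0 ∧ c = s ^ 2) ∧ (∃ s : K, s ≠ 0 ∧ c' = s ^ 2) ∧
      c + c' = 1 ∧ c * c' ≠ 1 := by
  have h3 : (3 : K) = 0 := rsma6_three hK
  obtain ⟨w, hw0, hw1, hwm1⟩ := rsma6_exists hm hK
  have hden : 1 + w ^ 2 ≠ 0 := by
    intro h
    exact rsma6_neg_one hK w (by linear_combination h)
  have hnum : 1 - w ^ 2 ≠ 0 := by
    intro h
    have h1 : (w - 1) * (w + 1) = 0 := by linear_combination -h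
    rcases mul_eq_zero.mp h1 with h2 | h2
    · exact hw1 (by linear_combination h2)
    · exact hwm1 (by linear_combination h2)
  have hs1 : (1 - w ^ 2) / (1 + w ^ 2) ≠ 0 := div_ne_zero hnum hden
  have hs2 : w / (1 + w ^ 2) ≠ 0 := div_ne_zero hw0 hden
  have hsum : ((1 - w ^ 2) / (1 + w ^ 2)) ^ 2 + (w / (1 + w ^ 2)) ^ 2 = 1 := by
    field_simp
    linear_combination (-(w ^ 2)) * h3
  refine ⟨((1 - w ^ 2) / (1 + w ^ 2)) ^ 2, (w / (1 + w ^ 2)) ^ 2, ⟨_, hs1, rfl⟩, ⟨_, hs2, rfl⟩,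
    hsum, ?_⟩
  intro hprod
  set c : K := ((1 - w ^ 2) / (1 + w ^ 2)) ^ 2 with hc
  set c' : K := (w / (1 + w ^ 2)) ^ 2 with hc'
  -- `c' = 1 - c`, so `(c + 1)² = 0`
  have h1 : (c + 1) ^ 2 = 0 := by
    have hc'' : c' = 1 - c := by linear_combination hsum
    rw [hc''] at hprod
    linear_combination (-1 : K) * hprod + c * h3
  have h2 : c + 1 = 0 := pow_eq_zero_iff (n := 2) (by norm_num) |>.mp h1
  exact rsma6_neg_one hK ((1 - w ^ 2) / (1 + w ^ 2)) (by rw [← hc]; linear_combination h2)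

end Cfsg.Agent.Lib.helper8.RSM
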