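import Mathlib
import Cfsg.Prelude.Def_Classical
import Cfsg.Agent.Lib.Helper1.S8U.Defs
import Cfsg.Agent.Lib.helper4.OTSSTDP

set_option autoImplicit false

/-!
# Project S8U (S3590, designer helper1), rows TGTWO (`tgt_two`) and TGFOUR (`tgt_four`): cores on the cited statements (helper29).
-/

namespace Cfsg.Agent.Lib.Helper1.S8U

open Matrix Module Polynomial Cfsg.Agent.Lib.Helper16 Cfsg.Agent.Lib.Helper13.OTS Cfsg.Agent.Lib.Helper19.SO8
  Cfsg.Agent.Lib.helper14.OrthInv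

/-- TGFOUR core: hyps = instances of ORU4 (second part), ORODD, ORSUM, ORXFER -/
theorem s8utg_four_core {F : Type*} [Field F] [Fintype F] [CharP F 2] (a b : F) (hab : Aniso a b) (m : ℕ)
    (hm : Odd m) (h : OReal F 2 (-1) m)
    (hU4 : OR F 2 1 2 0 True)
    (hOdd : OReal F 2 (-1) m → OR F 2 (-1) m 0 False)
    (hSum : OR F 2 1 2 0 True → OR F 2 (-1) m 0 False →
      OR F (2 + 2) (1 * -1) (Nat.lcm 2 m) ((0 + 0) % 2)
        ((True ∧ Odd (Nat.lcm 2 m / 2)) ∨ (False ∧ Odd (Nat.lcm 2 m / m))))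
    (hXfer : OR F 4 (-1) (2 * m) 0 True → ∃ g ∈ Hd a b hab, orderOf g = 2 * m ∧ (True → geoM g (2 * m) ≠ 0)) :
    ∃ g ∈ Hd a b hab, orderOf g = 2 * m ∧ geoM g (2 * m) ≠ 0 := by
  have hcop : Nat.Coprime 2 m := Nat.coprime_two_left.mpr hm
  have hlcm : Nat.lcm 2 m = 2 * m := hcop.lcm_eq_mul
  have h1 := hSum hU4 (hOdd h)
  rw [hlcm] at h1
  have e1 : (1 : ℤ) * -1 = -1 := by norm_num
  rw [e1] at h1
  have h2 : OR F 4 (-1) (2 * m) 0 True := by
    refine or_mono ?_ h1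
    intro _
    left
    refine ⟨trivial, ?_⟩
    rw [Nat.mul_div_cancel_left m (by norm_num : 0 < 2)]
    exact hm
  obtain ⟨g, hg, ho, hgeo⟩ := hXfer h2
  exact ⟨g, hg, ho, hgeo trivial⟩

/-- TGTWO core: hyps = instances of ORONE, ORODD, ORSUM, ORXFER -/
theorem s8utg_two_core {F : Type*} [Field F] [Fintype F] [CharP F 2] (a b : F) (hab : Aniso a b) (m : ℕ)
    (hm : Odd m) (s : ℤ) (hs : s = 1 ∨ s = -1) (h : OReal F 3 s m)
    (hOne : ∀ {ι : Type} [Fintype ι] [DecidableEq ι] (Qs : QuadraticForm F (ι → F)) (d : ℕ) (s : ℤ),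
      QStd Qs d s → 1 ≤ d → OR F d s 1 0 True)
    (hOdd : OReal F 3 s m → OR F 3 s m 0 False)
    (hSum : OR F 1 (-s) 1 0 True → OR F 3 s m 0 False →
      OR F (1 + 3) (-s * s) (Nat.lcm 1 m) ((0 + 0) % 2)
        ((True ∧ Odd (Nat.lcm 1 m / 1)) ∨ (False ∧ Odd (Nat.lcm 1 m / m))))
    (hXfer : OR F 4 (-1) m 0 True → ∃ g ∈ Hd a b hab, orderOf g = m ∧ (True → geoM g m ≠ 0)) :
    ∃ g ∈ Hd a b hab, orderOf g = m ∧ geoM g m ≠ 0 := by
  have h0 : OR F 1 (-s) 1 0 True := by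
    rcases hs with rfl | rfl
    · exact hOne (qfMinus 0 F a b) (0 + 1) (-1) (otsstdp_minus 0 a b hab) le_rfl
    · have e : (-(-1 : ℤ)) = 1 := by norm_num
      rw [e]
      exact hOne (qfPlus 1 F) 1 1 (q_std_plus 1) le_rfl
  have h1 := hSum h0 (hOdd h)
  rw [Nat.lcm_one_left] at h1
  have e1 : -s * s = -1 := by
    rcases hs with rfl | rfl <;> norm_num
  rw [e1] at h1
  have h2 : OR F 4 (-1) m 0 True := by
    refine or_mono ?_ h1
    intro _
    left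
    refine ⟨trivial, ?_⟩
    rw [Nat.div_one]
    exact hm
  obtain ⟨g, hg, ho, hgeo⟩ := hXfer h2
  exact ⟨g, hg, ho, hgeo trivial⟩

end Cfsg.Agent.Lib.Helper1.S8U
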