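import Mathlib
import Cfsg.Prelude.Def_Classical
import Cfsg.Agent.Lib.Helper1.S8U.Defs
import Cfsg.Agent.Lib.Helper29.S8UTGcore
import Cfsg.Agent.Lib.helper14.S8UORODD
import Cfsg.Agent.Lib.helper23.S8UORSUM
import Cfsg.Agent.Lib.helper23.S8UORU4
import Cfsg.Agent.Lib.Helper1.S8UORXFER

set_option autoImplicit false

/-!
# Project S8U (S3590, designer helper1), row TGFOUR: `tgt_four` verbatim (helper29).
-/

namespace Cfsg.Agent.Lib.Helper1.S8U

open Matrix Module Polynomial Cfsg.Agent.Lib.Helper16 Cfsg.Agent.Lib.Helper13.OTS Cfsg.Agent.Lib.Helper19.SO8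
  Cfsg.Agent.Lib.helper14.OrthInv

/-- TGFOUR [M]: ORU4 (second part: `OR F 2 1 2 0 True`), ORODD for `h`, ORSUM `2 2` (`lcm 2 m = 2 m`, `2 m / 2 = m` odd, `1 * -1 = -1`), ORXFER. -/
theorem tgt_four {F : Type*} [Field F] [Fintype F] [CharP F 2] (a b : F) (hab : Aniso a b) (m : ℕ)
    (hm : Odd m) (h : OReal F 2 (-1) m) :
    ∃ g ∈ Hd a b hab, orderOf g = 2 * m ∧ geoM g (2 * m) ≠ 0 :=
  s8utg_four_core a b hab m hm h or_u4.2 (fun h => or_odd 2 (-1) m hm h)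
    (fun h₁ h₂ => or_sum 2 2 (by norm_num) 1 (-1) 2 m 0 0 True False h₁ h₂)
    (fun h => or_xfer a b hab (2 * m) True h)

end Cfsg.Agent.Lib.Helper1.S8U
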