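import Mathlib
import Cfsg.Prelude.Def_Classical
import Cfsg.Agent.Lib.Helper1.S8U.Defs
import Cfsg.Agent.Lib.Helper29.S8UTGcore
import Cfsg.Agent.Lib.helper14.S8UORONE
import Cfsg.Agent.Lib.helper14.S8UORODD
import Cfsg.Agent.Lib.helper23.S8UORSUM
import Cfsg.Agent.Lib.Helper1.S8UORXFER

set_option autoImplicit false

/-!
# Project S8U (S3590, designer helper1), row TGTWO: `tgt_two` verbatim (helper29).
-/

namespace Cfsg.Agent.Lib.Helper1.S8U

open Matrix Module Polynomial Cfsg.Agent.Lib.Helper16 Cfsg.Agent.Lib.Helper13.OTS Cfsg.Agent.Lib.Helper19.SO8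
  Cfsg.Agent.Lib.helper14.OrthInv

/-- TGTWO [M]: ORONE on a 2-dimensional standard space of type `-s` (`q_std_plus 1` resp. `otsstdp_minus 0 a b hab`), ORODD for `h`, ORSUM `1 3` (`lcm 1 m = m`, `m / 1 = m` odd, `(-s) * s = -1`, `1 + 3 = 4`), `or_mono`, ORXFER. -/
theorem tgt_two {F : Type*} [Field F] [Fintype F] [CharP F 2] (a b : F) (hab : Aniso a b) (m : ℕ)
    (hm : Odd m) (s : ℤ) (hs : s = 1 ∨ s = -1) (h : OReal F 3 s m) :
    ∃ g ∈ Hd a b hab, orderOf g = m ∧ geoM g m ≠ 0 :=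
  s8utg_two_core a b hab m hm s hs h (fun Qs d s hs hd => or_one Qs d s hs hd)
    (fun h => or_odd 3 s m hm h)
    (fun h₁ h₂ => or_sum 1 3 le_rfl (-s) s 1 m 0 0 True False h₁ h₂)
    (fun h => or_xfer a b hab m True h)

end Cfsg.Agent.Lib.Helper1.S8U
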