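import Mathlib
import Cfsg.Prelude.Def_Characters
import Cfsg.Agent.Lib.helper7.PM2.Defs
import Cfsg.Agent.Lib.Helper29.PM2DECcore
import Cfsg.Agent.Lib.Helper29.PM2DEC3

/-!
# Project PM2 (S4705) : piece DEC4 (`mult_sym_zero`)
-/

set_option autoImplicit false
set_option linter.unusedVariables false
set_option linter.unusedSectionVars false

namespace Cfsg.Agent.Lib.helper7.PM2

open scoped ComplexConjugate

universe u

section setting

variable {G : Type u} [Group G] [Fintype G] {p : ℕ} {ζ : G → ℂ} {x : G} {ω : ℂ}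

/-- DEC4 : the symmetric square contains no `ζ^[k]` -/
theorem mult_sym_zero (S : Setting p ζ x ω) (κ : ℕ) (hκ : Nat.Coprime κ (Nat.card G / p))
    (hκ2 : κ ≡ 2 [MOD Nat.card (Subgroup.center G)]) (k : ℕ) (hk : Nat.Coprime k (Nat.card G))
    (hkκ : k ≡ κ [MOD Nat.card G / p]) : Cfsg.classInner (symSq ζ) (pw ζ k) = 0 := by
  obtain ⟨B, hB⟩ := mult_sym S κ hκ hκ2
  have hn : 0 < Nat.card G := Nat.card_pos
  have hpn : p ∣ Nat.card G := by rw [← S.ordx]; exact orderOf_dvd_natCard x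
  have hB0 : B = 0 := pm2dec4_core S κ hκ B hB
    (fun a ha => exists_fam (Nat.card G) p κ hn S.hp hpn S.sylow hκ a ha)
    (fun k hk => pw_irr S.irr k hk)
    (fun k k' hk hk' h => pw_ne_of_not_cong S k k' hk hk' h)
    (fun z hz k κ' h => pow_reg S z hz k κ' h)
    (fun I Ψ hΨ χ hχ hne m hm => split_off I hΨ χ hχ hne m hm)
    (fun z hz => alt_rel S κ hκ hκ2 z hz)
    (card_dvd S)
  rw [hB k hk hkκ, hB0]
  simp

end setting

end Cfsg.Agent.Lib.helper7.PM2
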