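import Mathlib
import Cfsg.Prelude.Def_Characters
import Cfsg.Agent.Lib.helper7.PM2.Defs
import Cfsg.Agent.Lib.Helper29.PM2DECcore
import Cfsg.Agent.Lib.Helper29.PM2DEC3
import Cfsg.Agent.Lib.Helper29.PM2DEC4

/-!
# Project PM2 (S4705) : piece DEC5 (`cube_inner`)
-/

set_option autoImplicit false
set_option linter.unusedVariables false
set_option linter.unusedSectionVars false

namespace Cfsg.Agent.Lib.helper7.PM2

open scoped ComplexConjugate

universe u

section setting

variable {G : Type u} [Group G] [Fintype G] {p : ℕ} {ζ : G → ℂ} {x : G} {ω : ℂ}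

/-- DEC5 : the cubic moment -/
theorem cube_inner (S : Setting p ζ x ω) :
    ∃ k : ℕ, Nat.Coprime k (Nat.card G) ∧ k ≡ 1 [MOD p] ∧ k ≡ 2 [MOD Nat.card (Subgroup.center G)] ∧
      ∑ g : G, ζ g ^ 2 * conj (ζ (g ^ k)) = (Nat.card G : ℂ) := by
  have hn : 0 < Nat.card G := Nat.card_pos
  have hpn : p ∣ Nat.card G := by rw [← S.ordx]; exact orderOf_dvd_natCard x
  have hppos : 0 < p := S.hp.pos
  have hdvd := card_dvd S
  have hodvd : Nat.card (Subgroup.center G) ∣ Nat.card G / p := by
    obtain ⟨t, ht⟩ := hdvd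
    have hnp : Nat.card G / p = Nat.card (Subgroup.center G) * (2 * t) := by
      rw [ht]
      have : 2 * p * Nat.card (Subgroup.center G) * t =
          p * (Nat.card (Subgroup.center G) * (2 * t)) := by ring
      rw [this, Nat.mul_div_cancel_left _ hppos]
    rw [hnp]
    exact dvd_mul_right _ _
  exact pm2dec5_core S
    (exists_kappa (Nat.card G) p (Nat.card (Subgroup.center G)) hn S.hp hpn hodvd S.oddZ)
    (fun κ hκ a ha => exists_fam (Nat.card G) p κ hn S.hp hpn S.sylow hκ a ha)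
    (fun κ hκ hκ2 k hk hkκ hk1 => mult_alt_one S κ hκ hκ2 k hk hkκ hk1)
    (fun κ hκ hκ2 k hk hkκ => mult_sym_zero S κ hκ hκ2 k hk hkκ)
    hdvd

end setting

end Cfsg.Agent.Lib.helper7.PM2
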