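import Mathlib
import Cfsg.Prelude.Def_Characters
import Cfsg.Prelude.Def_Blocks
import Cfsg.Agent.Lib.Helper25.CharLinear
import Cfsg.Agent.Lib.Helper29.LeoOrbit
import Cfsg.Agent.Lib.helper7.BR.Defs
import Cfsg.Agent.Lib.helper2.SchurBound1
import Cfsg.Agent.Lib.helper2.CharNat

/-!
# Project BT3 (S4501), piece INT3 (helper29): the values of an irreducible character on a Sylow `3`-subgroup of
order `3` which is inverted by an element are integers congruent to the degree modulo `3`.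
-/

set_option autoImplicit false
set_option linter.unusedVariables false
set_option linter.unusedSectionVars false

namespace Cfsg.Agent.Lib.Helper13.BT3

open Classical
open scoped ComplexConjugate
open Cfsg.Agent.Lib.Helper25 Cfsg.Agent.Lib.Helper29
open Cfsg.Agent.Lib.helper7.BR

universe u

variable {G : Type u} [Group G] [Fintype G]

/-- INT3 : the values on `P ∖ 1` are integers `≡ χ(1) (mod 3)` (`helper2.sb_values 3 1` for the restriction of `ξ` to
`Subgroup.zpowers x`, as in `Helper24.af3_invol_int`; `y^m` is `y` or `y⁻¹` up to conjugacy) -/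
theorem int_values (P : Sylow 3 G) (hP : Nat.card ↥(P : Subgroup G) = 3) (t : G)
    (hinv : ∀ x ∈ (P : Subgroup G), t * x * t⁻¹ = x⁻¹) (ξ : Cfsg.IrrCharacter G) (x : G)
    (hx : x ∈ (P : Subgroup G)) :
    ∃ v : ℤ, (ξ : G → ℂ) x = (v : ℂ) ∧ (3 : ℤ) ∣ (leoDeg ξ : ℤ) - v := by
  haveI : Fact (Nat.Prime 3) := ⟨Nat.prime_three⟩
  have hcard : Nat.card ↥(P : Subgroup G) = 3 ^ 1 := by rw [hP, pow_one]
  have hchar := Cfsg.Agent.Lib.helper2.isCharacter_restrict
    (Cfsg.Agent.Lib.helper2.isCharacter_of_irr ξ) (P : Subgroup G)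
  have hcl : Cfsg.IsClassFunction G (ξ : G → ℂ) :=
    Cfsg.Agent.Lib.helper2.isCharacter_isClassFunction (Cfsg.Agent.Lib.helper2.isCharacter_of_irr ξ)
  have hdeg : (fun h : ↥(P : Subgroup G) => (ξ : G → ℂ) h) 1 = (leoDeg ξ : ℂ) := by
    show (ξ : G → ℂ) ((1 : ↥(P : Subgroup G)) : G) = (leoDeg ξ : ℂ)
    rw [Subgroup.coe_one]
    exact leoDeg_spec ξ
  have hinv' : ∀ (y : ↥(P : Subgroup G)) (m : ℕ), m.Coprime 3 →
      (fun h : ↥(P : Subgroup G) => (ξ : G → ℂ) h) (y ^ m) =
        (fun h : ↥(P : Subgroup G) => (ξ : G → ℂ) h) y := by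
    intro y m hm
    have hy3 : y ^ 3 = 1 := by
      have := pow_card_eq_one' (G := ↥(P : Subgroup G)) (x := y)
      rw [hP] at this
      exact this
    have hm3 : m % 3 = 1 ∨ m % 3 = 2 := by
      have h0 : m % 3 ≠ 0 := by
        intro h0
        have hd : 3 ∣ m := Nat.dvd_of_mod_eq_zero h0
        have : 3 ∣ Nat.gcd m 3 := Nat.dvd_gcd hd (dvd_refl 3)
        rw [hm] at this
        omega
      omega
    have hpow : y ^ m = y ^ (m % 3) := by
      conv_lhs => rw [← Nat.div_add_mod m 3]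
      rw [pow_add, pow_mul, hy3, one_pow, one_mul]
    rcases hm3 with h1 | h2
    · have : y ^ m = y := by rw [hpow, h1, pow_one]
      simp only [this]
    · have hyinv : y ^ m = y⁻¹ := by
        rw [hpow, h2]
        have : y ^ 2 * y = 1 := by rw [← pow_succ]; exact hy3
        exact eq_inv_of_mul_eq_one_left this
      show (ξ : G → ℂ) ((y ^ m : ↥(P : Subgroup G)) : G) = (ξ : G → ℂ) (y : G)
      rw [hyinv, Subgroup.coe_inv, ← hinv (y : G) y.2]
      exact hcl (y : G) t
  obtain ⟨v, hv, -, hdvd, -⟩ := Cfsg.Agent.Lib.helper2.sb_values 3 1 hcard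
    (fun h : ↥(P : Subgroup G) => (ξ : G → ℂ) h) hchar (leoDeg ξ) hdeg hinv' ⟨x, hx⟩
  exact ⟨v, hv, hdvd⟩

end Cfsg.Agent.Lib.Helper13.BT3
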