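import Mathlib
import Cfsg.Prelude.Def_Characters
import Cfsg.Prelude.Def_Blocks
import Cfsg.Agent.Lib.Helper25.CharLinear
import Cfsg.Agent.Lib.Helper29.LeoOrbit
import Cfsg.Agent.Lib.helper7.BR.Defs
import Cfsg.Agent.Lib.helper8.Burnside

/-!
# Project BT3 (S4501), piece E2 (helper29): `|N_G(P) : C_G(P)| = 2` for a Sylow `3`-subgroup of order `3`
of a non-commutative simple group.
-/

set_option autoImplicit false
set_option linter.unusedVariables false
set_option linter.unusedSectionVars false

namespace Cfsg.Agent.Lib.Helper13.BT3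

open Classical
open scoped ComplexConjugate
open Cfsg.Agent.Lib.Helper25 Cfsg.Agent.Lib.Helper29
open Cfsg.Agent.Lib.helper7.BR

universe u

variable {G : Type u} [Group G] [Fintype G]

/-- E2 : `|N_G(P) : C_G(P)| = 2` (it divides `2`: `helper8.h8_relIndex_centralizer_normalizer_dvd_prime`; it is not `1`:
`helper8.h8_simple_not_normalizer_le_centralizer`, Burnside's transfer) -/
theorem rel_index_two [IsSimpleGroup G] (hnc : ¬ ∀ x y : G, x * y = y * x) (P : Sylow 3 G)
    (hP : Nat.card ↥(P : Subgroup G) = 3) : (cen P).relIndex (nrm P) = 2 := by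
  haveI : Fact (Nat.Prime 3) := ⟨Nat.prime_three⟩
  have hdvd : (cen P).relIndex (nrm P) ∣ 3 - 1 :=
    Cfsg.Agent.Lib.helper8.h8_relIndex_centralizer_normalizer_dvd_prime 3 Nat.prime_three
      (P : Subgroup G) hP
  have hne1 : (cen P).relIndex (nrm P) ≠ 1 := by
    intro h1
    have hle : nrm P ≤ cen P :=
      Cfsg.Agent.Lib.helper8.h8_normalizer_le_centralizer_of_relIndex (P : Subgroup G) h1
    have hcardG : Nat.card G = 3 ^ 1 * (P : Subgroup G).index := by
      have := (P : Subgroup G).card_mul_index
      rw [hP] at this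
      rw [pow_one]
      exact this.symm
    have hm : ¬ 3 ∣ (P : Subgroup G).index := P.not_dvd_index
    have hm1 : 1 < (P : Subgroup G).index := by
      by_contra hcon
      have hpos : 0 < (P : Subgroup G).index := Nat.pos_of_ne_zero (P : Subgroup G).index_ne_zero_of_finite
      have hidx : (P : Subgroup G).index = 1 := by omega
      have hG3 : Nat.card G = 3 := by rw [hcardG, hidx]; norm_num
      have hcyc : IsCyclic G := isCyclic_of_prime_card hG3
      obtain ⟨g, hg⟩ := hcyc.exists_generator
      refine hnc (fun x y => ?_)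
      obtain ⟨i, rfl⟩ := Subgroup.mem_zpowers_iff.mp (hg x)
      obtain ⟨j, rfl⟩ := Subgroup.mem_zpowers_iff.mp (hg y)
      rw [← zpow_add, ← zpow_add, add_comm]
    exact Cfsg.Agent.Lib.helper8.h8_simple_not_normalizer_le_centralizer 3 1 _ hcardG hm
      Nat.one_pos hm1 P hle
  have h2 : (cen P).relIndex (nrm P) ∣ 2 := hdvd
  rcases (Nat.dvd_prime Nat.prime_two).mp h2 with h | h
  · exact absurd h hne1
  · exact h

end Cfsg.Agent.Lib.Helper13.BT3
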