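import Mathlib
import Cfsg.Agent.Lib.helper17.SLP.Defs
import Cfsg.Agent.Lib.helper3.SP4.Defs

/-!
# Project SP4 (S2293, designer helper3), row C1 (`comm_span`).
-/

set_option autoImplicit false

namespace Cfsg.Agent.Lib.helper3.SP4

open Cfsg.Agent.Lib.helper17.SLP
open Polynomial

universe u v

section C

variable {F : Type u} [Field F] [Fintype F] {G : Type v} [Group G]

omit [Fintype F] in
/-- an additive map into a group sends `0` to `1`. -/
theorem sp4c1_zero (Y : F → G) (hY : ∀ s t, Y (s + t) = Y s * Y t) : Y 0 = 1 := by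
  have h := hY 0 0
  rw [add_zero] at h
  exact (mul_eq_left.mp h.symm)

omit [Fintype F] in
/-- an additive map into a group sends `-t` to the inverse. -/
theorem sp4c1_neg (Y : F → G) (hY : ∀ s t, Y (s + t) = Y s * Y t) (t : F) : Y (-t) = (Y t)⁻¹ := by
  have h := hY (-t) t
  rw [neg_add_cancel, sp4c1_zero Y hY] at h
  exact eq_inv_of_mul_eq_one_left h.symm

/-- C1 [S-M]  `{t | Commute g (Y t)}` is an additive subgroup containing `S`. -/
theorem comm_span (Y : F → G) (hY : ∀ s t, Y (s + t) = Y s * Y t) (g : G) (S : Set F)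
    (hS : AddSubgroup.closure S = ⊤) (h : ∀ t ∈ S, Commute g (Y t)) : ∀ t, Commute g (Y t) := by
  intro t
  have ht : t ∈ AddSubgroup.closure S := by rw [hS]; exact AddSubgroup.mem_top t
  induction ht using AddSubgroup.closure_induction with
  | mem x hx => exact h x hx
  | zero => rw [sp4c1_zero Y hY]; exact Commute.one_right g
  | add a b _ _ iha ihb => rw [hY]; exact iha.mul_right ihb
  | neg a _ iha => rw [sp4c1_neg Y hY]; exact iha.inv_right

end C

end Cfsg.Agent.Lib.helper3.SP4
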