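import Mathlib
import Cfsg.Agent.Lib.helper17.SLP.Defs
import Cfsg.Agent.Lib.helper3.SP4.Defs
import Cfsg.Agent.Lib.helper2.SLPM1
import Cfsg.Agent.Lib.Helper29.SP4C1

/-!
# Project SP4 (S2293, designer helper3), row T9 (`xcd_add`).
-/

set_option autoImplicit false

namespace Cfsg.Agent.Lib.helper3.SP4

open Cfsg.Agent.Lib.helper17.SLP
open Polynomial

universe u v

section T

variable {F : Type u} [Field F] [Fintype F] {G : Type v} [Group G]

omit [Fintype F] in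
/-- `rx φ` is additive. -/
theorem sp4t9_rx_add (φ : Matrix.SpecialLinearGroup (Fin 2) F →* G) (s t : F) :
    rx φ (s + t) = rx φ s * rx φ t := by
  unfold rx
  rw [← map_mul, xM_mul]

omit [Fintype F] in
/-- conjugates of additive maps are additive. -/
theorem sp4t9_conj_add (Y : F → G) (hY : ∀ s t, Y (s + t) = Y s * Y t) (n : G) (s t : F) :
    n⁻¹ * Y (s + t) * n = (n⁻¹ * Y s * n) * (n⁻¹ * Y t * n) := by
  rw [hY]
  group

/-- T9 [S]  conjugates of additive maps are additive (R3 for `rx`). -/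
theorem xcd_add (φa φb : Matrix.SpecialLinearGroup (Fin 2) F →* G) :
    (∀ s t, xc φa φb (s + t) = xc φa φb s * xc φa φb t) ∧
      (∀ s t, xd φa φb (s + t) = xd φa φb s * xd φa φb t) ∧
      xc φa φb 0 = 1 ∧ xd φa φb 0 = 1 ∧ (∀ t, xc φa φb (-t) = (xc φa φb t)⁻¹) ∧
      (∀ t, xd φa φb (-t) = (xd φa φb t)⁻¹) := by
  have hc : ∀ s t, xc φa φb (s + t) = xc φa φb s * xc φa φb t := fun s t =>
    sp4t9_conj_add (rx φa) (sp4t9_rx_add φa) (rn φb) s t
  have hd : ∀ s t, xd φa φb (s + t) = xd φa φb s * xd φa φb t := fun s t =>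
    sp4t9_conj_add (rx φb) (sp4t9_rx_add φb) (rn φa) s t
  exact ⟨hc, hd, sp4c1_zero _ hc, sp4c1_zero _ hd, sp4c1_neg _ hc, sp4c1_neg _ hd⟩

end T

end Cfsg.Agent.Lib.helper3.SP4
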