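import Mathlib
import Cfsg.Agent.Lib.helper17.SLP.Defs
import Cfsg.Agent.Lib.helper3.SP4.Defs

/-!
# Project SP4 (S2293, designer helper3), row C5 (`comm_cd_bc`).
-/

set_option autoImplicit false

namespace Cfsg.Agent.Lib.helper3.SP4

open Cfsg.Agent.Lib.helper17.SLP
open Polynomial

universe u v

section C

variable {F : Type u} [Field F] [Fintype F] {G : Type v} [Group G]

/-- C5 [S-M]  Conjugate `had s t` by `w_b`: `w_b x_a(s) w_b⁻¹ = x_c(-s)`, `w_b x_d(t) w_b⁻¹ = x_d(t)`; by `w_a w_b`: `w_a x_c(-s) w_a⁻¹ = x_c(s)`, `w_a x_d(t) w_a⁻¹ = x_b(t)` (`W`). -/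
theorem comm_cd_bc (φa φb : Matrix.SpecialLinearGroup (Fin 2) F →* G) (W : Wact4 φa φb)
    (had : ∀ s t, Commute (rx φa s) (xd φa φb t)) :
    (∀ s t, Commute (xc φa φb s) (xd φa φb t)) ∧ (∀ s t, Commute (rx φb s) (xc φa φb t)) := by
  have h1 : ∀ s t, Commute (xc φa φb s) (xd φa φb t) := by
    intro s t
    have h := (Commute.conj_iff (rn φb)).mpr (had (-s) t)
    rwa [W.b_a, W.b_d, neg_neg] at h
  refine ⟨h1, ?_⟩
  intro s t
  have h := (Commute.conj_iff (rn φa)).mpr (h1 (-t) s)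
  rw [W.a_c, W.a_d, neg_neg] at h
  exact h.symm

end C

end Cfsg.Agent.Lib.helper3.SP4
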