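import Mathlib
import Cfsg.Agent.Lib.helper17.SLP.Defs
import Cfsg.Agent.Lib.helper3.SP4.Defs

/-!
# Project SP4 (S2293, designer helper3), row C2 (`cm_mul_right`, `cm_conj`).
-/

set_option autoImplicit false

namespace Cfsg.Agent.Lib.helper3.SP4

open Cfsg.Agent.Lib.helper17.SLP
open Polynomial

universe u v

/-- C2 [S]  pure group theory (`cm a b = a * b * a⁻¹ * b⁻¹`; `group`). -/
theorem cm_mul_right {G : Type*} [Group G] (a b b' : G) : cm a (b * b') = cm a b * (b * cm a b' * b⁻¹) := by
  unfold cm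
  group

theorem cm_conj {G : Type*} [Group G] (g a b : G) :
    g * cm a b * g⁻¹ = cm (g * a * g⁻¹) (g * b * g⁻¹) := by
  unfold cm
  group

end Cfsg.Agent.Lib.helper3.SP4
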