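import Mathlib
import Cfsg.Agent.Lib.helper17.SLP.Defs
import Cfsg.Agent.Lib.helper3.SP4.Defs
import Cfsg.Agent.Lib.Helper29.SP4C1
import Cfsg.Agent.Lib.Helper29.SP4C2
import Cfsg.Agent.Lib.Helper29.SP4T9

/-!
# Project SP4 (S2293, designer helper3), row C6 (`cm_ac`): core on the statement of T3 (`sq_span`).
-/

set_option autoImplicit false

namespace Cfsg.Agent.Lib.helper3.SP4

open Cfsg.Agent.Lib.helper17.SLP
open Polynomial

universe u v

section C

variable {F : Type u} [Field F] [Fintype F] {G : Type v} [Group G]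

omit [Fintype F] in
/-- own copy of the `Act` product rule (statement of R5 `act_mul`). -/
theorem sp4c6_act_mul (g g' : G) (X : F → G) (c c' : F) (h : Act g X c) (h' : Act g' X c') :
    Act (g * g') X (c * c') := by
  intro t
  have h1 : g * g' * X t * (g * g')⁻¹ = g * (g' * X t * g'⁻¹) * g⁻¹ := by group
  rw [h1, h' t, h _, mul_assoc]

omit [Fintype F] in
/-- `cm a b⁻¹ = b⁻¹ * (cm a b)⁻¹ * b`. -/
theorem sp4c6_cm_inv_right (a b : G) : cm a b⁻¹ = b⁻¹ * (cm a b)⁻¹ * b := by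
  unfold cm
  group

/-- the torus conjugate of the instance `C10`. -/
theorem sp4c6_inst (ζ : Fˣ) (φa φb : Matrix.SpecialLinearGroup (Fin 2) F →* G) (H : Hyp ζ φa φb)
    (R : Tor4 φa φb) (s σ : Fˣ) :
    cm (rx φa (s : F)) (xc φa φb ((s : F)⁻¹ * (σ : F) ^ 2)) = xd φa φb (2 * (σ : F) ^ 2) := by
  obtain ⟨-, hdadd, -, -, -, -⟩ := xcd_add φa φb
  -- `D 1 1`
  have h11 : cm (rx φa 1) (xc φa φb 1) = xd φa φb 2 := by
    rw [H.C10, pow_two, ← hdadd, one_add_one_eq_two]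
  set ρ : Fˣ := σ ^ 2 * s⁻¹ with hρ
  have hA := sp4c6_act_mul _ _ _ _ _ (R.aa σ) (R.ab ρ)
  have hC := sp4c6_act_mul _ _ _ _ _ (R.ca σ) (R.cb ρ)
  have hD := sp4c6_act_mul _ _ _ _ _ (R.da σ) (R.db ρ)
  have key := congrArg (fun y => (rh φa σ * rh φb ρ) * y * (rh φa σ * rh φb ρ)⁻¹) h11
  beta_reduce at key
  rw [cm_conj, hA 1, hC 1, hD 2] at key
  have e1 : (σ : F) ^ 2 * ((ρ⁻¹ : Fˣ) : F) * 1 = (s : F) := by
    rw [hρ]
    simp only [mul_inv_rev, inv_inv, Units.val_mul, Units.val_pow_eq_pow_val,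
      Units.val_inv_eq_inv_val, mul_one]
    have hσ : (σ : F) ≠ 0 := Units.ne_zero σ
    field_simp
  have e2 : (1 : F) * (ρ : F) * 1 = (s : F)⁻¹ * (σ : F) ^ 2 := by
    rw [hρ]
    simp only [Units.val_mul, Units.val_pow_eq_pow_val, Units.val_inv_eq_inv_val, mul_one, one_mul]
    ring
  have e3 : (σ : F) ^ 2 * 1 * 2 = 2 * (σ : F) ^ 2 := by ring
  rw [e1, e2, e3] at key
  exact key

/-- C6 core: `hsq` = statement of T3 (`sq_span`). -/
theorem sp4c6_core
    (hsq : AddSubgroup.closure (Set.range fun s : Fˣ => ((s : F)) ^ 2) = ⊤)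
    (ζ : Fˣ) (φa φb : Matrix.SpecialLinearGroup (Fin 2) F →* G) (H : Hyp ζ φa φb)
    (R : Tor4 φa φb) (hcd : ∀ s t, Commute (xc φa φb s) (xd φa φb t)) :
    ∀ s t, cm (rx φa s) (xc φa φb t) = xd φa φb (2 * s * t) := by
  obtain ⟨hcadd, hdadd, hc0, hd0, hcneg, hdneg⟩ := xcd_add φa φb
  have hx0 : rx φa 0 = 1 := sp4c1_zero _ (sp4t9_rx_add φa)
  -- for a unit `s`: `P t`
  have hP : ∀ (s : Fˣ) (t : F),
      cm (rx φa (s : F)) (xc φa φb ((s : F)⁻¹ * t)) = xd φa φb (2 * t) := by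
    intro s t
    have ht : t ∈ AddSubgroup.closure (Set.range fun s : Fˣ => ((s : F)) ^ 2) := by
      rw [hsq]; exact AddSubgroup.mem_top t
    induction ht using AddSubgroup.closure_induction with
    | mem x hx =>
      obtain ⟨σ, rfl⟩ := hx
      exact sp4c6_inst ζ φa φb H R s σ
    | zero =>
      rw [mul_zero, mul_zero, hc0, hd0]
      unfold cm
      group
    | add a b _ _ iha ihb =>
      rw [mul_add, hcadd, cm_mul_right, iha, ihb, mul_add, hdadd]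
      have hc := hcd ((s : F)⁻¹ * a) (2 * b)
      rw [show xc φa φb ((s : F)⁻¹ * a) * xd φa φb (2 * b) * (xc φa φb ((s : F)⁻¹ * a))⁻¹
        = xd φa φb (2 * b) from by rw [hc.eq]; group]
    | neg a _ iha =>
      rw [mul_neg, hcneg, sp4c6_cm_inv_right, iha, mul_neg, hdneg]
      have hc := hcd ((s : F)⁻¹ * a) (2 * a)
      have hc' : Commute (xc φa φb ((s : F)⁻¹ * a)) (xd φa φb (2 * a))⁻¹ := hc.inv_right
      rw [show (xc φa φb ((s : F)⁻¹ * a))⁻¹ * (xd φa φb (2 * a))⁻¹ * xc φa φb ((s : F)⁻¹ * a)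
        = (xd φa φb (2 * a))⁻¹ from by rw [mul_assoc, ← hc'.eq]; group]
  intro s t
  by_cases hs : s = 0
  · rw [hs, hx0, mul_zero, zero_mul, hd0]
    unfold cm
    group
  · have h := hP (Units.mk0 s hs) (s * t)
    rw [Units.val_mk0, ← mul_assoc, inv_mul_cancel₀ hs, one_mul, ← mul_assoc] at h
    exact h

end C

end Cfsg.Agent.Lib.helper3.SP4
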