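import Mathlib
import Cfsg.Agent.Lib.helper17.SLP.Defs
import Cfsg.Agent.Lib.helper3.SP4.Defs
import Cfsg.Agent.Lib.Helper18.SP4T3
import Cfsg.Agent.Lib.Helper29.SP4C6core

/-!
# Project SP4 (S2293, designer helper3), row C6 (`cm_ac`), verbatim.
-/

set_option autoImplicit false

namespace Cfsg.Agent.Lib.helper3.SP4

open Cfsg.Agent.Lib.helper17.SLP
open Polynomial

universe u v

section C

variable {F : Type u} [Field F] [Fintype F] {G : Type v} [Group G]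

/-- C6 [M]  deps C2 T3 T9.  `D s t :⇔ cm (x_a s) (x_c t) = x_d (2 s t)`.  `H.C10` is `D 1 1` (`x_d(1)² = x_d(2)`).  Conjugate by `h_a(σ) h_b(ρ)` (C2 `cm_conj`; characters `σ²ρ⁻¹`, `ρ`, `σ²`): `D (σ²ρ⁻¹) ρ`, i.e. `D s t` whenever
`s`, `t` are units with `s t` a square.  Fix a unit `s`: `t ↦ D s t` is additive (`cm_mul_right`, `cm a b' ∈ x_d` commutes with `b ∈ x_c`: `hcd`; `x_d` additive) and holds for `t ∈ s⁻¹ · squares`, which span `F`
(apply T3 to `t ↦ s⁻¹ t`, or run the closure argument on `Y t := x_c (s⁻¹ t)`).  `s = 0`: both sides `1`. -/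
theorem cm_ac (ζ : Fˣ) (φa φb : Matrix.SpecialLinearGroup (Fin 2) F →* G) (H : Hyp ζ φa φb)
    (R : Tor4 φa φb) (hcd : ∀ s t, Commute (xc φa φb s) (xd φa φb t)) :
    ∀ s t, cm (rx φa s) (xc φa φb t) = xd φa φb (2 * s * t) :=
  sp4c6_core sq_span ζ φa φb H R hcd

end C

end Cfsg.Agent.Lib.helper3.SP4
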