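import Mathlib
import Cfsg.Prelude.Def_Classical
import Cfsg.Prelude.Def_KGroupFacts
import Cfsg.Agent.Lib.helper3.SPB.Defs
import Cfsg.Agent.Lib.Helper20.STBH1
import Cfsg.Agent.Lib.Helper21.STBB3

/-!
# Project SPB (designer helper3; S2094), row T3 `CovB.zel_sq`, VERBATIM (helper29).
`zel * zel = hs_0(-1) * hs_0(-1) = hs_0(1) = 1` (STB H1 `hs_mul`, B3 `hs_one`).
-/

set_option autoImplicit false

namespace Cfsg.Agent.Lib.helper3.SPB

open Cfsg.Agent.Lib.helper15.St2 Cfsg.Agent.Lib.helper3.STC Cfsg.Agent.Lib.Lead.STD Cfsg.Agent.Lib.Lead.STB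
  Cfsg.Agent.Lib.Lead.SPN Cfsg.Agent.Lib.Helper16 Cfsg.Agent.Lib.Helper12.OMB

universe u v w

namespace CovB

variable {l : ℕ} {F : Type u} [Field F] [Fintype F] {G : Type v} [Group G] (C : CovB l F G)

/-- T3 [S]  STB H1 `hs_mul`, B3 `hs_one`: `hs a (-1) * hs a (-1) = hs a 1 = 1`. -/
theorem zel_sq : C.zel * C.zel = 1 := by
  unfold CovB.zel
  have h1 : (-1 : F) ≠ 0 := neg_ne_zero.2 one_ne_zero
  rw [C.S.hs_mul _ (-1) (-1) h1 h1]
  have e : ((-1 : F) * (-1)) = 1 := by ring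
  rw [e, C.S.hs_one]

end CovB

end Cfsg.Agent.Lib.helper3.SPB
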