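import Mathlib
import Cfsg.Prelude.Def_Classical
import Cfsg.Prelude.Def_KGroupFacts
import Cfsg.Agent.Lib.helper3.SPB.Defs

/-!
# Project SPB (designer helper3; S2094), row T10 `CovB.stem`: the CORE (helper29).
`spbt10_core`: `sig` is a stem extension, from the STATEMENTS of T2 `zel_central`, T5 `ker_pi`, T6 `pi_surj`, T7 `perfect` and the interface hypothesis `OmbCenter l F`
(T9 `ker_sig_eq` is not needed: `sig g = 1 ↔ π g ∈ centre = ⊥`).
-/

set_option autoImplicit false

namespace Cfsg.Agent.Lib.helper3.SPB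

open Cfsg.Agent.Lib.helper15.St2 Cfsg.Agent.Lib.helper3.STC Cfsg.Agent.Lib.Lead.STD Cfsg.Agent.Lib.Lead.STB
  Cfsg.Agent.Lib.Lead.SPN Cfsg.Agent.Lib.Helper16 Cfsg.Agent.Lib.Helper12.OMB

universe u v w

namespace CovB

variable {l : ℕ} {F : Type u} [Field F] {G : Type v} [Group G] (C : CovB l F G)

theorem spbt10_core
    (hcent : ∀ g : G, g * C.zel = C.zel * g)
    (hker : ∀ g : G, C.π g = 1 → g = 1 ∨ g = C.zel)
    (hsurj : Function.Surjective C.π)
    (hperf : commutator G = ⊤)
    (hcen : OmbCenter l F) : Cfsg.IsStemExtension C.sig := by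
  refine ⟨?_, ?_, ?_⟩
  · unfold CovB.sig
    exact (QuotientGroup.mk'_surjective _).comp hsurj
  · intro g hg
    have hgc : C.π g ∈ Subgroup.center ↥(Cfsg.Omega F (Cfsg.quadFormOdd l F)) := by
      have : C.sig g = 1 := hg
      unfold CovB.sig at this
      rw [MonoidHom.comp_apply] at this
      exact (QuotientGroup.eq_one_iff _).1 this
    unfold OmbCenter at hcen
    rw [hcen, Subgroup.mem_bot] at hgc
    rw [Subgroup.mem_center_iff]
    intro x
    rcases hker g hgc with h | h
    · rw [h, mul_one, one_mul]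
    · rw [h]
      exact hcent x
  · rw [hperf]
    exact le_top

end CovB

end Cfsg.Agent.Lib.helper3.SPB
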