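import Mathlib
import Cfsg.Prelude.Def_Classical
import Cfsg.Prelude.Def_KGroupFacts
import Cfsg.Agent.Lib.Lead.SPN.Defs
import Cfsg.Agent.Lib.Lead.SPN.Defs2
import Cfsg.Agent.Lib.Lead.STDB1
import Cfsg.Agent.Lib.Helper16.STDH3

/-!
# Project SPN (designer lead), row K2 core (helper29): `l` odd, `i² = -1`: a preimage `g` of `-1` with `g * g = zel`.

`Cov.spnk2_core`: the statement of K2 `Cov.exists_neg_odd` with the statements of T12 `omat_h`, T1 `zel_eq`, T3 `zel_sq` as hypotheses.
-/

set_option autoImplicit false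

namespace Cfsg.Agent.Lib.Lead.SPN

open Cfsg.Agent.Lib.helper15.St2 Cfsg.Agent.Lib.helper3.STC Cfsg.Agent.Lib.Lead.STD Cfsg.Agent.Lib.Helper16
  Cfsg.Agent.Lib.Helper1.OMP

universe u v w

/-- the square of a product of pairwise commuting elements -/
theorem spnk2_prod_sq {G : Type*} [Group G] {α : Type*} (f : α → G) (hc : ∀ a b, Commute (f a) (f b)) (L : List α) :
    (L.map f).prod * (L.map f).prod = (L.map (fun k => f k * f k)).prod := by
  induction L with
  | nil => simp
  | cons a L ih =>
    have h1 : Commute (L.map f).prod (f a) := by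
      apply Commute.list_prod_left
      intro x hx
      rw [List.mem_map] at hx
      obtain ⟨b, _, rfl⟩ := hx
      exact hc b a
    rw [List.map_cons, List.prod_cons, List.map_cons, List.prod_cons, ← ih]
    have h2 : (L.map f).prod * f a = f a * (L.map f).prod := h1
    calc f a * (L.map f).prod * (f a * (L.map f).prod)
        = f a * ((L.map f).prod * f a) * (L.map f).prod := by group
      _ = f a * (f a * (L.map f).prod) * (L.map f).prod := by rw [h2]
      _ = f a * f a * ((L.map f).prod * (L.map f).prod) := by group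

/-- a product of diagonal matrices -/
theorem spnk2_diag_prod {n : Type*} [Fintype n] [DecidableEq n] {R : Type*} [CommRing R] {α : Type*} (L : List α)
    (d : α → n → R) :
    (L.map (fun k => Matrix.diagonal (d k))).prod = Matrix.diagonal (fun c => (L.map (fun k => d k c)).prod) := by
  induction L with
  | nil =>
    simp only [List.map_nil, List.prod_nil]
    exact Matrix.diagonal_one.symm
  | cons a L ih =>
    rw [List.map_cons, List.prod_cons, ih, Matrix.diagonal_mul_diagonal]
    congr 1

namespace Cov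

variable {l : ℕ} {F : Type u} [Field F] [Fintype F] {G : Type v} [Group G] (C : Cov l F G)

/-- an index different from `k` -/
def spnk2_b (k : Fin l) : Fin l := if k = C.i0 then C.i1 else C.i0

omit [Fintype F] in
theorem spnk2_b_ne (k : Fin l) : C.spnk2_b k ≠ k := by
  unfold spnk2_b
  by_cases h : k = C.i0
  · rw [if_pos h, h]
    intro e
    have := congrArg Fin.val e
    simp [Cov.i0, Cov.i1] at this
  · rw [if_neg h]
    exact fun e => h e.symm

/-- the `k`-th factor `h_{k,b}(i) h_{k,-b}(i)` -/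
def spnk2_f (i : F) (k : Fin l) : G :=
  C.S.h (Sum.inl k) (Sum.inl (C.spnk2_b k)) i * C.S.h (Sum.inl k) (Sum.inr (C.spnk2_b k)) i

omit [Fintype F] in
theorem spnk2_omat_prod (L : List G) : omat (C.π L.prod) = (L.map (fun g => omat (C.π g))).prod := by
  induction L with
  | nil =>
    simp only [List.prod_nil, List.map_nil, map_one]
    exact omat_one
  | cons a L ih => rw [List.prod_cons, map_mul, omat_mul, ih, List.map_cons, List.prod_cons]

omit [Fintype F] in
/-- the coefficients of the `k`-th factor -/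
theorem spnk2_dhs (i : F) (hi : i * i = -1) (k b : Fin l) (hb : b ≠ k) (c : Fin l ⊕ Fin l) :
    dhs (Sum.inl k) (Sum.inl b) i c * dhs (Sum.inl k) (Sum.inr b) i c = if k = ab c then -1 else 1 := by
  have hi0 : i ≠ 0 := by
    intro h
    rw [h, mul_zero] at hi
    exact absurd hi.symm (neg_ne_zero.2 one_ne_zero)
  have hinv : i⁻¹ * i⁻¹ = -1 := by
    rw [← mul_inv, hi, inv_neg, inv_one]
  have hkb : k ≠ b := fun e => hb e.symm
  unfold dhs
  rcases c with c | c
  · simp only [ng, Sum.swap_inl, Sum.swap_inr, Sum.inl.injEq, reduceCtorEq, or_false, ab]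
    by_cases h1 : c = k
    · subst h1
      simp [hi]
    · by_cases h2 : c = b
      · subst h2
        simp [hkb, hi0, h1]
      · simp [h1, h2, Ne.symm h1]
  · simp only [ng, Sum.swap_inl, Sum.swap_inr, Sum.inr.injEq, reduceCtorEq, or_false, false_or, ab]
    by_cases h1 : c = k
    · subst h1
      simp [hinv, Ne.symm hb]
    · by_cases h2 : c = b
      · subst h2
        simp [hkb, hi0]
      · simp [h1, h2, Ne.symm h1]

theorem spnk2_core
    (hT12 : ∀ {a b : Fin l ⊕ Fin l}, a ≠ b → a ≠ ng b → ∀ u : F, u ≠ 0 →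
      omat (C.π (C.S.h a b u)) = Matrix.diagonal (dhs a b u))
    (hT1 : ∀ {a b : Fin l ⊕ Fin l}, a ≠ b → a ≠ ng b → C.S.h a b (-1) * C.S.h a (ng b) (-1) = C.zel)
    (hT3 : C.zel * C.zel = 1)
    (ho : Odd l) (i : F) (hi : i * i = -1) : ∃ g : G, omat (C.π g) = -1 ∧ g * g = C.zel := by
  have hi0 : i ≠ 0 := by
    intro h
    rw [h, mul_zero] at hi
    exact absurd hi.symm (neg_ne_zero.2 one_ne_zero)
  -- index facts
  have hne1 : ∀ k : Fin l, (Sum.inl k : Fin l ⊕ Fin l) ≠ Sum.inl (C.spnk2_b k) := by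
    intro k e
    exact C.spnk2_b_ne k (Sum.inl.inj e).symm
  have hne2 : ∀ k : Fin l, (Sum.inl k : Fin l ⊕ Fin l) ≠ ng (Sum.inl (C.spnk2_b k)) := by
    intro k e
    simp [ng] at e
  have hne3 : ∀ k : Fin l, (Sum.inl k : Fin l ⊕ Fin l) ≠ Sum.inr (C.spnk2_b k) := by
    intro k e
    simp at e
  have hne4 : ∀ k : Fin l, (Sum.inl k : Fin l ⊕ Fin l) ≠ ng (Sum.inr (C.spnk2_b k)) := by
    intro k e
    simp only [ng, Sum.swap_inr] at e
    exact C.spnk2_b_ne k (Sum.inl.inj e).symm
  refine ⟨((List.finRange l).map (C.spnk2_f i)).prod, ?_, ?_⟩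
  · -- the matrix
    rw [C.spnk2_omat_prod, List.map_map]
    have e1 : ((fun g => omat (C.π g)) ∘ C.spnk2_f i) =
        fun k => Matrix.diagonal (fun c : Fin l ⊕ Fin l => if k = ab c then (-1 : F) else 1) := by
      funext k
      show omat (C.π (C.spnk2_f i k)) = _
      unfold spnk2_f
      rw [map_mul, omat_mul, hT12 (hne1 k) (hne2 k) i hi0, hT12 (hne3 k) (hne4 k) i hi0, Matrix.diagonal_mul_diagonal]
      congr 1
      funext c
      exact spnk2_dhs i hi k (C.spnk2_b k) (C.spnk2_b_ne k) c
    rw [e1, spnk2_diag_prod]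
    have e2 : (fun c : Fin l ⊕ Fin l => ((List.finRange l).map (fun k => if k = ab c then (-1 : F) else 1)).prod) =
        fun _ => -1 := by
      funext c
      rw [← Fin.prod_univ_def, Finset.prod_ite_eq' Finset.univ (ab c) (fun _ => (-1 : F)), if_pos (Finset.mem_univ _)]
    rw [e2]
    ext a b
    rw [Matrix.diagonal_apply, Matrix.neg_apply, Matrix.one_apply]
    split_ifs <;> simp
  · -- the square
    have hcomm : ∀ k k' : Fin l, Commute (C.spnk2_f i k) (C.spnk2_f i k') := by
      intro k k'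
      unfold spnk2_f
      have c1 := C.S.h_comm (hne1 k) (hne2 k) (hne1 k') (hne2 k') i i hi0 hi0
      have c2 := C.S.h_comm (hne1 k) (hne2 k) (hne3 k') (hne4 k') i i hi0 hi0
      have c3 := C.S.h_comm (hne3 k) (hne4 k) (hne1 k') (hne2 k') i i hi0 hi0
      have c4 := C.S.h_comm (hne3 k) (hne4 k) (hne3 k') (hne4 k') i i hi0 hi0
      exact Commute.mul_left (Commute.mul_right c1 c2) (Commute.mul_right c3 c4)
    have hsq : ∀ k : Fin l, C.spnk2_f i k * C.spnk2_f i k = C.zel := by
      intro k
      unfold spnk2_f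
      have c := C.S.h_comm (hne1 k) (hne2 k) (hne3 k) (hne4 k) i i hi0 hi0
      have m1 := C.S.h_mul (hne1 k) (hne2 k) i i hi0 hi0
      have m2 := C.S.h_mul (hne3 k) (hne4 k) i i hi0 hi0
      rw [hi] at m1 m2
      have z := hT1 (hne1 k) (hne2 k)
      have e : ng (Sum.inl (C.spnk2_b k) : Fin l ⊕ Fin l) = Sum.inr (C.spnk2_b k) := rfl
      rw [e] at z
      rw [← z, ← m1, ← m2]
      generalize C.S.h (Sum.inl k) (Sum.inl (C.spnk2_b k)) i = A at c ⊢
      generalize C.S.h (Sum.inl k) (Sum.inr (C.spnk2_b k)) i = B at c ⊢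
      calc A * B * (A * B) = A * (B * A) * B := by group
        _ = A * (A * B) * B := by rw [← c]
        _ = A * A * (B * B) := by group
    rw [spnk2_prod_sq _ hcomm]
    have e3 : (fun k => C.spnk2_f i k * C.spnk2_f i k) = fun _ => C.zel := funext hsq
    rw [e3, List.map_const', List.prod_replicate, List.length_finRange]
    obtain ⟨m, rfl⟩ := ho
    rw [pow_succ, pow_mul, pow_two, hT3, one_pow, one_mul]

end Cov

end Cfsg.Agent.Lib.Lead.SPN
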