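import Mathlib
import Cfsg.Prelude.Def_Classical
import Cfsg.Prelude.Def_KGroupFacts
import Cfsg.Agent.Lib.Lead.SPN.Defs
import Cfsg.Agent.Lib.Lead.SPN.Defs2
import Cfsg.Agent.Lib.Helper18.SPNT12
import Cfsg.Agent.Lib.Helper1.SPNT1
import Cfsg.Agent.Lib.helper23.SPNT2
import Cfsg.Agent.Lib.Helper29.SPNK2core

/-!
# Project SPN (designer lead), row K2 (helper29): `Cov.exists_neg_odd` (verbatim).
-/

set_option autoImplicit false

namespace Cfsg.Agent.Lib.Lead.SPN

open Cfsg.Agent.Lib.helper15.St2 Cfsg.Agent.Lib.helper3.STC Cfsg.Agent.Lib.Lead.STD Cfsg.Agent.Lib.Helper16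
  Cfsg.Agent.Lib.Helper1.OMP

universe u v w

namespace Cov

variable {l : ℕ} {F : Type u} [Field F] [Fintype F] {G : Type v} [Group G] (C : Cov l F G)

/-- K2 [M]  `l` odd, `i² = -1`: a preimage `g` of `-1` with `g * g = zel`. -/
theorem exists_neg_odd (ho : Odd l) (i : F) (hi : i * i = -1) : ∃ g : G, omat (C.π g) = -1 ∧ g * g = C.zel :=
  C.spnk2_core (fun hab hab' u hu => Cov.omat_h C hab hab' u hu) (fun hab hab' => Cov.zel_eq C hab hab') (Cov.zel_sq C) ho i hi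

end Cov

end Cfsg.Agent.Lib.Lead.SPN
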