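import Mathlib
import Cfsg.Prelude.Def_Classical
import Cfsg.Prelude.Def_KGroupFacts
import Cfsg.Agent.Lib.Lead.SPN.Defs
import Cfsg.Agent.Lib.Lead.SPN.Defs2
import Cfsg.Agent.Lib.Lead.POM

/-!
# Project SPN (designer lead), row K3 core (helper29): no `-1` in `Ω`: `ker sig = {1, zel}`.

`Cov.spnk3_core`: the statement of K3 `Cov.ker_sig_of_no_neg` with the statement of T5 `Cov.ker_pi` as a hypothesis
(`Cov.spnk3_mem_ker_sig` = own-name copy of T11 `Cov.mem_ker_sig`).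
-/

set_option autoImplicit false

namespace Cfsg.Agent.Lib.Lead.SPN

open Cfsg.Agent.Lib.helper15.St2 Cfsg.Agent.Lib.helper3.STC Cfsg.Agent.Lib.Lead.STD Cfsg.Agent.Lib.Helper16
  Cfsg.Agent.Lib.Helper1.OMP

universe u v w

namespace Cov

variable {l : ℕ} {F : Type u} [Field F] [Fintype F] {G : Type v} [Group G] (C : Cov l F G)

omit [Fintype F] in
/-- own-name copy of T11 -/
theorem spnk3_mem_ker_sig (g : G) : g ∈ C.sig.ker ↔ C.π g ∈ Subgroup.center ↥(Cfsg.Omega F (Cfsg.quadFormPlus l F)) := by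
  rw [MonoidHom.mem_ker]
  unfold Cov.sig
  rw [MonoidHom.comp_apply, QuotientGroup.mk'_apply, QuotientGroup.eq_one_iff]

omit [Fintype F] in
theorem spnk3_core (hT5 : ∀ g : G, C.π g = 1 → g = 1 ∨ g = C.zel)
    (hno : ¬ ∃ z : ↥(Cfsg.Omega F (Cfsg.quadFormPlus l F)), omat z = -1) (g : G) (hg : g ∈ C.sig.ker) :
    g = 1 ∨ g = C.zel := by
  have h1 := (C.spnk3_mem_ker_sig g).1 hg
  have h3 : 3 ≤ l := by have := C.hl; omega
  rcases Cfsg.Agent.Lib.Lead.POM.pom_center_cases h3 (C.π g) h1 with h | h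
  · apply hT5
    apply omat_injective
    rw [omat_one]
    exact h
  · exact absurd ⟨C.π g, h⟩ hno

end Cov

end Cfsg.Agent.Lib.Lead.SPN
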