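import Mathlib
import Cfsg.Prelude.Def_LieTypeChar
import Cfsg.Prelude.Def_ChevStructure
import Cfsg.Agent.Lib.helper14.SQD.Defs
import Cfsg.Agent.Lib.Helper29.SQDX1

/-!
Project SQD = S4625 (designer helper14), row X3 (`sqd_iSup`, `sqd_sup`, `sqd_of_invol`).
-/

set_option autoImplicit false

namespace Cfsg.Agent.Lib.helper14.SQD

open Cfsg Cfsg.Lie Matrix

universe u v

/-- X3 [E]. X1 with `S = ⋃ i, K i` (`Subgroup.iSup_eq_closure`). -/
theorem sqd_iSup {G : Type u} [Group G] {ι : Type v} (K : ι → Subgroup G)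
    (h : ∀ i, ∀ x ∈ K i, x ^ 2 ∈ ⁅⨆ i, K i, ⨆ i, K i⁆) : SqD (⨆ i, K i) := by
  refine sqd_of_closure (⨆ i, K i) (⋃ i, (K i : Set G)) (Subgroup.iSup_eq_closure K) ?_
  intro s hs
  obtain ⟨i, hi⟩ := Set.mem_iUnion.mp hs
  exact h i s hi

/-- X3b [E]. X1 with `S = N ∪ L` (`Subgroup.closure_union`, `Subgroup.closure_eq`). -/
theorem sqd_sup {G : Type u} [Group G] (N L : Subgroup G)
    (hN : ∀ x ∈ N, x ^ 2 ∈ ⁅N ⊔ L, N ⊔ L⁆) (hL : ∀ x ∈ L, x ^ 2 ∈ ⁅N ⊔ L, N ⊔ L⁆) : SqD (N ⊔ L) := by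
  refine sqd_of_closure (N ⊔ L) ((N : Set G) ∪ (L : Set G)) ?_ ?_
  · rw [Subgroup.closure_union, Subgroup.closure_eq, Subgroup.closure_eq]
  · intro s hs
    rcases hs with hs | hs
    · exact hN s hs
    · exact hL s hs

/-- X3c [E]. A subgroup generated by involutions (elements of square 1). -/
theorem sqd_of_invol {G : Type u} [Group G] (U : Subgroup G) (S : Set G)
    (hU : U = Subgroup.closure S) (hS : ∀ s ∈ S, s ^ 2 = 1) : SqD U :=
  sqd_of_closure U S hU (fun s hs => by rw [hS s hs]; exact Subgroup.one_mem _)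

end Cfsg.Agent.Lib.helper14.SQD
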