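import Mathlib
import Cfsg.Agent.Lib.helper17.CEM.Defs
import Cfsg.Agent.Lib.Helper22.CECG1
import Cfsg.Agent.Lib.Helper5.CEDG2
import Cfsg.Agent.Lib.helper14.CEDT3
import Cfsg.Agent.Lib.Helper16.STDX2
import Cfsg.Agent.Lib.Helper20.STMH2
import Cfsg.Agent.Lib.Helper21.STMW12

/-!
# CEM S5 + S6 (helper29), CORES: `Ds_scale` and `Ds_indep` with the STATEMENTS of S2 (`Ds_map`, `Ds_cj`) and S3 (`Ds_zero_left`, `Ds_zero_right`) as hypotheses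

`cems5_core`: conjugate `Ds a b 1 (t • u)` by a lift of the torus element `S.h b e' t⁻¹` (`e'` a third index): it is fixed (`CL_h`, `hLS`) and mapped to `Ds a b t u` (`Ds_cj`, H2 `isMon_h`).
`cems6_core`: conjugate `Ds a b 1 u` by a lift of the Weyl element `S.w b b' 1`: it is fixed (`CL_w`, `hLS`) and mapped to `Ds a b' (-1) (-u) = Ds a b' 1 u` (`Ds_cj`, W12 `isMon_w`, S5).
-/

set_option autoImplicit false

namespace Cfsg.Agent.Lib.helper17.CEM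

open Cfsg.Agent.Lib.helper15.St2 Cfsg.Agent.Lib.helper7.Ce Cfsg.Agent.Lib.helper3.STC Cfsg.Agent.Lib.Lead.STD
  Cfsg.Agent.Lib.helper7.CEC Cfsg.Agent.Lib.helper7.CED Cfsg.Agent.Lib.helper17.STM

section S

variable {F : Type*} [Field F] {A B : F} [Fact (∀ r : F, r ^ 2 ≠ -B + A * r)] {ι : Type*} {Γ G : Type*} [Group Γ] [Group G]
  {S : SysM F A B ι G} {σ : Γ →* G}

/-- S5 core: `Ds a b t u = Ds a b 1 (t • u)`, on the statements of S2 and S3. -/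
theorem cems5_core [Finite F] [DecidableEq ι] (h : IsCE σ) (L : LongLift S σ) (hLS : HLS S σ) (h3 : I3 ι)
    (hmap : ∀ {a b : ι ⊕ ι}, ab a ≠ ab b → ∀ (t : F) (u : Kq F A B), σ (Ds S h L a b t u) = S.xs a (t • u))
    (hcj : ∀ {g : G} {π : Equiv.Perm (ι ⊕ ι)} {d : ι ⊕ ι → F} {c0 : Kq F A B} {ε : Bool}, S.IsMon g π d c0 ε →
      ∀ {e : Γ}, σ e = g → ∀ {a b : ι ⊕ ι}, ab a ≠ ab b → ∀ (t : F) (u : Kq F A B),
        cj e (Ds S h L a b t u) = Ds S h L (π a) (π b) (d a * (d b)⁻¹ * t) (d b • (c0 * tw ε u)))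
    (hzl : ∀ (a b : ι ⊕ ι) (u : Kq F A B), Ds S h L a b 0 u = 1)
    (hzr : ∀ (a b : ι ⊕ ι) (t : F), Ds S h L a b t 0 = 1)
    {a b : ι ⊕ ι} (hab : ab a ≠ ab b) (t : F) (u : Kq F A B) :
    Ds S h L a b t u = Ds S h L a b 1 (t • u) := by
  by_cases ht : t = 0
  · subst ht
    rw [hzl, zero_smul, hzr]
  obtain ⟨e', he'a, he'b⟩ := h3 a b
  obtain ⟨hab1, hab2, hab3, hab4⟩ := cedt3_unpack hab
  obtain ⟨hea1, hea2, hea3, hea4⟩ := cedt3_unpack he'a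
  obtain ⟨heb1, heb2, heb3, heb4⟩ := cedt3_unpack he'b
  have hg := S.isMon_h heb3 heb4 t⁻¹ (inv_ne_zero ht)
  have he : σ (lf h (S.h b e' t⁻¹)) = S.h b e' t⁻¹ := map_lf h _
  have h1 := hcj hg he hab 1 (t • u)
  have hda : dhs b e' t⁻¹ a = 1 := by
    unfold dhs
    rw [if_neg (not_or.2 ⟨hab1, hea4⟩), if_neg (not_or.2 ⟨hea3, hab2⟩)]
  have hdb : dhs b e' t⁻¹ b = t⁻¹ := by
    unfold dhs
    rw [if_pos (Or.inl rfl)]
  rw [hda, hdb, Equiv.Perm.one_apply, Equiv.Perm.one_apply, inv_inv, one_mul, mul_one, tw_false, one_mul, smul_smul,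
    inv_mul_cancel₀ ht, one_smul] at h1
  have hCL : CL σ (S.h b e' t⁻¹) (S.xs a ((1 : F) • (t • u))) :=
    CL_h h (fun s => (hLS a b e' heb3 heb4 hea1 hab4 _ s).symm) (fun s => (hLS a e' b heb1 heb2 hab3 hea2 _ s).symm) t⁻¹
  have h2 := cj_eq_of_CL hCL he (hmap hab 1 (t • u))
  rw [← h1, h2]

/-- S6 core, the case `ab b ≠ ab b'`. -/
theorem cems6_move [DecidableEq ι] (h : IsCE σ) (L : LongLift S σ) (hLS : HLS S σ)
    (hmap : ∀ {a b : ι ⊕ ι}, ab a ≠ ab b → ∀ (t : F) (u : Kq F A B), σ (Ds S h L a b t u) = S.xs a (t • u))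
    (hcj : ∀ {g : G} {π : Equiv.Perm (ι ⊕ ι)} {d : ι ⊕ ι → F} {c0 : Kq F A B} {ε : Bool}, S.IsMon g π d c0 ε →
      ∀ {e : Γ}, σ e = g → ∀ {a b : ι ⊕ ι}, ab a ≠ ab b → ∀ (t : F) (u : Kq F A B),
        cj e (Ds S h L a b t u) = Ds S h L (π a) (π b) (d a * (d b)⁻¹ * t) (d b • (c0 * tw ε u)))
    (hscale : ∀ {a b : ι ⊕ ι}, ab a ≠ ab b → ∀ (t : F) (u : Kq F A B), Ds S h L a b t u = Ds S h L a b 1 (t • u))
    {a b b' : ι ⊕ ι} (hab : ab a ≠ ab b) (hab' : ab a ≠ ab b') (hbb : ab b ≠ ab b') (u : Kq F A B) :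
    Ds S h L a b 1 u = Ds S h L a b' 1 u := by
  obtain ⟨hab1, hab2, hab3, hab4⟩ := cedt3_unpack hab
  obtain ⟨hac1, hac2, hac3, hac4⟩ := cedt3_unpack hab'
  obtain ⟨hbb1, hbb2, hbb3, hbb4⟩ := cedt3_unpack hbb
  have hg := S.isMon_w hbb1 hbb2 (1 : F) one_ne_zero
  have he : σ (lf h (S.w b b' 1)) = S.w b b' 1 := map_lf h _
  have h1 := hcj hg he hab 1 u
  have hπa : sws b b' a = a := SysD.sws_of_ne hab1 hac1 hab2 hac2
  have hπb : sws b b' b = b' := SysD.sws_left hbb1 hbb2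
  have hda : dwd b b' (1 : F) a = 1 := by
    unfold dwd
    rw [if_neg hab1, if_neg hac1, if_neg hac2, if_neg hab2]
  have hdb : dwd b b' (1 : F) b = -1 := by
    unfold dwd
    rw [if_pos rfl, inv_one]
  rw [hπa, hπb, hda, hdb, tw_false, one_mul, mul_one, one_mul, neg_smul, one_smul, inv_neg, inv_one,
    hscale hab' (-1) (-u), neg_smul, one_smul, neg_neg] at h1
  have hCL : CL σ (S.w b b' 1) (S.xs a ((1 : F) • u)) :=
    CL_w h (fun s => (hLS a b b' hbb1 hbb2 hac3 hab4 _ s).symm) (fun s => (hLS a b' b hbb3 hbb4 hab3 hac4 _ s).symm) 1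
  have h2 := cj_eq_of_CL hCL he (hmap hab 1 u)
  rw [← h1, h2]

/-- S6 core: independence of the auxiliary index, on the statements of S2 and S5. -/
theorem cems6_core [DecidableEq ι] (h : IsCE σ) (L : LongLift S σ) (hLS : HLS S σ) (h3 : I3 ι)
    (hmap : ∀ {a b : ι ⊕ ι}, ab a ≠ ab b → ∀ (t : F) (u : Kq F A B), σ (Ds S h L a b t u) = S.xs a (t • u))
    (hcj : ∀ {g : G} {π : Equiv.Perm (ι ⊕ ι)} {d : ι ⊕ ι → F} {c0 : Kq F A B} {ε : Bool}, S.IsMon g π d c0 ε →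
      ∀ {e : Γ}, σ e = g → ∀ {a b : ι ⊕ ι}, ab a ≠ ab b → ∀ (t : F) (u : Kq F A B),
        cj e (Ds S h L a b t u) = Ds S h L (π a) (π b) (d a * (d b)⁻¹ * t) (d b • (c0 * tw ε u)))
    (hscale : ∀ {a b : ι ⊕ ι}, ab a ≠ ab b → ∀ (t : F) (u : Kq F A B), Ds S h L a b t u = Ds S h L a b 1 (t • u))
    {a b b' : ι ⊕ ι} (hab : ab a ≠ ab b) (hab' : ab a ≠ ab b') (u : Kq F A B) :
    Ds S h L a b 1 u = Ds S h L a b' 1 u := by
  by_cases hbb : ab b = ab b'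
  · obtain ⟨c, hca, hcb⟩ := h3 a b
    have hcb' : ab c ≠ ab b' := by rw [← hbb]; exact hcb
    rw [cems6_move h L hLS hmap hcj hscale hab (Ne.symm hca) (Ne.symm hcb) u,
      cems6_move h L hLS hmap hcj hscale (Ne.symm hca) hab' hcb' u]
  · exact cems6_move h L hLS hmap hcj hscale hab hab' hbb u

end S

end Cfsg.Agent.Lib.helper17.CEM
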