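import Mathlib
import Cfsg.Agent.Lib.helper17.CEM.Defs
import Cfsg.Agent.Lib.Helper21.CEME1
import Cfsg.Agent.Lib.Helper26.CEMS1
import Cfsg.Agent.Lib.Helper29.CEMS5core

/-!
# CEM S5 + S6 (helper29): `Ds_scale`, `Ds_indep`, verbatim from helper17's `CEM/Skel`

The cores of `Helper29.CEMS5core` at S2 `Ds_map`, `Ds_cj` (`Helper21.CEME1`) and S3 `Ds_zero_left`, `Ds_zero_right` (`Helper26.CEMS1`).
-/

set_option autoImplicit false

namespace Cfsg.Agent.Lib.helper17.CEM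

open Cfsg.Agent.Lib.helper15.St2 Cfsg.Agent.Lib.helper7.Ce Cfsg.Agent.Lib.helper3.STC Cfsg.Agent.Lib.Lead.STD
  Cfsg.Agent.Lib.helper7.CEC Cfsg.Agent.Lib.helper7.CED Cfsg.Agent.Lib.helper17.STM

section S

variable {F : Type*} [Field F] [Finite F] {A B : F} [Fact (∀ r : F, r ^ 2 ≠ -B + A * r)] {ι : Type*} {Γ G : Type*} [Group Γ] [Group G]
  {S : SysM F A B ι G} {σ : Γ →* G}

/-- S5 [M]  `t = 0`: S3 (`zero_smul`).  Else `e'` from `h3 a b`, `g := S.h b e' t⁻¹`, `ẽ := lf h g`; H2 `isMon_h` (`π = 1`, `dhs b e' t⁻¹`: `t⁻¹` at `b`, `1` at `a`; `c0 = 1`, `ε = false`); `Ds_cj`: `cj ẽ (Ds a b 1 (t • u)) = Ds a b (1 * (t⁻¹)⁻¹ * 1) (t⁻¹ • (1 * (t • u)))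
= Ds a b t u` (`inv_inv`, `smul_smul`, `inv_mul_cancel₀`, `one_smul`); `cj ẽ (Ds a b 1 (t • u)) = Ds a b 1 (t • u)` (`cj_eq_of_CL`, `Ds_map`): CED `CL_h` with `hLS` for `(xs a, x b e')`, `(xs a, x e' b)` (`CL.symm`). -/
theorem Ds_scale [DecidableEq ι] (h : IsCE σ) (L : LongLift S σ) (hLS : HLS S σ) (h3 : I3 ι) {a b : ι ⊕ ι} (hab : ab a ≠ ab b) (t : F) (u : Kq F A B) :
    Ds S h L a b t u = Ds S h L a b 1 (t • u) :=
  cems5_core h L hLS h3 (fun hab t u => Ds_map h L hab t u) (fun hg _ he _ _ hab t u => Ds_cj h L h3 hg he hab t u)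
    (Ds_zero_left h L) (Ds_zero_right h L) hab t u

/-- S6 [M]  `ab b ≠ ab b'`: `n := S.w b b' 1`, `ñ := lf h n`; W12 `isMon_w` (`sws b b'` maps `b ↦ b'` and fixes `a`; `dwd b b' 1`: `-1` at `b`, `1` at `a`; `c0 = 1`, `ε = false`); `Ds_cj`: `cj ñ (Ds a b 1 u) = Ds a b' (1 * (-1)⁻¹ * 1) ((-1) • (1 * u))
= Ds a b' (-1) (-u) = Ds a b' 1 ((-1) • (-u)) = Ds a b' 1 u` (S5); `cj ñ (Ds a b 1 u) = Ds a b 1 u` (`cj_eq_of_CL`: CED `CL_w` with `hLS`).  `ab b = ab b'`: `b' = b` or `b' = ng b` (`ab_eq_iff`); through a third index from `h3 a b`. -/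
theorem Ds_indep [DecidableEq ι] (h : IsCE σ) (L : LongLift S σ) (hLS : HLS S σ) (h3 : I3 ι) {a b b' : ι ⊕ ι} (hab : ab a ≠ ab b) (hab' : ab a ≠ ab b')
    (u : Kq F A B) : Ds S h L a b 1 u = Ds S h L a b' 1 u :=
  cems6_core h L hLS h3 (fun hab t u => Ds_map h L hab t u) (fun hg _ he _ _ hab t u => Ds_cj h L h3 hg he hab t u)
    (fun hab t u => Ds_scale h L hLS h3 hab t u) hab hab' u

end S

end Cfsg.Agent.Lib.helper17.CEM
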