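import Cfsg.Agent.Lib.helper7.SAP.Defs

/-!
Project SAP (S2284 + S2297, designer helper7): row BASE1 (`zo_conj_a`, `zo_conj_a_pow`, `zo_zero`), by helper29.
-/

namespace Cfsg.Agent.Lib.helper7.SAP

open Equiv

universe u

section base
variable {p : ℕ} {G : Type u} [Group G]

/-- `a ^ n * z * (a ^ n)⁻¹ = z_n` for every natural `n` (when `a ^ p = 1`) -/
theorem sapbase1_zo_natCast [NeZero p] (a z : G) (ha : a ^ p = 1) (n : ℕ) :
    zo a z ((n : ℕ) : ZMod p) = a ^ n * z * (a ^ n)⁻¹ := by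
  unfold zo
  rw [ZMod.val_natCast, ← pow_eq_pow_mod n ha]

/-- BASE1 [S-M] -/
theorem zo_conj_a_pow [NeZero p] (a z : G) (ha : a ^ p = 1) (i : ℕ) (x : ZMod p) :
    a ^ i * zo a z x * (a ^ i)⁻¹ = zo a z (x + (i : ZMod p)) := by
  have hx : x + (i : ZMod p) = ((x.val + i : ℕ) : ZMod p) := by
    rw [Nat.cast_add, ZMod.natCast_zmod_val]
  rw [hx, sapbase1_zo_natCast a z ha]
  unfold zo
  rw [add_comm x.val i, pow_add]
  group

theorem zo_conj_a [NeZero p] (a z : G) (ha : a ^ p = 1) (x : ZMod p) :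
    a * zo a z x * a⁻¹ = zo a z (x + 1) := by
  have h := zo_conj_a_pow a z ha 1 x
  rw [pow_one, Nat.cast_one] at h
  exact h

theorem zo_zero [NeZero p] (a z : G) : zo a z (0 : ZMod p) = z := by
  unfold zo
  rw [ZMod.val_zero, pow_zero, one_mul, inv_one, mul_one]

end base

end Cfsg.Agent.Lib.helper7.SAP
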