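import Cfsg.Agent.Lib.helper7.SAP.Defs
import Cfsg.Agent.Lib.Helper29.SAPBASE1

/-!
Project SAP (S2284 + S2297, designer helper7): row BASE2 (`zo_conj_β`), by helper29.
-/

namespace Cfsg.Agent.Lib.helper7.SAP

open Equiv

universe u

section base
variable {p : ℕ} {G : Type u} [Group G]

/-- conjugation by `β` of a power of `a` -/
theorem sapbase2_conj_pow (b a c : G) (h : b * a * b⁻¹ = c) (n : ℕ) :
    b * a ^ n * b⁻¹ = c ^ n := by
  rw [← h, conj_pow]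

/-- BASE2 [M] -/
theorem zo_conj_β [Fact p.Prime] (D : BaseHyp p G) (x : ZMod p) :
    D.β * zo D.a D.z x * D.β⁻¹ = (zo D.a D.z ((D.r : ZMod p) * x))⁻¹ := by
  have : NeZero p := ⟨(Fact.out : p.Prime).ne_zero⟩
  have hx : (D.r : ZMod p) * x = (((D.r : ZMod p).val * x.val : ℕ) : ZMod p) := by
    rw [Nat.cast_mul, ZMod.natCast_zmod_val, ZMod.natCast_zmod_val]
  rw [hx, sapbase1_zo_natCast D.a D.z D.ha]
  unfold zo
  have h1 : D.β * D.a ^ x.val * D.β⁻¹ = D.a ^ ((D.r : ZMod p).val * x.val) := by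
    rw [sapbase2_conj_pow D.β D.a _ D.hβa, ← pow_mul]
  have h2 : D.β * (D.a ^ x.val)⁻¹ * D.β⁻¹ = (D.a ^ ((D.r : ZMod p).val * x.val))⁻¹ := by
    rw [← h1]; group
  calc D.β * (D.a ^ x.val * D.z * (D.a ^ x.val)⁻¹) * D.β⁻¹
      = (D.β * D.a ^ x.val * D.β⁻¹) * (D.β * D.z * D.β⁻¹) * (D.β * (D.a ^ x.val)⁻¹ * D.β⁻¹) := by
        group
    _ = (D.a ^ ((D.r : ZMod p).val * x.val) * D.z * (D.a ^ ((D.r : ZMod p).val * x.val))⁻¹)⁻¹ := by
        rw [h1, h2, D.hβz]; group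

end base

end Cfsg.Agent.Lib.helper7.SAP
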