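import Mathlib
import Cfsg.Agent.Lib.helper15.St2
import Cfsg.Agent.Lib.helper7.StA
import Cfsg.Agent.Lib.helper7.StC
import Cfsg.Agent.Lib.helper7.StE
import Cfsg.Agent.Lib.helper3.STC.Defs
import Cfsg.Agent.Lib.helper3.STC.Defs2
import Cfsg.Agent.Lib.helper3.STC.Defs3
import Cfsg.Agent.Lib.Helper24.STCB1

/-!
# Project STC (designer helper3, S2292), rows J4 `not_cell` and J5 `cell0_fix`: CORES (helper29) on the statements of
R5 `M_w_fst` and R6 `Phat_lineStab`, `Yg_apply` (hypotheses `hline`, `hwfst`, `hYapp`).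
-/

set_option autoImplicit false

namespace Cfsg.Agent.Lib.helper3.STC

open Cfsg.Agent.Lib.helper15.St2 Cfsg.Agent.Lib.helper7.St Matrix

/-- own-name copy of R1 `Em_injective` -/
theorem stcj4_Em_injective {ι l : Type*} (e : ι ↪ l) : Function.Injective (Em e) := by
  intro a b h
  cases a <;> cases b <;> simp [Em] at h <;> simp [h]

/-- own-name copy of R1 `ev_apply` -/
theorem stcj4_ev_apply {l : Type*} {K : Type*} [Field K] [DecidableEq l] (c d : l ⊕ l) :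
    (ev c : l ⊕ l → K) d = if d = c then 1 else 0 := by
  unfold ev
  rw [Pi.single_apply]

namespace SysC

namespace Rep

variable {K : Type*} [Field K] {ι : Type*} {G : Type*} [Group G] {S : SysC K ι G}
  {l : Type*} [Fintype l] [DecidableEq l] (R : S.Rep l)

/-- own-name copy of R3 `M_one` -/
theorem stcj4_M_one : R.M 1 = 1 := by
  unfold Rep.M
  rw [map_one]
  rfl

/-- own-name copy of R3 `M_mul` -/
theorem stcj4_M_mul (g g' : G) : R.M (g * g') = R.M g * R.M g' := by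
  unfold Rep.M
  rw [map_mul]
  rfl

/-- own-name copy of R3 `M_eq_one_of_phi` -/
theorem stcj4_M_eq_one_of_phi {g : G} (h : R.φ g = 1) : R.M g = 1 := by
  unfold Rep.M
  rw [h]
  rfl

variable (o : ι ⊕ ι)

/-- core of J4 `not_cell` -/
theorem stcj4_core
    (hline : ∀ p ∈ S.Phat o, ∃ c : K, c ≠ 0 ∧ R.M p *ᵥ ev (Em R.e o) = c • ev (Em R.e o))
    (hwfst : ∀ {a b : ι ⊕ ι}, a ≠ b → ∀ u : K, u ≠ 0 →
      R.M (S.w a b u) *ᵥ ev (Em R.e a) = (-u⁻¹) • ev (Em R.e b))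
    (hYapp : ∀ {y : G}, y ∈ S.Yg o → (R.M y *ᵥ ev (Em R.e o)) (Em R.e o) = 1)
    {k : ι ⊕ ι} (hk : k ≠ o) {y p : G} (hy : y ∈ S.Yg o) (hp : p ∈ S.Phat o) :
    R.φ (S.w o k 1 * y * p) ≠ 1 := by
  intro h
  obtain ⟨c, hc, hpc⟩ := hline p hp
  have h1 : R.φ (S.w o k 1) * R.φ (y * p) = 1 := by
    rw [← map_mul, ← mul_assoc]; exact h
  have h2 : R.φ (y * p) = R.φ (S.w o k (-1)) := by
    rw [S.w_neg, map_inv]
    exact eq_inv_of_mul_eq_one_right h1
  have h3 : R.M (y * p) = R.M (S.w o k (-1)) := by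
    unfold Rep.M
    rw [h2]
  have h4 : (R.M (y * p) *ᵥ ev (Em R.e o)) (Em R.e o) =
      (R.M (S.w o k (-1)) *ᵥ ev (Em R.e o)) (Em R.e o) := by
    rw [h3]
  rw [R.stcj4_M_mul, ← Matrix.mulVec_mulVec, hpc, Matrix.mulVec_smul, Pi.smul_apply, hYapp hy,
    hwfst (Ne.symm hk) (-1) (by simp), Pi.smul_apply, stcj4_ev_apply,
    if_neg ((stcj4_Em_injective R.e).ne (Ne.symm hk)), smul_eq_mul, smul_eq_mul, mul_one, mul_zero] at h4
  exact hc h4

/-- core of J5 `cell0_fix` -/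
theorem stcj5_core
    (hline : ∀ p ∈ S.Phat o, ∃ c : K, c ≠ 0 ∧ R.M p *ᵥ ev (Em R.e o) = c • ev (Em R.e o))
    (hYapp : ∀ {y : G}, y ∈ S.Yg o → (R.M y *ᵥ ev (Em R.e o)) (Em R.e o) = 1)
    {y p : G} (hy : y ∈ S.Yg o) (hp : p ∈ S.Phat o) (h : R.φ (y * p) = 1) :
    R.M y *ᵥ ev (Em R.e o) = ev (Em R.e o) := by
  obtain ⟨c, hc, hpc⟩ := hline p hp
  have h2 : R.M (y * p) *ᵥ ev (Em R.e o) = ev (Em R.e o) := by
    rw [R.stcj4_M_eq_one_of_phi h, Matrix.one_mulVec]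
  rw [R.stcj4_M_mul, ← Matrix.mulVec_mulVec, hpc, Matrix.mulVec_smul] at h2
  have h3 := congrFun h2 (Em R.e o)
  rw [Pi.smul_apply, hYapp hy, stcj4_ev_apply, if_pos rfl, smul_eq_mul, mul_one] at h3
  rw [h3, one_smul] at h2
  exact h2

end Rep

end SysC

end Cfsg.Agent.Lib.helper3.STC
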