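import Mathlib
import Cfsg.Agent.Lib.helper15.St2
import Cfsg.Agent.Lib.helper7.StA
import Cfsg.Agent.Lib.helper7.StC
import Cfsg.Agent.Lib.helper7.StE
import Cfsg.Agent.Lib.helper3.STC.Defs
import Cfsg.Agent.Lib.helper3.STC.Defs2
import Cfsg.Agent.Lib.helper3.STC.Defs3
import Cfsg.Agent.Lib.Helper21.STCM.Vec
import Cfsg.Agent.Lib.Helper24.STCI1
import Cfsg.Agent.Lib.Helper16.STCR5
import Cfsg.Agent.Lib.Helper29.STCJ4core

/-!
# Project STC (designer helper3, S2292), rows J4 `not_cell` and J5 `cell0_fix` (helper29), VERBATIM.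

EXPRESS: the file does not wait for R3 / R4 / R6; it carries own-name copies with the exact statements of
`XQ_colStab`, `XQ_rowStab` (R4), `Phat_lineStab`, `Yg_row`, `Yg_apply` (R6).
-/

set_option autoImplicit false

namespace Cfsg.Agent.Lib.helper3.STC

open Cfsg.Agent.Lib.helper15.St2 Cfsg.Agent.Lib.helper7.St Matrix

namespace SysC

namespace Rep

variable {K : Type*} [Field K] {ι : Type*} {G : Type*} [Group G] {S : SysC K ι G}
  {l : Type*} [Fintype l] [DecidableEq l] (R : S.Rep l)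

theorem stcj4_M_inv_mul (g : G) : R.M g⁻¹ * R.M g = 1 := by
  rw [← R.stcj4_M_mul, inv_mul_cancel, R.stcj4_M_one]

theorem stcj4_M_mul_inv (g : G) : R.M g * R.M g⁻¹ = 1 := by
  rw [← R.stcj4_M_mul, mul_inv_cancel, R.stcj4_M_one]

/-- own-name copy of R4 `XQ_colStab` (exact statement) -/
theorem stcj4_XQ_colStab {Q : ι ⊕ ι → ι ⊕ ι → Prop} {c : l ⊕ l}
    (h : ∀ a b, a ≠ b → Q a b → Em R.e b ≠ c ∧ Em R.e (ng a) ≠ c) :
    ∀ z ∈ S.XQ Q, R.M z *ᵥ ev c = ev c := by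
  intro z hz
  unfold SysC.XQ at hz
  induction hz using Subgroup.closure_induction with
  | mem g hg =>
    obtain ⟨a, b, t, hab, hQ, rfl⟩ := hg
    obtain ⟨h1, h2⟩ := h a b hab hQ
    rw [R.stcr5_M_x hab]
    rw [stcr5_Em_ng] at h2
    exact Mat.Tm_mulVec_single_of_ne (Ne.symm h1) (Ne.symm h2) t
  | one => rw [R.stcj4_M_one, Matrix.one_mulVec]
  | mul x y _ _ hx hy => rw [R.stcj4_M_mul, ← Matrix.mulVec_mulVec, hy, hx]
  | inv x _ hx =>
    have e : R.M x⁻¹ *ᵥ (R.M x *ᵥ ev c) = ev c := by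
      rw [Matrix.mulVec_mulVec, R.stcj4_M_inv_mul, Matrix.one_mulVec]
    rw [hx] at e
    exact e

/-- own-name copy of R4 `XQ_rowStab` (exact statement) -/
theorem stcj4_XQ_rowStab {Q : ι ⊕ ι → ι ⊕ ι → Prop} {c : l ⊕ l}
    (h : ∀ a b, a ≠ b → Q a b → Em R.e a ≠ c ∧ Em R.e (ng b) ≠ c) :
    ∀ z ∈ S.XQ Q, ev c ᵥ* R.M z = ev c := by
  intro z hz
  unfold SysC.XQ at hz
  induction hz using Subgroup.closure_induction with
  | mem g hg =>
    obtain ⟨a, b, t, hab, hQ, rfl⟩ := hg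
    obtain ⟨h1, h2⟩ := h a b hab hQ
    rw [R.stcr5_M_x hab, Mat.vecMul_Tm]
    rw [stcr5_Em_ng] at h2
    have e1 : (ev c : l ⊕ l → K) (Em R.e a) = 0 := by
      rw [stcj4_ev_apply, if_neg h1]
    have e2 : (ev c : l ⊕ l → K) (ng (Em R.e b)) = 0 := by
      rw [stcj4_ev_apply, if_neg h2]
    rw [e1, e2]
    split_ifs <;> simp
  | one => rw [R.stcj4_M_one, Matrix.vecMul_one]
  | mul x y _ _ hx hy => rw [R.stcj4_M_mul, ← Matrix.vecMul_vecMul, hx, hy]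
  | inv x _ hx =>
    have e : (ev c ᵥ* R.M x) ᵥ* R.M x⁻¹ = ev c := by
      rw [Matrix.vecMul_vecMul, R.stcj4_M_mul_inv, Matrix.vecMul_one]
    rw [hx] at e
    exact e

variable (o : ι ⊕ ι)

/-- own-name copy of R6 `Phat_lineStab` (exact statement) -/
theorem stcj4_Phat_lineStab :
    ∀ p ∈ S.Phat o, ∃ c : K, c ≠ 0 ∧ R.M p *ᵥ ev (Em R.e o) = c • ev (Em R.e o) := by
  intro p hp
  have hle : S.Phat o ≤ (Mat.lineStab (ev (Em R.e o) : l ⊕ l → K)).comap R.φ := by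
    apply sup_le
    · intro z hz
      refine ⟨1, one_ne_zero, ?_⟩
      rw [one_smul]
      refine R.stcj4_XQ_colStab (Q := fun a b => b ≠ o ∧ a ≠ ng o) ?_ z hz
      rintro a b - ⟨hb, ha⟩
      refine ⟨(stcj4_Em_injective R.e).ne hb, (stcj4_Em_injective R.e).ne ?_⟩
      intro h
      exact ha (by rw [← h, ng_ng])
    · apply (Subgroup.closure_le _).2
      rintro _ ⟨j, t, hj, ht, rfl⟩
      exact ⟨t, ht, R.M_h_fst (Ne.symm hj) t ht⟩
  exact hle hp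

/-- own-name copy of R6 `Yg_row` (exact statement) -/
theorem stcj4_Yg_row : ∀ y ∈ S.Yg o, ev (Em R.e o) ᵥ* R.M y = ev (Em R.e o) := by
  intro y hy
  refine R.stcj4_XQ_rowStab (Q := fun _ b => b = o) ?_ y hy
  rintro a b hab rfl
  exact ⟨(stcj4_Em_injective R.e).ne hab, (stcj4_Em_injective R.e).ne (ng_ne b)⟩

/-- own-name copy of R6 `Yg_apply` (exact statement) -/
theorem stcj4_Yg_apply {y : G} (hy : y ∈ S.Yg o) : (R.M y *ᵥ ev (Em R.e o)) (Em R.e o) = 1 := by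
  have h := congrFun (R.stcj4_Yg_row o y hy) (Em R.e o)
  rw [stcj4_ev_apply, if_pos rfl] at h
  have e : (R.M y *ᵥ ev (Em R.e o)) (Em R.e o) = (ev (Em R.e o) ᵥ* R.M y) (Em R.e o) := by
    unfold ev
    rw [Matrix.mulVec_single_one, Matrix.single_one_vecMul]
    rfl
  rw [e, h]

/-- J4 [M] -/
theorem not_cell {k : ι ⊕ ι} (hk : k ≠ o) {y p : G} (hy : y ∈ S.Yg o) (hp : p ∈ S.Phat o) :
    R.φ (S.w o k 1 * y * p) ≠ 1 :=
  R.stcj4_core o (R.stcj4_Phat_lineStab o) (fun hab u hu => R.M_w_fst hab u hu)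
    (fun hy => R.stcj4_Yg_apply o hy) hk hy hp

/-- J5 [S-M] -/
theorem cell0_fix {y p : G} (hy : y ∈ S.Yg o) (hp : p ∈ S.Phat o) (h : R.φ (y * p) = 1) :
    R.M y *ᵥ ev (Em R.e o) = ev (Em R.e o) :=
  R.stcj5_core o (R.stcj4_Phat_lineStab o) (fun hy => R.stcj4_Yg_apply o hy) hy hp h

end Rep

end SysC

end Cfsg.Agent.Lib.helper3.STC
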