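import Mathlib
import Cfsg.Agent.Lib.helper15.St2
import Cfsg.Agent.Lib.helper7.StA
import Cfsg.Agent.Lib.helper7.StC
import Cfsg.Agent.Lib.helper7.StE
import Cfsg.Agent.Lib.helper3.STC.Defs
import Cfsg.Agent.Lib.helper3.STC.Defs2
import Cfsg.Agent.Lib.helper3.STC.Defs3
import Cfsg.Agent.Lib.Helper24.STCI1
import Cfsg.Agent.Lib.helper2.STCN3
import Cfsg.Agent.Lib.helper23.STCH1

/-!
# Project STC (designer helper3, S2292), row A1 (helper29), VERBATIM: `ALT_mul_Ag`, `ALT_mul_Lg`, `ALT_mul_h`.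
-/

set_option autoImplicit false

namespace Cfsg.Agent.Lib.helper3.STC

open Cfsg.Agent.Lib.helper15.St2 Cfsg.Agent.Lib.helper7.St

namespace SysC

variable {K : Type*} [Field K] {ι : Type*} {G : Type*} [Group G] (S : SysC K ι G)

section A
variable [DecidableEq ι] (o : ι ⊕ ι)

/-- A1 [S] -/
theorem ALT_mul_Ag {s g : G} (hs : s ∈ S.Ag o) (hg : g ∈ S.ALT o) : s * g ∈ S.ALT o := by
  obtain ⟨a, ha, l, hl, c, hc, rfl⟩ := hg
  exact ⟨s * a, mul_mem hs ha, l, hl, c, hc, by group⟩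

theorem ALT_mul_Lg {s g : G} (hs : s ∈ S.Lg o) (hsA : ∀ a ∈ S.Ag o, cj s a ∈ S.Ag o) (hg : g ∈ S.ALT o) :
    s * g ∈ S.ALT o := by
  obtain ⟨a, ha, l, hl, c, hc, rfl⟩ := hg
  exact ⟨cj s a, hsA a ha, s * l, mul_mem hs hl, c, hc, by unfold cj; group⟩

theorem ALT_mul_h [Finite K] (hH : S.HH) {t : K} (ht : t ≠ 0) {g : G} (hg : g ∈ S.ALT o) :
    S.h o (ng o) t * g ∈ S.ALT o := by
  obtain ⟨a, ha, l, hl, c, hc, rfl⟩ := hg
  have hm := hH o (ng o) (ne_ng o) t ht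
  refine ⟨cj (S.h o (ng o) t) a, IsMon.cj_mem_Ag S o hm rfl a ha, cj (S.h o (ng o) t) l,
    IsMon.cj_mem_Lg S o hm rfl rfl l hl, t * c, mul_ne_zero ht hc, ?_⟩
  rw [← S.h_mul (ne_ng o) t c ht hc]
  unfold cj; group

end A

end SysC

end Cfsg.Agent.Lib.helper3.STC
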