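import Mathlib
import Cfsg.Agent.Lib.helper15.St2
import Cfsg.Agent.Lib.helper7.StA
import Cfsg.Agent.Lib.helper7.StC
import Cfsg.Agent.Lib.helper3.STC.Defs
import Cfsg.Agent.Lib.helper3.STC.Defs2
import Cfsg.Agent.Lib.Helper24.STCI1
import Cfsg.Agent.Lib.Helper24.STCW13

/-!
# Project STC (designer helper3, S2292), row H3 (helper29), VERBATIM: `isMon_hs`, `isMon_hl`.
-/

set_option autoImplicit false

namespace Cfsg.Agent.Lib.helper3.STC

open Cfsg.Agent.Lib.helper15.St2 Cfsg.Agent.Lib.helper7.St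

/-- the permutation of the short Weyl element is an involution -/
theorem stch3_sws_mul_self {ι : Type*} [DecidableEq ι] {a b : ι ⊕ ι} (hab : a ≠ b) (hab' : a ≠ ng b) :
    sws a b * sws a b = 1 := by
  have h1 : ng a ≠ a := ng_ne a
  have h2 : ng b ≠ b := ng_ne b
  have h3 : ng a ≠ b := fun h => hab' (by rw [← h, ng_ng])
  have h4 : ng b ≠ a := fun h => hab' h.symm
  have h5 : ng a ≠ ng b := fun h => hab (ng_inj.1 h)
  have hd : Equiv.Perm.Disjoint (Equiv.swap a b) (Equiv.swap (ng a) (ng b)) := by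
    intro k
    by_cases hka : k = a
    · right; subst hka; exact Equiv.swap_apply_of_ne_of_ne h1.symm h4.symm
    by_cases hkb : k = b
    · right; subst hkb; exact Equiv.swap_apply_of_ne_of_ne h3.symm h2.symm
    left; exact Equiv.swap_apply_of_ne_of_ne hka hkb
  unfold sws
  rw [mul_assoc, ← mul_assoc (Equiv.swap (ng a) (ng b)), ← hd.commute.eq, mul_assoc,
    Equiv.swap_mul_self, mul_one, Equiv.swap_mul_self]

theorem stch3_sws_apply_left {ι : Type*} [DecidableEq ι] {a b : ι ⊕ ι} (hab' : a ≠ ng b) :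
    sws a b a = b := by
  have h1 : a ≠ ng a := ne_ng a
  unfold sws
  rw [Equiv.Perm.mul_apply, Equiv.swap_apply_of_ne_of_ne h1 hab', Equiv.swap_apply_left]

theorem stch3_sws_apply_right {ι : Type*} [DecidableEq ι] {a b : ι ⊕ ι} (hab' : a ≠ ng b) :
    sws a b b = a := by
  have h2 : b ≠ ng b := ne_ng b
  have h3 : b ≠ ng a := fun h => hab' (by rw [h, ng_ng])
  unfold sws
  rw [Equiv.Perm.mul_apply, Equiv.swap_apply_of_ne_of_ne h3 h2, Equiv.swap_apply_right]

theorem stch3_sws_apply_nleft {ι : Type*} [DecidableEq ι] {a b : ι ⊕ ι} (hab' : a ≠ ng b) :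
    sws a b (ng a) = ng b := by
  have h2 : ng b ≠ b := ng_ne b
  have h4 : ng b ≠ a := fun h => hab' h.symm
  unfold sws
  rw [Equiv.Perm.mul_apply, Equiv.swap_apply_left, Equiv.swap_apply_of_ne_of_ne h4 h2]

theorem stch3_sws_apply_nright {ι : Type*} [DecidableEq ι] {a b : ι ⊕ ι} (hab' : a ≠ ng b) :
    sws a b (ng b) = ng a := by
  have h1 : ng a ≠ a := ng_ne a
  have h3 : ng a ≠ b := fun h => hab' (by rw [← h, ng_ng])
  unfold sws
  rw [Equiv.Perm.mul_apply, Equiv.swap_apply_right, Equiv.swap_apply_of_ne_of_ne h1 h3]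

theorem stch3_sws_apply_of_ne {ι : Type*} [DecidableEq ι] {a b k : ι ⊕ ι} (hka : k ≠ a) (hkb : k ≠ b)
    (hka' : k ≠ ng a) (hkb' : k ≠ ng b) : sws a b k = k := by
  unfold sws
  rw [Equiv.Perm.mul_apply, Equiv.swap_apply_of_ne_of_ne hka' hkb', Equiv.swap_apply_of_ne_of_ne hka hkb]

namespace SysC

variable {K : Type*} [Field K] {ι : Type*} {G : Type*} [Group G] (S : SysC K ι G)

section H
variable [Finite K]
variable [DecidableEq ι]

/-- H3 [S-M] -/
theorem isMon_hs {a b : ι ⊕ ι} (hab : a ≠ b) (hab' : a ≠ ng b) (u : K) (hu : u ≠ 0)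
    (hW : ∀ v : K, v ≠ 0 → S.IsMon (S.w a b v) (sws a b) (dws a b v)) :
    S.IsMon (S.h a b u) 1 (dhs a b u) := by
  have hm := IsMon.mul S (hW u hu) (hW (-1) (by simp))
  refine IsMon.congr S hm (stch3_sws_mul_self hab hab') ?_
  intro k
  have h1 : ng a ≠ a := ng_ne a
  have h2 : ng b ≠ b := ng_ne b
  have h3 : ng a ≠ b := fun h => hab' (by rw [← h, ng_ng])
  have h4 : ng b ≠ a := fun h => hab' h.symm
  have h5 : ng a ≠ ng b := fun h => hab (ng_inj.1 h)
  have hs : (sg a * sg b : K) * (sg a * sg b) = 1 := by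
    rw [mul_mul_mul_comm, sg_mul_self, sg_mul_self, one_mul]
  show dws a b u (sws a b k) * dws a b (-1) k = dhs a b u k
  by_cases hka : k = a
  · subst hka
    rw [stch3_sws_apply_left hab']
    simp [dws, dhs, hab, hab.symm]
  by_cases hkb : k = b
  · subst hkb
    rw [stch3_sws_apply_right hab']
    simp [dws, dhs, hab, hab.symm, h2.symm, h3.symm]
  by_cases hka' : k = ng a
  · subst hka'
    rw [stch3_sws_apply_nleft hab']
    simp only [dws, dhs, h1, h2, h3, h4, h5, h5.symm, if_true, if_false, or_true, or_false,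
      true_or, false_or]
    have : (sg a * sg b * u⁻¹ : K) * -(sg a * sg b * -1) = (sg a * sg b) * (sg a * sg b) * u⁻¹ := by
      ring
    rw [this, hs, one_mul]
  by_cases hkb' : k = ng b
  · subst hkb'
    rw [stch3_sws_apply_nright hab']
    simp only [dws, dhs, h1, h2, h3, h4, h5, h5.symm, if_true, if_false, or_true, or_false,
      true_or, false_or]
    have : (-(sg a * sg b * u) : K) * (sg a * sg b * (-1)⁻¹) = (sg a * sg b) * (sg a * sg b) * u := by
      rw [inv_neg, inv_one]; ring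
    rw [this, hs, one_mul]
  · rw [stch3_sws_apply_of_ne hka hkb hka' hkb']
    simp [dws, dhs, hka, hkb, hka', hkb']

theorem isMon_hl (a : ι ⊕ ι) (u : K) (hu : u ≠ 0)
    (hW : ∀ v : K, v ≠ 0 → S.IsMon (S.w a (ng a) v) (Equiv.swap a (ng a)) (dwl a v)) :
    S.IsMon (S.h a (ng a) u) 1 (dhl a u) := by
  have hm := IsMon.mul S (hW u hu) (hW (-1) (by simp))
  refine IsMon.congr S hm (Equiv.swap_mul_self a (ng a)) ?_
  intro k
  have h1 : ng a ≠ a := ng_ne a
  show dwl a u (Equiv.swap a (ng a) k) * dwl a (-1) k = dhl a u k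
  by_cases hka : k = a
  · subst hka
    rw [Equiv.swap_apply_left]
    simp [dwl, dhl, h1]
  by_cases hka' : k = ng a
  · subst hka'
    rw [Equiv.swap_apply_right]
    simp [dwl, dhl, h1]
  · rw [Equiv.swap_apply_of_ne_of_ne hka hka']
    simp [dwl, dhl, hka, hka']

end H

end SysC

end Cfsg.Agent.Lib.helper3.STC
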