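import Mathlib
import Cfsg.Agent.Lib.helper15.St2
import Cfsg.Agent.Lib.helper7.StA
import Cfsg.Agent.Lib.helper7.StC
import Cfsg.Agent.Lib.helper3.STC.Defs
import Cfsg.Agent.Lib.helper3.STC.Defs2
import Cfsg.Agent.Lib.Helper24.STCI1
import Cfsg.Agent.Lib.Helper24.STCW13
import Cfsg.Agent.Lib.helper23.STCH1
import Cfsg.Agent.Lib.Helper29.STCH3

/-!
# Project STC (designer helper3, S2292), row H4 (helper29), VERBATIM: `h_chain`.
-/

set_option autoImplicit false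

namespace Cfsg.Agent.Lib.helper3.STC

open Cfsg.Agent.Lib.helper15.St2 Cfsg.Agent.Lib.helper7.St

namespace SysC

variable {K : Type*} [Field K] {ι : Type*} {G : Type*} [Group G] (S : SysC K ι G)

section H
variable [Finite K]
variable [DecidableEq ι]

/-- H4 [M] -/
theorem h_chain {a b : ι ⊕ ι} (hab : a ≠ b) (hab' : a ≠ ng b) (u : K) (hu : u ≠ 0)
    (hWs : ∀ v : K, v ≠ 0 → S.IsMon (S.w a b v) (sws a b) (dws a b v))
    (hHl : ∀ v : K, v ≠ 0 → S.IsMon (S.h a (ng a) v) 1 (dhl a v)) :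
    S.h a b u = S.h a (ng a) u * S.h (ng b) b u := by
  have h1 : ng a ≠ a := ng_ne a
  have h2 : ng b ≠ b := ng_ne b
  have h3 : ng a ≠ b := fun h => hab' (by rw [← h, ng_ng])
  have h4 : ng b ≠ a := fun h => hab' h.symm
  have h5 : ng a ≠ ng b := fun h => hab (ng_inj.1 h)
  have hu' : u⁻¹ ≠ 0 := inv_ne_zero hu
  have hε : (sg a * sg b : K) ≠ 0 := mul_ne_zero (sg_ne_zero a) (sg_ne_zero b)
  -- first computation: `cj W H = h b (ng b) u⁻¹`
  have e1 : cj (S.w a b 1) (S.h a (ng a) u⁻¹) = S.h b (ng b) u⁻¹ := by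
    rw [IsMon.cj_h S (hWs 1 one_ne_zero) h1.symm u⁻¹ hu', stch3_sws_apply_left hab',
      stch3_sws_apply_nleft hab']
    have d1 : dws a b (1 : K) a = -1 := by simp [dws]
    have d2 : dws a b (1 : K) (ng a) = -(sg a * sg b) := by
      simp only [dws, h1, h3, h5, if_false, if_true, mul_one]
    rw [d1, d2]
    have hne : (-(sg a * sg b) : K) ≠ 0 := neg_ne_zero.2 hε
    rw [S.w_mul_w h2.symm _ _ (mul_ne_zero (mul_ne_zero (by simp) (inv_ne_zero hne)) hu')
      (neg_ne_zero.2 (mul_ne_zero (by simp) (inv_ne_zero hne)))]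
    congr 1
    field_simp
    exact div_self hε
  -- second computation: `cj W H = H * h a b u`
  have e2 : cj (S.w a b 1) (S.h a (ng a) u⁻¹) = S.h a (ng a) u⁻¹ * S.h a b u := by
    have e3 : cj (S.h a (ng a) u) (S.w a b 1) = S.w a b u := by
      rw [IsMon.cj_w S (hHl u hu) hab 1 one_ne_zero]
      simp only [Equiv.Perm.coe_one, id_eq]
      have d1 : dhl a u a = u := by simp [dhl]
      have d2 : dhl a u b = 1 := by simp [dhl, hab.symm, h3.symm]
      rw [d1, d2]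
      congr 1
      simp
    have hinv : (S.h a (ng a) u⁻¹)⁻¹ = S.h a (ng a) u := by
      rw [S.h_inv h1.symm u⁻¹ hu', inv_inv]
    have hW1 : (S.w a b 1)⁻¹ = S.w a b (-1) := (S.stch_w_neg hab 1).symm
    calc cj (S.w a b 1) (S.h a (ng a) u⁻¹)
        = S.h a (ng a) u⁻¹ * cj (S.h a (ng a) u⁻¹)⁻¹ (S.w a b 1) * (S.w a b 1)⁻¹ := by
          unfold cj; group
      _ = S.h a (ng a) u⁻¹ * S.w a b u * S.w a b (-1) := by rw [hinv, e3, hW1]
      _ = S.h a (ng a) u⁻¹ * S.h a b u := by rw [mul_assoc]; rfl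
  have e4 : S.h a b u = (S.h a (ng a) u⁻¹)⁻¹ * S.h b (ng b) u⁻¹ := by
    rw [← e1, e2, inv_mul_cancel_left]
  rw [e4, S.h_inv h1.symm u⁻¹ hu', inv_inv, S.h_swap h2.symm u hu]

end H

end SysC

end Cfsg.Agent.Lib.helper3.STC
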