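import Mathlib
import Cfsg.Agent.Lib.helper15.St2
import Cfsg.Agent.Lib.helper7.StA
import Cfsg.Agent.Lib.helper7.StC
import Cfsg.Agent.Lib.helper7.StE
import Cfsg.Agent.Lib.helper3.STC.Defs
import Cfsg.Agent.Lib.helper3.STC.Defs2
import Cfsg.Agent.Lib.helper3.STC.Defs3
import Cfsg.Agent.Lib.Helper24.STCI1
import Cfsg.Agent.Lib.Helper24.STCB1
import Cfsg.Agent.Lib.helper2.STCX1
import Cfsg.Agent.Lib.helper2.STCN3
import Cfsg.Agent.Lib.Helper26.STCN1
import Cfsg.Agent.Lib.Helper12.STCN2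
import Cfsg.Agent.Lib.helper23.STCH1
import Cfsg.Agent.Lib.Helper29.STCH4
import Cfsg.Agent.Lib.Helper29.STCA1

/-!
# Project STC (designer helper3, S2292), row A2 (helper29), VERBATIM: `Phat_decomp`.
-/

set_option autoImplicit false

namespace Cfsg.Agent.Lib.helper3.STC

open Cfsg.Agent.Lib.helper15.St2 Cfsg.Agent.Lib.helper7.St

namespace SysC

variable {K : Type*} [Field K] {ι : Type*} {G : Type*} [Group G] (S : SysC K ι G)

section A
variable [DecidableEq ι] (o : ι ⊕ ι)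

/-- own-name copy of F1 `HW.short` -/
theorem stca2_HW_short (hW : S.HW) {a b : ι ⊕ ι} (hab : a ≠ b) (hab' : a ≠ ng b) (u : K) (hu : u ≠ 0) :
    S.IsMon (S.w a b u) (sws a b) (dws a b u) := by
  have h := hW a b hab u hu
  have hb : b ≠ ng a := fun h => hab' (by rw [h, ng_ng])
  unfold wpm dwc at h
  rwa [if_neg hb, if_neg hb] at h

/-- own-name copy of F1 `HH.long` -/
theorem stca2_HH_long (hH : S.HH) (a : ι ⊕ ι) (u : K) (hu : u ≠ 0) :
    S.IsMon (S.h a (ng a) u) 1 (dhl a u) := by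
  have h := hH a (ng a) (ne_ng a) u hu
  unfold dhc at h
  rwa [if_pos rfl] at h

/-- A2 [M] -/
theorem Phat_decomp [Finite K] (hW : S.HW) (hH : S.HH) : ∀ p ∈ S.Phat o, p ∈ S.ALT o := by
  intro p hp
  have hP : S.Phat o = Subgroup.closure
      ({g | ∃ a b t, a ≠ b ∧ (b ≠ o ∧ a ≠ ng o) ∧ g = S.x a b t} ∪
        {g | ∃ b t, b ≠ o ∧ t ≠ 0 ∧ g = S.h o b t}) := by
    rw [Subgroup.closure_union]
    rfl
  rw [hP] at hp
  revert p
  refine closure_left_induction' (p := fun p => p ∈ S.ALT o) ?_ ?_ ?_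
  · rintro s (hs | ⟨j, t, hj, ht, rfl⟩)
    · exact Or.inl (S.XQ_gens_inv _ s hs)
    · exact Or.inr ⟨j, t⁻¹, hj, inv_ne_zero ht, S.h_inv (Ne.symm hj) t ht⟩
  · exact ⟨1, one_mem _, 1, one_mem _, 1, one_ne_zero, by rw [S.h_one]; group⟩
  · rintro s (⟨a, b, t, hab, ⟨hb, ha'⟩, rfl⟩ | ⟨j, t, hj, ht, rfl⟩) g hg
    · by_cases ha : a = o
      · subst ha
        exact S.ALT_mul_Ag a (S.x_mem_Ag a hb t) hg
      by_cases hb' : b = ng o
      · subst hb'
        exact S.ALT_mul_Ag o (S.x_mem_Ag' o ha' t) hg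
      · exact S.ALT_mul_Lg o (S.x_mem_Lg o hab ha ha' hb hb' t) (S.x_cj_mem_Ag o hab ha ha' hb hb' t) hg
    · by_cases hjo' : j = ng o
      · subst hjo'
        exact S.ALT_mul_h o hH ht hg
      · have h1 : o ≠ j := Ne.symm hj
        have h2 : o ≠ ng j := fun h => hjo' (by rw [h, ng_ng])
        have h3 : ng j ≠ j := ng_ne j
        have h4 : ng j ≠ o := Ne.symm h2
        have h5 : ng j ≠ ng o := fun h => hj (ng_inj.1 h)
        rw [S.h_chain h1 h2 t ht (fun v hv => S.stca2_HW_short hW h1 h2 v hv)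
          (fun v hv => S.stca2_HH_long hH o v hv), mul_assoc]
        apply S.ALT_mul_h o hH ht
        exact S.ALT_mul_Lg o (S.h_mem_Lg o h3 h4 h5 hj hjo' t)
          (IsMon.cj_mem_Ag S o (hH (ng j) j h3 t ht) rfl) hg

end A

end SysC

end Cfsg.Agent.Lib.helper3.STC
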