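import Mathlib

/-!
Group theory around a self-centralizing element of prime order.
-/

set_option autoImplicit false
open Classical
open scoped Pointwise

namespace Cfsg.Agent.Lib.Helper29

section ScGroup

variable {G : Type*} [Group G] [Finite G] {p : ℕ} [hp : Fact p.Prime] {x : G}

theorem scg_card (hx : orderOf x = p) : Nat.card ↥(Subgroup.zpowers x) = p := by
  rw [Nat.card_zpowers, hx]

theorem scg_comm {a b : G} (ha : a ∈ Subgroup.zpowers x) (hb : b ∈ Subgroup.zpowers x) :
    a * b = b * a := by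
  obtain ⟨i, rfl⟩ := Subgroup.mem_zpowers_iff.mp ha
  obtain ⟨j, rfl⟩ := Subgroup.mem_zpowers_iff.mp hb
  exact (Commute.zpow_zpow_self x i j).eq

theorem scg_order (hx : orderOf x = p) {y : G} (hy : y ∈ Subgroup.zpowers x) (hy1 : y ≠ 1) :
    orderOf y = p := by
  have h1 := orderOf_dvd_of_mem_zpowers hy
  rw [hx] at h1
  rcases (Nat.dvd_prime hp.out).mp h1 with h2 | h2
  · exact absurd (orderOf_eq_one_iff.mp h2) hy1
  · exact h2

theorem scg_zpowers_eq (hx : orderOf x = p) {y : G} (hy : y ∈ Subgroup.zpowers x) (hy1 : y ≠ 1) :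
    Subgroup.zpowers y = Subgroup.zpowers x := by
  apply Subgroup.eq_of_le_of_card_ge
  · exact (Subgroup.zpowers_le).mpr hy
  · rw [Nat.card_zpowers, Nat.card_zpowers, hx, scg_order hx hy hy1]

theorem scg_centralizer (hx : orderOf x = p)
    (hC : Subgroup.centralizer ({x} : Set G) = Subgroup.zpowers x) {y : G}
    (hy : y ∈ Subgroup.zpowers x) (hy1 : y ≠ 1) :
    Subgroup.centralizer ({y} : Set G) = Subgroup.zpowers x := by
  apply le_antisymm
  · intro g hg
    rw [← hC, Subgroup.mem_centralizer_singleton_iff]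
    have hxy : x ∈ Subgroup.zpowers y := by
      rw [scg_zpowers_eq hx hy hy1]
      exact Subgroup.mem_zpowers x
    obtain ⟨i, rfl⟩ := Subgroup.mem_zpowers_iff.mp hxy
    rw [Subgroup.mem_centralizer_singleton_iff] at hg
    have : Commute g y := hg
    exact (this.zpow_right i).eq
  · intro g hg
    rw [Subgroup.mem_centralizer_singleton_iff]
    exact scg_comm hg hy

/-- the centralizer of the subgroup `⟨x⟩` is `⟨x⟩` -/
theorem scg_centralizer_P (hC : Subgroup.centralizer ({x} : Set G) = Subgroup.zpowers x) :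
    Subgroup.centralizer ((Subgroup.zpowers x : Subgroup G) : Set G) = Subgroup.zpowers x := by
  apply le_antisymm
  · intro g hg
    rw [← hC, Subgroup.mem_centralizer_singleton_iff]
    exact ((Subgroup.mem_centralizer_iff.mp hg) x (Subgroup.mem_zpowers x)).symm
  · intro g hg
    rw [Subgroup.mem_centralizer_iff]
    intro h hh
    exact scg_comm hh hg

/-- `⟨x⟩` is a Sylow `p`-subgroup -/
theorem scg_exists_sylow (hx : orderOf x = p)
    (hC : Subgroup.centralizer ({x} : Set G) = Subgroup.zpowers x) :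
    ∃ Ps : Sylow p G, (Ps : Subgroup G) = Subgroup.zpowers x := by
  have hpg : IsPGroup p ↥(Subgroup.zpowers x) :=
    IsPGroup.of_card (n := 1) (by rw [scg_card hx, pow_one])
  obtain ⟨Q, hQ⟩ := hpg.exists_le_sylow
  refine ⟨Q, le_antisymm ?_ hQ⟩
  have hxQ : x ∈ (Q : Subgroup G) := hQ (Subgroup.mem_zpowers x)
  have : Nontrivial ↥(Q : Subgroup G) := by
    refine ⟨⟨⟨x, hxQ⟩, 1, ?_⟩⟩
    intro h
    have h1 : x = 1 := congrArg Subtype.val h
    rw [h1, orderOf_one] at hx
    exact hp.out.one_lt.ne hx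
  have := Q.2.center_nontrivial
  obtain ⟨z, hz⟩ := exists_ne (1 : ↥(Subgroup.center ↥(Q : Subgroup G)))
  have hzG : ((z : ↥(Q : Subgroup G)) : G) ≠ 1 := by
    intro h
    apply hz
    apply Subtype.ext
    apply Subtype.ext
    exact h
  have hzc : ∀ q : ↥(Q : Subgroup G), q * (z : ↥(Q : Subgroup G)) = (z : ↥(Q : Subgroup G)) * q :=
    fun q => (Subgroup.mem_center_iff.mp z.2) q
  have hzP : ((z : ↥(Q : Subgroup G)) : G) ∈ Subgroup.zpowers x := by
    rw [← hC, Subgroup.mem_centralizer_singleton_iff]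
    have := congrArg Subtype.val (hzc ⟨x, hxQ⟩)
    simpa using this.symm
  have hxz : x ∈ Subgroup.zpowers ((z : ↥(Q : Subgroup G)) : G) := by
    rw [scg_zpowers_eq hx hzP hzG]
    exact Subgroup.mem_zpowers x
  obtain ⟨i, hi⟩ := Subgroup.mem_zpowers_iff.mp hxz
  intro q hq
  rw [← hC, Subgroup.mem_centralizer_singleton_iff, ← hi]
  have h1 : Commute q ((z : ↥(Q : Subgroup G)) : G) := by
    have := congrArg Subtype.val (hzc ⟨q, hq⟩)
    unfold Commute SemiconjBy
    simpa using this
  exact (h1.zpow_right i).eq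

/-- an element of order `p` is conjugate into `⟨x⟩` -/
theorem scg_conj_into (hx : orderOf x = p)
    (hC : Subgroup.centralizer ({x} : Set G) = Subgroup.zpowers x) {g : G} (hg : orderOf g = p) :
    ∃ c : G, c * g * c⁻¹ ∈ Subgroup.zpowers x := by
  obtain ⟨Ps, hPs⟩ := scg_exists_sylow hx hC
  have hpg : IsPGroup p ↥(Subgroup.zpowers g) :=
    IsPGroup.of_card (n := 1) (by rw [Nat.card_zpowers, hg, pow_one])
  obtain ⟨Q, hQ⟩ := hpg.exists_le_sylow
  obtain ⟨c, hc⟩ := MulAction.exists_smul_eq G Q Ps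
  refine ⟨c, ?_⟩
  have h1 : ((c • Q : Sylow p G) : Subgroup G) = MulAut.conj c • (Q : Subgroup G) := Sylow.coe_subgroup_smul
  rw [← hPs, ← hc, h1]
  exact Subgroup.smul_mem_pointwise_smul _ (MulAut.conj c) _ (hQ (Subgroup.mem_zpowers g))

/-- fusion of non-identity elements of `⟨x⟩` takes place in the normalizer -/
theorem scg_ti (hx : orderOf x = p) {g y : G} (hy : y ∈ Subgroup.zpowers x) (hy1 : y ≠ 1)
    (hy' : g * y * g⁻¹ ∈ Subgroup.zpowers x) :
    g ∈ Subgroup.normalizer ((Subgroup.zpowers x : Subgroup G) : Set G) := by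
  have hy'1 : g * y * g⁻¹ ≠ 1 := by
    intro h
    apply hy1
    have : y = g⁻¹ * (g * y * g⁻¹) * g := by group
    rw [this, h]
    group
  rw [Subgroup.mem_normalizer_iff]
  intro h
  constructor
  · intro hh
    rw [← scg_zpowers_eq hx hy hy1] at hh
    obtain ⟨i, rfl⟩ := Subgroup.mem_zpowers_iff.mp hh
    rw [← conj_zpow]
    exact Subgroup.zpow_mem _ hy' i
  · intro hh
    rw [← scg_zpowers_eq hx hy' hy'1] at hh
    obtain ⟨i, hi⟩ := Subgroup.mem_zpowers_iff.mp hh
    rw [conj_zpow] at hi
    have h2 : h = y ^ i := by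
      have h3 := mul_left_cancel (mul_right_cancel hi)
      exact h3.symm
    rw [h2]
    exact Subgroup.zpow_mem _ hy i

/-- the number of `G`-conjugates of `y₀` inside `⟨x⟩`, times `p`, is `|N_G(⟨x⟩)|` -/
theorem scg_fiber (hx : orderOf x = p)
    (hC : Subgroup.centralizer ({x} : Set G) = Subgroup.zpowers x)
    [Fintype ↥(Subgroup.zpowers x)]
    [Fintype ↥(Subgroup.normalizer ((Subgroup.zpowers x : Subgroup G) : Set G))]
    {y₀ : G} (hy₀ : y₀ ∈ Subgroup.zpowers x) (hy₀1 : y₀ ≠ 1) :
    (Finset.univ.filter (fun y : ↥(Subgroup.zpowers x) => IsConj y₀ (y : G))).card * p =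
      Fintype.card ↥(Subgroup.normalizer ((Subgroup.zpowers x : Subgroup G) : Set G)) := by
  have hmem : ∀ n : ↥(Subgroup.normalizer ((Subgroup.zpowers x : Subgroup G) : Set G)),
      (n : G) * y₀ * (n : G)⁻¹ ∈ Subgroup.zpowers x := fun n =>
    (Subgroup.mem_normalizer_iff.mp n.2 y₀).mp hy₀
  have hmaps : Set.MapsTo
      (fun n : ↥(Subgroup.normalizer ((Subgroup.zpowers x : Subgroup G) : Set G)) =>
        (⟨(n : G) * y₀ * (n : G)⁻¹, hmem n⟩ : ↥(Subgroup.zpowers x)))
      (↑(Finset.univ : Finset ↥(Subgroup.normalizer ((Subgroup.zpowers x : Subgroup G) : Set G))))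
      (↑(Finset.univ.filter (fun y : ↥(Subgroup.zpowers x) => IsConj y₀ (y : G)))) := by
    intro n _
    simp only [Finset.coe_filter, Finset.mem_univ, true_and]
    exact isConj_iff.mpr ⟨(n : G), rfl⟩
  rw [← Finset.card_univ, Finset.card_eq_sum_card_fiberwise hmaps]
  rw [Finset.sum_const_nat (m := p), mul_comm]
  intro y hy
  have hy2 : IsConj y₀ (y : G) := (Finset.mem_filter.mp hy).2
  obtain ⟨g, hg⟩ := isConj_iff.mp hy2
  have hgN : g ∈ Subgroup.normalizer ((Subgroup.zpowers x : Subgroup G) : Set G) :=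
    scg_ti hx hy₀ hy₀1 (by rw [hg]; exact y.2)
  have hcardP : (Finset.univ : Finset ↥(Subgroup.zpowers x)).card = p := by
    rw [Finset.card_univ, ← Nat.card_eq_fintype_card, scg_card hx]
  rw [← hcardP]
  apply Finset.card_bij
    (fun (n : ↥(Subgroup.normalizer ((Subgroup.zpowers x : Subgroup G) : Set G))) hn =>
      (⟨g⁻¹ * (n : G), by
        have hn2 := (Finset.mem_filter.mp hn).2
        have hn3 : (n : G) * y₀ * (n : G)⁻¹ = (y : G) := congrArg Subtype.val hn2
        suffices h : g⁻¹ * (n : G) ∈ Subgroup.centralizer ({y₀} : Set G) by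
          rwa [scg_centralizer hx hC hy₀ hy₀1] at h
        rw [Subgroup.mem_centralizer_singleton_iff]
        have h4 : (n : G) * y₀ * (n : G)⁻¹ = g * y₀ * g⁻¹ := by rw [hn3, hg]
        calc g⁻¹ * (n : G) * y₀ = g⁻¹ * ((n : G) * y₀ * (n : G)⁻¹) * (n : G) := by group
          _ = g⁻¹ * (g * y₀ * g⁻¹) * (n : G) := by rw [h4]
          _ = y₀ * (g⁻¹ * (n : G)) := by group⟩ : ↥(Subgroup.zpowers x)))
  · intro n _
    exact Finset.mem_univ _
  · intro a _ b _ hab
    have h1 : g⁻¹ * (a : G) = g⁻¹ * (b : G) := congrArg Subtype.val hab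
    exact Subtype.ext (mul_left_cancel h1)
  · intro c _
    refine ⟨⟨g * (c : G), Subgroup.mul_mem _ hgN (Subgroup.le_normalizer c.2)⟩, ?_, ?_⟩
    · rw [Finset.mem_filter]
      refine ⟨Finset.mem_univ _, ?_⟩
      apply Subtype.ext
      simp only []
      have hc : (c : G) * y₀ = y₀ * (c : G) := scg_comm c.2 hy₀
      rw [← hg]
      calc g * (c : G) * y₀ * (g * (c : G))⁻¹ = g * ((c : G) * y₀) * (c : G)⁻¹ * g⁻¹ := by group
        _ = g * (y₀ * (c : G)) * (c : G)⁻¹ * g⁻¹ := by rw [hc]
        _ = g * y₀ * g⁻¹ := by group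
    · apply Subtype.ext
      simp

set_option maxHeartbeats 1600000 in
/-- the number of classes of elements of order `p` times `|N : ⟨x⟩|` is `p - 1` -/
theorem scg_count (hx : orderOf x = p)
    (hC : Subgroup.centralizer ({x} : Set G) = Subgroup.zpowers x) (t : ℕ)
    (ht : Nat.card {C : ConjClasses G // ∃ g ∈ C.carrier, orderOf g = p} = t) (e : ℕ)
    (he : Nat.card ↥(Subgroup.normalizer ((Subgroup.zpowers x : Subgroup G) : Set G)) = e * p) :
    t * e = p - 1 := by
  have : Fintype G := Fintype.ofFinite _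
  have : Fintype ↥(Subgroup.zpowers x) := Fintype.ofFinite _
  have : Fintype ↥(Subgroup.normalizer ((Subgroup.zpowers x : Subgroup G) : Set G)) :=
    Fintype.ofFinite _
  have : Fintype (ConjClasses G) := Fintype.ofFinite _
  have hT : (Finset.univ.filter
      (fun C : ConjClasses G => ∃ g ∈ C.carrier, orderOf g = p)).card = t := by
    rw [← ht]
    symm
    apply Nat.subtype_card
    intro C
    simp
  have hs : (Finset.univ.filter (fun y : ↥(Subgroup.zpowers x) => y ≠ 1)).card = p - 1 := by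
    rw [Finset.filter_ne', Finset.card_erase_of_mem (Finset.mem_univ _), Finset.card_univ,
      ← Nat.card_eq_fintype_card, scg_card hx]
  have hmaps : Set.MapsTo (fun y : ↥(Subgroup.zpowers x) => ConjClasses.mk (y : G))
      (↑(Finset.univ.filter (fun y : ↥(Subgroup.zpowers x) => y ≠ 1)))
      (↑(Finset.univ.filter
        (fun C : ConjClasses G => ∃ g ∈ C.carrier, orderOf g = p))) := by
    intro y hy
    have hy1 : y ≠ 1 := by simpa using hy
    simp only [Finset.coe_filter, Finset.mem_univ, true_and]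
    refine ⟨(y : G), ConjClasses.mem_carrier_mk, scg_order hx y.2 ?_⟩
    intro h
    exact hy1 (Subtype.ext h)
  rw [← hs, Finset.card_eq_sum_card_fiberwise hmaps, Finset.sum_const_nat (m := e), hT]
  intro C hC'
  obtain ⟨g, hgC, hgo⟩ := (Finset.mem_filter.mp hC').2
  obtain ⟨c, hc⟩ := scg_conj_into hx hC hgo
  have hy₀1 : c * g * c⁻¹ ≠ 1 := by
    intro h
    have h1 : g = c⁻¹ * (c * g * c⁻¹) * c := by group
    rw [h, mul_one, inv_mul_cancel] at h1
    rw [h1, orderOf_one] at hgo
    exact hp.out.one_lt.ne hgo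
  have hmk : ConjClasses.mk (c * g * c⁻¹) = C := by
    rw [← ConjClasses.mem_carrier_iff_mk_eq.mp hgC, ConjClasses.mk_eq_mk_iff_isConj]
    exact (isConj_iff.mpr ⟨c, rfl⟩).symm
  have hfib := scg_fiber hx hC hc hy₀1
  have hfe : (Finset.univ.filter (fun y : ↥(Subgroup.zpowers x) => y ≠ 1)).filter
      (fun y : ↥(Subgroup.zpowers x) => ConjClasses.mk (y : G) = C) =
      Finset.univ.filter (fun y : ↥(Subgroup.zpowers x) => IsConj (c * g * c⁻¹) (y : G)) := by
    ext y
    simp only [Finset.mem_filter, Finset.mem_univ, true_and]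
    constructor
    · rintro ⟨-, h2⟩
      rw [← hmk, ConjClasses.mk_eq_mk_iff_isConj] at h2
      exact h2.symm
    · intro h2
      refine ⟨?_, ?_⟩
      · intro h3
        rw [h3] at h2
        obtain ⟨d, hd⟩ := isConj_iff.mp h2
        apply hy₀1
        have h4 : c * g * c⁻¹ = d⁻¹ * (d * (c * g * c⁻¹) * d⁻¹) * d := by group
        rw [h4, hd]
        simp
      · rw [← hmk, ConjClasses.mk_eq_mk_iff_isConj]
        exact h2.symm
  rw [hfe]
  rw [← Nat.card_eq_fintype_card, he] at hfib
  convert Nat.eq_of_mul_eq_mul_right hp.out.pos hfib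

/-- `N/⟨x⟩` is cyclic of order `e` dividing `p - 1`: a generator of order `e` -/
theorem scg_exists_h (hx : orderOf x = p)
    (hC : Subgroup.centralizer ({x} : Set G) = Subgroup.zpowers x) (e : ℕ)
    (he : Nat.card ↥(Subgroup.normalizer ((Subgroup.zpowers x : Subgroup G) : Set G)) = e * p) :
    e ∣ p - 1 ∧ ∃ h : G, h ∈ Subgroup.normalizer ((Subgroup.zpowers x : Subgroup G) : Set G) ∧
      h ^ e = 1 ∧ ∀ k, 0 < k → k < e → h ^ k ∉ Subgroup.zpowers x := by
  have hpp : p.Prime := hp.out
  have hcardP : Nat.card ↥(Subgroup.zpowers x) = p := scg_card hx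
  have hker : (Subgroup.zpowers x).normalizerMonoidHom.ker =
      (Subgroup.zpowers x).subgroupOf
        (Subgroup.normalizer ((Subgroup.zpowers x : Subgroup G) : Set G)) := by
    rw [Subgroup.normalizerMonoidHom_ker, scg_centralizer_P hC]
  have hkercard : Nat.card ↥(Subgroup.zpowers x).normalizerMonoidHom.ker = p := by
    rw [hker, Nat.card_congr (Subgroup.subgroupOfEquivOfLe Subgroup.le_normalizer).toEquiv, hcardP]
  have hrange : Nat.card ↥(Subgroup.zpowers x).normalizerMonoidHom.range = e := by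
    have h1 := Subgroup.card_mul_index (Subgroup.zpowers x).normalizerMonoidHom.ker
    rw [hkercard, Subgroup.index_ker, he, mul_comm] at h1
    exact Nat.eq_of_mul_eq_mul_right hpp.pos h1
  have : Fact (Nat.card ↥(Subgroup.zpowers x)).Prime := ⟨by rw [hcardP]; exact hpp⟩
  have hcycA : IsCyclic (MulAut ↥(Subgroup.zpowers x)) :=
    (IsCyclic.mulAutMulEquiv ↥(Subgroup.zpowers x)).isCyclic.mpr inferInstance
  have hcycR : IsCyclic ↥(Subgroup.zpowers x).normalizerMonoidHom.range := inferInstance
  have hedvd : e ∣ p - 1 := by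
    rw [← hrange, ← Nat.totient_prime hpp, ← hcardP, ← IsCyclic.card_mulAut]
    exact Subgroup.card_subgroup_dvd_card _
  refine ⟨hedvd, ?_⟩
  have hecop : Nat.Coprime e p := by
    have hepos : 0 < p - 1 := by have := hpp.two_le; omega
    have hle : e ≤ p - 1 := Nat.le_of_dvd hepos hedvd
    have he0 : e ≠ 0 := by
      rintro rfl
      rw [zero_mul] at he
      exact (Nat.card_pos (α := ↥(Subgroup.normalizer
        ((Subgroup.zpowers x : Subgroup G) : Set G)))).ne' he
    rw [Nat.coprime_comm, Nat.Prime.coprime_iff_not_dvd hpp]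
    intro hdvd
    have := Nat.le_of_dvd (Nat.pos_of_ne_zero he0) hdvd
    omega
  obtain ⟨g₀, hg₀⟩ := hcycR.exists_generator
  obtain ⟨n₀, hn₀⟩ := g₀.2
  have hord : orderOf ((Subgroup.zpowers x).normalizerMonoidHom n₀) = e := by
    rw [← hrange, ← orderOf_eq_card_of_forall_mem_zpowers hg₀, hn₀]
    exact Subgroup.orderOf_coe g₀
  have hkerP : ∀ n : ↥(Subgroup.normalizer ((Subgroup.zpowers x : Subgroup G) : Set G)),
      (Subgroup.zpowers x).normalizerMonoidHom n = 1 ↔ (n : G) ∈ Subgroup.zpowers x := by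
    intro n
    rw [← MonoidHom.mem_ker, hker, Subgroup.mem_subgroupOf]
  refine ⟨((n₀ ^ p : ↥(Subgroup.normalizer ((Subgroup.zpowers x : Subgroup G) : Set G))) : G),
    Subtype.property _, ?_, ?_⟩
  · have h1 : (Subgroup.zpowers x).normalizerMonoidHom (n₀ ^ e) = 1 := by
      rw [map_pow, ← hord, pow_orderOf_eq_one]
    have h2 := (hkerP _).mp h1
    have h3 : (⟨_, h2⟩ : ↥(Subgroup.zpowers x)) ^ p = 1 := by
      rw [← hcardP]
      exact pow_card_eq_one'
    have h4 := congrArg Subtype.val h3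
    simp only [Subgroup.coe_pow, Subgroup.coe_one] at h4
    rw [Subgroup.coe_pow, ← pow_mul, mul_comm, pow_mul]
    exact h4
  · intro k hk0 hke hmem
    have h1 : (Subgroup.zpowers x).normalizerMonoidHom ((n₀ ^ p) ^ k) = 1 := by
      rw [hkerP]
      simpa using hmem
    rw [map_pow, map_pow, ← pow_mul, ← orderOf_dvd_iff_pow_eq_one, hord] at h1
    have h2 : e ∣ k := hecop.dvd_of_dvd_mul_left h1
    exact absurd (Nat.le_of_dvd hk0 h2) (by omega)

end ScGroup

section ScTwo

variable {G : Type*} [Group G] [Finite G]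

/-- a normal subgroup of even index forces the commutator subgroup to have even index,
provided the quotient is abelian -/
theorem scg_even_of_le {K : Subgroup G} (hK : commutator G ≤ K) (hev : Even K.index) :
    Even (commutator G).index :=
  (even_iff_two_dvd.mpr (dvd_trans (even_iff_two_dvd.mp hev) (Subgroup.index_dvd_of_le hK)))

/-- a group with a self-centralizing involution has a quotient of order two -/
theorem scg_two {x : G} (hx : orderOf x = 2)
    (hC : Subgroup.centralizer ({x} : Set G) = Subgroup.zpowers x) :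
    Even (commutator G).index := by
  have : Fact (Nat.Prime 2) := ⟨Nat.prime_two⟩
  obtain ⟨Ps, hPs⟩ := scg_exists_sylow (p := 2) hx hC
  have hNC : Subgroup.normalizer ((Ps : Subgroup G) : Set G) ≤
      Subgroup.centralizer ((Ps : Subgroup G) : Set G) := by
    rw [hPs, scg_centralizer_P hC]
    intro n hn
    have hx1 : x ≠ 1 := by
      rintro rfl
      rw [orderOf_one] at hx
      norm_num at hx
    have h1 : n * x * n⁻¹ ∈ Subgroup.zpowers x :=
      (Subgroup.mem_normalizer_iff.mp hn x).mp (Subgroup.mem_zpowers x)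
    have h2 : n * x * n⁻¹ ≠ 1 := by
      intro h
      apply hx1
      have : x = n⁻¹ * (n * x * n⁻¹) * n := by group
      rw [this, h]
      group
    obtain ⟨i, hi⟩ := Subgroup.mem_zpowers_iff.mp h1
    have h3 : x ^ i = x ^ (i % 2) := by
      have := (zpow_mod_orderOf x i).symm
      rw [hx] at this
      exact_mod_cast this
    have h4 : i % 2 = 0 ∨ i % 2 = 1 := by omega
    have h5 : n * x * n⁻¹ = x := by
      rcases h4 with h4 | h4
      · rw [h4, zpow_zero] at h3
        rw [← hi, h3] at h2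
        exact absurd rfl h2
      · rw [h4, zpow_one] at h3
        rw [← hi, h3]
    rw [← hC, Subgroup.mem_centralizer_singleton_iff]
    calc n * x = n * x * n⁻¹ * n := by group
      _ = x * n := by rw [h5]
  have hcompl := MonoidHom.ker_transferSylow_isComplement' Ps hNC
  have hidx : (MonoidHom.transferSylow Ps hNC).ker.index = 2 := by
    rw [hcompl.symm.index_eq_card, hPs, Nat.card_zpowers, hx]
  have hcomm : commutator G ≤ (MonoidHom.transferSylow Ps hNC).ker := by
    rw [← Subgroup.Normal.quotient_commutative_iff_commutator_le]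
    have hcard : Nat.card (G ⧸ (MonoidHom.transferSylow Ps hNC).ker) = 2 := by
      rw [← Subgroup.index_eq_card]
      exact hidx
    have hcyc : IsCyclic (G ⧸ (MonoidHom.transferSylow Ps hNC).ker) :=
      isCyclic_of_prime_card hcard
    exact hcyc.isMulCommutative
  exact scg_even_of_le hcomm (by rw [hidx]; exact even_two)

end ScTwo

end Cfsg.Agent.Lib.Helper29
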