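import Mathlib

/-!
Determinant of a linear map of finite order all of whose proper powers are traceless
(the determinant of a multiple of the regular representation of a cyclic group).
-/

set_option autoImplicit false
open Module

namespace Cfsg.Agent.Lib.Helper29

section ScDet

variable {K : Type*} [Field K] {V : Type*} [AddCommGroup V] [Module K V] [FiniteDimensional K V]

/-- determinant of `1 + (c-1) E` for an idempotent `E` -/
theorem scd_det_idem (E : V →ₗ[K] V) (hE : IsIdempotentElem E) (c : K) :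
    LinearMap.det (1 + (c - 1) • E) = c ^ finrank K (LinearMap.range E) := by
  have hproj : LinearMap.IsProj (LinearMap.range E) E :=
    (LinearMap.isProj_range_iff_isIdempotentElem E).mpr hE
  set e := (LinearMap.range E).prodEquivOfIsCompl (LinearMap.ker E) hproj.isCompl with he
  have h1 : E = e.conj (LinearMap.prodMap LinearMap.id 0) := hproj.eq_conj_prodMap
  have h2 : (1 + (c - 1) • E : V →ₗ[K] V) =
      e.conj (LinearMap.prodMap (c • LinearMap.id) LinearMap.id) := by
    have h3 : (LinearMap.prodMap (c • LinearMap.id) LinearMap.id :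
        (↥(LinearMap.range E) × ↥(LinearMap.ker E)) →ₗ[K] _) =
        LinearMap.id + (c - 1) • LinearMap.prodMap LinearMap.id 0 := by
      ext ⟨a, b⟩ <;> simp [sub_smul]
    rw [h3, map_add, map_smul, ← h1, LinearEquiv.conj_id]
    rfl
  rw [h2, LinearEquiv.conj_apply, LinearMap.comp_assoc, LinearMap.det_conj, LinearMap.det_prodMap,
    LinearMap.det_smul, LinearMap.det_id, LinearMap.det_id, mul_one, mul_one]

theorem scd_trace_idem (E : V →ₗ[K] V) (hE : IsIdempotentElem E) :
    LinearMap.trace K V E = (finrank K (LinearMap.range E) : K) := by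
  have hproj : LinearMap.IsProj (LinearMap.range E) E :=
    (LinearMap.isProj_range_iff_isIdempotentElem E).mpr hE
  exact hproj.trace

/-- determinant of a combination of pairwise orthogonal idempotents -/
theorem scd_det_family {ι : Type*} [DecidableEq ι] (E : ι → V →ₗ[K] V) (c : ι → K)
    (s : Finset ι) (hidem : ∀ i ∈ s, IsIdempotentElem (E i))
    (horth : ∀ i ∈ s, ∀ j ∈ s, i ≠ j → E i * E j = 0) :
    LinearMap.det (1 + ∑ i ∈ s, (c i - 1) • E i) =
      ∏ i ∈ s, c i ^ finrank K (LinearMap.range (E i)) := by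
  induction s using Finset.induction_on with
  | empty => simp
  | insert a s ha ih =>
    have h1 : (1 + ∑ i ∈ insert a s, (c i - 1) • E i : V →ₗ[K] V) =
        (1 + ∑ i ∈ s, (c i - 1) • E i) * (1 + (c a - 1) • E a) := by
      rw [Finset.sum_insert ha]
      have h2 : (∑ i ∈ s, (c i - 1) • E i) * E a = 0 := by
        rw [Finset.sum_mul]
        apply Finset.sum_eq_zero
        intro i hi
        rw [smul_mul_assoc, horth i (Finset.mem_insert_of_mem hi) a (Finset.mem_insert_self a s)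
          (by rintro rfl; exact ha hi), smul_zero]
      rw [mul_add, mul_one, add_mul, one_mul, mul_smul_comm, h2, smul_zero,
        add_zero]
      abel
    rw [h1, map_mul, ih (fun i hi => hidem i (Finset.mem_insert_of_mem hi))
      (fun i hi j hj => horth i (Finset.mem_insert_of_mem hi) j (Finset.mem_insert_of_mem hj)),
      scd_det_idem _ (hidem a (Finset.mem_insert_self a s)), Finset.prod_insert ha, mul_comm]

end ScDet

section ScCyclic

variable {K : Type*} [Field K] [CharZero K] {V : Type*} [AddCommGroup V] [Module K V]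
  [FiniteDimensional K V]

theorem scd_geom_zero {f : ℕ} (r : K) (hr : r ^ f = 1) (hr1 : r ≠ 1) :
    ∑ k ∈ Finset.range f, r ^ k = 0 := by
  have h1 := geom_sum_mul r f
  rw [hr, sub_self] at h1
  rcases mul_eq_zero.mp h1 with h2 | h2
  · exact h2
  · exact absurd (sub_eq_zero.mp h2) hr1

/-- the (unnormalised) spectral projection of a map of finite order -/
noncomputable def scdS (A : V →ₗ[K] V) (f : ℕ) (ζ : K) (j : ℕ) : V →ₗ[K] V :=
  ∑ k ∈ Finset.range f, ((ζ ^ j)⁻¹ • A) ^ k

variable {A : V →ₗ[K] V} {f : ℕ} {ζ : K}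

theorem scdS_mul_A (hf : 0 < f) (hA : A ^ f = 1) (hζ : IsPrimitiveRoot ζ f) (j : ℕ) :
    scdS A f ζ j * A = ζ ^ j • scdS A f ζ j := by
  have hz : ζ ^ j ≠ 0 := pow_ne_zero _ (hζ.ne_zero hf.ne')
  have hBf : ((ζ ^ j)⁻¹ • A) ^ f = 1 := by
    rw [smul_pow, hA, inv_pow, ← pow_mul, mul_comm, pow_mul, hζ.pow_eq_one, one_pow, inv_one,
      one_smul]
  have h1 := geom_sum_mul ((ζ ^ j)⁻¹ • A) f
  rw [hBf, sub_self, mul_sub, mul_one, sub_eq_zero] at h1
  have hA' : A = ζ ^ j • ((ζ ^ j)⁻¹ • A) := by rw [smul_smul, mul_inv_cancel₀ hz, one_smul]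
  unfold scdS
  calc (∑ k ∈ Finset.range f, ((ζ ^ j)⁻¹ • A) ^ k) * A
      = (∑ k ∈ Finset.range f, ((ζ ^ j)⁻¹ • A) ^ k) * (ζ ^ j • ((ζ ^ j)⁻¹ • A)) := by rw [← hA']
    _ = ζ ^ j • ((∑ k ∈ Finset.range f, ((ζ ^ j)⁻¹ • A) ^ k) * ((ζ ^ j)⁻¹ • A)) := by
        rw [mul_smul_comm]
    _ = ζ ^ j • ∑ k ∈ Finset.range f, ((ζ ^ j)⁻¹ • A) ^ k := by rw [h1]

theorem scdS_mul_pow (hf : 0 < f) (hA : A ^ f = 1) (hζ : IsPrimitiveRoot ζ f) (j k : ℕ) :
    scdS A f ζ j * A ^ k = (ζ ^ j) ^ k • scdS A f ζ j := by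
  induction k with
  | zero => simp
  | succ k ih =>
    rw [pow_succ, ← mul_assoc, ih, smul_mul_assoc, scdS_mul_A hf hA hζ, smul_smul, pow_succ]

theorem scdS_mul_scdS (hf : 0 < f) (hA : A ^ f = 1) (hζ : IsPrimitiveRoot ζ f) (i j : ℕ) :
    scdS A f ζ i * scdS A f ζ j =
      (∑ k ∈ Finset.range f, (ζ ^ i * (ζ ^ j)⁻¹) ^ k) • scdS A f ζ i := by
  conv_lhs => rw [scdS.eq_1 A f ζ j]
  rw [Finset.mul_sum, Finset.sum_smul]
  apply Finset.sum_congr rfl
  intro k _
  rw [smul_pow, mul_smul_comm, scdS_mul_pow hf hA hζ, smul_smul, mul_pow, mul_comm]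

theorem scdS_orth (hf : 0 < f) (hA : A ^ f = 1) (hζ : IsPrimitiveRoot ζ f) {i j : ℕ}
    (hi : i < f) (hj : j < f) (hij : i ≠ j) : scdS A f ζ i * scdS A f ζ j = 0 := by
  rw [scdS_mul_scdS hf hA hζ, scd_geom_zero, zero_smul]
  · rw [mul_pow, inv_pow, ← pow_mul, ← pow_mul, mul_comm i, mul_comm j, pow_mul, pow_mul,
      hζ.pow_eq_one, one_pow, one_pow, inv_one, mul_one]
  · intro h1
    have hz : ζ ^ j ≠ 0 := pow_ne_zero _ (hζ.ne_zero hf.ne')
    have h2 : ζ ^ i = ζ ^ j := by
      field_simp at h1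
      exact h1
    exact hij (hζ.pow_inj hi hj h2)

theorem scdS_sq (hf : 0 < f) (hA : A ^ f = 1) (hζ : IsPrimitiveRoot ζ f) (j : ℕ) :
    scdS A f ζ j * scdS A f ζ j = (f : K) • scdS A f ζ j := by
  have hz : ζ ^ j ≠ 0 := pow_ne_zero _ (hζ.ne_zero hf.ne')
  rw [scdS_mul_scdS hf hA hζ, mul_inv_cancel₀ hz]
  simp

theorem scdS_sum (hf : 0 < f) (hζ : IsPrimitiveRoot ζ f) :
    ∑ j ∈ Finset.range f, scdS A f ζ j = (f : K) • (1 : V →ₗ[K] V) := by
  unfold scdS
  rw [Finset.sum_comm]
  rw [Finset.sum_eq_single 0]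
  · simp only [pow_zero, Finset.sum_const, Finset.card_range]
    rw [Nat.cast_smul_eq_nsmul]
  · intro k hk hk0
    have hkf : k < f := Finset.mem_range.mp hk
    have h1 : ∀ j : ℕ, ((ζ ^ j)⁻¹ • A) ^ k = ((ζ ^ k)⁻¹) ^ j • A ^ k := by
      intro j
      rw [smul_pow, inv_pow, inv_pow, ← pow_mul, ← pow_mul, mul_comm]
    simp only [h1]
    rw [← Finset.sum_smul, scd_geom_zero, zero_smul]
    · rw [inv_pow, ← pow_mul, mul_comm, pow_mul, hζ.pow_eq_one, one_pow, inv_one]
    · intro h2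
      have h3 : ζ ^ k = 1 := by
        rw [← inv_inv (ζ ^ k), h2, inv_one]
      exact hζ.pow_ne_one_of_pos_of_lt (Nat.pos_of_ne_zero hk0).ne' hkf h3
  · intro h0
    exact absurd (Finset.mem_range.mpr hf) h0

theorem scdS_trace (hf : 0 < f)
    (htr : ∀ k, 0 < k → k < f → LinearMap.trace K V (A ^ k) = 0) (j : ℕ) :
    LinearMap.trace K V (scdS A f ζ j) = (finrank K V : K) := by
  unfold scdS
  rw [map_sum, Finset.sum_eq_single 0]
  · simp
  · intro k hk hk0
    rw [smul_pow, map_smul, htr k (Nat.pos_of_ne_zero hk0) (Finset.mem_range.mp hk), smul_zero]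
  · intro h0
    exact absurd (Finset.mem_range.mpr hf) h0

/-- determinant of a map of order dividing `f` whose proper powers are traceless -/
theorem scd_det (hf : 0 < f) (hA : A ^ f = 1) (hζ : IsPrimitiveRoot ζ f)
    (htr : ∀ k, 0 < k → k < f → LinearMap.trace K V (A ^ k) = 0) (m : ℕ)
    (hm : finrank K V = f * m) :
    LinearMap.det A = (∏ j ∈ Finset.range f, ζ ^ j) ^ m := by
  have hfK : (f : K) ≠ 0 := by exact_mod_cast hf.ne'
  set E : ℕ → V →ₗ[K] V := fun j => (f : K)⁻¹ • scdS A f ζ j with hE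
  have hidem : ∀ j ∈ Finset.range f, IsIdempotentElem (E j) := by
    intro j _
    unfold IsIdempotentElem
    simp only [hE]
    rw [smul_mul_smul_comm, scdS_sq hf hA hζ, smul_smul, mul_assoc, inv_mul_cancel₀ hfK, mul_one]
  have horth : ∀ i ∈ Finset.range f, ∀ j ∈ Finset.range f, i ≠ j → E i * E j = 0 := by
    intro i hi j hj hij
    simp only [hE]
    rw [smul_mul_smul_comm, scdS_orth hf hA hζ (Finset.mem_range.mp hi) (Finset.mem_range.mp hj) hij,
      smul_zero]
  have hsum : ∑ j ∈ Finset.range f, E j = 1 := by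
    simp only [hE]
    rw [← Finset.smul_sum, scdS_sum hf hζ, smul_smul, inv_mul_cancel₀ hfK, one_smul]
  have hrank : ∀ j ∈ Finset.range f, finrank K (LinearMap.range (E j)) = m := by
    intro j hj
    have h1 := scd_trace_idem (E j) (hidem j hj)
    simp only [hE] at h1
    rw [map_smul, scdS_trace hf htr, hm, smul_eq_mul] at h1
    push_cast at h1
    rw [← mul_assoc, inv_mul_cancel₀ hfK, one_mul] at h1
    exact_mod_cast h1.symm
  have hAE : A = 1 + ∑ j ∈ Finset.range f, (ζ ^ j - 1) • E j := by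
    have h1 : (∑ j ∈ Finset.range f, E j) * A = ∑ j ∈ Finset.range f, ζ ^ j • E j := by
      rw [Finset.sum_mul]
      apply Finset.sum_congr rfl
      intro j _
      simp only [hE]
      rw [smul_mul_assoc, scdS_mul_A hf hA hζ, smul_comm]
    rw [hsum, one_mul] at h1
    rw [h1]
    simp only [sub_smul, one_smul, Finset.sum_sub_distrib, hsum]
    abel
  rw [hAE, scd_det_family E (fun j => ζ ^ j) (Finset.range f) hidem horth, ← Finset.prod_pow]
  apply Finset.prod_congr rfl
  intro j hj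
  rw [hrank j hj]

/-- for `f` even and `m` odd the determinant is `-1` -/
theorem scd_det_neg_one (hf : 0 < f) (hfe : Even f) (hA : A ^ f = 1) (hζ : IsPrimitiveRoot ζ f)
    (htr : ∀ k, 0 < k → k < f → LinearMap.trace K V (A ^ k) = 0) (m : ℕ) (hmo : Odd m)
    (hm : finrank K V = f * m) : LinearMap.det A = -1 := by
  rw [scd_det hf hA hζ htr m hm, Finset.prod_pow_eq_pow_sum]
  obtain ⟨g, hg⟩ := hfe
  have hg0 : 0 < g := by omega
  have h2 : ζ ^ g = -1 := by
    have h3 : IsPrimitiveRoot (ζ ^ g) 2 := by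
      have := hζ.pow hf (show f = g * 2 by omega)
      exact this
    exact h3.eq_neg_one_of_two_right
  have h4 : ∑ j ∈ Finset.range f, j = g * (2 * g - 1) := by
    have h6 := Finset.sum_range_id_mul_two f
    have h7 : f * (f - 1) = (g * (2 * g - 1)) * 2 := by
      have : f - 1 = 2 * g - 1 := by omega
      rw [this, hg]
      ring
    rw [h7] at h6
    exact Nat.eq_of_mul_eq_mul_right (by norm_num) h6
  rw [h4, pow_mul, h2]
  have h5 : Odd (2 * g - 1) := by
    refine ⟨g - 1, by omega⟩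
  rw [h5.neg_one_pow, hmo.neg_one_pow]

end ScCyclic

end Cfsg.Agent.Lib.Helper29
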