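import Mathlib

/-!
A counting lemma on multiplicity vectors (used for characters of degree `p - 1`).
-/

set_option autoImplicit false

namespace Cfsg.Agent.Lib.Helper29

theorem scc_core {Θ : Type*} [Fintype Θ] [DecidableEq Θ] (θ₀ : Θ) (m : Θ → ℕ) (e p : ℕ)
    (hcard : Fintype.card Θ = p) (he2 : 2 ≤ e)
    (hsum : ∑ θ, m θ = p - 1)
    (hpair : ∀ θ θ', θ ≠ θ₀ → θ' ≠ θ₀ → m θ ≤ m θ' + 1)
    (hineq : ∀ θ, θ ≠ θ₀ → ((m θ : ℤ) - m θ₀) ^ 2 ≤ e)
    (horb : ∀ θ, θ ≠ θ₀ → e ≤ (Finset.univ.filter (fun θ' => θ' ≠ θ₀ ∧ m θ' = m θ)).card) :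
    m θ₀ = 0 ∧ ∀ θ, θ ≠ θ₀ → m θ = 1 := by
  set S := (Finset.univ : Finset Θ).erase θ₀ with hS
  have hScard : S.card = p - 1 := by
    rw [hS, Finset.card_erase_of_mem (Finset.mem_univ _), Finset.card_univ, hcard]
  have hsplit : m θ₀ + ∑ θ ∈ S, m θ = p - 1 := by
    rw [hS, Finset.add_sum_erase _ _ (Finset.mem_univ θ₀)]
    exact hsum
  have hmemS : ∀ θ, θ ∈ S ↔ θ ≠ θ₀ := by
    intro θ
    simp [hS]
  by_cases hA : ∀ θ ∈ S, 1 ≤ m θ
  · -- all multiplicities positive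
    have h1 : S.card • 1 ≤ ∑ θ ∈ S, m θ := Finset.card_nsmul_le_sum S m 1 hA
    rw [smul_eq_mul, mul_one, hScard] at h1
    have h0 : m θ₀ = 0 := by omega
    refine ⟨h0, ?_⟩
    have hsum1 : ∑ θ ∈ S, m θ = ∑ θ ∈ S, 1 := by
      rw [Finset.sum_const, smul_eq_mul, mul_one, hScard]
      omega
    have hall := (Finset.sum_eq_sum_iff_of_le (fun θ hθ => hA θ hθ)).mp hsum1.symm
    intro θ hθ
    exact (hall θ ((hmemS θ).mpr hθ)).symm
  · exfalso
    push Not at hA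
    obtain ⟨θ₁, hθ₁S, hθ₁⟩ := hA
    have hθ₁0 : m θ₁ = 0 := by omega
    have hθ₁ne : θ₁ ≠ θ₀ := (hmemS θ₁).mp hθ₁S
    have hle1 : ∀ θ ∈ S, m θ ≤ 1 := by
      intro θ hθ
      have := hpair θ θ₁ ((hmemS θ).mp hθ) hθ₁ne
      omega
    have hZ : e ≤ (S.filter (fun θ => m θ = 0)).card := by
      have h2 := horb θ₁ hθ₁ne
      have h3 : Finset.univ.filter (fun θ' => θ' ≠ θ₀ ∧ m θ' = m θ₁) =
          S.filter (fun θ => m θ = 0) := by
        ext θ
        simp only [Finset.mem_filter, Finset.mem_univ, true_and, hmemS, hθ₁0]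
      rwa [h3] at h2
    have hsumle : ∑ θ ∈ S, m θ ≤ (S.filter (fun θ => ¬ m θ = 0)).card := by
      rw [← Finset.sum_filter_add_sum_filter_not S (fun θ => m θ = 0)]
      have h4 : ∑ θ ∈ S.filter (fun θ => m θ = 0), m θ = 0 := by
        apply Finset.sum_eq_zero
        intro θ hθ
        exact (Finset.mem_filter.mp hθ).2
      rw [h4, zero_add]
      have h5 := Finset.sum_le_card_nsmul (S.filter (fun θ => ¬ m θ = 0)) m 1 (by
        intro θ hθ
        exact hle1 θ (Finset.mem_filter.mp hθ).1)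
      rwa [smul_eq_mul, mul_one] at h5
    have hcards := Finset.card_filter_add_card_filter_not (s := S) (fun θ => m θ = 0)
    have hge : e ≤ m θ₀ := by omega
    have h6 := hineq θ₁ hθ₁ne
    rw [hθ₁0] at h6
    have h7 : ((m θ₀ : ℤ)) ^ 2 ≤ e := by
      have : ((0 : ℕ) : ℤ) - (m θ₀ : ℤ) = -(m θ₀ : ℤ) := by simp
      rw [this, neg_sq] at h6
      exact h6
    have h8 : (e : ℤ) ≤ m θ₀ := by exact_mod_cast hge
    have h9 : (2 : ℤ) ≤ e := by exact_mod_cast he2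
    nlinarith

end Cfsg.Agent.Lib.Helper29
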