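import Mathlib
import Cfsg.Agent.Lib.Helper29.LeoStruct

/-!
The family of the principal character in the Brauer–Leonard setting: the induced difference
`(λ∘π - 1)^G` has norm `|N:C| + 1`.
-/

set_option autoImplicit false
open scoped ComplexConjugate
open Classical

namespace Cfsg.Agent.Lib.Helper29

open Cfsg.Agent.Lib.helper7 Cfsg.Agent.Lib.helper2 Cfsg.Agent.Lib.Helper25

section ScLeo

variable {G : Type*} [Group G] [Fintype G]
variable {p : ℕ} {C N P : Subgroup G} {hPC : P ≤ C} {π : ↥C →* ↥P}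

theorem leoCjI_triv (h : LeoSetup p C N P hPC π) (n : ↥N) :
    leoCjI h n (trivIrr ↥C) = trivIrr ↥C := by
  apply Subtype.ext
  funext c
  rw [leoCjI_coe, leoCj_apply C _ (h.hN n.2)]
  rfl

theorem leoOm_triv (h : LeoSetup p C N P hPC π) : leoOm h (trivIrr ↥C) = 1 := by
  apply leoOm_unique
  intro x
  simp

theorem leoOm_tw_triv (h : LeoSetup p C N P hPC π) (lam : ↥P →* ℂˣ) :
    leoOm h (leoTw (lam.comp π) (trivIrr ↥C)) = lam := by
  rw [leoOm_tw, leoOm_triv]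
  ext x
  simp

/-- restriction to `C` of the induced difference `(λ∘π - 1)^G` -/
theorem leo_triv_res (h : LeoSetup p C N P hPC π) (lam : ↥P →* ℂˣ) (hl : lam ≠ 1) (e : ℕ)
    (he : Nat.card ↥N = e * Nat.card ↥C) (c : ↥C) :
    Cfsg.indFun C (leoBeta (π := π) lam (trivIrr ↥C)) (c : G) =
      ∑ ϑ ∈ leoOrb h (leoTw (lam.comp π) (trivIrr ↥C)), (ϑ : ↥C → ℂ) c - (e : ℂ) := by
  have hθ'' : leoOm h (leoTw (lam.comp π) (trivIrr ↥C)) ≠ 1 := by
    rw [leoOm_tw_triv]; exact hl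
  rw [leo_ind_apply h _ (leoBeta_vanish lam _) c]
  have hne : (Nat.card ↥C : ℂ) ≠ 0 := by exact_mod_cast Nat.card_pos.ne'
  have h1 : ∀ n : ↥N, leoCj C (n : G) (leoBeta (π := π) lam (trivIrr ↥C)) c =
      (leoCjI h n (leoTw (lam.comp π) (trivIrr ↥C)) : ↥C → ℂ) c - 1 := by
    intro n
    unfold leoBeta
    rw [leoCj_sub, Pi.sub_apply]
    have h2 : leoCj C (n : G) ((trivIrr ↥C : Cfsg.IrrCharacter ↥C) : ↥C → ℂ) c = 1 := by
      rw [leoCj_apply C _ (h.hN n.2)]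
      rfl
    rw [h2]
    rfl
  simp only [h1, Finset.sum_sub_distrib]
  rw [leo_orbit_sum h _ hθ'' (fun ϑ => (ϑ : ↥C → ℂ) c)]
  simp only [nsmul_eq_mul, ← Finset.mul_sum, Finset.sum_const, Finset.card_univ, mul_one]
  rw [← Nat.card_eq_fintype_card, he]
  push_cast
  field_simp

/-- the norm of `(λ∘π - 1)^G` -/
theorem leo_triv_norm (h : LeoSetup p C N P hPC π) (lam : ↥P →* ℂˣ) (hl : lam ≠ 1) (e : ℕ)
    (he : Nat.card ↥N = e * Nat.card ↥C) :
    Cfsg.classInner (Cfsg.indFun C (leoBeta (π := π) lam (trivIrr ↥C)))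
      (Cfsg.indFun C (leoBeta (π := π) lam (trivIrr ↥C))) = (e : ℂ) + 1 := by
  have : Fintype (Cfsg.IrrCharacter ↥C) := Fintype.ofFinite _
  have hθ'' : leoOm h (leoTw (lam.comp π) (trivIrr ↥C)) ≠ 1 := by
    rw [leoOm_tw_triv]; exact hl
  rw [h7_frobenius_reciprocity C _ _ (leo_ind_classFunction lam _)]
  have hres : (fun c : ↥C => Cfsg.indFun C (leoBeta (π := π) lam (trivIrr ↥C)) (c : G)) =
      ∑ ϑ ∈ leoOrb h (leoTw (lam.comp π) (trivIrr ↥C)), (ϑ : ↥C → ℂ) -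
        (e : ℂ) • ((trivIrr ↥C : Cfsg.IrrCharacter ↥C) : ↥C → ℂ) := by
    funext c
    rw [leo_triv_res h lam hl e he c]
    simp only [Pi.sub_apply, Finset.sum_apply, Pi.smul_apply, trivIrr_apply, smul_eq_mul, mul_one]
  rw [hres]
  unfold leoBeta
  have htriv_not : trivIrr ↥C ∉ leoOrb h (leoTw (lam.comp π) (trivIrr ↥C)) := by
    intro hm
    exact leoOm_ne_one_of_mem_orb h hθ'' hm (leoOm_triv h)
  have hne : leoTw (lam.comp π) (trivIrr ↥C) ≠ trivIrr ↥C := by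
    intro heq
    apply hθ''
    rw [heq, leoOm_triv]
  rw [Cfsg.Agent.Lib.Helper25.classInner_sub_left, h7_classInner_sub_right,
    h7_classInner_sub_right, leo_classInner_irr_sum, leo_classInner_irr_sum,
    h7_classInner_smul_right, h7_classInner_smul_right, irr_classInner, irr_classInner,
    if_pos (self_mem_leoOrb h _), if_neg htriv_not, if_neg hne, if_pos rfl]
  simp
  ring

/-- Parseval for `(λ∘π - 1)^G` -/
theorem leo_triv_parseval (h : LeoSetup p C N P hPC π) (lam : ↥P →* ℂˣ) (hl : lam ≠ 1) (e : ℕ)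
    (he : Nat.card ↥N = e * Nat.card ↥C) [Fintype (Cfsg.IrrCharacter G)] :
    ∑ η : Cfsg.IrrCharacter G,
      ((leoM C (η : G → ℂ) (leoTw (lam.comp π) (trivIrr ↥C)) : ℤ) -
        (leoM C (η : G → ℂ) (trivIrr ↥C) : ℤ)) ^ 2 = (e : ℤ) + 1 := by
  set F := Cfsg.indFun C (leoBeta (π := π) lam (trivIrr ↥C)) with hF
  set d : Cfsg.IrrCharacter G → ℤ := fun η =>
    (leoM C (η : G → ℂ) (leoTw (lam.comp π) (trivIrr ↥C)) : ℤ) -
      (leoM C (η : G → ℂ) (trivIrr ↥C) : ℤ) with hd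
  have hinner : ∀ η : Cfsg.IrrCharacter G, Cfsg.classInner F (η : G → ℂ) = (d η : ℂ) := by
    intro η
    rw [hF, leo_ind_inner lam _ _ (isCharacter_of_irr η), hd]
    push_cast
    rfl
  have hnorm := leo_triv_norm h lam hl e he
  rw [Cfsg.Agent.Lib.Helper25.classInner_parseval F (leo_ind_classFunction lam _)] at hnorm
  simp only [hinner, map_intCast] at hnorm
  apply Int.cast_injective (α := ℂ)
  push_cast
  rw [← hnorm]
  apply Finset.sum_congr rfl
  intro η _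
  simp only [hd]
  push_cast
  ring

end ScLeo

end Cfsg.Agent.Lib.Helper29
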