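import Mathlib
import Cfsg.Agent.Lib.Helper29.ScLeo
import Cfsg.Agent.Lib.Helper29.ScGroup
import Cfsg.Agent.Lib.Helper29.ScCore

/-!
Characters of a group with a self-centralizing element of prime order: restriction of an
irreducible character of degree `p - 1` to `⟨x⟩`.
-/

set_option autoImplicit false
open scoped ComplexConjugate
open Classical

namespace Cfsg.Agent.Lib.Helper29

open Cfsg.Agent.Lib.helper7 Cfsg.Agent.Lib.helper2 Cfsg.Agent.Lib.Helper25

section ScChar

variable {G : Type*} [Group G] [Finite G] {p : ℕ} [hp : Fact p.Prime] {x : G}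

/-- the Brauer–Leonard setting with `C = P = ⟨x⟩` -/
theorem scc_setup (hx : orderOf x = p)
    (hC : Subgroup.centralizer ({x} : Set G) = Subgroup.zpowers x) :
    LeoSetup p (Subgroup.zpowers x)
      (Subgroup.normalizer ((Subgroup.zpowers x : Subgroup G) : Set G))
      (Subgroup.zpowers x) (le_refl _) (MonoidHom.id ↥(Subgroup.zpowers x)) := by
  have hpg : IsPGroup p ↥(Subgroup.zpowers x) :=
    IsPGroup.of_card (n := 1) (by rw [scg_card hx, pow_one])
  refine ⟨Subgroup.le_normalizer, le_refl _, le_refl _, fun y => rfl, ?_, ?_, ?_, hpg, ?_⟩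
  · intro y hy c hc
    exact scg_comm hy hc
  · intro n _ hnP y hy hfix
    by_contra hy1
    apply hnP
    rw [← scg_centralizer hx hC hy hy1, Subgroup.mem_centralizer_singleton_iff]
    calc n * y = n * y * n⁻¹ * n := by group
      _ = y * n := by rw [hfix]
  · intro g c c' hcc' hc
    have hc1 : (c : G) ≠ 1 := by
      intro h1
      apply hc
      exact Subtype.ext h1
    exact scg_ti hx c.2 hc1 (by rw [← hcc']; exact c'.2)
  · intro g hg y hy hmem
    by_contra hy1
    apply hg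
    obtain ⟨Ps, hPs⟩ := scg_exists_sylow hx hC
    have hz1 : g⁻¹ * y * g ≠ 1 := by
      intro h1
      apply hy1
      have : y = g * (g⁻¹ * y * g) * g⁻¹ := by group
      rw [this, h1]
      group
    have hzo : orderOf (g⁻¹ * y * g) = p := by
      have := MulEquiv.orderOf_eq (MulAut.conj g⁻¹) y
      rw [MulAut.conj_apply, inv_inv] at this
      rw [this, scg_order hx hy hy1]
    have hzpg : IsPGroup p ↥(Subgroup.zpowers (g⁻¹ * y * g)) :=
      IsPGroup.of_card (n := 1) (by rw [Nat.card_zpowers, hzo, pow_one])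
    have hle : Subgroup.zpowers (g⁻¹ * y * g) ≤
        Subgroup.normalizer ((Subgroup.zpowers x : Subgroup G) : Set G) :=
      Subgroup.zpowers_le.mpr hmem
    have hsup : IsPGroup p ↥(Subgroup.zpowers (g⁻¹ * y * g) ⊔ Subgroup.zpowers x) :=
      hzpg.to_sup_of_normal_right' hpg hle
    have heq : Subgroup.zpowers (g⁻¹ * y * g) ⊔ Subgroup.zpowers x = (Ps : Subgroup G) :=
      Ps.3 hsup (by rw [hPs]; exact le_sup_right)
    have hzP : g⁻¹ * y * g ∈ Subgroup.zpowers x := by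
      rw [← hPs, ← heq]
      exact Subgroup.mem_sup_left (Subgroup.mem_zpowers _)
    have h1 : g⁻¹ ∈ Subgroup.normalizer ((Subgroup.zpowers x : Subgroup G) : Set G) :=
      scg_ti hx hy hy1 (by rw [inv_inv]; exact hzP)
    have := Subgroup.inv_mem _ h1
    rwa [inv_inv] at this

omit [Finite G] hp in
theorem scc_deg_one (θ : Cfsg.IrrCharacter ↥(Subgroup.zpowers x)) :
    (θ : ↥(Subgroup.zpowers x) → ℂ) 1 = 1 := by
  let _ : CommGroup ↥(Subgroup.zpowers x) :=
    { (inferInstance : Group ↥(Subgroup.zpowers x)) with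
      mul_comm := fun a b => by
        obtain ⟨i, hi⟩ := Subgroup.mem_zpowers_iff.mp a.2
        obtain ⟨j, hj⟩ := Subgroup.mem_zpowers_iff.mp b.2
        apply Subtype.ext
        rw [Subgroup.coe_mul, Subgroup.coe_mul, ← hi, ← hj]
        exact (Commute.zpow_zpow_self x i j).eq }
  exact irr_one_of_comm θ

variable {N : Subgroup G}

/-- every irreducible character of `⟨x⟩` is its central character -/
theorem scc_irr_eq
    (h : LeoSetup p (Subgroup.zpowers x) N (Subgroup.zpowers x) (le_refl _)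
      (MonoidHom.id ↥(Subgroup.zpowers x)))
    (θ : Cfsg.IrrCharacter ↥(Subgroup.zpowers x)) :
    θ = leoTw ((leoOm h θ).comp (MonoidHom.id ↥(Subgroup.zpowers x)))
      (trivIrr ↥(Subgroup.zpowers x)) := by
  apply Subtype.ext
  funext c
  rw [leoTw_apply, trivIrr_apply, mul_one, MonoidHom.comp_apply, MonoidHom.id_apply]
  have := leoOm_apply_one h θ c
  rw [scc_deg_one, mul_one] at this
  rw [← this]
  rfl

theorem scc_om_ne_one
    (h : LeoSetup p (Subgroup.zpowers x) N (Subgroup.zpowers x) (le_refl _)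
      (MonoidHom.id ↥(Subgroup.zpowers x)))
    (θ : Cfsg.IrrCharacter ↥(Subgroup.zpowers x)) :
    leoOm h θ ≠ 1 ↔ θ ≠ trivIrr ↥(Subgroup.zpowers x) := by
  have : Fintype G := Fintype.ofFinite _
  constructor
  · intro h1 h2
    apply h1
    rw [h2, leoOm_triv]
  · intro h1 h2
    apply h1
    rw [scc_irr_eq h θ, h2]
    apply Subtype.ext
    funext c
    rw [leoTw_apply]
    simp

/-- there are exactly `p` irreducible characters of `⟨x⟩` -/
theorem scc_card_irr (hx : orderOf x = p)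
    (h : LeoSetup p (Subgroup.zpowers x) N (Subgroup.zpowers x) (le_refl _)
      (MonoidHom.id ↥(Subgroup.zpowers x))) :
    Nat.card (Cfsg.IrrCharacter ↥(Subgroup.zpowers x)) = p := by
  have : Fintype G := Fintype.ofFinite _
  rw [← scg_card hx, ← afd_card_dual (W := ↥(Subgroup.zpowers x))
    (fun a b => Subtype.ext (scg_comm a.2 b.2))]
  apply Nat.card_congr
  refine Equiv.ofBijective (fun θ => leoOm h θ) ⟨?_, ?_⟩
  · intro θ θ' hθ
    simp only [] at hθ
    rw [scc_irr_eq h θ, scc_irr_eq h θ', hθ]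
  · intro lam
    exact ⟨leoTw (lam.comp (MonoidHom.id _)) (trivIrr _), leoOm_tw_triv h lam⟩

end ScChar

section ScChar2

variable {G : Type*} [Group G] [Fintype G] {p : ℕ} [hp : Fact p.Prime] {x : G} {N : Subgroup G}

theorem scc_pairwise
    (h : LeoSetup p (Subgroup.zpowers x) N (Subgroup.zpowers x) (le_refl _)
      (MonoidHom.id ↥(Subgroup.zpowers x)))
    (χ : Cfsg.IrrCharacter G) (θ θ' : Cfsg.IrrCharacter ↥(Subgroup.zpowers x))
    (hθ : θ ≠ trivIrr ↥(Subgroup.zpowers x)) (hθ' : θ' ≠ trivIrr ↥(Subgroup.zpowers x)) :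
    leoM (Subgroup.zpowers x) (χ : G → ℂ) θ ≤ leoM (Subgroup.zpowers x) (χ : G → ℂ) θ' + 1 := by
  have hl : leoOm h θ * leoOm h (trivIrr ↥(Subgroup.zpowers x)) ≠ 1 := by
    rw [leoOm_triv]
    intro h1
    apply (scc_om_ne_one h θ).mpr hθ
    ext y
    have := DFunLike.congr_fun h1 y
    simpa using this
  have hl' : leoOm h θ' * leoOm h (trivIrr ↥(Subgroup.zpowers x)) ≠ 1 := by
    rw [leoOm_triv]
    intro h1
    apply (scc_om_ne_one h θ').mpr hθ'
    ext y
    have := DFunLike.congr_fun h1 y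
    simpa using this
  rcases leo_fam_shape h (trivIrr ↥(Subgroup.zpowers x)) (leoOm h θ) (leoOm h θ') hl hl' with
    ⟨_, heq⟩ | ⟨_, a, b, _, hshape, _⟩
  · have h1 := heq χ
    rw [← scc_irr_eq h θ, ← scc_irr_eq h θ'] at h1
    omega
  · have h1 := hshape χ
    rw [← scc_irr_eq h θ, ← scc_irr_eq h θ'] at h1
    rcases afInd_cases χ a with ⟨ha, _⟩ | ⟨ha, _⟩ <;> rcases afInd_cases χ b with ⟨hb, _⟩ | ⟨hb, _⟩ <;>
      rw [ha, hb] at h1 <;> omega

theorem scc_leoM_triv (θ : Cfsg.IrrCharacter ↥(Subgroup.zpowers x)) :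
    leoM (Subgroup.zpowers x) ((trivIrr G : Cfsg.IrrCharacter G) : G → ℂ) θ =
      if θ = trivIrr ↥(Subgroup.zpowers x) then 1 else 0 := by
  have h1 := leoM_spec (Subgroup.zpowers x) ((trivIrr G : Cfsg.IrrCharacter G) : G → ℂ)
    (isCharacter_of_irr _) θ
  have h2 : (fun c : ↥(Subgroup.zpowers x) => ((trivIrr G : Cfsg.IrrCharacter G) : G → ℂ) (c : G)) =
      ((trivIrr ↥(Subgroup.zpowers x) : Cfsg.IrrCharacter ↥(Subgroup.zpowers x)) :
        ↥(Subgroup.zpowers x) → ℂ) := rfl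
  rw [h2, irr_classInner] at h1
  split_ifs at h1 with h3
  · rw [if_pos h3.symm]
    exact_mod_cast h1.symm
  · rw [if_neg (fun h4 => h3 h4.symm)]
    exact_mod_cast h1.symm

theorem scc_ineq (hx : orderOf x = p)
    (h : LeoSetup p (Subgroup.zpowers x) N (Subgroup.zpowers x) (le_refl _)
      (MonoidHom.id ↥(Subgroup.zpowers x)))
    (χ : Cfsg.IrrCharacter G) (hχ : χ ≠ trivIrr G) (e : ℕ) (he : Nat.card ↥N = e * p)
    (θ : Cfsg.IrrCharacter ↥(Subgroup.zpowers x)) (hθ : θ ≠ trivIrr ↥(Subgroup.zpowers x)) :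
    ((leoM (Subgroup.zpowers x) (χ : G → ℂ) θ : ℤ) -
      (leoM (Subgroup.zpowers x) (χ : G → ℂ) (trivIrr ↥(Subgroup.zpowers x)) : ℤ)) ^ 2 ≤ e := by
  have : Fintype (Cfsg.IrrCharacter G) := Fintype.ofFinite _
  have hl : leoOm h θ ≠ 1 := (scc_om_ne_one h θ).mpr hθ
  have he' : Nat.card ↥N = e * Nat.card ↥(Subgroup.zpowers x) := by rw [scg_card hx, he]
  have hpar := leo_triv_parseval h (leoOm h θ) hl e he'
  rw [← scc_irr_eq h θ] at hpar
  have hsub : ∑ η ∈ ({trivIrr G, χ} : Finset (Cfsg.IrrCharacter G)),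
      ((leoM (Subgroup.zpowers x) (η : G → ℂ) θ : ℤ) -
        (leoM (Subgroup.zpowers x) (η : G → ℂ) (trivIrr ↥(Subgroup.zpowers x)) : ℤ)) ^ 2 ≤
      ∑ η : Cfsg.IrrCharacter G,
      ((leoM (Subgroup.zpowers x) (η : G → ℂ) θ : ℤ) -
        (leoM (Subgroup.zpowers x) (η : G → ℂ) (trivIrr ↥(Subgroup.zpowers x)) : ℤ)) ^ 2 :=
    Finset.sum_le_sum_of_subset_of_nonneg (Finset.subset_univ _) (fun _ _ _ => sq_nonneg _)
  rw [Finset.sum_pair (fun h1 => hχ h1.symm), hpar, scc_leoM_triv, scc_leoM_triv, if_neg hθ,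
    if_pos rfl] at hsub
  norm_num at hsub
  linarith

theorem scc_orbit (hx : orderOf x = p)
    (h : LeoSetup p (Subgroup.zpowers x) N (Subgroup.zpowers x) (le_refl _)
      (MonoidHom.id ↥(Subgroup.zpowers x)))
    [Fintype (Cfsg.IrrCharacter ↥(Subgroup.zpowers x))]
    (χ : Cfsg.IrrCharacter G) (e : ℕ) (he : Nat.card ↥N = e * p)
    (θ : Cfsg.IrrCharacter ↥(Subgroup.zpowers x)) (hθ : θ ≠ trivIrr ↥(Subgroup.zpowers x)) :
    e ≤ (Finset.univ.filter (fun θ' : Cfsg.IrrCharacter ↥(Subgroup.zpowers x) =>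
      θ' ≠ trivIrr ↥(Subgroup.zpowers x) ∧
      leoM (Subgroup.zpowers x) (χ : G → ℂ) θ' = leoM (Subgroup.zpowers x) (χ : G → ℂ) θ)).card := by
  have hl : leoOm h θ ≠ 1 := (scc_om_ne_one h θ).mpr hθ
  have hcard := leo_orbit_card h θ hl
  rw [scg_card hx, he] at hcard
  have hecard : (leoOrb h θ).card = e := Nat.eq_of_mul_eq_mul_right hp.out.pos hcard
  rw [← hecard]
  apply Finset.card_le_card
  intro θ' hθ'
  rw [Finset.mem_filter]
  refine ⟨Finset.mem_univ _, ?_, ?_⟩
  · exact (scc_om_ne_one h θ').mp (leoOm_ne_one_of_mem_orb h hl hθ')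
  · obtain ⟨n, hn⟩ := (mem_leoOrb h θ θ').mp hθ'
    rw [← hn, leoM_cj h _ (isCharacter_of_irr χ)]

/-- the restriction to `⟨x⟩` of an irreducible character of degree `p - 1` is the regular
character minus the principal character (when `|N : ⟨x⟩| ≥ 2`) -/
theorem scc_restrict (hx : orderOf x = p)
    (h : LeoSetup p (Subgroup.zpowers x) N (Subgroup.zpowers x) (le_refl _)
      (MonoidHom.id ↥(Subgroup.zpowers x)))
    (χ : Cfsg.IrrCharacter G) (hdeg : (χ : G → ℂ) 1 = (p : ℂ) - 1) (hp2 : p ≠ 2) (e : ℕ)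
    (he2 : 2 ≤ e) (he : Nat.card ↥N = e * p) :
    leoM (Subgroup.zpowers x) (χ : G → ℂ) (trivIrr ↥(Subgroup.zpowers x)) = 0 ∧
      ∀ θ : Cfsg.IrrCharacter ↥(Subgroup.zpowers x), θ ≠ trivIrr ↥(Subgroup.zpowers x) →
        leoM (Subgroup.zpowers x) (χ : G → ℂ) θ = 1 := by
  have : Fintype (Cfsg.IrrCharacter ↥(Subgroup.zpowers x)) := Fintype.ofFinite _
  have hp1 : 1 ≤ p := hp.out.pos
  have hχ : χ ≠ trivIrr G := by
    intro h1
    rw [h1, trivIrr_apply] at hdeg
    apply hp2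
    have h2 : ((2 : ℕ) : ℂ) = (p : ℂ) := by
      push_cast
      linear_combination hdeg
    exact (Nat.cast_injective h2).symm
  have hdegone : ∀ θ : Cfsg.IrrCharacter ↥(Subgroup.zpowers x), leoDeg θ = 1 := by
    intro θ
    have h1 := leoDeg_spec θ
    rw [scc_deg_one] at h1
    exact_mod_cast h1.symm
  have hsum : ∑ θ : Cfsg.IrrCharacter ↥(Subgroup.zpowers x),
      leoM (Subgroup.zpowers x) (χ : G → ℂ) θ = p - 1 := by
    have h1 := leo_degree (Subgroup.zpowers x) (χ : G → ℂ) (isCharacter_of_irr χ)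
    simp only [hdegone, mul_one] at h1
    rw [hdeg] at h1
    have h2 : ((p - 1 : ℕ) : ℂ) = (p : ℂ) - 1 := by
      rw [Nat.cast_sub hp1]
      simp
    rw [← h2] at h1
    exact (Nat.cast_injective h1).symm
  refine scc_core (trivIrr ↥(Subgroup.zpowers x))
    (fun θ => leoM (Subgroup.zpowers x) (χ : G → ℂ) θ) e p ?_ he2 hsum ?_ ?_ ?_
  · rw [← Nat.card_eq_fintype_card]
    exact scc_card_irr hx h
  · intro θ θ' hθ hθ'
    exact scc_pairwise h χ θ θ' hθ hθ'
  · intro θ hθ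
    exact scc_ineq hx h χ hχ e he θ hθ
  · intro θ hθ
    exact scc_orbit hx h χ e he θ hθ

end ScChar2

end Cfsg.Agent.Lib.Helper29
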