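import Mathlib
import Cfsg.Agent.S1528
import Cfsg.Agent.Lib.Helper29.ScChar

/-!
A character of `G` whose restriction to the self-centralizing subgroup `⟨x⟩` does not contain the
principal character vanishes on `N_G(⟨x⟩) ∖ ⟨x⟩`.
-/

set_option autoImplicit false
open scoped ComplexConjugate
open Classical

namespace Cfsg.Agent.Lib.Helper29

open Cfsg.Agent.Lib.helper7 Cfsg.Agent.Lib.helper2 Cfsg.Agent.Lib.Helper25

section ScVanishAux

variable {L : Type*} [Group L] [Fintype L]

/-- a function induced from a normal subgroup vanishes outside it -/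
theorem scv_indFun_vanish (H : Subgroup L) [hH : H.Normal]
    (φ : ↥H → ℂ) (l : L) (hl : l ∉ H) : Cfsg.indFun H φ l = 0 := by
  unfold Cfsg.indFun
  rw [Finset.sum_eq_zero, mul_zero]
  intro y _
  apply h7_extendByZero_not_mem
  intro hmem
  apply hl
  have := hH.conj_mem _ hmem y
  have h2 : y * (y⁻¹ * l * y) * y⁻¹ = l := by group
  rwa [h2] at this

/-- in a Frobenius group with kernel `H`, a character whose restriction to `H` does not contain the
principal character vanishes outside `H` -/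
theorem scv_aux (H : Subgroup L) [hH : H.Normal]
    (hfrob : ∀ n ∈ H, n ≠ 1 → Subgroup.centralizer ({n} : Set L) ≤ H)
    (ψ : L → ℂ) (hψ : Cfsg.IsCharacter L ψ) (hsum : ∑ y : ↥H, ψ (y : L) = 0)
    (l : L) (hl : l ∉ H) : ψ l = 0 := by
  have : Fintype (Cfsg.IrrCharacter L) := Fintype.ofFinite _
  obtain ⟨c, hc, hexp⟩ := isCharacter_expansion hψ
  have hcard0 : (Nat.card ↥H : ℂ) ≠ 0 := by
    have : 0 < Nat.card ↥H := Nat.card_pos
    exact_mod_cast this.ne'
  have hk : ∀ ξ : Cfsg.IrrCharacter L, ∃ k : ℕ,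
      ∑ y : ↥H, (ξ : L → ℂ) (y : L) = (Nat.card ↥H : ℂ) * (k : ℂ) := by
    intro ξ
    obtain ⟨k, hk⟩ := classInner_character_nat
      (isCharacter_restrict (isCharacter_of_irr ξ) H) (isCharacter_of_irr (trivIrr ↥H))
    refine ⟨k, ?_⟩
    unfold Cfsg.classInner at hk
    simp only [trivIrr_apply, map_one, mul_one] at hk
    rw [← hk]
    field_simp
  choose k hk using hk
  have hck : ∑ ξ, c ξ * k ξ = 0 := by
    have h1 : ∑ y : ↥H, ψ (y : L) = (Nat.card ↥H : ℂ) * ((∑ ξ, c ξ * k ξ : ℕ) : ℂ) := by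
      have h2 : ∀ y : ↥H, ψ (y : L) = ∑ ξ, (c ξ : ℂ) * (ξ : L → ℂ) (y : L) := by
        intro y
        have := congrFun hexp (y : L)
        simp only [Finset.sum_apply, Pi.smul_apply, smul_eq_mul] at this
        exact this
      simp only [h2]
      rw [Finset.sum_comm]
      simp only [← Finset.mul_sum, hk]
      push_cast
      rw [Finset.mul_sum]
      apply Finset.sum_congr rfl
      intro ξ _
      ring
    rw [hsum] at h1
    rcases mul_eq_zero.mp h1.symm with h3 | h3
    · exact absurd h3 hcard0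
    · exact_mod_cast h3
  have hvan : ∀ ξ : Cfsg.IrrCharacter L, c ξ ≠ 0 → (ξ : L → ℂ) l = 0 := by
    intro ξ hcξ
    have hkξ : k ξ = 0 := by
      have h1 := (Finset.sum_eq_zero_iff.mp hck) ξ (Finset.mem_univ _)
      rcases Nat.mul_eq_zero.mp h1 with h2 | h2
      · exact absurd h2 hcξ
      · exact h2
    have hker : ∃ h' ∈ H, (ξ : L → ℂ) h' ≠ (ξ : L → ℂ) 1 := by
      by_contra hcon
      push Not at hcon
      have h1 := hk ξ
      rw [hkξ, Nat.cast_zero, mul_zero] at h1
      have h2 : ∑ y : ↥H, (ξ : L → ℂ) (y : L) = (Nat.card ↥H : ℂ) * (ξ : L → ℂ) 1 := by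
        have h3 : ∀ y : ↥H, (ξ : L → ℂ) (y : L) = (ξ : L → ℂ) 1 := fun y => hcon (y : L) y.2
        simp only [h3]
        rw [Finset.sum_const, Finset.card_univ, nsmul_eq_mul, Nat.card_eq_fintype_card]
      rw [h1] at h2
      rcases mul_eq_zero.mp h2.symm with h3 | h3
      · exact hcard0 h3
      · exact irr_one_ne_zero ξ h3
    obtain ⟨φ, -, hφ⟩ := Cfsg.Agent.S1528.result H hfrob (ξ : L → ℂ) ξ.2 hker
    rw [hφ]
    exact scv_indFun_vanish H φ l hl
  have hfin := congrFun hexp l
  simp only [Finset.sum_apply, Pi.smul_apply, smul_eq_mul] at hfin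
  rw [hfin]
  apply Finset.sum_eq_zero
  intro ξ _
  by_cases hcξ : c ξ = 0
  · rw [hcξ, Nat.cast_zero, zero_mul]
  · rw [hvan ξ hcξ, mul_zero]

end ScVanishAux

section ScVanish

variable {G : Type*} [Group G] [Fintype G] {p : ℕ} [hp : Fact p.Prime] {x : G}

theorem scv_vanish (hx : orderOf x = p)
    (hC : Subgroup.centralizer ({x} : Set G) = Subgroup.zpowers x)
    (χ : Cfsg.IrrCharacter G)
    (hm : leoM (Subgroup.zpowers x) (χ : G → ℂ) (trivIrr ↥(Subgroup.zpowers x)) = 0)
    (n : G) (hn : n ∈ Subgroup.normalizer ((Subgroup.zpowers x : Subgroup G) : Set G))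
    (hnP : n ∉ Subgroup.zpowers x) : (χ : G → ℂ) n = 0 := by
  have hle : Subgroup.zpowers x ≤ Subgroup.normalizer ((Subgroup.zpowers x : Subgroup G) : Set G) :=
    Subgroup.le_normalizer
  have hfrob : ∀ n' ∈ (Subgroup.zpowers x).subgroupOf
      (Subgroup.normalizer ((Subgroup.zpowers x : Subgroup G) : Set G)), n' ≠ 1 →
      Subgroup.centralizer ({n'} : Set ↥(Subgroup.normalizer
        ((Subgroup.zpowers x : Subgroup G) : Set G))) ≤
      (Subgroup.zpowers x).subgroupOf
        (Subgroup.normalizer ((Subgroup.zpowers x : Subgroup G) : Set G)) := by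
    intro n' hn' hn'1 g hg
    rw [Subgroup.mem_subgroupOf] at hn' ⊢
    have hn'1' : (n' : G) ≠ 1 := by
      intro h1
      exact hn'1 (Subtype.ext h1)
    suffices h : (g : G) ∈ Subgroup.centralizer ({(n' : G)} : Set G) by
      rwa [scg_centralizer hx hC hn' hn'1'] at h
    rw [Subgroup.mem_centralizer_singleton_iff]
    rw [Subgroup.mem_centralizer_singleton_iff] at hg
    exact congrArg Subtype.val hg
  have hψ := isCharacter_restrict (isCharacter_of_irr χ)
    (Subgroup.normalizer ((Subgroup.zpowers x : Subgroup G) : Set G))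
  have hsumP : ∑ y : ↥(Subgroup.zpowers x), (χ : G → ℂ) (y : G) = 0 := by
    have h1 := leoM_spec (Subgroup.zpowers x) (χ : G → ℂ) (isCharacter_of_irr χ)
      (trivIrr ↥(Subgroup.zpowers x))
    rw [hm] at h1
    unfold Cfsg.classInner at h1
    simp only [trivIrr_apply, map_one, mul_one, Nat.cast_zero] at h1
    rcases mul_eq_zero.mp h1 with h2 | h2
    · exfalso
      have h3 : 0 < Nat.card ↥(Subgroup.zpowers x) := Nat.card_pos
      have : (Nat.card ↥(Subgroup.zpowers x) : ℂ) ≠ 0 := by exact_mod_cast h3.ne'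
      exact this (inv_eq_zero.mp h2)
    · exact h2
  have hsumH : ∑ y : ↥((Subgroup.zpowers x).subgroupOf
      (Subgroup.normalizer ((Subgroup.zpowers x : Subgroup G) : Set G))),
      (fun l : ↥(Subgroup.normalizer ((Subgroup.zpowers x : Subgroup G) : Set G)) =>
        (χ : G → ℂ) (l : G))
      (y : ↥(Subgroup.normalizer ((Subgroup.zpowers x : Subgroup G) : Set G))) = 0 := by
    rw [← hsumP]
    apply Fintype.sum_equiv (Subgroup.subgroupOfEquivOfLe hle).toEquiv
    intro y
    rw [MulEquiv.toEquiv_eq_coe, MulEquiv.coe_toEquiv, Subgroup.subgroupOfEquivOfLe_apply_coe]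
  have := scv_aux ((Subgroup.zpowers x).subgroupOf
    (Subgroup.normalizer ((Subgroup.zpowers x : Subgroup G) : Set G))) hfrob _ hψ hsumH
    ⟨n, hn⟩ (by rw [Subgroup.mem_subgroupOf]; exact hnP)
  exact this

end ScVanish

end Cfsg.Agent.Lib.Helper29
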