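import Mathlib
import Cfsg.Agent.Lib.helper7.CEU.Defs
import Cfsg.Agent.Lib.Helper27.STU.Defs3
import Cfsg.Agent.Lib.Helper24.STCI1

/-!
# CEU T9b (helper29): `HCl_of_HTl`, verbatim from helper7's `CEU/Skel1`

Case analysis: `c = a` (`t5`); `d = ng a` (`S.sym`: `xs c (ng a) u = xs a (ng c) _`, then `t5`); otherwise `t6`.
-/

set_option autoImplicit false

namespace Cfsg.Agent.Lib.helper7.CEU

open Cfsg.Agent.Lib.helper15.St2 Cfsg.Agent.Lib.helper7.Ce Cfsg.Agent.Lib.helper3.STC Cfsg.Agent.Lib.Helper27.STU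

open Cfsg.Agent.Lib.helper7.CEC (I2 I3 I4 U2 U3)

section T

variable {F : Type*} [Field F] [StarRing F] {od : Prop} {ι : Type*} {Γ G : Type*} [Group Γ] [Group G] {S : SysU F od ι G} {σ : Γ →* G}

/-- `ab x ≠ ab y` from `x ≠ y` and `x ≠ ng y` -/
theorem ceut9b_ab_ne {x y : ι ⊕ ι} (h1 : x ≠ y) (h2 : x ≠ ng y) : ab x ≠ ab y := fun h =>
  (ab_eq_iff.1 h).elim h1 h2

/-- T9 [S-M]  `c = a`: `t5`; `d = ng a`: `S.sym` (`xs c (ng a) u = xs a (ng c) _`), `t5`; else `t6`. -/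
theorem HCl_of_HTl (hT : HTl S σ) : HCl S σ := by
  intro a c d hcd hcd' hca hda ξ u
  by_cases h1 : c = a
  · subst h1
    exact hT.t5 c d (ceut9b_ab_ne hcd hcd') ξ u
  · by_cases h2 : d = ng a
    · subst h2
      rw [S.sym c (ng a) hcd hcd' u, ng_ng]
      refine hT.t5 a (ng c) ?_ ξ _
      rw [ab_ng]
      refine ceut9b_ab_ne (fun h => h1 h.symm) (fun h => hca ?_)
      rw [h, ng_ng]
    · refine hT.t6 a c d (ceut9b_ab_ne hcd hcd') (ceut9b_ab_ne (fun h => h1 h.symm) ?_)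
        (ceut9b_ab_ne (fun h => hda h.symm) ?_) ξ u
      · intro h
        exact hca (by rw [h, ng_ng])
      · intro h
        exact h2 (by rw [h, ng_ng])

end T

end Cfsg.Agent.Lib.helper7.CEU
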