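import Mathlib
import Cfsg.Agent.Lib.Helper13.OTS.Defs

set_option autoImplicit false
set_option linter.unusedVariables false
set_option linter.unusedSectionVars false

/-!
# Project OTS (S5973 + S5987; designer helper13), row ARITHEX: a second copy of `q_arith_ex` under the name `otsarithex_h29` (helper29).
-/

namespace Cfsg.Agent.Lib.Helper13.OTS

/-- ARITHEX (same statement as `q_arith_ex` of the Skel) -/
theorem otsarithex_h29 (i c d m : ℕ) (ε : ℤ) (hi : 1 ≤ i) (hc : c = if Even i then i else 2 * i)
    (hε : ε = 1 ∨ ε = -1) (hm : m + 1 ≤ d) (hj : HJi i d m ε) :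
    c + FMin i c d ε ≤ 2 * d ∧ c ∣ 2 * d - FMin i c d ε ∧ Even (FMin i c d ε) ∧
      (FMin i c d ε = 0 → ε = SCy i (2 * d)) := by
  have hc1 : 1 ≤ c := by rw [hc]; split_ifs <;> omega
  have hceven : Even c := by
    rw [hc]; split_ifs with h
    · exact h
    · exact even_two_mul i
  have hnN : c * (2 * d / c) + (2 * d) % c = 2 * d := Nat.div_add_mod (2 * d) c
  have hk : (2 * d) % c < c := Nat.mod_lt _ hc1
  obtain ⟨j, hjm, halt⟩ := hj
  have hle : c ≤ 2 * d := by
    by_cases hie : Even i
    · rw [if_pos hie] at hc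
      obtain ⟨i2, hi2⟩ := hie
      rcases halt with ⟨_, hdvd | ⟨_, hmod⟩⟩ | ⟨_, ⟨_, hmod⟩ | hdvd⟩
      · have := Nat.le_of_dvd (by omega) hdvd; omega
      · have := Nat.mod_le (d - 1 - j) i; omega
      · have := Nat.mod_le (d - j) i; omega
      · have := Nat.le_of_dvd (by omega) hdvd; omega
    · rw [if_neg hie] at hc
      rcases halt with ⟨_, hdvd | ⟨hie', _⟩⟩ | ⟨_, ⟨hie', _⟩ | hdvd⟩
      · have := Nat.le_of_dvd (by omega) hdvd; omega
      · exact absurd hie' hie
      · exact absurd hie' hie
      · have := Nat.le_of_dvd (by omega) hdvd; omega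
  have hN1 : 1 ≤ 2 * d / c := (Nat.one_le_div_iff hc1).mpr hle
  have hbad : 2 * d = c → ¬ (ε = 1 ↔ (Odd i ∨ Even ((2 * d) / i))) → False := by
    intro hcd hcond
    by_cases hie : Even i
    · rw [if_pos hie] at hc
      have hNi : 2 * d / i = 1 := by rw [hcd, hc]; exact Nat.div_self (by omega)
      rw [hNi] at hcond
      have hio : ¬ Odd i := Nat.not_odd_iff_even.mpr hie
      have he1 : ε = 1 := by
        by_contra hne
        apply hcond
        constructor
        · intro h; exact absurd h hne
        · rintro (h | h)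
          · exact absurd h hio
          · exact absurd h (by decide)
      rcases halt with ⟨_, hdvd | ⟨_, hmod⟩⟩ | ⟨hem, _⟩
      · have := Nat.le_of_dvd (by omega) hdvd; omega
      · have h1 : (d - 1 - j) % i = d - 1 - j := Nat.mod_eq_of_lt (by omega)
        rw [h1] at hmod
        omega
      · rw [he1] at hem; norm_num at hem
    · rw [if_neg hie] at hc
      have hio : Odd i := Nat.not_even_iff_odd.mp hie
      have hem : ε = -1 := by
        rcases hε with h | h
        · exfalso; apply hcond; constructor
          · intro _; exact Or.inl hio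
          · intro _; exact h
        · exact h
      rcases halt with ⟨he1, _⟩ | ⟨_, ⟨hie', _⟩ | hdvd⟩
      · rw [hem] at he1; norm_num at he1
      · exact absurd hie' hie
      · have := Nat.le_of_dvd (by omega) hdvd; omega
  unfold FMin
  split_ifs with hbr
  · obtain ⟨hk0, hcond⟩ := hbr
    have hN2 : 2 ≤ 2 * d / c := by
      by_contra hlt
      have hN : 2 * d / c = 1 := by omega
      rw [hN, hk0] at hnN
      exact hbad (by omega) hcond
    have h2c : c * 2 ≤ c * (2 * d / c) := Nat.mul_le_mul_left _ hN2
    refine ⟨by omega, ?_, hceven, fun h0 => absurd h0 (by omega)⟩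
    refine ⟨2 * d / c - 1, ?_⟩
    have : c * (2 * d / c - 1) + c = c * (2 * d / c) := by
      rw [← Nat.mul_succ]; congr 1; omega
    omega
  · have hcN : c ≤ c * (2 * d / c) := Nat.le_mul_of_pos_right c hN1
    refine ⟨by omega, ⟨2 * d / c, by omega⟩, ?_, ?_⟩
    · have h1 : Even (c * (2 * d / c)) := hceven.mul_right _
      have h2 : Even (2 * d) := even_two_mul d
      rw [← hnN] at h2
      exact (Nat.even_add.mp h2).mp h1
    · intro hk0
      have hcond : (ε = 1 ↔ (Odd i ∨ Even ((2 * d) / i))) := by
        by_contra hne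
        exact hbr ⟨hk0, hne⟩
      unfold SCy
      split_ifs with hX
      · exact hcond.mpr hX
      · rcases hε with h | h
        · exact absurd (hcond.mp h) hX
        · exact h

end Cfsg.Agent.Lib.Helper13.OTS
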