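import Mathlib
import Cfsg.Agent.Lib.helper23.P4S.DefsC

set_option autoImplicit false

/-!
# Project P4C (S3466, designer helper23), row NORM: `norm_surj` (helper29).
-/

namespace Cfsg.Agent.Lib.helper23.P4S

open Matrix
open scoped Kronecker

/-- NORM [M]: `x ↦ x^(q+1)` is onto the fixed field of `x ↦ x^q`. -/
theorem norm_surj {E : Type} [Field E] [Fintype E] (q : ℕ) (hq : 1 ≤ q) (hE : Fintype.card E = q ^ 2) (c : E) (hc : c ^ q = c) :
    ∃ s : E, s ^ (q + 1) = c := by
  classical
  by_cases hc0 : c = 0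
  · exact ⟨0, by rw [hc0, zero_pow (by omega)]⟩
  · have hq2 : 2 ≤ q := by
      have h1 : 1 < Fintype.card E := Fintype.one_lt_card
      rw [hE] at h1
      by_contra h
      have : q = 1 := by omega
      rw [this] at h1
      norm_num at h1
    obtain ⟨g, hg⟩ := IsCyclic.exists_monoid_generator (α := Eˣ)
    have hgo : orderOf g = q ^ 2 - 1 := by
      rw [orderOf_eq_card_of_forall_mem_zpowers (fun y => Submonoid.powers_le_zpowers g (hg y)),
        Nat.card_eq_fintype_card, Fintype.card_units, hE]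
    obtain ⟨i, hi⟩ := (Submonoid.mem_powers_iff _ _).mp (hg (Units.mk0 c hc0))
    have hc1 : c ^ (q - 1) = 1 := by
      have h1 : c ^ (q - 1) * c = c := by
        rw [← pow_succ, Nat.sub_add_cancel hq]; exact hc
      have h2 : c ^ (q - 1) * c = 1 * c := by rw [h1, one_mul]
      exact mul_right_cancel₀ hc0 h2
    have h3 : g ^ (i * (q - 1)) = 1 := by
      rw [pow_mul, hi]
      apply Units.ext
      simpa using hc1
    have h4 : (q ^ 2 - 1) ∣ i * (q - 1) := by
      rw [← hgo]; exact orderOf_dvd_of_pow_eq_one h3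
    have hfac : q ^ 2 - 1 = (q + 1) * (q - 1) := by
      obtain ⟨r, rfl⟩ : ∃ r, q = r + 1 := ⟨q - 1, by omega⟩
      simp only [Nat.add_sub_cancel]
      have : (r + 1) ^ 2 = (r + 1 + 1) * r + 1 := by ring
      rw [this, Nat.add_sub_cancel]
    rw [hfac] at h4
    have h5 : (q + 1) ∣ i := Nat.dvd_of_mul_dvd_mul_right (by omega) h4
    obtain ⟨e, he⟩ := h5
    refine ⟨((g ^ e : Eˣ) : E), ?_⟩
    have : (g ^ e) ^ (q + 1) = Units.mk0 c hc0 := by
      rw [← pow_mul, mul_comm, ← he, hi]
    have h6 := congrArg (fun u : Eˣ => (u : E)) this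
    simpa using h6

end Cfsg.Agent.Lib.helper23.P4S
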