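import Cfsg.Agent.Lib.helper17.SLP.Defs

/-!
# SLP row F2B (helper29): `aeval_Y_surjective`

`Y := ((ζ - ζ⁻¹)/2)²`, `ρ := ζ²`: `4 Y + 2 = ρ + ρ⁻¹`.  `K := (ZMod p)⟮Y⟯` is a finite field with
`r = p^d` elements, every `y ∈ K` satisfies `y^r = y`, the map `y ↦ y^r` is additive on `F`; so
`ρ^r + ρ^(-r) = ρ + ρ⁻¹`, hence `ρ^r = ρ` or `ρ^r = ρ⁻¹`: `q - 1 = orderOf ζ` divides `2 (r - 1)` or
`2 (r + 1)`, so `q ≤ 2 r + 3`; `r ∣ q`, both are powers of `p ≥ 3`, and `q > 9` force `r = q`.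
-/

set_option autoImplicit false

namespace Cfsg.Agent.Lib.helper17.SLP

open Polynomial

universe u v

/-- numeric heart: `r = p^d`, `q = p^m`, `3 ≤ p`, `1 ≤ d`, `r ∣ q`, `q ≤ 2r+3`, `9 < q` force `r = q`. -/
theorem slpf2b_num (p d m r q : ℕ) (hp3 : 3 ≤ p) (hd : 1 ≤ d) (hr : r = p ^ d) (hqm : q = p ^ m)
    (hdvd : r ∣ q) (hle : q ≤ 2 * r + 3) (hq : 9 < q) : r = q := by
  subst hr hqm
  have hp1 : 1 < p := by omega
  have hdm : d ≤ m := (Nat.pow_dvd_pow_iff_le_right hp1).1 hdvd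
  rcases Nat.eq_or_lt_of_le hdm with h | h
  · rw [h]
  · exfalso
    have h1 : p ^ (d + 1) ≤ p ^ m := Nat.pow_le_pow_right (by omega) h
    have h2 : p ^ (d + 1) = p ^ d * p := pow_succ p d
    have h3 : 3 ≤ p ^ d := by
      calc 3 ≤ p := hp3
        _ = p ^ 1 := (pow_one p).symm
        _ ≤ p ^ d := Nat.pow_le_pow_right (by omega) hd
    have h4 : p ^ d * 3 ≤ p ^ d * p := Nat.mul_le_mul_left _ hp3
    omega

/-- from `x + x⁻¹ = ρ + ρ⁻¹` (`x, ρ ≠ 0`): `x = ρ` or `x = ρ⁻¹`. -/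
theorem slpf2b_quad {F : Type*} [Field F] (x ρ : F) (hx : x ≠ 0) (hρ : ρ ≠ 0)
    (h : x + x⁻¹ = ρ + ρ⁻¹) : x = ρ ∨ x = ρ⁻¹ := by
  have h1 : (x - ρ) * (x - ρ⁻¹) = 0 := by
    have : (x - ρ) * (x - ρ⁻¹) = x * ((x + x⁻¹) - (ρ + ρ⁻¹)) := by
      field_simp
      ring
    rw [this, h, sub_self, mul_zero]
  rcases mul_eq_zero.1 h1 with h2 | h2
  · left; exact sub_eq_zero.1 h2
  · right; exact sub_eq_zero.1 h2

/-- `4 Y + 2 = z² + z⁻²` for `Y = ((z - z⁻¹)/2)²`. -/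
theorem slpf2b_Y {F : Type*} [Field F] (z : F) (hz : z ≠ 0) (h2 : (2 : F) ≠ 0) :
    4 * ((z - z⁻¹) / 2) ^ 2 + 2 = z ^ 2 + (z ^ 2)⁻¹ := by
  field_simp
  ring

/-- the order bound: `ζ` generates `Fˣ`, `ρ = ζ²`, `ρ^r = ρ` or `ρ^r = ρ⁻¹`, `2 ≤ r`: `q ≤ 2 r + 3`. -/
theorem slpf2b_bound {F : Type*} [Field F] [Fintype F] (ζ : Fˣ)
    (hζ : ∀ y : Fˣ, y ∈ Subgroup.zpowers ζ) (r : ℕ) (hr : 2 ≤ r)
    (h : ((ζ : F) ^ 2) ^ r = (ζ : F) ^ 2 ∨ ((ζ : F) ^ 2) ^ r = ((ζ : F) ^ 2)⁻¹) :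
    Fintype.card F ≤ 2 * r + 3 := by
  classical
  have hord : orderOf ζ = Fintype.card F - 1 := by
    rw [orderOf_eq_card_of_forall_mem_zpowers hζ, Nat.card_eq_fintype_card, Fintype.card_units]
  rcases h with h | h
  · have h1 : ζ ^ (2 * (r - 1)) = 1 := by
      have h2 : (ζ ^ 2) ^ r = ζ ^ 2 := by
        apply Units.ext
        push_cast
        exact h
      have h3 : (ζ ^ 2) ^ (r - 1) * ζ ^ 2 = ζ ^ 2 := by
        rw [← pow_succ, Nat.sub_add_cancel (by omega), h2]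
      rw [pow_mul]
      exact mul_eq_right.1 h3
    have h4 := orderOf_dvd_of_pow_eq_one h1
    rw [hord] at h4
    have h5 := Nat.le_of_dvd (by omega) h4
    omega
  · have h1 : ζ ^ (2 * (r + 1)) = 1 := by
      have h2 : (ζ ^ 2) ^ r = (ζ ^ 2)⁻¹ := by
        apply Units.ext
        push_cast
        exact h
      rw [pow_mul, pow_succ, h2, inv_mul_cancel]
    have h4 := orderOf_dvd_of_pow_eq_one h1
    rw [hord] at h4
    have h5 := Nat.le_of_dvd (by omega) h4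
    omega

/-- `(2 : F) ≠ 0` in a `ZMod p`-algebra field `F`, `p ≠ 2`. -/
theorem slpf2b_two_ne_zero {F : Type*} [Field F] (p : ℕ) [Fact p.Prime] [Algebra (ZMod p) F]
    (hp : p ≠ 2) : (2 : F) ≠ 0 := by
  have : CharP F p := charP_of_injective_algebraMap (algebraMap (ZMod p) F).injective p
  intro h
  have h1 : ((2 : ℕ) : F) = 0 := by exact_mod_cast h
  rw [CharP.cast_eq_zero_iff F p] at h1
  exact hp ((Nat.prime_dvd_prime_iff_eq (Fact.out) Nat.prime_two).1 h1)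

/-- F2B: `aeval Y` is surjective, `Y = ((ζ - ζ⁻¹)/2)²`. -/
theorem aeval_Y_surjective {F : Type*} [Field F] [Fintype F] (p : ℕ) [Fact p.Prime] [Algebra (ZMod p) F]
    (hp : p ≠ 2) (hq : 9 < Fintype.card F) (ζ : Fˣ) (hζ : ∀ y : Fˣ, y ∈ Subgroup.zpowers ζ) :
    Function.Surjective
      (fun f : (ZMod p)[X] => aeval ((((ζ : F) - (ζ : F)⁻¹) / 2) ^ 2) f) := by
  classical
  have hpp : p.Prime := Fact.out
  have hp3 : 3 ≤ p := by
    have := hpp.two_le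
    omega
  have hcF : CharP F p := charP_of_injective_algebraMap (algebraMap (ZMod p) F).injective p
  have h2 : (2 : F) ≠ 0 := slpf2b_two_ne_zero p hp
  set Y : F := (((ζ : F) - (ζ : F)⁻¹) / 2) ^ 2 with hY
  let K : IntermediateField (ZMod p) F := IntermediateField.adjoin (ZMod p) {Y}
  have hK : K.toSubalgebra = (aeval Y).range := by
    rw [← Algebra.adjoin_singleton_eq_range_aeval]
    exact IntermediateField.adjoin_simple_toSubalgebra_of_isAlgebraic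
      (IsAlgebraic.of_finite (ZMod p) Y)
  suffices h : K = ⊤ by
    intro x
    have hx : x ∈ K.toSubalgebra := by rw [h]; trivial
    rw [hK] at hx
    exact hx
  haveI : Fintype K := Fintype.ofFinite K
  have hcK : CharP K p := charP_of_injective_algebraMap (algebraMap (ZMod p) K).injective p
  obtain ⟨d, -, hd⟩ := FiniteField.card K p
  obtain ⟨m, -, hm⟩ := FiniteField.card F p
  set r := Fintype.card K with hr
  have hYK : Y ∈ K := IntermediateField.mem_adjoin_simple_self (ZMod p) Y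
  have hsK : (4 : F) * Y + 2 ∈ K :=
    add_mem (mul_mem (ofNat_mem K 4) hYK) (ofNat_mem K 2)
  have hs : ((4 : F) * Y + 2) ^ r = (4 : F) * Y + 2 := by
    have := FiniteField.pow_card (⟨(4 : F) * Y + 2, hsK⟩ : K)
    have h1 := congrArg (Subtype.val) this
    simpa using h1
  have hζ0 : (ζ : F) ≠ 0 := ζ.ne_zero
  have hρ0 : (ζ : F) ^ 2 ≠ 0 := pow_ne_zero _ hζ0
  rw [hY, slpf2b_Y (ζ : F) hζ0 h2, hd, add_pow_char_pow, ← hd, inv_pow] at hs
  have hor := slpf2b_quad (((ζ : F) ^ 2) ^ r) ((ζ : F) ^ 2) (pow_ne_zero _ hρ0) hρ0 hs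
  have hr2 : 2 ≤ r := by
    rw [hd]
    calc 2 ≤ p := hpp.two_le
      _ = p ^ 1 := (pow_one p).symm
      _ ≤ p ^ (d : ℕ) := Nat.pow_le_pow_right (by omega) d.pos
  have hle := slpf2b_bound ζ hζ r hr2 hor
  have hdvd : r ∣ Fintype.card F := by
    have := Module.card_eq_pow_finrank (K := K) (V := F)
    rw [this]
    apply dvd_pow_self
    intro h0
    rw [h0, pow_zero] at this
    omega
  have hrq : r = Fintype.card F := slpf2b_num p d m r (Fintype.card F) hp3 d.pos hd hm hdvd hle hq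
  have hbij : Function.Bijective (Subtype.val : K → F) :=
    (Fintype.bijective_iff_injective_and_card _).2 ⟨Subtype.val_injective, hrq⟩
  rw [eq_top_iff]
  intro x _
  obtain ⟨y, rfl⟩ := hbij.2 x
  exact y.2

end Cfsg.Agent.Lib.helper17.SLP
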