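import Cfsg.Agent.Lib.helper17.SLP.Defs
import Cfsg.Agent.Lib.helper15.SLPF2A
import Cfsg.Agent.Lib.Helper29.SLPF2B

/-!
# SLP row F2 (helper29): `exists_kl`

`k l` from F2A (`two_squares`): `λ^k = λ^l + 1`, `λ^l = Y = ((ζ - ζ⁻¹)/2)²`; `aeval Y` is surjective by
F2B (`aeval_Y_surjective`).
-/

set_option autoImplicit false

namespace Cfsg.Agent.Lib.helper17.SLP

open Polynomial

universe u v

/-- F2 from the statements of F2A and F2B. -/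
theorem slpf2_core {F : Type*} [Field F] [Fintype F] (p : ℕ) [Fact p.Prime] [Algebra (ZMod p) F]
    (ζ : Fˣ)
    (hA : ∃ k l : ℕ, ((ζ : F) ^ 2) ^ k = ((ζ : F) ^ 2) ^ l + 1 ∧
      ((ζ : F) ^ 2) ^ l = (((ζ : F) - (ζ : F)⁻¹) / 2) ^ 2)
    (hB : Function.Surjective
      (fun f : (ZMod p)[X] => aeval ((((ζ : F) - (ζ : F)⁻¹) / 2) ^ 2) f)) :
    ∃ k l : ℕ, ((ζ : F) ^ 2) ^ k = ((ζ : F) ^ 2) ^ l + 1 ∧
      Function.Surjective (fun f : (ZMod p)[X] => aeval (((ζ : F) ^ 2) ^ l) f) := by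
  obtain ⟨k, l, hkl, hl⟩ := hA
  refine ⟨k, l, hkl, ?_⟩
  rw [hl]
  exact hB

/-- F2: `λ^k = λ^l + 1` and `F_p[λ^l] = F` (`q > 9` odd). -/
theorem exists_kl {F : Type*} [Field F] [Fintype F] (p : ℕ) [Fact p.Prime] [Algebra (ZMod p) F]
    (hp : p ≠ 2) (hq : 9 < Fintype.card F) (ζ : Fˣ) (hζ : ∀ y : Fˣ, y ∈ Subgroup.zpowers ζ) :
    ∃ k l : ℕ, ((ζ : F) ^ 2) ^ k = ((ζ : F) ^ 2) ^ l + 1 ∧
      Function.Surjective (fun f : (ZMod p)[X] => aeval (((ζ : F) ^ 2) ^ l) f) :=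
  slpf2_core p ζ (two_squares (slpf2b_two_ne_zero p hp) (by omega) ζ hζ)
    (aeval_Y_surjective p hp hq ζ hζ)

end Cfsg.Agent.Lib.helper17.SLP
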