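import Mathlib
import Cfsg.Agent.Lib.Helper19.SU5.Defs
import Cfsg.Agent.Lib.Helper22.SU4F3
import Cfsg.Agent.Lib.Helper22.SU5F4

/-!
# Project SU5 (tables half, designer helper19), row F3 `lam_gen_KU` (helper29): `K`-linear generation of `Lam F True` from the two base
points `ξ₁`, `ξ₂`.  VERBATIM vs `Helper19/SU5/Skel1.lean.txt` (on SU4 F3 `span_twoT`, F4 `gen_not_memT` and helper22's extras
`su5f4_comm_v su5f4_comm_c su5f4_star_iota su5f4_skew`).
-/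

set_option autoImplicit false

namespace Cfsg.Agent.Lib.Helper19.SU5

open Cfsg.Agent.Lib.helper17.SLP Cfsg.Agent.Lib.helper3.SP4 Cfsg.Agent.Lib.Helper22.SU4
open Cfsg.Agent.Lib.Helper27.STU (Lam XpM XmM XpS XmS SUm XpU XmU)

universe u v

section F

variable {F : Type u} {K : Type u} [Field F] [Field K] [StarRing F] {D : Tw F K}

/-- F3 [M]  `K`-linear generation of `Lam`. -/
theorem lam_gen_KU [Fintype F] [Fintype K] (hFK : Fintype.card F = Fintype.card K ^ 2) (P : RO D)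
    (H : Subgroup (Lam F True))
    (h : ∀ k : Kˣ, Lam.act ((D.ιu k : Fˣ) : F) P.ξ₁ ∈ H ∧ Lam.act ((D.ιu k : Fˣ) : F) P.ξ₂ ∈ H) : H = ⊤ := by
  -- all `K`-multiples, zero included
  have hact0 : ∀ ξ : Lam F True, Lam.act (0 : F) ξ = 1 := by
    intro ξ
    apply Lam.ext
    · simp
    · simp
  have h1 : ∀ a : K, Lam.act (D.ι a) P.ξ₁ ∈ H := by
    intro a
    by_cases ha : a = 0
    · rw [ha, map_zero, hact0]
      exact H.one_mem
    · exact (h (Units.mk0 a ha)).1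
  have h2 : ∀ a : K, Lam.act (D.ι a) P.ξ₂ ∈ H := by
    intro a
    by_cases ha : a = 0
    · rw [ha, map_zero, hact0]
      exact H.one_mem
    · exact (h (Units.mk0 a ha)).2
  have hξ₂ : P.ξ₂ ∈ H := by
    have h3 := h2 1
    have e : Lam.act (D.ι 1) P.ξ₂ = P.ξ₂ := by
      apply Lam.ext
      · simp
      · simp
    rwa [e] at h3
  -- (1) every `v`
  have hv : ∀ v : F, ∃ η ∈ H, η.v = v := by
    intro v
    obtain ⟨a, b, hab⟩ := span_twoT D hFK (P.ζ : F) (gen_not_memT D hFK P.ζ P.hζ) v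
    refine ⟨Lam.act (D.ι a) P.ξ₁ * Lam.act (D.ι b) P.ξ₂, H.mul_mem (h1 a) (h2 b), ?_⟩
    rw [Lam.mul_v, Lam.act_v, Lam.act_v, P.hv₁, P.hv₂, mul_one, hab]
  -- (2) elements with `v = 0`
  have hcen : ∀ η : Lam F True, η.v = 0 → η ∈ H := by
    intro η hη
    have hc : star η.c = -η.c := by
      have h3 := η.h
      rw [hη] at h3
      linear_combination h3
    obtain ⟨u, hu⟩ := su5f4_skew hFK P η.c hc
    have hmem : Lam.act (D.ι u) P.ξ₁ * P.ξ₂ * (Lam.act (D.ι u) P.ξ₁)⁻¹ * P.ξ₂⁻¹ ∈ H :=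
      H.mul_mem (H.mul_mem (H.mul_mem (h1 u) hξ₂) (H.inv_mem (h1 u))) (H.inv_mem hξ₂)
    have e : η = Lam.act (D.ι u) P.ξ₁ * P.ξ₂ * (Lam.act (D.ι u) P.ξ₁)⁻¹ * P.ξ₂⁻¹ := by
      apply Lam.ext
      · rw [su5f4_comm_v, hη]
      · rw [su5f4_comm_c, hu, Lam.act_v, P.hv₁, P.hv₂, mul_one, su5f4_star_iota P u]
        unfold RO.kap
        ring
    rw [e]
    exact hmem
  -- (3) every element
  rw [eq_top_iff]
  intro ξ _
  obtain ⟨η, hηH, hηv⟩ := hv ξ.v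
  have h3 : ξ * η⁻¹ ∈ H := by
    apply hcen
    rw [Lam.mul_v, Lam.inv_v, hηv]
    ring
  have e : ξ = ξ * η⁻¹ * η := by group
  rw [e]
  exact H.mul_mem h3 hηH

end F

end Cfsg.Agent.Lib.Helper19.SU5
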