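import Mathlib
import Cfsg.Prelude.Def_GeometricClasses
import Cfsg.Agent.Lib.Helper27.ASC.Defs
import Cfsg.Agent.Lib.Helper29.ASCFORM
import Cfsg.Agent.Lib.Helper29.ASCGRAM

/-!
# Project ASC, piece UNIT (helper29): `unit_of_fixes`
-/

set_option autoImplicit false
set_option linter.unusedVariables false

namespace Cfsg.Agent.Lib.Helper27.ASC

open Cfsg Cfsg.Geo
open scoped MatrixGroups Matrix

variable {n : ℕ} {F : Type*} [Field F] [Fintype F]

/-- UNIT -/
theorem unit_of_fixes {H P : Subgroup (GL (Fin n) F)} (hP : NormalIn P H) (hA : AbsIrr P)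
    (σ : F ≃+* F) (f : (Fin n → F) → (Fin n → F) → F) (hf : IsUnitaryForm σ f)
    (hfix : FixesForm (matrixSet P) f) : H ≤ similarityGroup f := by
  classical
  obtain ⟨τ, hτ⟩ : ∃ τ : F →+* F, τ = (σ : F →+* F) := ⟨_, rfl⟩
  have hτa : ∀ a : F, τ a = σ a := fun a => by rw [hτ]; rfl
  have har : ∀ v x y : Fin n → F, f v (x + y) = f v x + f v y := by
    intro v x y
    rw [hf.herm v (x + y), hf.add_left, map_add, ← hf.herm, ← hf.herm]
  have hsr : ∀ (c : F) (v x : Fin n → F), f v (c • x) = τ c * f v x := by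
    intro c v x
    rw [hf.herm v (c • x), hf.smul_left, map_mul, ← hf.herm, hτa]
  obtain ⟨A, hAdef⟩ : ∃ A : Matrix (Fin n) (Fin n) F, A = ascformGram f := ⟨_, rfl⟩
  have hgram : ∀ u v : Fin n → F, f u v = u ⬝ᵥ (A *ᵥ (fun j => τ (v j))) := by
    intro u v
    rw [hAdef]
    exact ascform_gram τ f hf.add_left hf.smul_left har hsr u v
  -- `A` is invertible
  have hAu : IsUnit A.det := by
    apply ascform_gram_isUnit_det σ A
    intro v hv
    obtain ⟨x, hx⟩ := (hf.nondegenerate v hv).1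
    refine ⟨x, ?_⟩
    have h1 := hgram x v
    have e : (fun j => τ (v j)) = (fun j => σ (v j)) := by
      ext j; exact hτa _
    rw [e] at h1
    rw [← h1]
    exact hx
  -- `P` preserves `A`
  have hinv : ∀ s ∈ P, (s : Matrix (Fin n) (Fin n) F)ᵀ * A * (s : Matrix (Fin n) (Fin n) F).map τ = A := by
    intro s hs
    apply ascform_ext τ
    intro u v
    rw [← ascform_transport τ A (s : Matrix (Fin n) (Fin n) F) u v]
    have hsm : (s : Matrix (Fin n) (Fin n) F) ∈ matrixSet P := ⟨s, hs, rfl⟩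
    rw [← hgram, ← hgram, hfix _ hsm]
  intro h hh
  obtain ⟨c, hc⟩ := ascform_core τ hP hA A hAu hinv h hh
  have hfc : ∀ u v : Fin n → F,
      f ((h : Matrix (Fin n) (Fin n) F) *ᵥ u) ((h : Matrix (Fin n) (Fin n) F) *ᵥ v) = c * f u v := by
    intro u v
    rw [hgram, ascform_transport τ A (h : Matrix (Fin n) (Fin n) F) u v, hc, hgram,
      Matrix.smul_mulVec, dotProduct_smul, smul_eq_mul]
  by_cases hc0 : c = 0
  · have hf0 : ∀ u v : Fin n → F, f u v = 0 := by
      intro u v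
      have := hfc (((h⁻¹ : GL (Fin n) F) : Matrix (Fin n) (Fin n) F) *ᵥ u)
        (((h⁻¹ : GL (Fin n) F) : Matrix (Fin n) (Fin n) F) *ᵥ v)
      rw [Matrix.mulVec_mulVec, Matrix.mulVec_mulVec, ← Units.val_mul, mul_inv_cancel, Units.val_one,
        Matrix.one_mulVec, Matrix.one_mulVec, hc0, zero_mul] at this
      exact this
    refine ⟨1, fun u v => ?_⟩
    rw [hf0, hf0, mul_zero]
  · exact ⟨Units.mk0 c hc0, fun u v => by rw [Units.val_mk0]; exact hfc u v⟩

end Cfsg.Agent.Lib.Helper27.ASC
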