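import Mathlib
import Cfsg.Prelude.Def_GeometricClasses
import Cfsg.Agent.Lib.Helper27.ASC.Defs
import Cfsg.Agent.Lib.Helper19.ASG.Defs
import Cfsg.Agent.Lib.Helper9.ASGD2T.Defs
import Cfsg.Agent.Lib.Helper20.ASGALG

set_option autoImplicit false
set_option linter.unusedVariables false

/-!
# Project ASG, block D2T, piece FACTOR (helper29): if the commutant of `M` is a full matrix algebra, so is its double
commutant.
-/

namespace Cfsg.Agent.Lib.Helper19.ASG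

open Cfsg Cfsg.Geo Cfsg.Agent.Lib.Helper27.ASC
open scoped MatrixGroups Matrix

variable {n : ℕ} {F : Type*} [Field F]

open scoped Kronecker in
/-- `b ↦ 1 ⊗ₖ b` as an algebra homomorphism -/
def asgd2tfactor_right (k m : ℕ) :
    Matrix (Fin m) (Fin m) F →ₐ[F] Matrix (Fin k × Fin m) (Fin k × Fin m) F where
  toFun b := (1 : Matrix (Fin k) (Fin k) F) ⊗ₖ b
  map_one' := Matrix.one_kronecker_one
  map_mul' a b := by rw [← Matrix.mul_kronecker_mul, one_mul]
  map_zero' := Matrix.kronecker_zero _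
  map_add' a b := Matrix.kronecker_add _ _ _
  commutes' r := by
    rw [Algebra.algebraMap_eq_smul_one, Algebra.algebraMap_eq_smul_one, Matrix.kronecker_smul,
      Matrix.one_kronecker_one]

open scoped Kronecker in
theorem asgd2tfactor_right_apply (k m : ℕ) (b : Matrix (Fin m) (Fin m) F) :
    asgd2tfactor_right (F := F) k m b = (1 : Matrix (Fin k) (Fin k) F) ⊗ₖ b := rfl

open scoped Kronecker in
/-- D2T-FACTOR : if the commutant of `M` is a full matrix algebra, so is its double commutant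
(`ψ := (centAlg M).val.comp φ.symm`, ALG1: `ψ A = P (A ⊗ 1) P⁻¹`; `θ b := P (1 ⊗ b) P⁻¹`; ALG3 `asgalg_centralizer_kronecker`) -/
theorem factor_alg (hn : 0 < n) {M : Subgroup (GL (Fin n) F)} {k : ℕ}
    (φ : centAlg M ≃ₐ[F] Matrix (Fin k) (Fin k) F) :
    ∃ (m : ℕ) (θ : Matrix (Fin m) (Fin m) F →ₐ[F] Matrix (Fin n) (Fin n) F),
      ∀ X : Matrix (Fin n) (Fin n) F, X ∈ θ.range ↔ X ∈ dcomm M := by
  classical
  -- `0 < k`
  have hk : k ≠ 0 := by
    intro hk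
    subst hk
    have h1 : φ (1 : centAlg M) = φ 0 := Subsingleton.elim _ _
    have h2 : (1 : centAlg M) = 0 := φ.injective h1
    have h3 : ((1 : centAlg M) : Matrix (Fin n) (Fin n) F) = ((0 : centAlg M) : Matrix (Fin n) (Fin n) F) :=
      congrArg Subtype.val h2
    have h4 := congrFun (congrFun h3 ⟨0, hn⟩) ⟨0, hn⟩
    rw [Subalgebra.coe_one, Subalgebra.coe_zero, Matrix.one_apply_eq, Matrix.zero_apply] at h4
    exact one_ne_zero h4
  haveI : NeZero k := ⟨hk⟩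
  obtain ⟨ψ, hψ⟩ : ∃ ψ : Matrix (Fin k) (Fin k) F →ₐ[F] Matrix (Fin n) (Fin n) F,
      ∀ A, ψ A = ((φ.symm A : centAlg M) : Matrix (Fin n) (Fin n) F) :=
    ⟨(centAlg M).val.comp φ.symm.toAlgHom, fun A => rfl⟩
  have hψmem : ∀ A, ψ A ∈ centAlg M := fun A => by rw [hψ]; exact (φ.symm A).2
  have hψsurj : ∀ c ∈ centAlg M, ∃ A, ψ A = c := by
    intro c hc
    refine ⟨φ ⟨c, hc⟩, ?_⟩
    rw [hψ, φ.symm_apply_apply]
  obtain ⟨m, e0, P, hP⟩ := Cfsg.Agent.Lib.Helper20.ASGALG.asgalg_hom_kronecker ψ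
  have hPP : ((P⁻¹ : GL (Fin n) F) : Matrix (Fin n) (Fin n) F) * (P : Matrix (Fin n) (Fin n) F) = 1 := by
    rw [← Units.val_mul, inv_mul_cancel, Units.val_one]
  have hPP' : (P : Matrix (Fin n) (Fin n) F) * ((P⁻¹ : GL (Fin n) F) : Matrix (Fin n) (Fin n) F) = 1 := by
    rw [← Units.val_mul, mul_inv_cancel, Units.val_one]
  obtain ⟨Rq, hRq⟩ : ∃ Rq : Matrix (Fin k × Fin m) (Fin k × Fin m) F ≃ₐ[F] Matrix (Fin n) (Fin n) F,
      ∀ Y, Rq Y = Matrix.reindex e0.symm e0.symm Y :=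
    ⟨Matrix.reindexAlgEquiv F F e0.symm, fun Y => rfl⟩
  have hP' : ∀ A, ψ A = (P : Matrix (Fin n) (Fin n) F) *
      Rq (A ⊗ₖ (1 : Matrix (Fin m) (Fin m) F)) * ((P⁻¹ : GL (Fin n) F) : Matrix (Fin n) (Fin n) F) := by
    intro A
    rw [hP A, hRq]
  have e1 : ∀ U V : Matrix (Fin n) (Fin n) F,
      ((P : Matrix (Fin n) (Fin n) F) * U * ((P⁻¹ : GL (Fin n) F) : Matrix (Fin n) (Fin n) F)) *
        ((P : Matrix (Fin n) (Fin n) F) * V * ((P⁻¹ : GL (Fin n) F) : Matrix (Fin n) (Fin n) F)) =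
      (P : Matrix (Fin n) (Fin n) F) * (U * V) * ((P⁻¹ : GL (Fin n) F) : Matrix (Fin n) (Fin n) F) := by
    intro U V
    calc ((P : Matrix (Fin n) (Fin n) F) * U * ((P⁻¹ : GL (Fin n) F) : Matrix (Fin n) (Fin n) F)) *
          ((P : Matrix (Fin n) (Fin n) F) * V * ((P⁻¹ : GL (Fin n) F) : Matrix (Fin n) (Fin n) F))
        = (P : Matrix (Fin n) (Fin n) F) * U * (((P⁻¹ : GL (Fin n) F) : Matrix (Fin n) (Fin n) F) *
            (P : Matrix (Fin n) (Fin n) F)) * V * ((P⁻¹ : GL (Fin n) F) : Matrix (Fin n) (Fin n) F) := by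
          simp only [mul_assoc]
      _ = _ := by rw [hPP, mul_one]; simp only [mul_assoc]
  refine ⟨m, cjHom P (Rq.toAlgHom.comp (asgd2tfactor_right k m)), fun X => ?_⟩
  have hθ : ∀ b : Matrix (Fin m) (Fin m) F,
      cjHom P (Rq.toAlgHom.comp (asgd2tfactor_right k m)) b =
        (P : Matrix (Fin n) (Fin n) F) * Rq ((1 : Matrix (Fin k) (Fin k) F) ⊗ₖ b) *
          ((P⁻¹ : GL (Fin n) F) : Matrix (Fin n) (Fin n) F) := fun b => rfl
  rw [AlgHom.mem_range, Subalgebra.mem_centralizer_iff]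
  constructor
  · rintro ⟨b, rfl⟩ c hc
    obtain ⟨A, rfl⟩ := hψsurj c hc
    rw [hθ, hP', e1, e1, ← map_mul, ← map_mul, ← Matrix.mul_kronecker_mul, ← Matrix.mul_kronecker_mul,
      one_mul, mul_one, one_mul, mul_one]
  · intro hX
    -- `Y = R⁻¹ (P⁻¹ X P)` commutes with all `A ⊗ 1`
    obtain ⟨Y, hY⟩ : ∃ Y, Y = Rq.symm (((P⁻¹ : GL (Fin n) F) : Matrix (Fin n) (Fin n) F) * X *
        (P : Matrix (Fin n) (Fin n) F)) := ⟨_, rfl⟩
    have hXY : X = (P : Matrix (Fin n) (Fin n) F) * Rq Y *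
        ((P⁻¹ : GL (Fin n) F) : Matrix (Fin n) (Fin n) F) := by
      rw [hY, Rq.apply_symm_apply]
      calc X = ((P : Matrix (Fin n) (Fin n) F) * ((P⁻¹ : GL (Fin n) F) : Matrix (Fin n) (Fin n) F)) * X *
            ((P : Matrix (Fin n) (Fin n) F) * ((P⁻¹ : GL (Fin n) F) : Matrix (Fin n) (Fin n) F)) := by
            rw [hPP', one_mul, mul_one]
        _ = _ := by simp only [mul_assoc]
    have hcommY : ∀ A : Matrix (Fin k) (Fin k) F,
        (A ⊗ₖ (1 : Matrix (Fin m) (Fin m) F)) * Y = Y * (A ⊗ₖ (1 : Matrix (Fin m) (Fin m) F)) := by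
      intro A
      have h1 := hX (ψ A) (hψmem A)
      rw [hXY, hP', e1, e1, ← map_mul, ← map_mul] at h1
      have h2 := congrArg (fun Z => ((P⁻¹ : GL (Fin n) F) : Matrix (Fin n) (Fin n) F) * Z *
        (P : Matrix (Fin n) (Fin n) F)) h1
      have h3 : ∀ Z : Matrix (Fin n) (Fin n) F,
          ((P⁻¹ : GL (Fin n) F) : Matrix (Fin n) (Fin n) F) *
            ((P : Matrix (Fin n) (Fin n) F) * Z * ((P⁻¹ : GL (Fin n) F) : Matrix (Fin n) (Fin n) F)) *
            (P : Matrix (Fin n) (Fin n) F) = Z := by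
        intro Z
        calc ((P⁻¹ : GL (Fin n) F) : Matrix (Fin n) (Fin n) F) *
              ((P : Matrix (Fin n) (Fin n) F) * Z * ((P⁻¹ : GL (Fin n) F) : Matrix (Fin n) (Fin n) F)) *
              (P : Matrix (Fin n) (Fin n) F)
            = (((P⁻¹ : GL (Fin n) F) : Matrix (Fin n) (Fin n) F) * (P : Matrix (Fin n) (Fin n) F)) * Z *
                (((P⁻¹ : GL (Fin n) F) : Matrix (Fin n) (Fin n) F) * (P : Matrix (Fin n) (Fin n) F)) := by
              simp only [mul_assoc]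
          _ = Z := by rw [hPP, one_mul, mul_one]
      simp only [h3] at h2
      exact Rq.injective h2
    obtain ⟨C, hC⟩ := Cfsg.Agent.Lib.Helper20.ASGALG.asgalg_centralizer_kronecker Y hcommY
    refine ⟨C, ?_⟩
    rw [hθ, hXY, hC]

end Cfsg.Agent.Lib.Helper19.ASG
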