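import Mathlib
import Cfsg.Prelude.Def_GeometricClasses
import Cfsg.Agent.Lib.Helper27.ASC.Defs
import Cfsg.Agent.Lib.Helper19.ASG.Defs
import Cfsg.Agent.Lib.Helper9.ASGD2T.Defs
import Cfsg.Agent.Lib.Helper20.ASGALG

set_option autoImplicit false
set_option linter.unusedVariables false

/-!
# Project ASG, block D2T, piece TBASIS (helper29): an algebra homomorphism `M_X(F) → M_n(F)`, `X = Fin t → Fin m`,
whose image has scalar centraliser is `A ↦ B · reindex A · B⁻¹`.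
-/

namespace Cfsg.Agent.Lib.Helper19.ASG

open Cfsg Cfsg.Geo Cfsg.Agent.Lib.Helper27.ASC
open scoped MatrixGroups Matrix

variable {n : ℕ} {F : Type*} [Field F]

open scoped Kronecker in
/-- D2T-TBASIS : an algebra homomorphism `M_X(F) → M_n(F)` (`X = Fin t → Fin m`) whose image has scalar centraliser is
`A ↦ B · reindex A · B⁻¹` (reindex `X ≃ Fin (m ^ t)` by `finFunctionFinEquiv`, apply ALG1 `asgalg_hom_kronecker`; the second
Kronecker factor has size `k = 1` because `B (1 ⊗ b) B⁻¹` centralises the image) -/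
theorem tensor_basis (hn : 0 < n) {m t : ℕ}
    (Θ : Matrix (Fin t → Fin m) (Fin t → Fin m) F →ₐ[F] Matrix (Fin n) (Fin n) F)
    (hcent : ∀ X : Matrix (Fin n) (Fin n) F, (∀ A, X * Θ A = Θ A * X) → ∃ c : F, X = c • 1) :
    ∃ (e : Fin n ≃ (Fin t → Fin m)) (B : GL (Fin n) F), ∀ A,
      Θ A = (B : Matrix (Fin n) (Fin n) F) * Matrix.reindex e.symm e.symm A *
        ((B⁻¹ : GL (Fin n) F) : Matrix (Fin n) (Fin n) F) := by
  classical
  -- `m ^ t ≠ 0`
  have hd : m ^ t ≠ 0 := by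
    intro h0
    haveI : IsEmpty (Fin t → Fin m) := by
      rw [← Fintype.card_eq_zero_iff, Fintype.card_fun, Fintype.card_fin, Fintype.card_fin]
      exact h0
    have h1 : (1 : Matrix (Fin t → Fin m) (Fin t → Fin m) F) = 0 := Subsingleton.elim _ _
    have h2 : (1 : Matrix (Fin n) (Fin n) F) = 0 := by
      rw [← map_one Θ, h1, map_zero]
    have h3 := congrFun (congrFun h2 ⟨0, hn⟩) ⟨0, hn⟩
    rw [Matrix.one_apply_eq, Matrix.zero_apply] at h3
    exact one_ne_zero h3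
  haveI : NeZero (m ^ t) := ⟨hd⟩
  obtain ⟨ε⟩ : Nonempty ((Fin t → Fin m) ≃ Fin (m ^ t)) := ⟨finFunctionFinEquiv⟩
  obtain ⟨φ, hφ⟩ : ∃ φ : Matrix (Fin (m ^ t)) (Fin (m ^ t)) F →ₐ[F] Matrix (Fin n) (Fin n) F,
      ∀ A, φ A = Θ (Matrix.reindex ε.symm ε.symm A) :=
    ⟨Θ.comp (Matrix.reindexAlgEquiv F F ε.symm).toAlgHom, fun A => rfl⟩
  have hΘφ : ∀ A', Θ A' = φ (Matrix.reindex ε ε A') := by
    intro A'
    rw [hφ]
    congr 1
    ext i j
    simp [Matrix.reindex_apply, Matrix.submatrix_apply]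
  obtain ⟨k, e0, P, hP⟩ := Cfsg.Agent.Lib.Helper20.ASGALG.asgalg_hom_kronecker φ
  have hPP : ((P⁻¹ : GL (Fin n) F) : Matrix (Fin n) (Fin n) F) * (P : Matrix (Fin n) (Fin n) F) = 1 := by
    rw [← Units.val_mul, inv_mul_cancel, Units.val_one]
  have hPP' : (P : Matrix (Fin n) (Fin n) F) * ((P⁻¹ : GL (Fin n) F) : Matrix (Fin n) (Fin n) F) = 1 := by
    rw [← Units.val_mul, mul_inv_cancel, Units.val_one]
  -- the reindexing as an algebra isomorphism
  obtain ⟨Rq, hRq⟩ : ∃ Rq : Matrix (Fin (m ^ t) × Fin k) (Fin (m ^ t) × Fin k) F ≃ₐ[F] Matrix (Fin n) (Fin n) F,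
      ∀ Y, Rq Y = Matrix.reindex e0.symm e0.symm Y :=
    ⟨Matrix.reindexAlgEquiv F F e0.symm, fun Y => rfl⟩
  have hP' : ∀ A, φ A = (P : Matrix (Fin n) (Fin n) F) *
      Rq (A ⊗ₖ (1 : Matrix (Fin k) (Fin k) F)) * ((P⁻¹ : GL (Fin n) F) : Matrix (Fin n) (Fin n) F) := by
    intro A
    rw [hP A, hRq]
  -- `k < 2`
  have hk2 : k < 2 := by
    by_contra hk
    have hk' : 2 ≤ k := not_lt.mp hk
    obtain ⟨i0, j0, hij⟩ : ∃ i0 j0 : Fin k, i0 ≠ j0 :=
      ⟨⟨0, by omega⟩, ⟨1, by omega⟩, by simp [Fin.ext_iff]⟩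
    obtain ⟨b, hb⟩ : ∃ b : Matrix (Fin k) (Fin k) F, b = Matrix.single i0 j0 1 := ⟨_, rfl⟩
    have hcomm : ∀ A', ((P : Matrix (Fin n) (Fin n) F) *
        Rq ((1 : Matrix (Fin (m ^ t)) (Fin (m ^ t)) F) ⊗ₖ b) *
          ((P⁻¹ : GL (Fin n) F) : Matrix (Fin n) (Fin n) F)) * Θ A' =
        Θ A' * ((P : Matrix (Fin n) (Fin n) F) *
        Rq ((1 : Matrix (Fin (m ^ t)) (Fin (m ^ t)) F) ⊗ₖ b) *
          ((P⁻¹ : GL (Fin n) F) : Matrix (Fin n) (Fin n) F)) := by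
      intro A'
      rw [hΘφ A', hP']
      have e1 : ∀ U V : Matrix (Fin n) (Fin n) F,
          ((P : Matrix (Fin n) (Fin n) F) * U * ((P⁻¹ : GL (Fin n) F) : Matrix (Fin n) (Fin n) F)) *
            ((P : Matrix (Fin n) (Fin n) F) * V * ((P⁻¹ : GL (Fin n) F) : Matrix (Fin n) (Fin n) F)) =
          (P : Matrix (Fin n) (Fin n) F) * (U * V) * ((P⁻¹ : GL (Fin n) F) : Matrix (Fin n) (Fin n) F) := by
        intro U V
        calc ((P : Matrix (Fin n) (Fin n) F) * U * ((P⁻¹ : GL (Fin n) F) : Matrix (Fin n) (Fin n) F)) *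
              ((P : Matrix (Fin n) (Fin n) F) * V * ((P⁻¹ : GL (Fin n) F) : Matrix (Fin n) (Fin n) F))
            = (P : Matrix (Fin n) (Fin n) F) * U * (((P⁻¹ : GL (Fin n) F) : Matrix (Fin n) (Fin n) F) *
                (P : Matrix (Fin n) (Fin n) F)) * V * ((P⁻¹ : GL (Fin n) F) : Matrix (Fin n) (Fin n) F) := by
              simp only [mul_assoc]
          _ = _ := by rw [hPP, mul_one]; simp only [mul_assoc]
      rw [e1, e1, ← map_mul, ← map_mul, ← Matrix.mul_kronecker_mul, ← Matrix.mul_kronecker_mul,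
        one_mul, mul_one, one_mul, mul_one]
    obtain ⟨c, hc⟩ := hcent _ hcomm
    -- hence `1 ⊗ b = c • 1`
    have h1 : Rq ((1 : Matrix (Fin (m ^ t)) (Fin (m ^ t)) F) ⊗ₖ b) = c • 1 := by
      have h2 := congrArg (fun Y => ((P⁻¹ : GL (Fin n) F) : Matrix (Fin n) (Fin n) F) * Y *
        (P : Matrix (Fin n) (Fin n) F)) hc
      rw [Matrix.mul_smul, Matrix.smul_mul, mul_one, hPP] at h2
      rw [← h2]
      calc Rq ((1 : Matrix (Fin (m ^ t)) (Fin (m ^ t)) F) ⊗ₖ b)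
          = (((P⁻¹ : GL (Fin n) F) : Matrix (Fin n) (Fin n) F) * (P : Matrix (Fin n) (Fin n) F)) *
              Rq ((1 : Matrix (Fin (m ^ t)) (Fin (m ^ t)) F) ⊗ₖ b) *
              (((P⁻¹ : GL (Fin n) F) : Matrix (Fin n) (Fin n) F) * (P : Matrix (Fin n) (Fin n) F)) := by
            rw [hPP, one_mul, mul_one]
        _ = _ := by simp only [mul_assoc]
    have h3 : (1 : Matrix (Fin (m ^ t)) (Fin (m ^ t)) F) ⊗ₖ b = c • 1 := by
      apply Rq.injective
      rw [h1, map_smul, map_one]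
    obtain ⟨a0⟩ : Nonempty (Fin (m ^ t)) := ⟨⟨0, Nat.pos_of_ne_zero hd⟩⟩
    have h4 := congrFun (congrFun h3 (a0, i0)) (a0, j0)
    rw [Matrix.kroneckerMap_apply, Matrix.one_apply_eq, hb, Matrix.single_apply, Matrix.smul_apply,
      Matrix.one_apply_ne (by simp [hij])] at h4
    simp at h4
  have hk0 : k ≠ 0 := by
    intro h0
    subst h0
    exact (e0 ⟨0, hn⟩).2.elim0
  have hk1 : k = 1 := by omega
  subst hk1
  refine ⟨e0.trans ((Equiv.prodUnique (Fin (m ^ t)) (Fin 1)).trans ε.symm), P, fun A' => ?_⟩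
  rw [hΘφ A', hP]
  congr 2
  ext i j
  simp [Matrix.reindex_apply, Matrix.submatrix_apply, Matrix.kroneckerMap_apply, Matrix.one_apply,
    Subsingleton.elim (e0 i).2 (e0 j).2]

end Cfsg.Agent.Lib.Helper19.ASG
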