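import Mathlib
import Cfsg.Prelude.Def_GeometricClasses
import Cfsg.Agent.Lib.Helper27.ASC.Defs
import Cfsg.Agent.Lib.helper23.ASCO.Defs
import Cfsg.Agent.Lib.Helper19.ASG.Defs
import Cfsg.Agent.Lib.Helper1.ASGCLIF3
import Cfsg.Agent.Lib.Helper25.ASO.Defs
import Cfsg.Agent.Lib.helper23.ASE.Defs
import Cfsg.Agent.Lib.Helper9.ASGD2TGRP

/-!
# Project ASE, piece D2TABS : in the tensor induced case the minimal `N`-normal subgroup `M ≠ N` is not absolutely
irreducible (a conjugate `X ≠ M` commutes elementwise with `M`, so it is scalar).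
-/

set_option autoImplicit false
set_option linter.unusedVariables false
set_option linter.unusedSectionVars false

namespace Cfsg.Agent.Lib.helper23.ASE

open Cfsg Cfsg.Geo Cfsg.Agent.Lib.Helper27.ASC Cfsg.Agent.Lib.helper23.ASCO Cfsg.Agent.Lib.Helper19.ASG
  Cfsg.Agent.Lib.Helper25.ASO
open scoped MatrixGroups Matrix Kronecker

variable {n : ℕ} {F : Type*} [Field F] [Fintype F]

omit [Fintype F] in
/-- an invertible matrix commuting with an absolutely irreducible group is a scalar of the group `scalars` -/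
theorem ased2tabs_scalar_of_comm {M : Subgroup (GL (Fin n) F)} (hMA : AbsIrr M) (b : GL (Fin n) F)
    (hb : ∀ a ∈ M, a * b = b * a) : b ∈ scalars (Fin n) F := by
  obtain ⟨c, hc⟩ := hMA.2 (b : Matrix (Fin n) (Fin n) F) (by
    rintro s ⟨a, ha, rfl⟩
    have := congrArg (fun u : GL (Fin n) F => (u : Matrix (Fin n) (Fin n) F)) (hb a ha)
    simp only [Units.val_mul] at this
    exact this.symm)
  rw [mem_scalars_iff]
  by_cases hc0 : c = 0
  · refine ⟨1, ?_⟩
    have hb0 : (b : Matrix (Fin n) (Fin n) F) = 0 := by rw [hc, hc0, zero_smul]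
    have h1 : (1 : Matrix (Fin n) (Fin n) F) = 0 := by
      have : (b : Matrix (Fin n) (Fin n) F) * ((b⁻¹ : GL (Fin n) F) : Matrix (Fin n) (Fin n) F) = 1 := by
        rw [← Units.val_mul, mul_inv_cancel, Units.val_one]
      rw [← this, hb0, zero_mul]
    rw [hb0, h1, smul_zero]
  · exact ⟨Units.mk0 c hc0, hc⟩

/-- D2TABS -/
theorem min_absIrr_false {H N M : Subgroup (GL (Fin n) F)} (hN : MinNonscalar N H) (hperf : ⁅N, N⁆ = N)
    (hM : MinNonscalar M N) (hMN : M ≠ N) (hMA : AbsIrr M) : False := by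
  obtain ⟨hjoin, hMperf⟩ := conj_join hN hperf hM
  -- a conjugate different from `M`
  obtain ⟨h, hh⟩ : ∃ h : H, M.map (MulAut.conj (h : GL (Fin n) F)).toMonoidHom ≠ M := by
    by_contra hcon
    push Not at hcon
    apply hMN
    rw [← hjoin]
    have : (⨆ h : H, M.map (MulAut.conj (h : GL (Fin n) F)).toMonoidHom) = ⨆ _ : H, M :=
      iSup_congr hcon
    rw [this, iSup_const]
  have hXmin : MinNonscalar (M.map (MulAut.conj (h : GL (Fin n) F)).toMonoidHom) N :=
    ascsimple_cj_min hN.1 hM h.2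
  rcases min_commute hM hXmin hMperf with h1 | h1
  · exact hh h1.symm
  · apply hXmin.2.1
    intro b hb
    exact ased2tabs_scalar_of_comm hMA b (fun a ha => h1 a ha b hb)

end Cfsg.Agent.Lib.helper23.ASE
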