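import Mathlib
import Cfsg.Prelude.Def_CaseTheorems
import Cfsg.Agent.Lib.helper7.BR.Defs
import Cfsg.Agent.Lib.Helper18.BRF.Defs

/-!
# Project BRF (S4700) : pieces FCRIT (`ff_of_factor`), COREB (`exists_neg`), CENP (`cen_eq_of_reg_trivial`)
-/

set_option autoImplicit false
set_option linter.unusedVariables false
set_option linter.unusedSectionVars false

namespace Cfsg.Agent.Lib.Helper18.BRF

open Classical
open Cfsg.Agent.Lib.Helper25
open Cfsg.Agent.Lib.helper7.BR

universe u

/-- FCRIT : if `1 + n p` has a proper factorization with a factor `1 + n' p`, `n' ≥ 1`, then `FF p n`.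
(`m = 1 + j p`, `j ≥ 1`, `n = n' + j + n' j p`; take `u = n'`, `h = (n' + 1) j`.) -/
theorem ff_of_factor (p n n' m : ℕ) (hp : p.Prime) (hn' : 1 ≤ n') (hm : 2 ≤ m)
    (h : 1 + n * p = (1 + n' * p) * m) : FF p n := by
  have hp2 := hp.two_le
  have hppos : 0 < p := hp.pos
  -- `m ≡ 1 mod p`
  have hmod : m % p = 1 := by
    have h1 : (1 + n * p) % p = 1 := by
      rw [Nat.add_mul_mod_self_right, Nat.mod_eq_of_lt (by omega)]
    have h2 : ((1 + n' * p) * m) % p = m % p := by
      rw [Nat.mul_mod, Nat.add_mul_mod_self_right, Nat.mod_eq_of_lt (by omega : 1 < p), one_mul,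
        Nat.mod_mod]
    rw [h, h2] at h1
    exact h1
  obtain ⟨j, hj⟩ : ∃ j : ℕ, m = 1 + j * p := ⟨m / p, by
    have := Nat.div_add_mod m p
    rw [hmod] at this
    rw [mul_comm]
    omega⟩
  have hj1 : 1 ≤ j := by
    rcases Nat.eq_zero_or_pos j with h0 | h0
    · rw [h0] at hj
      omega
    · exact h0
  rw [hj] at h
  have hn : n = n' + j + n' * j * p := by
    have h3 : n * p = (n' + j + n' * j * p) * p := by
      have : (1 + n' * p) * (1 + j * p) = 1 + (n' + j + n' * j * p) * p := by ring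
      rw [this] at h
      omega
    exact Nat.eq_of_mul_eq_mul_right hppos h3
  refine ⟨(n' + 1) * j, n', by positivity, by omega, ?_⟩
  rw [hn]
  ring

/-- COREB : in the situation of COREF some member of `X` has `a = -1` (and then degree `p - 1`).
(`ε = 1`: `c (n + 1) + 1 = q` gives `c ≤ (q - 1)/2 < q - 1`.  `ε = -1`: `v + v c t = q - 1` gives
`c t ≤ q - 2`.  So `b = q - 1 - c ≥ 1`.) -/
theorem exists_neg {ι : Type*} (X : Finset ι) (triv : ι) (htriv : triv ∈ X) (a : ι → ℤ) (d : ι → ℕ)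
    (p q n t z : ℕ) (ε : ℤ) (hq : 2 ≤ q) (ht : 2 ≤ t) (hn : 1 ≤ n) (hcard : X.card = q)
    (ha : ∀ i ∈ X, a i = 1 ∨ a i = -1) (hatriv : a triv = 1)
    (hcls : ∀ i ∈ X, i ≠ triv → (a i = 1 ∧ d i = 1 + n * p) ∨ (a i = -1 ∧ d i + 1 = p))
    (hcase : (ε = 1 ∧ z = q ∧ (X.filter (fun i => i ≠ triv ∧ a i = 1)).card * (n + 1) + 1 = q) ∨
     (ε = -1 ∧ ∃ v : ℕ, 1 ≤ v ∧ z + q = v * p ∧ n + 1 = v * t ∧
        v * (1 + (X.filter (fun i => i ≠ triv ∧ a i = 1)).card * t) + 1 = q)) :
    ∃ i ∈ X, a i = -1 ∧ d i + 1 = p := by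
  by_contra hcon
  have hall : ∀ i ∈ X, i ≠ triv → a i = 1 := by
    intro i hi hne
    rcases hcls i hi hne with h | h
    · exact h.1
    · exact absurd ⟨i, hi, h.1, h.2⟩ hcon
  have hfilt : X.filter (fun i => i ≠ triv ∧ a i = 1) = X.erase triv := by
    ext i
    rw [Finset.mem_filter, Finset.mem_erase]
    constructor
    · rintro ⟨hi, hne, _⟩
      exact ⟨hne, hi⟩
    · rintro ⟨hne, hi⟩
      exact ⟨hi, hne, hall i hi hne⟩
  have hc : (X.filter (fun i => i ≠ triv ∧ a i = 1)).card = q - 1 := by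
    rw [hfilt, Finset.card_erase_of_mem htriv, hcard]
  rw [hc] at hcase
  obtain ⟨c, hcq⟩ : ∃ c : ℕ, q = c + 1 := ⟨q - 1, by omega⟩
  have hc1 : 1 ≤ c := by omega
  rw [hcq, Nat.add_sub_cancel] at hcase
  rcases hcase with ⟨_, _, h1⟩ | ⟨_, v, hv, _, _, h2⟩
  · have : c * n = 0 := by nlinarith
    rcases mul_eq_zero.mp this with h0 | h0 <;> omega
  · have h3 : 1 * (1 + c * 2) ≤ v * (1 + c * t) :=
      Nat.mul_le_mul hv (by nlinarith)
    omega

section main

variable {G : Type u} [Group G] [Fintype G] {p : ℕ} [Fact p.Prime]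

/-- `p²` does not divide the group order when the Sylow subgroup has order `p` -/
theorem brfcenp_sq_not_dvd (P : Sylow p G) (hP : Nat.card ↥(P : Subgroup G) = p) :
    ¬ p ^ 2 ∣ Nat.card G := by
  have hp := (Fact.out : p.Prime)
  intro hdvd
  have h1 := P.card_eq_multiplicity
  rw [hP] at h1
  have h2 : (Nat.card G).factorization p = 1 := by
    have : p ^ 1 = p ^ (Nat.card G).factorization p := by rw [pow_one]; exact h1
    exact (Nat.pow_right_injective hp.two_le this).symm
  have h3 : 2 ≤ (Nat.card G).factorization p :=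
    (hp.pow_dvd_iff_le_factorization Nat.card_pos.ne').mp hdvd
  omega

/-- CENP : if the `p`-regular elements of `C_G(P)` are trivial then `C_G(P) = P`.
(`c ∈ C_G(P)`: `c ^ p` is `p`-regular as `p² ∤ |G|`, so `c ^ p = 1`; `C_G(P)` is a `p`-group containing the
Sylow subgroup `P`.) -/
theorem cen_eq_of_reg_trivial (P : Sylow p G) (hP : Nat.card ↥(P : Subgroup G) = p)
    (h : ∀ y ∈ cen P, ¬ p ∣ orderOf y → y = 1) : cen P = (P : Subgroup G) := by
  have hp := (Fact.out : p.Prime)
  have hsq := brfcenp_sq_not_dvd P hP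
  -- `P` is abelian
  have hcyc : IsCyclic ↥(P : Subgroup G) := isCyclic_of_prime_card hP
  have hPle : (P : Subgroup G) ≤ cen P := by
    intro x hx
    rw [Subgroup.mem_centralizer_iff]
    intro y hy
    have := IsCyclic.commGroup.mul_comm (⟨y, hy⟩ : ↥(P : Subgroup G)) ⟨x, hx⟩
    exact congrArg Subtype.val this
  -- every element of `C_G(P)` has order dividing `p`
  have hpow : ∀ c ∈ cen P, c ^ p = 1 := by
    intro c hc
    apply h _ ((cen P).pow_mem hc p)
    intro hdiv
    rw [orderOf_pow] at hdiv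
    by_cases hpo : p ∣ orderOf c
    · have hg : Nat.gcd (orderOf c) p = p := Nat.gcd_eq_right hpo
      rw [hg] at hdiv
      have h2 : p * p ∣ orderOf c := by
        obtain ⟨k, hk⟩ := hdiv
        have := Nat.div_mul_cancel hpo
        rw [hk] at this
        exact ⟨k, by rw [← this]; ring⟩
      apply hsq
      rw [pow_two]
      exact h2.trans (orderOf_dvd_natCard c)
    · have hg : Nat.gcd (orderOf c) p = 1 := by
        rw [Nat.gcd_comm]
        exact (Nat.Prime.coprime_iff_not_dvd hp).mpr hpo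
      rw [hg, Nat.div_one] at hdiv
      exact hpo hdiv
  have hpg : IsPGroup p ↥(cen P) := by
    intro c
    refine ⟨1, ?_⟩
    rw [pow_one]
    apply Subtype.ext
    rw [Subgroup.coe_pow]
    exact hpow c c.2
  obtain ⟨Q, hQ⟩ := hpg.exists_le_sylow
  have hcard : Nat.card ↥(Q : Subgroup G) = Nat.card ↥(P : Subgroup G) := by
    rw [Q.card_eq_multiplicity, P.card_eq_multiplicity]
  have hle2 : Nat.card ↥(cen P) ≤ Nat.card ↥(P : Subgroup G) := by
    rw [← hcard]
    exact Nat.card_le_card_of_injective (Subgroup.inclusion hQ) (Subgroup.inclusion_injective hQ)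
  exact (Subgroup.eq_of_le_of_card_ge hPle hle2).symm

end main

end Cfsg.Agent.Lib.Helper18.BRF
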