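import Mathlib
import Cfsg.Agent.Lib.helper7.CED.Defs
import Cfsg.Agent.Lib.Lead.SPN.Defs

/-!
# Project CED (designer helper7), row M1 (helper29): `zz_map`, `zz_restrict` (verbatim): the spin element of the image and of the
restriction of a system.
-/

set_option autoImplicit false

namespace Cfsg.Agent.Lib.helper7.CED

open Cfsg.Agent.Lib.helper15.St2 Cfsg.Agent.Lib.helper7.Ce Cfsg.Agent.Lib.helper3.STC Cfsg.Agent.Lib.Lead.STD
  Cfsg.Agent.Lib.helper7.CEC

section M

universe v w

/-- M1 [S]  the spin element of the image and of the restriction of a system. -/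
theorem zz_map {K : Type*} [Field K] {ι : Type*} {G G' : Type*} [Group G] [Group G'] (S : SysD K ι G) (f : G →* G') (a b : ι ⊕ ι) :
    zz (S.map f) a b = f (zz S a b) := by
  unfold zz
  rw [SysD.map_h, SysD.map_h, map_mul]

theorem zz_restrict {K : Type*} [Field K] {ι : Type*} {G : Type*} [Group G] (S : SysD K ι G) (L : Subgroup G) (hL : ∀ a b t, S.x a b t ∈ L)
    (a b : ι ⊕ ι) : ((zz (S.restrict L hL) a b : L) : G) = zz S a b := by
  rfl

end M

end Cfsg.Agent.Lib.helper7.CED
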