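import Mathlib
import Cfsg.Agent.Lib.helper7.CED.Defs
import Cfsg.Agent.Lib.Helper18.STDR5
import Cfsg.Agent.Lib.Helper24.STCI1

/-!
# Project CED (designer helper7), row M10 (helper29): `rep_zz` (verbatim): a representation kills the spin element.
-/

set_option autoImplicit false

namespace Cfsg.Agent.Lib.helper7.CED

open Cfsg.Agent.Lib.helper15.St2 Cfsg.Agent.Lib.helper7.Ce Cfsg.Agent.Lib.helper3.STC Cfsg.Agent.Lib.Lead.STD
  Cfsg.Agent.Lib.helper7.CEC

section M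

universe v w

/-- a matrix fixing all the basis vectors is `1` -/
theorem cedm10_eq_one {l : Type*} [Fintype l] [DecidableEq l] {K : Type*} [Field K] (M : Matrix (l ⊕ l) (l ⊕ l) K)
    (h : ∀ c : l ⊕ l, M.mulVec (ev c) = ev c) : M = 1 := by
  ext i c
  have h1 := congrFun (h c) i
  unfold ev at h1
  rw [Matrix.mulVec_single_one] at h1
  rw [Matrix.one_apply, Pi.single_apply] at *
  exact h1

variable {K : Type*} [Field K] [Finite K] {ι : Type*} {G : Type*} [Group G] (S : SysD K ι G)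

/-- M10 [M]  a representation kills the spin element. -/
theorem rep_zz {l : Type*} [Fintype l] [DecidableEq l] (R : S.Rep l) {a b : ι ⊕ ι} (hab : ab a ≠ ab b) : R.φ (zz S a b) = 1 := by
  have hab1 : a ≠ b := fun e => hab (by rw [e])
  have hab2 : a ≠ ng b := fun e => hab (by rw [e, ab_ng])
  have hab3 : a ≠ ng (ng b) := by rw [ng_ng]; exact hab1
  have hm1 : (-1 : K) ≠ 0 := by simp
  have hinv : (-1 : K)⁻¹ = -1 := by rw [inv_neg, inv_one]
  have hsq : (-1 : K) * (-1) = 1 := by ring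
  apply SysD.Rep.phi_eq_one_of_M
  apply cedm10_eq_one
  intro c
  unfold zz
  rw [SysD.Rep.M_mul, ← Matrix.mulVec_mulVec]
  by_cases h1 : c = Em R.e a
  · rw [h1, SysD.Rep.M_h_fst R hab2 hab3 (-1) hm1, Matrix.mulVec_smul, SysD.Rep.M_h_fst R hab1 hab2 (-1) hm1,
      smul_smul, hsq, one_smul]
  by_cases h2 : c = Em R.e b
  · have e : (R.M (S.h a (ng b) (-1))).mulVec (ev (Em R.e b)) = (-1 : K) • ev (Em R.e b) := by
      have := SysD.Rep.M_h_nb R hab2 hab3 (-1) hm1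
      rwa [ng_ng] at this
    rw [h2, e, Matrix.mulVec_smul, SysD.Rep.M_h_snd R hab1 hab2 (-1) hm1, smul_smul, hinv, hsq, one_smul]
  by_cases h3 : c = Em R.e (ng a)
  · rw [h3, SysD.Rep.M_h_na R hab2 hab3 (-1) hm1, Matrix.mulVec_smul, SysD.Rep.M_h_na R hab1 hab2 (-1) hm1,
      smul_smul, hinv, hsq, one_smul]
  by_cases h4 : c = Em R.e (ng b)
  · rw [h4, SysD.Rep.M_h_snd R hab2 hab3 (-1) hm1, Matrix.mulVec_smul, SysD.Rep.M_h_nb R hab1 hab2 (-1) hm1,
      smul_smul, hinv, hsq, one_smul]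
  · have h5 : c ≠ Em R.e (ng (ng b)) := by rw [ng_ng]; exact h2
    rw [SysD.Rep.stdr5_M_h_of_ne R hab2 hab3 (-1) hm1 h1 h4 h3 h5,
      SysD.Rep.stdr5_M_h_of_ne R hab1 hab2 (-1) hm1 h1 h2 h3 h4]

end M

end Cfsg.Agent.Lib.helper7.CED
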