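import Mathlib
import Cfsg.Agent.Lib.Helper18.OPE.Defs2

set_option autoImplicit false
set_option linter.unusedVariables false
set_option linter.unusedSectionVars false

/-!
# Project OPE (S5974 + S5988; designer helper18): common lemmas for the arithmetic rows ARITHSUFF / ARITHNEC (helper29).
-/

namespace Cfsg.Agent.Lib.Helper18.OPE

theorem opearith_sg_odd {i : ℕ} (hi : ¬ Even i) (b : ℕ) : sg i b = 1 := by
  unfold sg; rw [if_neg hi]

theorem opearith_sg_even {i : ℕ} (hi : Even i) (b : ℕ) : sg i b = (-1) ^ b := by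
  unfold sg; rw [if_pos hi]

theorem opearith_sg_pm (i b : ℕ) : sg i b = 1 ∨ sg i b = -1 := by
  unfold sg; split_ifs
  · exact neg_one_pow_eq_or ℤ b
  · left; rfl

theorem opearith_one_eq_pow (t : ℕ) : (1 : ℤ) = (-1) ^ t ↔ Even t := by
  rcases Nat.even_or_odd t with h | h
  · simp [h.neg_one_pow, h]
  · have : ¬ Even t := Nat.not_even_iff_odd.mpr h
    simp [h.neg_one_pow, this]

theorem opearith_neg_eq_pow (t : ℕ) : (-1 : ℤ) = (-1) ^ t ↔ Odd t := by
  rcases Nat.even_or_odd t with h | h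
  · have : ¬ Odd t := Nat.not_odd_iff_even.mpr h
    simp [h.neg_one_pow, this]
  · simp [h.neg_one_pow, h]

/-- the `r`-odd right-hand side for `i` even, in a uniform shape -/
theorem opearith_rr_even (i d m : ℕ) (s : ℤ) (hie : Even i) (hs : s = 1 ∨ s = -1) :
    RR i i d m s ↔
      (((2 * d) % i = 0 ∧ (Odd ((2 * d) / i) ∨ (m % i = 0 ∧ s = (-1) ^ (m / i)))) ∨
        (i ≤ m ∧ ((0 < m % i ∧ m % i < (2 * d) % i) ∨
          (0 < m % i ∧ m % i = (2 * d) % i ∧ s = (-1) ^ ((2 * d + m - 2 * ((2 * d) % i)) / i)) ∨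
          (m % i = 0 ∧ 0 < (2 * d) % i ∧ s = (-1) ^ (m / i))))) := by
  have hio : ¬ Odd i := Nat.not_odd_iff_even.mpr hie
  have h1 : (1 : ℤ) ≠ -1 := by norm_num
  have h2 : (-1 : ℤ) ≠ 1 := by norm_num
  rcases hs with rfl | rfl
  · unfold RR R74 R88
    simp only [opearith_one_eq_pow, hio, hie, h1, false_and, true_and, or_false, false_or]
    constructor
    · rintro (⟨hk, h⟩ | ⟨him, h⟩)
      · exact Or.inl ⟨hk, h⟩
      · refine Or.inr ⟨him, ?_⟩
        rcases h with ⟨a, b⟩ | ⟨a, b, c⟩ | ⟨a, b, c⟩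
        · exact Or.inl ⟨b, a⟩
        · exact Or.inr (Or.inl ⟨b, a.symm, c⟩)
        · exact Or.inr (Or.inr ⟨b, a, c⟩)
    · rintro (⟨hk, h⟩ | ⟨him, h⟩)
      · exact Or.inl ⟨hk, h⟩
      · refine Or.inr ⟨him, ?_⟩
        rcases h with ⟨a, b⟩ | ⟨a, b, c⟩ | ⟨a, b, c⟩
        · exact Or.inl ⟨b, a⟩
        · exact Or.inr (Or.inl ⟨b.symm, a, c⟩)
        · exact Or.inr (Or.inr ⟨b, a, c⟩)
  · unfold RR R74 R88
    simp only [opearith_neg_eq_pow, hio, hie, h2, false_and, true_and, or_false, false_or]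

/-- the `r`-odd right-hand side for `i` odd -/
theorem opearith_rr_odd (i c d m : ℕ) (s : ℤ) (hie : ¬ Even i) (hs : s = 1 ∨ s = -1) :
    RR i c d m s ↔
      (c ≤ m ∧ ((s = 1 ∧ m % c ≤ (2 * d) % c) ∨ (s = -1 ∧ 0 < m % c ∧ m % c < (2 * d) % c))) := by
  have hio : Odd i := Nat.not_even_iff_odd.mp hie
  have h1 : (1 : ℤ) ≠ -1 := by norm_num
  have h2 : (-1 : ℤ) ≠ 1 := by norm_num
  rcases hs with rfl | rfl
  · unfold RR R74 R88
    simp only [hio, hie, h1, false_and, true_and, or_false, false_or, and_false]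
  · unfold RR R74 R88
    simp only [hio, hie, h2, false_and, true_and, or_false, false_or, and_false]

end Cfsg.Agent.Lib.Helper18.OPE
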