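import Mathlib
import Cfsg.Agent.Lib.helper8.OME.Defs
import Cfsg.Agent.Lib.Helper29.OPEARITHcore

set_option autoImplicit false
set_option linter.unusedVariables false
set_option linter.unusedSectionVars false

/-!
# Project OME (S5990; designer helper8), row ARITHNEC (`ome_arith_nec`) (helper29).  Twin of Helper29/OPEARITHNEC.lean.
-/

namespace Cfsg.Agent.Lib.helper8.OME

open Cfsg.Agent.Lib.Helper18.OPE

/-- `i ∣ d - 1 - j` gives `2d = c q + 2j + 2` -/
theorem omearithnec_keyD (i c d : ℕ) (hc : c = if Even i then i else 2 * i) (j : ℕ) (hj : j + 1 ≤ d)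
    (hdvd : i ∣ d - 1 - j) : ∃ q, 2 * d = c * q + (2 * j + 2) := by
  obtain ⟨q, hq⟩ := hdvd
  by_cases hie : Even i
  · rw [if_pos hie] at hc
    refine ⟨2 * q, ?_⟩
    rw [hc]
    have : i * (2 * q) = 2 * (i * q) := by ring
    rw [this]; omega
  · rw [if_neg hie] at hc
    refine ⟨q, ?_⟩
    rw [hc]
    have : 2 * i * q = 2 * (i * q) := by ring
    rw [this]; omega

/-- `(d - j) % i = i / 2`, `i` even, gives `2d = c q + 2j` with `sg i q = -1` -/
theorem omearithnec_keyE (i c d : ℕ) (hc : c = if Even i then i else 2 * i) (j : ℕ) (hj : j ≤ d)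
    (hie : Even i) (hmod : (d - j) % i = i / 2) :
    ∃ q, 2 * d = c * q + 2 * j ∧ sg i q = -1 := by
  rw [if_pos hie] at hc
  have hdiv := Nat.div_add_mod (d - j) i
  rw [hmod] at hdiv
  have hie' := hie
  obtain ⟨i2, hi2⟩ := hie'
  have hhalf : i / 2 = i2 := by omega
  refine ⟨2 * ((d - j) / i) + 1, ?_, ?_⟩
  · rw [hc]
    have : i * (2 * ((d - j) / i) + 1) = 2 * (i * ((d - j) / i)) + i := by ring
    rw [this]; omega
  · rw [opearith_sg_even hie]; exact (odd_two_mul_add_one _).neg_one_pow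

/-- what the count condition gives -/
theorem omearithnec_cc (i c d m : ℕ) (hi1 : 1 ≤ i) (hc : c = if Even i then i else 2 * i)
    (hme : Even m) (hm : 2 ≤ m) (hmn : m + 2 ≤ 2 * d) (hC : CEm i d (m / 2)) :
    ∃ t q, t ≤ m ∧ 2 * d = c * q + t ∧ (t = m → sg i q = -1) := by
  obtain ⟨h, hh⟩ := hme
  have hm2 : m / 2 = h := by omega
  rw [hm2] at hC
  rcases hC with ⟨j, hj, halt⟩ | ⟨hie, halt⟩
  · rcases halt with ⟨hie, hmod⟩ | hdvd
    · obtain ⟨q, hq, hsg⟩ := omearithnec_keyE i c d hc j (by omega) hie hmod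
      exact ⟨2 * j, q, by omega, hq, fun ht => by omega⟩
    · obtain ⟨q, hq⟩ := omearithnec_keyD i c d hc j (by omega) hdvd
      exact ⟨2 * j + 2, q, by omega, hq, fun ht => by omega⟩
  · rcases halt with hmod | hmod
    · have : d - h + 1 = d - (h - 1) := by omega
      rw [this] at hmod
      obtain ⟨q, hq, hsg⟩ := omearithnec_keyE i c d hc (h - 1) (by omega) hie hmod
      exact ⟨2 * (h - 1), q, by omega, hq, fun ht => by omega⟩
    · obtain ⟨q, hq, hsg⟩ := omearithnec_keyE i c d hc h (by omega) hie hmod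
      exact ⟨2 * h, q, by omega, hq, fun _ => hsg⟩

/-- ARITHNEC -/
theorem ome_arith_nec (i c d m : ℕ) (hi1 : 1 ≤ i) (hc : c = if Even i then i else 2 * i)
    (hd : 4 ≤ d) (hme : Even m) (hm : 2 ≤ m) (hmn : m + 2 ≤ 2 * d) (hC : CEm i d (m / 2))
    (hfit : 1 ≤ AmaxM i c d → Fits c i (-1) d m (-1) (AmaxM i c d)) : RM i c d m := by
  have hc1 : 1 ≤ c := by
    rw [hc]; split_ifs <;> omega
  obtain ⟨t, q, htm, hnq, hts⟩ := omearithnec_cc i c d m hi1 hc hme hm hmn hC
  have hmM : c * (m / c) + m % c = m := Nat.div_add_mod m c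
  have hl : m % c < c := Nat.mod_lt _ hc1
  have hnN : c * (2 * d / c) + (2 * d) % c = 2 * d := Nat.div_add_mod (2 * d) c
  have hk : (2 * d) % c < c := Nat.mod_lt _ hc1
  have hq1 : 1 ≤ q := by
    rcases Nat.eq_zero_or_pos q with h | h
    · rw [h, Nat.mul_zero] at hnq; omega
    · exact h
  have hN1 : 1 ≤ 2 * d / c := by
    have : c ≤ c * q := Nat.le_mul_of_pos_right c hq1
    exact (Nat.one_le_div_iff hc1).mpr (by omega)
  have hsmall : m < c → (2 * d) % c = t ∧ 2 * d / c = q ∧ m / c = 0 ∧ m % c = m := by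
    intro hmc
    refine ⟨?_, ?_, Nat.div_eq_of_lt hmc, Nat.mod_eq_of_lt hmc⟩
    · rw [hnq, Nat.mul_add_mod]; exact Nat.mod_eq_of_lt (by omega)
    · rw [hnq, Nat.mul_add_div hc1, Nat.div_eq_of_lt (by omega)]; rfl
  by_cases hcase : (2 * d) % c = 0 ∧ (Odd i ∨ Even (2 * d / i))
  · obtain ⟨hk0, hX⟩ := hcase
    unfold RM
    by_cases hie : Even i
    · right
      refine ⟨hie, Or.inl ⟨hk0, Or.inl ?_⟩⟩
      rcases hX with h | h
      · exact absurd hie (Nat.not_even_iff_odd.mpr h)
      · exact h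
    · left
      exact ⟨Nat.not_even_iff_odd.mp hie, Or.inl hk0⟩
  · have hAmax : AmaxM i c d = 2 * d / c := by unfold AmaxM; rw [if_neg hcase]
    rw [hAmax] at hfit
    obtain ⟨b, hbN, hbm, hcl⟩ := hfit hN1
    have hbM : c * b < m → m - c * b < c → m / c = b := by
      intro h1 h2
      apply le_antisymm
      · by_contra hcon
        have : c * (b + 1) ≤ c * (m / c) := Nat.mul_le_mul_left _ (not_le.mp hcon)
        rw [Nat.mul_succ] at this
        omega
      · exact (Nat.le_div_iff_mul_le hc1).mpr (by rw [Nat.mul_comm]; exact hbm)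
    have hsg0 : sg i 0 = 1 := by
      unfold sg; split_ifs <;> simp
    have hnf : (m % c = 0 ∧ (-1 : ℤ) = sg i (m / c) ∧ c ≤ m) ∨
        (c ≤ m ∧ 0 < m % c ∧ m % c < (2 * d) % c) ∨
        (c ≤ m ∧ 0 < m % c ∧ m % c = (2 * d) % c ∧ sg i (m / c) = sg i (2 * d / c)) := by
      rcases hcl with ⟨h1, h2⟩ | ⟨h1, h2⟩ | ⟨h1, h2, h3⟩
      · have hb : m / c = b := by rw [h1]; exact Nat.mul_div_cancel_left _ hc1
        have hl0 : m % c = 0 := by rw [h1]; exact Nat.mul_mod_right _ _
        have hb1 : 1 ≤ b := by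
          rcases Nat.eq_zero_or_pos b with h | h
          · rw [h, Nat.mul_zero] at h1; omega
          · exact h
        have : c ≤ c * b := Nat.le_mul_of_pos_right c hb1
        exact Or.inl ⟨hl0, by rw [hb]; exact h2, by omega⟩
      · have hb : m / c = b := hbM h1 (by omega)
        subst hb
        have hcm : c ≤ m := by
          by_contra hmc
          obtain ⟨e1, e2, e3, e4⟩ := hsmall (not_le.mp hmc)
          have hz : c * (m / c) = 0 := by rw [e3, Nat.mul_zero]
          omega
        exact Or.inr (Or.inl ⟨hcm, by omega, by omega⟩)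
      · have hb : m / c = b := hbM h1 (by omega)
        subst hb
        have h3' : sg i (m / c) = sg i (2 * d / c) := by
          have := h3
          rw [neg_one_mul, neg_one_mul, neg_inj] at this
          exact this
        have hcm : c ≤ m := by
          by_contra hmc
          obtain ⟨e1, e2, e3, e4⟩ := hsmall (not_le.mp hmc)
          have hz : c * (m / c) = 0 := by rw [e3, Nat.mul_zero]
          have htm' : t = m := by
            omega
          have hs2 := hts htm'
          rw [e3, hsg0, e2, hs2] at h3'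
          norm_num at h3'
        exact Or.inr (Or.inr ⟨hcm, by omega, by omega, h3'⟩)
    by_cases hie : Even i
    · rw [if_pos hie] at hc
      subst hc
      unfold RM
      right
      refine ⟨hie, ?_⟩
      rcases hnf with ⟨hl0, hsM, hcm⟩ | ⟨hcm, hl0, hlk⟩ | ⟨hcm, hl0, hlk, hsNM⟩
      · rw [opearith_sg_even hie] at hsM
        have hMo : Odd (m / c) := (opearith_neg_eq_pow _).mp hsM
        by_cases hk0 : (2 * d) % c = 0
        · exact Or.inl ⟨hk0, Or.inr ⟨hl0, hMo⟩⟩
        · exact Or.inr ⟨Nat.pos_of_ne_zero hk0, hcm, Or.inr (Or.inl ⟨hl0, hMo⟩)⟩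
      · exact Or.inr ⟨by omega, hcm, Or.inl ⟨hl0, hlk⟩⟩
      · refine Or.inr ⟨by omega, hcm, Or.inr (Or.inr ⟨hlk, ?_⟩)⟩
        have hNM : (2 * d + m - 2 * ((2 * d) % c)) / c = 2 * d / c + m / c := by
          have : 2 * d + m - 2 * ((2 * d) % c) = c * (2 * d / c + m / c) := by
            rw [Nat.mul_add]; omega
          rw [this]
          exact Nat.mul_div_cancel_left _ hc1
        rw [hNM]
        rw [opearith_sg_even hie, opearith_sg_even hie] at hsNM
        rw [Nat.even_add]
        constructor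
        · intro hN
          by_contra hM
          have hMo := Nat.not_even_iff_odd.mp hM
          rw [hN.neg_one_pow, hMo.neg_one_pow] at hsNM
          norm_num at hsNM
        · intro hM
          by_contra hN
          have hNo := Nat.not_even_iff_odd.mp hN
          rw [hM.neg_one_pow, hNo.neg_one_pow] at hsNM
          norm_num at hsNM
    · have hio := Nat.not_even_iff_odd.mp hie
      unfold RM
      left
      refine ⟨hio, Or.inr ?_⟩
      rcases hnf with ⟨hl0, hsM, hcm⟩ | ⟨hcm, hl0, hlk⟩ | ⟨hcm, hl0, hlk, hsNM⟩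
      · rw [opearith_sg_odd hie] at hsM
        norm_num at hsM
      · exact ⟨hcm, hl0, hlk.le⟩
      · exact ⟨hcm, hl0, hlk.le⟩

end Cfsg.Agent.Lib.helper8.OME
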