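import Mathlib
import Cfsg.Prelude.Def_Spor_Ru

set_option autoImplicit false

namespace Cfsg.Agent.Lib.Helper29

open Cfsg.Spor

/-- Hermitian product on `RuVec`. -/
def rvlHerm (x y : RuVec) : GaussianInt := ∑ p, x p * star (y p)

theorem rvlHerm_add_left (x x' y : RuVec) : rvlHerm (x + x') y = rvlHerm x y + rvlHerm x' y := by
  simp only [rvlHerm, Pi.add_apply, add_mul, Finset.sum_add_distrib]

theorem rvlHerm_neg_left (x y : RuVec) : rvlHerm (-x) y = - rvlHerm x y := by
  simp only [rvlHerm, Pi.neg_apply, neg_mul, Finset.sum_neg_distrib]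

theorem rvlHerm_zero_left (y : RuVec) : rvlHerm 0 y = 0 := by
  simp only [rvlHerm, Pi.zero_apply, zero_mul, Finset.sum_const_zero]

theorem rvlHerm_smul_left (a : GaussianInt) (x y : RuVec) :
    rvlHerm (a • x) y = a * rvlHerm x y := by
  simp only [rvlHerm, Pi.smul_apply, smul_eq_mul, Finset.mul_sum, mul_assoc]

theorem rvlHerm_add_right (x y y' : RuVec) : rvlHerm x (y + y') = rvlHerm x y + rvlHerm x y' := by
  simp only [rvlHerm, Pi.add_apply, star_add, mul_add, Finset.sum_add_distrib]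

theorem rvlHerm_zero_right (x : RuVec) : rvlHerm x 0 = 0 := by
  simp only [rvlHerm, Pi.zero_apply, star_zero, mul_zero, Finset.sum_const_zero]

theorem rvlHerm_smul_right (a : GaussianInt) (x y : RuVec) :
    rvlHerm x (a • y) = star a * rvlHerm x y := by
  simp only [rvlHerm, Pi.smul_apply, smul_eq_mul, Finset.mul_sum, star_mul]
  refine Finset.sum_congr rfl fun p _ => ?_
  ring_nf

theorem rvlHerm_neg_right (x y : RuVec) : rvlHerm x (-y) = - rvlHerm x y := by
  simp only [rvlHerm, Pi.neg_apply, star_neg, mul_neg, Finset.sum_neg_distrib]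

theorem rvlHerm_conj (x y : RuVec) : rvlHerm y x = star (rvlHerm x y) := by
  simp only [rvlHerm, star_sum, star_mul, star_star]

theorem rvl_star_gI : star gI = -gI := by
  apply Zsqrtd.ext <;> simp [gI]

theorem rvl_gI_mul_gI : gI * gI = -1 := by
  apply Zsqrtd.ext <;> simp [gI]

/-- adjoint of `ruRj` -/
def rvlRjDag (v : RuVec) : RuVec := fun p => - ruRj v p
/-- adjoint of `ruRk` -/
def rvlRkDag (v : RuVec) : RuVec := fun p => - ruRk v p
/-- adjoint (= inverse) of `ruShift` -/
def rvlShInv (v : RuVec) : RuVec := fun p => v (p.1 - 1, p.2)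

theorem rvlHerm_Rj (x y : RuVec) : rvlHerm (ruRj x) y = rvlHerm x (rvlRjDag y) := by
  simp only [rvlHerm, Fintype.sum_prod_type, Fin.sum_univ_four]
  refine Finset.sum_congr rfl fun n _ => ?_
  simp only [ruRj, rvlRjDag, star_neg, star_mul, rvl_star_gI]
  ring_nf
  try simp only [rvl_gI_mul_gI]
  try ring

theorem rvlHerm_Rk (x y : RuVec) : rvlHerm (ruRk x) y = rvlHerm x (rvlRkDag y) := by
  simp only [rvlHerm, Fintype.sum_prod_type, Fin.sum_univ_four]
  refine Finset.sum_congr rfl fun n _ => ?_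
  simp only [ruRk, rvlRkDag, star_neg, star_mul, rvl_star_gI]
  ring_nf
  try simp only [rvl_gI_mul_gI]
  try ring

theorem rvlHerm_Sign (x y : RuVec) : rvlHerm (ruSign x) y = rvlHerm x (ruSign y) := by
  simp only [rvlHerm]
  refine Finset.sum_congr rfl fun p _ => ?_
  simp only [ruSign]
  split_ifs <;> simp

theorem rvlHerm_Shift (x y : RuVec) : rvlHerm (ruShift x) y = rvlHerm x (rvlShInv y) := by
  simp only [rvlHerm, ruShift, rvlShInv]
  refine Fintype.sum_equiv (Equiv.prodCongr (Equiv.addRight 1) (Equiv.refl _)) _ _ fun p => ?_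
  obtain ⟨n, t⟩ := p
  simp


/-! ### norms -/

theorem rvl_norm_eq (z : GaussianInt) : z.norm = z.re * z.re + z.im * z.im := by
  simp [Zsqrtd.norm_def]

theorem rvl_norm_nonneg (z : GaussianInt) : 0 ≤ z.norm := Zsqrtd.norm_nonneg (by norm_num) z

theorem rvl_norm_gI : gI.norm = 1 := by simp [gI, Zsqrtd.norm_def]

theorem ruNorm_nonneg (x : RuVec) : 0 ≤ ruNorm x :=
  Finset.sum_nonneg fun p _ => rvl_norm_nonneg (x p)

theorem ruNorm_pos {x : RuVec} (hx : x ≠ 0) : 0 < ruNorm x := by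
  obtain ⟨p, hp⟩ : ∃ p, x p ≠ 0 := by
    by_contra h
    push Not at h
    exact hx (funext h)
  have h1 : 0 < (x p).norm := by
    rcases (rvl_norm_nonneg (x p)).lt_or_eq with h | h
    · exact h
    · exact absurd ((Zsqrtd.norm_eq_zero_iff (by norm_num) _).1 h.symm) hp
  calc 0 < (x p).norm := h1
    _ ≤ ruNorm x := Finset.single_le_sum (f := fun p => (x p).norm)
        (fun q _ => rvl_norm_nonneg (x q)) (Finset.mem_univ p)

theorem ruNorm_smul (a : GaussianInt) (x : RuVec) : ruNorm (a • x) = a.norm * ruNorm x := by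
  simp only [ruNorm, Pi.smul_apply, smul_eq_mul, Zsqrtd.norm_mul, Finset.mul_sum]

theorem ruNorm_neg (x : RuVec) : ruNorm (-x) = ruNorm x := by
  simp only [ruNorm, Pi.neg_apply, Zsqrtd.norm_neg]

/-- real part as an additive hom -/
def rvlReHom : GaussianInt →+ ℤ where
  toFun := Zsqrtd.re
  map_zero' := rfl
  map_add' := Zsqrtd.re_add

theorem ruNorm_add (x y : RuVec) :
    ruNorm (x + y) = ruNorm x + ruNorm y + 2 * (rvlHerm x y).re := by
  have h : ∀ z w : GaussianInt, (z + w).norm = z.norm + w.norm + 2 * (z * star w).re := by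
    intro z w
    simp only [rvl_norm_eq, Zsqrtd.re_add, Zsqrtd.im_add, Zsqrtd.re_mul, Zsqrtd.re_star,
      Zsqrtd.im_star]
    ring
  have h2 : (rvlHerm x y).re = ∑ p, (x p * star (y p)).re := by
    simp only [rvlHerm]
    exact map_sum rvlReHom (fun p => x p * star (y p)) Finset.univ
  rw [h2]
  simp only [ruNorm, Pi.add_apply, h, Finset.sum_add_distrib, Finset.mul_sum]


theorem ruNorm_Rj (x : RuVec) : ruNorm (ruRj x) = ruNorm x := by
  simp only [ruNorm, Fintype.sum_prod_type, Fin.sum_univ_four]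
  refine Finset.sum_congr rfl fun n _ => ?_
  simp only [ruRj, Zsqrtd.norm_mul, rvl_norm_gI, Zsqrtd.norm_neg, one_mul]
  ring

theorem ruNorm_Rk (x : RuVec) : ruNorm (ruRk x) = ruNorm x := by
  simp only [ruNorm, Fintype.sum_prod_type, Fin.sum_univ_four]
  refine Finset.sum_congr rfl fun n _ => ?_
  simp only [ruRk, Zsqrtd.norm_mul, rvl_norm_gI, Zsqrtd.norm_neg, one_mul]
  ring

theorem ruNorm_Sign (x : RuVec) : ruNorm (ruSign x) = ruNorm x := by
  simp only [ruNorm]
  refine Finset.sum_congr rfl fun p _ => ?_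
  simp only [ruSign]
  split_ifs <;> simp

theorem ruNorm_Shift (x : RuVec) : ruNorm (ruShift x) = ruNorm x := by
  simp only [ruNorm, ruShift]
  refine Fintype.sum_equiv (Equiv.prodCongr (Equiv.addRight 1) (Equiv.refl _)) _ _ fun p => ?_
  obtain ⟨n, t⟩ := p
  simp

theorem ruNorm_gI (x : RuVec) : ruNorm (gI • x) = ruNorm x := by
  rw [ruNorm_smul, rvl_norm_gI, one_mul]

/-! ### parity -/

/-- `π = 1 + i` -/
def rvlPi : GaussianInt := ⟨1, 1⟩

/-- the parity ring hom `ℤ[i] → 𝔽₂` -/
def rvlPar : GaussianInt →+* ZMod 2 := Zsqrtd.lift ⟨1, by decide⟩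

theorem rvlPar_apply (z : GaussianInt) : rvlPar z = (z.re : ZMod 2) + (z.im : ZMod 2) := by
  simp [rvlPar, Zsqrtd.lift]

theorem rvlPar_star (z : GaussianInt) : rvlPar (star z) = rvlPar z := by
  simp only [rvlPar_apply, Zsqrtd.re_star, Zsqrtd.im_star, Int.cast_neg]
  have : ∀ a : ZMod 2, -a = a := by decide
  rw [this]

theorem rvl_norm_Pi : rvlPi.norm = 2 := by simp [rvlPi, Zsqrtd.norm_def]

theorem rvlPar_norm (z : GaussianInt) : ((z.norm : ℤ) : ZMod 2) = rvlPar z := by
  have h : ((z.norm : ℤ) : GaussianInt) = z * star z := Zsqrtd.norm_eq_mul_conj z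
  have h2 : rvlPar ((z.norm : ℤ) : GaussianInt) = rvlPar z * rvlPar z := by
    rw [h, map_mul, rvlPar_star]
  rw [map_intCast] at h2
  rw [h2]
  have : ∀ a : ZMod 2, a * a = a := by decide
  exact this _

/-- exact division by `π` -/
def rvlHalf (z : GaussianInt) : GaussianInt := ⟨(z.re + z.im) / 2, (z.im - z.re) / 2⟩

theorem rvl_eq_pi_mul_half {z : GaussianInt} (h : rvlPar z = 0) : z = rvlPi * rvlHalf z := by
  rw [rvlPar_apply, ← Int.cast_add, ZMod.intCast_zmod_eq_zero_iff_dvd] at h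
  obtain ⟨k, hk⟩ := h
  apply Zsqrtd.ext
  · simp only [rvlPi, rvlHalf, Zsqrtd.re_mul]
    have h1 : (z.re + z.im) / 2 = k := by omega
    have h2 : (z.im - z.re) / 2 = k - z.re := by omega
    rw [h1, h2]
    push_cast at hk
    linarith
  · simp only [rvlPi, rvlHalf, Zsqrtd.im_mul]
    have h1 : (z.re + z.im) / 2 = k := by omega
    have h2 : (z.im - z.re) / 2 = k - z.re := by omega
    rw [h1, h2]
    push_cast at hk
    linarith

theorem rvl_norm_pos_of_par {z : GaussianInt} (h : rvlPar z = 1) : 1 ≤ z.norm := by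
  have h0 : z ≠ 0 := by
    rintro rfl
    simp at h
  rcases (rvl_norm_nonneg z).lt_or_eq with h1 | h1
  · omega
  · exact absurd ((Zsqrtd.norm_eq_zero_iff (by norm_num) _).1 h1.symm) h0

/-- computable integer parity -/
def rvlParI (z : GaussianInt) : ℤ := (z.re + z.im) % 2

theorem rvlPar_eq_parI (z : GaussianInt) : rvlPar z = ((rvlParI z : ℤ) : ZMod 2) := by
  rw [rvlPar_apply, ← Int.cast_add, rvlParI]
  have h : ((2 : ℕ) : ℤ) = 2 := rfl
  rw [← h, ZMod.intCast_mod]

end Cfsg.Agent.Lib.Helper29
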