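import Mathlib
import Cfsg.Prelude.Def_Spor_Ru
import Cfsg.Agent.Lib.Helper29.RvLBasic

set_option autoImplicit false
set_option maxRecDepth 100000

namespace Cfsg.Agent.Lib.Helper29

open Cfsg.Spor

/-- build a vector from a list of 28 integer pairs -/
def rvlMk (l : List (ℤ × ℤ)) : RuVec := fun p =>
  let z := l.getD (p.1.val * 4 + p.2.val) (0, 0)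
  ⟨z.1, z.2⟩

/-- linear combination of a list of vectors -/
def rvlComb (A : List GaussianInt) (L : List RuVec) : RuVec := fun p =>
  (List.zipWith (fun a r => a * r p) A L).sum

/-- the 19 test vectors defining the lattice by congruences -/
def rvlRm : List RuVec := [
  rvlMk [(1, 0), (1, 0), (1, 0), (0, 3), (3, 0), (0, 1), (0, 3), (0, 1), (0, 0), (0, 0), (0, 0), (0, 0), (0, 0), (0, 0), (0, 0), (0, 0), (0, 1), (0, 1), (3, 0), (0, 3), (0, 0), (0, 0), (0, 0), (0, 0), (3, 0), (0, 1), (3, 0), (3, 0)],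
  rvlMk [(0, 0), (2, 0), (1, 0), (0, 3), (3, 1), (1, 1), (0, 3), (0, 1), (1, 0), (0, 0), (1, 0), (0, 0), (0, 0), (0, 1), (0, 3), (0, 0), (3, 1), (0, 1), (3, 3), (0, 3), (1, 0), (3, 0), (0, 1), (0, 1), (2, 0), (0, 1), (3, 0), (0, 0)],
  rvlMk [(0, 0), (1, 0), (0, 0), (1, 2), (1, 3), (0, 2), (3, 1), (1, 1), (3, 3), (2, 3), (0, 1), (0, 0), (0, 0), (1, 3), (0, 3), (2, 3), (2, 2), (0, 0), (1, 0), (1, 2), (2, 1), (1, 1), (0, 1), (1, 3), (3, 0), (0, 0), (3, 1), (1, 2)],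
  rvlMk [(0, 0), (0, 0), (0, 0), (0, 2), (1, 0), (2, 1), (3, 2), (1, 2), (0, 3), (2, 1), (0, 1), (3, 0), (1, 0), (0, 1), (2, 1), (2, 3), (0, 2), (0, 0), (0, 2), (0, 2), (1, 1), (3, 1), (1, 3), (1, 1), (1, 0), (3, 0), (2, 1), (3, 2)],
  rvlMk [(0, 0), (0, 0), (0, 0), (1, 1), (0, 0), (1, 0), (3, 0), (3, 3), (0, 0), (1, 3), (2, 3), (0, 1), (3, 1), (1, 1), (3, 0), (1, 2), (3, 0), (0, 0), (1, 0), (0, 2), (0, 2), (3, 2), (2, 3), (3, 3), (1, 2), (1, 3), (0, 1), (1, 1)],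
  rvlMk [(0, 0), (0, 0), (0, 0), (0, 0), (0, 0), (0, 0), (0, 0), (0, 2), (0, 0), (0, 0), (1, 1), (3, 1), (3, 3), (3, 1), (3, 3), (1, 3), (1, 0), (3, 2), (1, 0), (0, 1), (0, 3), (1, 0), (1, 0), (3, 0), (2, 0), (3, 1), (0, 2), (1, 3)],
  rvlMk [(0, 0), (0, 0), (0, 0), (0, 0), (0, 0), (0, 0), (1, 1), (1, 1), (0, 0), (3, 1), (0, 2), (1, 3), (1, 0), (3, 2), (1, 2), (0, 3), (0, 0), (1, 1), (0, 0), (3, 1), (2, 2), (3, 3), (3, 3), (2, 0), (2, 3), (1, 2), (0, 1), (0, 1)],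
  rvlMk [(0, 0), (0, 0), (0, 0), (0, 2), (0, 0), (0, 0), (2, 0), (0, 0), (1, 0), (0, 3), (0, 3), (0, 3), (0, 0), (2, 2), (2, 2), (2, 2), (0, 0), (1, 3), (1, 1), (0, 0), (0, 1), (0, 1), (3, 2), (0, 3), (3, 3), (3, 3), (2, 0), (2, 2)],
  rvlMk [(0, 0), (0, 0), (0, 0), (0, 2), (0, 0), (0, 0), (2, 0), (0, 2), (0, 0), (3, 1), (1, 3), (2, 0), (0, 0), (0, 0), (0, 2), (2, 2), (0, 0), (0, 0), (1, 3), (3, 1), (1, 0), (0, 3), (3, 2), (1, 2), (2, 1), (0, 1), (0, 1), (1, 0)],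
  rvlMk [(0, 0), (0, 0), (0, 0), (0, 2), (0, 0), (0, 0), (0, 2), (2, 2), (0, 0), (0, 2), (2, 2), (2, 2), (0, 0), (2, 2), (0, 2), (2, 2), (0, 0), (2, 0), (0, 0), (0, 0), (0, 0), (2, 2), (2, 2), (2, 0), (1, 1), (3, 1), (3, 1), (3, 3)],
  rvlMk [(0, 0), (0, 0), (0, 0), (0, 0), (0, 0), (0, 0), (0, 0), (2, 2), (0, 0), (2, 2), (0, 2), (2, 0), (0, 0), (2, 0), (2, 0), (0, 0), (0, 0), (0, 0), (0, 2), (0, 2), (0, 0), (2, 2), (2, 2), (2, 2), (0, 0), (2, 2), (2, 2), (0, 0)],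
  rvlMk [(0, 0), (0, 0), (0, 0), (2, 2), (0, 0), (0, 0), (0, 2), (2, 0), (0, 0), (0, 0), (0, 0), (0, 0), (0, 0), (2, 0), (2, 2), (2, 0), (0, 0), (2, 2), (0, 2), (0, 2), (0, 0), (2, 2), (2, 0), (0, 2), (0, 0), (0, 0), (0, 0), (0, 0)],
  rvlMk [(0, 0), (0, 0), (0, 0), (2, 2), (0, 0), (0, 0), (0, 0), (2, 2), (0, 0), (0, 0), (0, 0), (2, 2), (0, 0), (0, 2), (2, 0), (2, 2), (0, 0), (2, 2), (2, 0), (0, 2), (0, 0), (2, 2), (0, 0), (0, 0), (0, 0), (0, 2), (0, 0), (0, 2)],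
  rvlMk [(0, 0), (0, 0), (0, 0), (2, 2), (0, 0), (0, 0), (0, 0), (0, 0), (0, 0), (2, 2), (0, 0), (2, 2), (0, 0), (0, 0), (0, 0), (0, 0), (0, 0), (0, 2), (2, 2), (0, 2), (0, 0), (2, 0), (2, 0), (0, 0), (0, 0), (2, 2), (2, 2), (0, 0)],
  rvlMk [(0, 0), (0, 0), (0, 0), (2, 2), (0, 0), (0, 0), (0, 0), (0, 0), (0, 0), (0, 2), (0, 0), (2, 0), (0, 0), (0, 0), (2, 0), (0, 2), (0, 0), (0, 0), (2, 0), (0, 2), (0, 0), (0, 2), (0, 2), (2, 2), (0, 0), (2, 2), (0, 0), (0, 0)],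
  rvlMk [(0, 0), (0, 0), (0, 0), (0, 0), (0, 0), (0, 0), (0, 0), (2, 2), (0, 0), (0, 0), (0, 0), (0, 0), (0, 0), (0, 0), (2, 2), (2, 2), (0, 0), (0, 0), (2, 2), (2, 2), (0, 0), (0, 2), (2, 2), (0, 2), (0, 0), (2, 0), (2, 0), (0, 0)],
  rvlMk [(0, 0), (0, 0), (0, 0), (2, 2), (0, 0), (0, 0), (0, 0), (2, 2), (0, 0), (0, 0), (0, 0), (2, 2), (0, 0), (0, 0), (0, 2), (0, 2), (0, 0), (0, 0), (0, 2), (2, 0), (0, 0), (0, 0), (0, 0), (2, 2), (0, 0), (2, 0), (2, 0), (2, 2)],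
  rvlMk [(0, 0), (0, 0), (0, 0), (2, 2), (0, 0), (0, 0), (0, 0), (2, 2), (0, 0), (0, 0), (0, 0), (0, 0), (0, 0), (0, 0), (0, 0), (2, 2), (0, 0), (0, 0), (0, 2), (0, 2), (0, 0), (0, 0), (0, 2), (2, 0), (0, 0), (2, 0), (2, 2), (0, 2)],
  rvlMk [(0, 0), (0, 0), (0, 0), (2, 2), (0, 0), (0, 0), (0, 0), (2, 2), (0, 0), (0, 0), (0, 0), (2, 2), (0, 0), (0, 0), (0, 0), (2, 2), (0, 0), (0, 0), (0, 0), (2, 2), (0, 0), (0, 0), (0, 0), (2, 2), (0, 0), (0, 0), (0, 0), (2, 2)]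
]

/-- certificate: `y = Σ A_j r_j + 4 w` -/
def rvlCert (y : RuVec) (A : List GaussianInt) (w : RuVec) : Prop :=
  ∀ p, y p = rvlComb A rvlRm p + (⟨4, 0⟩ : GaussianInt) * w p

instance (y : RuVec) (A : List GaussianInt) (w : RuVec) : Decidable (rvlCert y A w) := by
  unfold rvlCert; infer_instance

def rvlA_Rj : List (List GaussianInt) := [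
  [⟨0, 3⟩, ⟨0, 2⟩, ⟨0, 0⟩, ⟨3, 1⟩, ⟨0, 2⟩, ⟨0, 2⟩, ⟨1, 3⟩, ⟨3, 1⟩, ⟨1, 3⟩, ⟨0, 0⟩, ⟨0, 1⟩, ⟨0, 1⟩, ⟨1, 1⟩, ⟨1, 1⟩, ⟨1, 1⟩, ⟨1, 0⟩, ⟨1, 1⟩, ⟨1, 1⟩, ⟨0, 1⟩],
  [⟨0, 2⟩, ⟨0, 3⟩, ⟨0, 0⟩, ⟨0, 0⟩, ⟨2, 2⟩, ⟨0, 1⟩, ⟨0, 1⟩, ⟨0, 1⟩, ⟨2, 0⟩, ⟨1, 0⟩, ⟨1, 0⟩, ⟨0, 1⟩, ⟨0, 0⟩, ⟨1, 0⟩, ⟨0, 1⟩, ⟨0, 0⟩, ⟨1, 1⟩, ⟨0, 0⟩, ⟨0, 0⟩],
  [⟨0, 3⟩, ⟨3, 3⟩, ⟨2, 3⟩, ⟨3, 2⟩, ⟨0, 2⟩, ⟨3, 2⟩, ⟨3, 0⟩, ⟨1, 3⟩, ⟨3, 3⟩, ⟨1, 1⟩, ⟨1, 1⟩, ⟨0, 0⟩, ⟨1, 0⟩, ⟨1, 0⟩, ⟨1, 0⟩, ⟨0, 1⟩, ⟨0, 1⟩, ⟨0, 1⟩, ⟨0, 0⟩],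
  [⟨0, 0⟩, ⟨0, 2⟩, ⟨0, 0⟩, ⟨3, 0⟩, ⟨0, 2⟩, ⟨2, 2⟩, ⟨0, 2⟩, ⟨1, 3⟩, ⟨3, 1⟩, ⟨1, 1⟩, ⟨1, 0⟩, ⟨1, 0⟩, ⟨0, 0⟩, ⟨1, 0⟩, ⟨1, 0⟩, ⟨0, 0⟩, ⟨0, 0⟩, ⟨1, 1⟩, ⟨0, 0⟩],
  [⟨0, 0⟩, ⟨3, 3⟩, ⟨2, 2⟩, ⟨2, 3⟩, ⟨3, 2⟩, ⟨3, 2⟩, ⟨1, 0⟩, ⟨1, 2⟩, ⟨0, 1⟩, ⟨0, 2⟩, ⟨0, 1⟩, ⟨1, 1⟩, ⟨1, 0⟩, ⟨1, 0⟩, ⟨0, 0⟩, ⟨1, 1⟩, ⟨0, 1⟩, ⟨1, 0⟩, ⟨0, 1⟩],
  [⟨0, 0⟩, ⟨0, 0⟩, ⟨0, 0⟩, ⟨0, 0⟩, ⟨0, 0⟩, ⟨2, 1⟩, ⟨2, 0⟩, ⟨0, 0⟩, ⟨3, 1⟩, ⟨0, 0⟩, ⟨1, 0⟩, ⟨1, 0⟩, ⟨0, 0⟩, ⟨0, 0⟩, ⟨1, 0⟩, ⟨1, 1⟩, ⟨0, 1⟩, ⟨0, 1⟩, ⟨0, 1⟩],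
  [⟨0, 0⟩, ⟨0, 0⟩, ⟨0, 0⟩, ⟨0, 0⟩, ⟨0, 0⟩, ⟨1, 3⟩, ⟨0, 1⟩, ⟨1, 1⟩, ⟨3, 3⟩, ⟨0, 0⟩, ⟨1, 0⟩, ⟨1, 0⟩, ⟨1, 1⟩, ⟨1, 0⟩, ⟨1, 1⟩, ⟨0, 1⟩, ⟨1, 0⟩, ⟨0, 1⟩, ⟨0, 0⟩],
  [⟨0, 0⟩, ⟨0, 2⟩, ⟨0, 0⟩, ⟨2, 2⟩, ⟨0, 0⟩, ⟨1, 1⟩, ⟨0, 2⟩, ⟨1, 0⟩, ⟨0, 2⟩, ⟨1, 1⟩, ⟨1, 0⟩, ⟨1, 1⟩, ⟨0, 0⟩, ⟨0, 0⟩, ⟨1, 1⟩, ⟨1, 0⟩, ⟨0, 0⟩, ⟨1, 0⟩, ⟨0, 1⟩],
  [⟨0, 0⟩, ⟨0, 2⟩, ⟨0, 0⟩, ⟨2, 2⟩, ⟨0, 0⟩, ⟨2, 2⟩, ⟨2, 2⟩, ⟨3, 1⟩, ⟨2, 1⟩, ⟨0, 0⟩, ⟨0, 0⟩, ⟨0, 1⟩, ⟨1, 1⟩, ⟨1, 1⟩, ⟨0, 0⟩, ⟨1, 1⟩, ⟨1, 1⟩, ⟨0, 1⟩, ⟨0, 1⟩],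
  [⟨0, 0⟩, ⟨0, 2⟩, ⟨0, 0⟩, ⟨2, 2⟩, ⟨0, 0⟩, ⟨2, 0⟩, ⟨2, 2⟩, ⟨0, 0⟩, ⟨2, 2⟩, ⟨1, 2⟩, ⟨1, 0⟩, ⟨1, 1⟩, ⟨1, 1⟩, ⟨0, 1⟩, ⟨0, 1⟩, ⟨1, 1⟩, ⟨1, 1⟩, ⟨1, 0⟩, ⟨0, 0⟩],
  [⟨0, 0⟩, ⟨0, 0⟩, ⟨0, 0⟩, ⟨0, 0⟩, ⟨0, 0⟩, ⟨0, 0⟩, ⟨0, 2⟩, ⟨2, 2⟩, ⟨0, 0⟩, ⟨1, 1⟩, ⟨1, 0⟩, ⟨1, 1⟩, ⟨0, 0⟩, ⟨0, 0⟩, ⟨0, 0⟩, ⟨1, 1⟩, ⟨0, 0⟩, ⟨1, 1⟩, ⟨0, 1⟩],
  [⟨0, 0⟩, ⟨2, 2⟩, ⟨0, 0⟩, ⟨0, 0⟩, ⟨0, 0⟩, ⟨2, 2⟩, ⟨0, 2⟩, ⟨2, 2⟩, ⟨0, 0⟩, ⟨1, 3⟩, ⟨0, 0⟩, ⟨1, 0⟩, ⟨0, 0⟩, ⟨1, 1⟩, ⟨1, 1⟩, ⟨1, 1⟩, ⟨1, 1⟩, ⟨1, 1⟩, ⟨0, 1⟩],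
  [⟨0, 0⟩, ⟨2, 2⟩, ⟨0, 0⟩, ⟨0, 0⟩, ⟨0, 0⟩, ⟨2, 2⟩, ⟨2, 0⟩, ⟨2, 2⟩, ⟨0, 0⟩, ⟨0, 2⟩, ⟨1, 1⟩, ⟨1, 1⟩, ⟨1, 0⟩, ⟨0, 0⟩, ⟨0, 0⟩, ⟨1, 1⟩, ⟨1, 1⟩, ⟨1, 1⟩, ⟨0, 0⟩],
  [⟨0, 0⟩, ⟨2, 2⟩, ⟨0, 0⟩, ⟨0, 0⟩, ⟨0, 0⟩, ⟨2, 0⟩, ⟨2, 2⟩, ⟨0, 0⟩, ⟨2, 2⟩, ⟨0, 2⟩, ⟨1, 1⟩, ⟨1, 1⟩, ⟨1, 1⟩, ⟨1, 0⟩, ⟨1, 1⟩, ⟨1, 1⟩, ⟨0, 0⟩, ⟨0, 0⟩, ⟨0, 0⟩],
  [⟨0, 0⟩, ⟨2, 2⟩, ⟨0, 0⟩, ⟨0, 0⟩, ⟨0, 0⟩, ⟨0, 0⟩, ⟨0, 0⟩, ⟨0, 2⟩, ⟨2, 2⟩, ⟨0, 2⟩, ⟨1, 1⟩, ⟨1, 1⟩, ⟨1, 1⟩, ⟨0, 0⟩, ⟨0, 1⟩, ⟨0, 0⟩, ⟨1, 1⟩, ⟨1, 1⟩, ⟨0, 0⟩],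
  [⟨0, 0⟩, ⟨0, 0⟩, ⟨0, 0⟩, ⟨0, 0⟩, ⟨0, 0⟩, ⟨0, 0⟩, ⟨0, 0⟩, ⟨0, 0⟩, ⟨2, 0⟩, ⟨0, 0⟩, ⟨1, 1⟩, ⟨1, 1⟩, ⟨0, 0⟩, ⟨0, 0⟩, ⟨1, 1⟩, ⟨0, 1⟩, ⟨0, 0⟩, ⟨0, 0⟩, ⟨0, 0⟩],
  [⟨0, 0⟩, ⟨2, 2⟩, ⟨0, 0⟩, ⟨0, 0⟩, ⟨0, 0⟩, ⟨0, 0⟩, ⟨0, 0⟩, ⟨2, 2⟩, ⟨0, 0⟩, ⟨1, 1⟩, ⟨1, 1⟩, ⟨1, 1⟩, ⟨1, 1⟩, ⟨0, 0⟩, ⟨0, 0⟩, ⟨0, 0⟩, ⟨1, 0⟩, ⟨0, 0⟩, ⟨0, 1⟩],
  [⟨0, 0⟩, ⟨2, 2⟩, ⟨0, 0⟩, ⟨0, 0⟩, ⟨0, 0⟩, ⟨0, 0⟩, ⟨0, 0⟩, ⟨2, 2⟩, ⟨0, 0⟩, ⟨1, 1⟩, ⟨0, 0⟩, ⟨1, 1⟩, ⟨0, 0⟩, ⟨0, 0⟩, ⟨0, 0⟩, ⟨0, 0⟩, ⟨1, 1⟩, ⟨1, 0⟩, ⟨0, 1⟩],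
  [⟨0, 0⟩, ⟨2, 2⟩, ⟨0, 0⟩, ⟨0, 0⟩, ⟨0, 0⟩, ⟨0, 0⟩, ⟨0, 0⟩, ⟨2, 2⟩, ⟨0, 0⟩, ⟨0, 0⟩, ⟨1, 1⟩, ⟨0, 0⟩, ⟨0, 0⟩, ⟨1, 1⟩, ⟨1, 1⟩, ⟨0, 0⟩, ⟨0, 0⟩, ⟨1, 1⟩, ⟨0, 1⟩]
]

def rvlW_Rj : List RuVec := [
  rvlMk [(0, -1), (0, -2), (0, -2), (8, -10), (0, -4), (0, -3), (1, -7), (6, -9), (0, -3), (2, -11), (7, -7), (1, -12), (1, -4), (2, -9), (3, -11), (5, -13), (2, -5), (4, -7), (4, -13), (9, -10), (3, -5), (4, -13), (3, -15), (4, -13), (1, -12), (1, -12), (-1, -9), (2, -11)],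
  rvlMk [(0, -1), (0, -2), (0, -2), (5, -5), (1, -4), (1, -2), (2, -3), (1, -6), (0, -1), (0, -5), (1, -6), (0, -4), (0, -3), (1, -4), (3, -6), (2, -4), (0, -4), (3, -3), (2, -9), (5, -3), (2, -3), (0, -9), (0, -7), (1, -7), (1, -7), (2, -7), (-1, -7), (1, -5)],
  rvlMk [(0, -1), (-2, -3), (-1, -2), (10, -11), (0, -8), (2, -5), (0, -14), (7, -13), (2, -8), (1, -13), (6, -11), (-5, -11), (-1, -6), (0, -12), (4, -18), (5, -19), (0, -9), (1, -8), (2, -16), (6, -13), (0, -9), (-3, -16), (1, -18), (3, -13), (-5, -16), (-1, -16), (-3, -18), (3, -16)],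
  rvlMk [(0, 0), (0, -1), (0, -1), (3, -7), (0, -2), (-1, -2), (-2, -7), (3, -8), (0, -4), (1, -7), (4, -8), (-2, -5), (0, -5), (1, -8), (1, -11), (2, -11), (0, -5), (2, -6), (1, -10), (2, -7), (3, -5), (0, -11), (0, -13), (0, -9), (1, -9), (-1, -10), (-2, -9), (1, -8)],
  rvlMk [(0, 0), (-2, -2), (-1, -1), (6, -10), (-1, -6), (0, -5), (-1, -12), (4, -14), (2, -6), (3, -10), (4, -9), (0, -10), (-3, -7), (1, -12), (2, -16), (5, -17), (-3, -8), (0, -9), (1, -11), (7, -12), (2, -9), (-3, -14), (2, -15), (3, -13), (-3, -11), (-1, -15), (-3, -14), (4, -14)],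
  rvlMk [(0, 0), (0, 0), (0, 0), (1, -4), (0, 0), (0, 0), (-2, -2), (1, -6), (0, 0), (-4, -3), (-1, -5), (-3, -4), (-1, -3), (-3, -3), (-2, -7), (1, -7), (0, -1), (-2, -3), (0, -5), (-2, -6), (-1, -3), (-1, -6), (-5, -6), (-2, -6), (-3, -4), (-3, -6), (0, -5), (1, -3)],
  rvlMk [(0, 0), (0, 0), (0, 0), (1, -6), (0, 0), (0, 0), (-2, -3), (3, -5), (0, -1), (-1, -6), (3, -6), (-2, -7), (2, -4), (0, -5), (2, -9), (4, -8), (0, -1), (1, -6), (0, -8), (1, -7), (3, -3), (3, -7), (-1, -8), (1, -8), (0, -6), (1, -9), (1, -4), (2, -4)],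
  rvlMk [(0, 0), (0, -1), (0, -1), (4, -5), (0, -2), (0, -2), (2, -5), (2, -6), (2, -2), (1, -7), (3, -5), (-1, -6), (0, -3), (0, -5), (1, -7), (3, -8), (2, -3), (0, -4), (3, -6), (5, -7), (2, -4), (2, -9), (2, -10), (1, -7), (1, -6), (-2, -7), (-2, -6), (1, -7)],
  rvlMk [(0, 0), (0, -1), (0, -1), (5, -8), (0, -2), (0, -2), (-1, -5), (4, -9), (1, -3), (-2, -8), (2, -7), (-1, -11), (-1, -4), (-1, -8), (1, -12), (3, -13), (1, -3), (1, -8), (2, -9), (3, -7), (2, -6), (0, -12), (-2, -12), (1, -9), (-3, -9), (-3, -12), (-1, -8), (1, -9)],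
  rvlMk [(0, 0), (0, -1), (0, -1), (5, -7), (0, -2), (0, -2), (1, -6), (1, -10), (2, -2), (-1, -7), (2, -7), (-2, -9), (-2, -3), (-1, -6), (1, -10), (2, -12), (1, -3), (-1, -5), (4, -9), (2, -9), (0, -6), (1, -13), (0, -12), (-1, -7), (-1, -7), (-2, -9), (-2, -10), (1, -9)],
  rvlMk [(0, 0), (0, 0), (0, 0), (2, -4), (0, 0), (0, 0), (0, -3), (0, -5), (0, -1), (2, -4), (2, -3), (3, -3), (0, -1), (0, -5), (1, -5), (2, -6), (0, 0), (1, -4), (1, -4), (2, -4), (2, -2), (2, -5), (0, -8), (2, -5), (2, -5), (-1, -6), (-2, -4), (2, -4)],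
  rvlMk [(0, 0), (-1, -1), (-1, -1), (4, -8), (-1, -2), (0, -1), (2, -4), (3, -7), (-1, -1), (4, -5), (3, -5), (3, -9), (0, -4), (1, -8), (3, -10), (5, -9), (-1, -3), (1, -8), (0, -9), (4, -7), (3, -4), (1, -8), (2, -10), (1, -10), (0, -7), (-1, -12), (-2, -9), (4, -9)],
  rvlMk [(0, 0), (-1, -1), (-1, -1), (3, -6), (-1, -2), (0, -1), (1, -4), (1, -8), (-1, -1), (1, -3), (2, -6), (0, -8), (0, -3), (-2, -8), (1, -11), (2, -10), (-1, -3), (0, -8), (1, -8), (2, -6), (1, -4), (-2, -8), (-1, -9), (0, -8), (-2, -7), (-2, -11), (-2, -9), (3, -8)],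
  rvlMk [(0, 0), (-1, -1), (-1, -1), (3, -6), (-1, -2), (0, -1), (2, -4), (2, -8), (0, -1), (-1, -6), (2, -6), (-2, -7), (-2, -2), (-1, -6), (1, -9), (2, -9), (-1, -2), (-1, -6), (0, -9), (2, -9), (-1, -5), (1, -11), (0, -10), (0, -7), (-1, -6), (0, -8), (-1, -7), (2, -4)],
  rvlMk [(0, 0), (-1, -1), (-1, -1), (5, -7), (-1, -2), (0, -1), (2, -4), (2, -7), (0, -1), (2, -3), (3, -4), (1, -5), (0, 0), (2, -4), (4, -7), (3, -7), (-1, -2), (2, -4), (3, -9), (3, -6), (0, -1), (2, -7), (2, -8), (3, -6), (1, -5), (3, -7), (-1, -7), (3, -5)],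
  rvlMk [(0, 0), (0, 0), (0, 0), (0, -3), (0, 0), (0, 0), (-1, -1), (0, -3), (0, 0), (-1, -2), (0, -2), (-2, -1), (0, 0), (-1, -1), (-1, -4), (0, -2), (0, 0), (0, -1), (0, -4), (1, -2), (0, 0), (1, -4), (-1, -4), (1, -3), (-1, -1), (0, -3), (0, -2), (0, 0)],
  rvlMk [(0, 0), (-1, -1), (-1, -1), (3, -6), (-1, -2), (0, -1), (1, -4), (0, -5), (-1, -1), (2, -3), (1, -4), (1, -5), (0, 0), (0, -5), (1, -7), (0, -5), (-1, -2), (1, -5), (0, -6), (3, -3), (0, -1), (-1, -6), (-1, -6), (2, -5), (-1, -5), (0, -6), (-4, -5), (1, -5)],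
  rvlMk [(0, 0), (-1, -1), (-1, -1), (3, -6), (-1, -2), (0, -1), (1, -4), (0, -4), (-1, -1), (2, -2), (1, -3), (2, -4), (0, 0), (0, -4), (2, -6), (0, -5), (-1, -2), (1, -4), (1, -6), (2, -3), (0, -1), (-1, -4), (-1, -5), (2, -4), (-1, -5), (-1, -5), (-4, -5), (1, -5)],
  rvlMk [(0, 0), (-1, -1), (-1, -1), (3, -6), (-1, -2), (0, -1), (0, -3), (1, -3), (-1, -1), (2, -4), (1, -3), (1, -4), (0, 0), (0, -3), (0, -5), (1, -4), (-1, -2), (2, -3), (0, -7), (4, -4), (0, -1), (-1, -4), (0, -6), (2, -5), (-1, -4), (0, -7), (-3, -6), (1, -3)]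
]

theorem rvl_cert_Rj : ∀ j : Fin 19, rvlCert (rvlRjDag (rvlRm.getD j 0)) (rvlA_Rj.getD j []) (rvlW_Rj.getD j 0) := by
  decide +kernel

def rvlA_Rk : List (List GaussianInt) := [
  [⟨0, 3⟩, ⟨0, 0⟩, ⟨0, 0⟩, ⟨3, 3⟩, ⟨0, 0⟩, ⟨1, 3⟩, ⟨3, 1⟩, ⟨1, 3⟩, ⟨0, 2⟩, ⟨0, 0⟩, ⟨1, 1⟩, ⟨0, 1⟩, ⟨1, 1⟩, ⟨0, 1⟩, ⟨1, 1⟩, ⟨1, 0⟩, ⟨1, 0⟩, ⟨0, 1⟩, ⟨0, 0⟩],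
  [⟨0, 3⟩, ⟨0, 1⟩, ⟨0, 2⟩, ⟨2, 2⟩, ⟨2, 2⟩, ⟨1, 0⟩, ⟨2, 3⟩, ⟨0, 2⟩, ⟨3, 2⟩, ⟨0, 3⟩, ⟨0, 1⟩, ⟨1, 0⟩, ⟨1, 1⟩, ⟨1, 1⟩, ⟨0, 0⟩, ⟨1, 1⟩, ⟨1, 0⟩, ⟨1, 1⟩, ⟨0, 0⟩],
  [⟨0, 0⟩, ⟨0, 0⟩, ⟨1, 2⟩, ⟨2, 0⟩, ⟨1, 1⟩, ⟨3, 2⟩, ⟨0, 1⟩, ⟨0, 1⟩, ⟨2, 0⟩, ⟨1, 0⟩, ⟨0, 1⟩, ⟨0, 1⟩, ⟨1, 1⟩, ⟨1, 0⟩, ⟨0, 0⟩, ⟨0, 0⟩, ⟨1, 0⟩, ⟨0, 0⟩, ⟨0, 1⟩],
  [⟨0, 0⟩, ⟨0, 0⟩, ⟨0, 2⟩, ⟨0, 3⟩, ⟨0, 0⟩, ⟨0, 0⟩, ⟨1, 3⟩, ⟨0, 2⟩, ⟨2, 0⟩, ⟨1, 3⟩, ⟨0, 1⟩, ⟨1, 0⟩, ⟨0, 0⟩, ⟨0, 0⟩, ⟨1, 0⟩, ⟨1, 1⟩, ⟨1, 0⟩, ⟨1, 0⟩, ⟨0, 0⟩],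
  [⟨0, 0⟩, ⟨0, 0⟩, ⟨1, 1⟩, ⟨2, 1⟩, ⟨2, 1⟩, ⟨0, 0⟩, ⟨1, 3⟩, ⟨2, 2⟩, ⟨1, 2⟩, ⟨0, 1⟩, ⟨1, 0⟩, ⟨1, 1⟩, ⟨1, 0⟩, ⟨1, 0⟩, ⟨1, 1⟩, ⟨0, 1⟩, ⟨0, 1⟩, ⟨0, 0⟩, ⟨0, 1⟩],
  [⟨0, 0⟩, ⟨0, 0⟩, ⟨0, 0⟩, ⟨0, 0⟩, ⟨0, 2⟩, ⟨0, 1⟩, ⟨0, 0⟩, ⟨1, 3⟩, ⟨2, 2⟩, ⟨0, 2⟩, ⟨0, 0⟩, ⟨0, 1⟩, ⟨0, 0⟩, ⟨1, 0⟩, ⟨1, 0⟩, ⟨1, 0⟩, ⟨0, 0⟩, ⟨0, 1⟩, ⟨0, 0⟩],
  [⟨0, 0⟩, ⟨0, 0⟩, ⟨0, 0⟩, ⟨1, 3⟩, ⟨2, 2⟩, ⟨0, 0⟩, ⟨1, 0⟩, ⟨3, 1⟩, ⟨0, 0⟩, ⟨1, 3⟩, ⟨1, 0⟩, ⟨1, 0⟩, ⟨0, 0⟩, ⟨1, 1⟩, ⟨1, 1⟩, ⟨1, 1⟩, ⟨1, 1⟩, ⟨0, 1⟩, ⟨0, 1⟩],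
  [⟨0, 0⟩, ⟨0, 0⟩, ⟨0, 2⟩, ⟨2, 0⟩, ⟨0, 2⟩, ⟨1, 1⟩, ⟨2, 2⟩, ⟨1, 0⟩, ⟨1, 3⟩, ⟨0, 0⟩, ⟨1, 0⟩, ⟨1, 0⟩, ⟨0, 0⟩, ⟨1, 0⟩, ⟨1, 0⟩, ⟨1, 1⟩, ⟨1, 1⟩, ⟨0, 0⟩, ⟨0, 1⟩],
  [⟨0, 0⟩, ⟨0, 0⟩, ⟨0, 2⟩, ⟨2, 0⟩, ⟨0, 0⟩, ⟨3, 3⟩, ⟨0, 2⟩, ⟨1, 3⟩, ⟨2, 1⟩, ⟨1, 3⟩, ⟨1, 0⟩, ⟨1, 1⟩, ⟨1, 1⟩, ⟨0, 0⟩, ⟨0, 1⟩, ⟨0, 1⟩, ⟨1, 0⟩, ⟨0, 1⟩, ⟨0, 0⟩],
  [⟨0, 0⟩, ⟨0, 0⟩, ⟨0, 2⟩, ⟨0, 2⟩, ⟨0, 2⟩, ⟨0, 2⟩, ⟨2, 2⟩, ⟨2, 0⟩, ⟨0, 2⟩, ⟨1, 2⟩, ⟨0, 0⟩, ⟨0, 1⟩, ⟨1, 1⟩, ⟨1, 1⟩, ⟨1, 1⟩, ⟨1, 0⟩, ⟨0, 0⟩, ⟨0, 0⟩, ⟨0, 0⟩],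
  [⟨0, 0⟩, ⟨0, 0⟩, ⟨0, 0⟩, ⟨0, 0⟩, ⟨2, 2⟩, ⟨0, 2⟩, ⟨2, 0⟩, ⟨2, 0⟩, ⟨0, 0⟩, ⟨1, 3⟩, ⟨1, 0⟩, ⟨1, 1⟩, ⟨0, 0⟩, ⟨1, 1⟩, ⟨0, 0⟩, ⟨1, 1⟩, ⟨1, 1⟩, ⟨0, 0⟩, ⟨0, 1⟩],
  [⟨0, 0⟩, ⟨0, 0⟩, ⟨2, 2⟩, ⟨2, 0⟩, ⟨2, 2⟩, ⟨0, 2⟩, ⟨2, 0⟩, ⟨0, 2⟩, ⟨0, 2⟩, ⟨1, 3⟩, ⟨1, 1⟩, ⟨1, 0⟩, ⟨1, 1⟩, ⟨0, 0⟩, ⟨1, 1⟩, ⟨1, 1⟩, ⟨1, 1⟩, ⟨0, 0⟩, ⟨0, 1⟩],
  [⟨0, 0⟩, ⟨0, 0⟩, ⟨2, 2⟩, ⟨0, 0⟩, ⟨2, 2⟩, ⟨2, 0⟩, ⟨2, 0⟩, ⟨0, 0⟩, ⟨2, 0⟩, ⟨0, 0⟩, ⟨0, 0⟩, ⟨0, 0⟩, ⟨0, 1⟩, ⟨1, 1⟩, ⟨0, 0⟩, ⟨1, 1⟩, ⟨0, 0⟩, ⟨0, 0⟩, ⟨0, 0⟩],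
  [⟨0, 0⟩, ⟨0, 0⟩, ⟨2, 2⟩, ⟨0, 0⟩, ⟨0, 0⟩, ⟨2, 2⟩, ⟨0, 0⟩, ⟨0, 0⟩, ⟨0, 2⟩, ⟨1, 3⟩, ⟨0, 0⟩, ⟨1, 1⟩, ⟨1, 1⟩, ⟨1, 0⟩, ⟨1, 1⟩, ⟨0, 0⟩, ⟨0, 0⟩, ⟨1, 1⟩, ⟨0, 1⟩],
  [⟨0, 0⟩, ⟨0, 0⟩, ⟨2, 2⟩, ⟨0, 0⟩, ⟨0, 0⟩, ⟨0, 2⟩, ⟨2, 0⟩, ⟨0, 0⟩, ⟨2, 2⟩, ⟨1, 1⟩, ⟨0, 0⟩, ⟨0, 0⟩, ⟨0, 0⟩, ⟨0, 0⟩, ⟨1, 0⟩, ⟨1, 1⟩, ⟨1, 1⟩, ⟨1, 1⟩, ⟨0, 1⟩],
  [⟨0, 0⟩, ⟨0, 0⟩, ⟨0, 0⟩, ⟨0, 0⟩, ⟨2, 2⟩, ⟨0, 0⟩, ⟨2, 2⟩, ⟨0, 0⟩, ⟨2, 2⟩, ⟨1, 3⟩, ⟨1, 1⟩, ⟨0, 0⟩, ⟨1, 1⟩, ⟨0, 0⟩, ⟨1, 1⟩, ⟨0, 1⟩, ⟨1, 1⟩, ⟨0, 0⟩, ⟨0, 1⟩],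
  [⟨0, 0⟩, ⟨0, 0⟩, ⟨2, 2⟩, ⟨0, 0⟩, ⟨2, 2⟩, ⟨0, 2⟩, ⟨0, 2⟩, ⟨0, 0⟩, ⟨0, 2⟩, ⟨1, 1⟩, ⟨0, 0⟩, ⟨1, 1⟩, ⟨0, 0⟩, ⟨1, 1⟩, ⟨1, 1⟩, ⟨0, 0⟩, ⟨0, 1⟩, ⟨0, 0⟩, ⟨0, 1⟩],
  [⟨0, 0⟩, ⟨0, 0⟩, ⟨2, 2⟩, ⟨0, 0⟩, ⟨2, 2⟩, ⟨0, 2⟩, ⟨2, 2⟩, ⟨0, 0⟩, ⟨2, 2⟩, ⟨0, 2⟩, ⟨1, 1⟩, ⟨1, 1⟩, ⟨1, 1⟩, ⟨0, 0⟩, ⟨1, 1⟩, ⟨0, 0⟩, ⟨1, 1⟩, ⟨0, 1⟩, ⟨0, 0⟩],
  [⟨0, 0⟩, ⟨0, 0⟩, ⟨2, 2⟩, ⟨0, 0⟩, ⟨2, 2⟩, ⟨2, 2⟩, ⟨0, 0⟩, ⟨0, 0⟩, ⟨0, 0⟩, ⟨0, 0⟩, ⟨0, 0⟩, ⟨1, 1⟩, ⟨0, 0⟩, ⟨0, 0⟩, ⟨0, 0⟩, ⟨1, 1⟩, ⟨0, 0⟩, ⟨0, 0⟩, ⟨0, 1⟩]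
]

def rvlW_Rk : List RuVec := [
  rvlMk [(0, -1), (0, 0), (0, -1), (7, -6), (0, -3), (0, -2), (1, -8), (3, -8), (2, -3), (1, -8), (6, -5), (-1, -12), (0, -4), (0, -9), (1, -12), (6, -14), (2, -3), (4, -6), (4, -9), (5, -7), (2, -5), (0, -11), (2, -14), (1, -9), (0, -12), (1, -13), (1, -10), (3, -12)],
  rvlMk [(0, -1), (0, -1), (0, -1), (7, -8), (2, -4), (1, -2), (2, -10), (4, -14), (3, -4), (3, -11), (7, -9), (1, -10), (-2, -4), (4, -9), (3, -11), (6, -16), (2, -5), (2, -5), (3, -13), (5, -11), (2, -7), (3, -16), (4, -17), (1, -12), (2, -14), (3, -13), (2, -15), (4, -13)],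
  rvlMk [(0, 0), (0, 0), (0, 0), (1, -7), (1, -2), (0, -1), (-2, -5), (1, -10), (1, -4), (0, -6), (2, -6), (-4, -7), (-1, -5), (1, -7), (0, -10), (1, -12), (-1, -4), (0, -5), (-1, -6), (2, -6), (2, -5), (-1, -7), (-1, -8), (-1, -8), (-2, -6), (-2, -6), (-1, -7), (0, -8)],
  rvlMk [(0, 0), (0, 0), (0, 0), (3, -4), (2, -2), (2, -1), (3, -7), (2, -8), (4, -2), (5, -7), (6, -4), (2, -7), (0, -2), (5, -6), (5, -8), (6, -10), (3, -1), (1, -3), (2, -5), (1, -6), (3, -4), (5, -11), (5, -11), (1, -8), (3, -8), (2, -9), (1, -9), (4, -8)],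
  rvlMk [(0, 0), (0, 0), (0, 0), (3, -8), (0, -2), (0, -1), (-3, -7), (1, -9), (1, -4), (1, -11), (5, -7), (1, -9), (-2, -3), (1, -8), (1, -9), (4, -12), (-1, -3), (1, -5), (1, -7), (3, -11), (2, -6), (2, -10), (2, -14), (2, -12), (1, -9), (0, -11), (-1, -7), (1, -9)],
  rvlMk [(0, 0), (0, 0), (0, 0), (4, -4), (0, 0), (0, 0), (0, -4), (4, -5), (0, -1), (4, -4), (6, -5), (2, -4), (2, -3), (3, -4), (4, -7), (3, -8), (0, -2), (3, -4), (1, -5), (0, -4), (2, -1), (5, -6), (3, -9), (4, -7), (3, -6), (3, -7), (1, -5), (3, -5)],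
  rvlMk [(0, 0), (0, 0), (0, 0), (4, -8), (0, -1), (0, -2), (-1, -6), (2, -10), (2, -1), (3, -8), (3, -8), (0, -11), (-1, -3), (-1, -5), (-2, -9), (3, -12), (0, -2), (0, -5), (1, -6), (3, -6), (2, -4), (0, -11), (1, -12), (0, -13), (-1, -7), (-3, -14), (-1, -9), (2, -11)],
  rvlMk [(0, 0), (0, 0), (0, 0), (2, -6), (1, -1), (0, -1), (-2, -7), (3, -8), (2, -3), (0, -8), (5, -6), (-2, -8), (0, -4), (0, -5), (1, -8), (4, -11), (1, -4), (-1, -4), (1, -7), (1, -11), (2, -6), (1, -8), (0, -11), (2, -10), (0, -8), (-2, -6), (0, -6), (0, -7)],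
  rvlMk [(0, 0), (0, 0), (0, 0), (5, -7), (1, -1), (0, 0), (0, -6), (3, -10), (2, -4), (4, -6), (5, -7), (-1, -9), (0, -5), (3, -10), (4, -12), (6, -14), (1, -3), (2, -9), (1, -8), (3, -7), (4, -6), (3, -9), (2, -12), (1, -11), (1, -9), (0, -12), (1, -10), (4, -11)],
  rvlMk [(0, 0), (0, 0), (0, 0), (5, -6), (2, -1), (2, -1), (2, -7), (5, -7), (3, -2), (5, -9), (6, -6), (2, -12), (2, -4), (3, -8), (4, -9), (7, -11), (2, -3), (1, -7), (1, -5), (4, -6), (4, -5), (5, -12), (3, -11), (3, -10), (1, -10), (2, -10), (2, -6), (4, -8)],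
  rvlMk [(0, 0), (0, 0), (0, 0), (2, -6), (0, 0), (0, 0), (-1, -3), (1, -9), (0, 0), (1, -6), (2, -8), (1, -10), (0, -4), (-2, -7), (0, -8), (2, -9), (-1, -2), (0, -6), (0, -5), (1, -5), (2, -3), (-1, -9), (-3, -10), (-1, -11), (-1, -7), (-2, -11), (-1, -6), (2, -8)],
  rvlMk [(0, 0), (0, 0), (0, 0), (4, -8), (1, -2), (0, -2), (-3, -8), (2, -12), (0, -5), (3, -9), (6, -8), (1, -10), (0, -4), (2, -10), (2, -11), (5, -15), (-1, -5), (1, -5), (1, -7), (2, -10), (1, -5), (0, -11), (2, -14), (2, -14), (0, -9), (1, -12), (-1, -9), (4, -11)],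
  rvlMk [(0, 0), (0, 0), (0, 0), (1, -5), (1, -2), (1, -1), (-4, -4), (0, -8), (0, -3), (-1, -6), (0, -6), (-2, -4), (-3, -4), (-1, -4), (-2, -8), (0, -10), (-2, -4), (-1, -2), (-2, -5), (-1, -6), (-1, -5), (-2, -8), (-3, -7), (-2, -7), (-4, -5), (-1, -5), (-1, -6), (0, -5)],
  rvlMk [(0, 0), (0, 0), (0, 0), (3, -7), (1, -2), (1, -1), (1, -4), (3, -7), (0, -3), (3, -5), (3, -4), (-1, -8), (0, -3), (1, -7), (3, -7), (4, -11), (0, -3), (-1, -6), (0, -4), (4, -7), (1, -4), (2, -6), (2, -6), (0, -8), (-1, -5), (-1, -7), (0, -7), (4, -9)],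
  rvlMk [(0, 0), (0, 0), (0, 0), (2, -6), (1, -2), (1, -1), (-2, -4), (2, -7), (0, -3), (-1, -6), (2, -5), (-1, -7), (1, -2), (0, -5), (4, -7), (3, -11), (0, -3), (0, -2), (1, -5), (-1, -7), (0, -3), (1, -6), (-1, -8), (0, -9), (-3, -6), (-2, -6), (-1, -6), (2, -7)],
  rvlMk [(0, 0), (0, 0), (0, 0), (3, -6), (0, 0), (0, 0), (-1, -4), (3, -11), (0, 0), (1, -8), (4, -8), (1, -9), (-1, -3), (1, -6), (1, -7), (5, -10), (-1, -2), (0, -3), (1, -5), (1, -8), (1, -4), (3, -11), (2, -12), (0, -11), (1, -7), (2, -10), (1, -6), (2, -7)],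
  rvlMk [(0, 0), (0, 0), (0, 0), (3, -7), (1, -2), (1, -1), (-1, -6), (3, -7), (0, -3), (4, -9), (4, -5), (3, -7), (1, -4), (2, -7), (4, -7), (6, -8), (-1, -4), (2, -4), (1, -4), (5, -8), (3, -4), (3, -8), (3, -9), (3, -11), (1, -7), (3, -7), (1, -5), (3, -6)],
  rvlMk [(0, 0), (0, 0), (0, 0), (3, -8), (1, -2), (1, -1), (-2, -6), (3, -11), (0, -3), (1, -10), (5, -8), (1, -9), (0, -4), (2, -9), (3, -10), (6, -12), (-1, -4), (1, -5), (1, -6), (2, -9), (2, -5), (3, -13), (2, -12), (1, -14), (0, -9), (3, -10), (2, -7), (4, -7)],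
  rvlMk [(0, 0), (0, 0), (0, 0), (1, -4), (1, -2), (1, -1), (-2, -4), (1, -7), (0, -3), (2, -4), (1, -4), (0, -3), (-1, -5), (0, -5), (0, -8), (2, -8), (-2, -4), (0, -3), (-1, -3), (3, -5), (2, -4), (0, -5), (0, -5), (1, -8), (-2, -4), (0, -4), (0, -4), (2, -5)]
]

theorem rvl_cert_Rk : ∀ j : Fin 19, rvlCert (rvlRkDag (rvlRm.getD j 0)) (rvlA_Rk.getD j []) (rvlW_Rk.getD j 0) := by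
  decide +kernel

def rvlA_Sg : List (List GaussianInt) := [
  [⟨3, 0⟩, ⟨0, 0⟩, ⟨0, 0⟩, ⟨2, 0⟩, ⟨0, 0⟩, ⟨0, 2⟩, ⟨0, 2⟩, ⟨0, 2⟩, ⟨2, 2⟩, ⟨0, 0⟩, ⟨0, 0⟩, ⟨0, 0⟩, ⟨1, 1⟩, ⟨0, 0⟩, ⟨0, 0⟩, ⟨0, 0⟩, ⟨0, 0⟩, ⟨1, 1⟩, ⟨0, 0⟩],
  [⟨0, 0⟩, ⟨3, 0⟩, ⟨0, 0⟩, ⟨2, 2⟩, ⟨0, 0⟩, ⟨2, 2⟩, ⟨2, 2⟩, ⟨0, 2⟩, ⟨0, 2⟩, ⟨1, 1⟩, ⟨0, 0⟩, ⟨1, 0⟩, ⟨0, 1⟩, ⟨0, 1⟩, ⟨0, 1⟩, ⟨0, 0⟩, ⟨0, 0⟩, ⟨0, 1⟩, ⟨0, 0⟩],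
  [⟨0, 0⟩, ⟨0, 0⟩, ⟨3, 0⟩, ⟨2, 2⟩, ⟨2, 2⟩, ⟨2, 2⟩, ⟨2, 2⟩, ⟨0, 0⟩, ⟨2, 2⟩, ⟨0, 0⟩, ⟨1, 0⟩, ⟨1, 1⟩, ⟨1, 0⟩, ⟨0, 0⟩, ⟨1, 0⟩, ⟨0, 1⟩, ⟨0, 1⟩, ⟨1, 0⟩, ⟨0, 0⟩],
  [⟨0, 0⟩, ⟨0, 0⟩, ⟨0, 0⟩, ⟨1, 0⟩, ⟨0, 0⟩, ⟨0, 0⟩, ⟨2, 0⟩, ⟨0, 0⟩, ⟨2, 2⟩, ⟨0, 0⟩, ⟨0, 0⟩, ⟨1, 1⟩, ⟨0, 0⟩, ⟨1, 1⟩, ⟨1, 1⟩, ⟨1, 1⟩, ⟨0, 0⟩, ⟨0, 0⟩, ⟨0, 0⟩],
  [⟨0, 0⟩, ⟨0, 0⟩, ⟨0, 0⟩, ⟨0, 0⟩, ⟨1, 0⟩, ⟨0, 0⟩, ⟨2, 2⟩, ⟨0, 0⟩, ⟨0, 0⟩, ⟨1, 1⟩, ⟨0, 0⟩, ⟨1, 1⟩, ⟨1, 1⟩, ⟨1, 1⟩, ⟨1, 1⟩, ⟨0, 1⟩, ⟨1, 0⟩, ⟨1, 0⟩, ⟨0, 0⟩],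
  [⟨0, 0⟩, ⟨0, 0⟩, ⟨0, 0⟩, ⟨0, 0⟩, ⟨0, 0⟩, ⟨1, 0⟩, ⟨2, 2⟩, ⟨0, 0⟩, ⟨0, 2⟩, ⟨1, 1⟩, ⟨1, 1⟩, ⟨1, 1⟩, ⟨0, 0⟩, ⟨1, 1⟩, ⟨0, 0⟩, ⟨1, 1⟩, ⟨0, 0⟩, ⟨1, 1⟩, ⟨0, 1⟩],
  [⟨0, 0⟩, ⟨0, 0⟩, ⟨0, 0⟩, ⟨0, 0⟩, ⟨0, 0⟩, ⟨0, 0⟩, ⟨3, 0⟩, ⟨0, 0⟩, ⟨0, 0⟩, ⟨0, 0⟩, ⟨0, 0⟩, ⟨1, 1⟩, ⟨1, 1⟩, ⟨1, 1⟩, ⟨1, 1⟩, ⟨0, 0⟩, ⟨0, 0⟩, ⟨1, 1⟩, ⟨0, 0⟩],
  [⟨0, 0⟩, ⟨0, 0⟩, ⟨0, 0⟩, ⟨0, 0⟩, ⟨0, 0⟩, ⟨0, 0⟩, ⟨0, 0⟩, ⟨1, 0⟩, ⟨0, 2⟩, ⟨1, 1⟩, ⟨1, 1⟩, ⟨1, 1⟩, ⟨0, 0⟩, ⟨1, 1⟩, ⟨0, 0⟩, ⟨0, 0⟩, ⟨0, 0⟩, ⟨1, 1⟩, ⟨0, 1⟩],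
  [⟨0, 0⟩, ⟨0, 0⟩, ⟨0, 0⟩, ⟨0, 0⟩, ⟨0, 0⟩, ⟨0, 0⟩, ⟨0, 0⟩, ⟨0, 0⟩, ⟨3, 0⟩, ⟨0, 0⟩, ⟨1, 1⟩, ⟨0, 0⟩, ⟨1, 1⟩, ⟨0, 0⟩, ⟨1, 1⟩, ⟨1, 1⟩, ⟨1, 1⟩, ⟨1, 1⟩, ⟨0, 0⟩],
  [⟨0, 0⟩, ⟨0, 0⟩, ⟨0, 0⟩, ⟨0, 0⟩, ⟨0, 0⟩, ⟨0, 0⟩, ⟨0, 0⟩, ⟨0, 0⟩, ⟨0, 0⟩, ⟨1, 2⟩, ⟨0, 0⟩, ⟨0, 0⟩, ⟨0, 0⟩, ⟨0, 0⟩, ⟨0, 0⟩, ⟨0, 0⟩, ⟨0, 0⟩, ⟨0, 0⟩, ⟨0, 0⟩],
  [⟨0, 0⟩, ⟨0, 0⟩, ⟨0, 0⟩, ⟨0, 0⟩, ⟨0, 0⟩, ⟨0, 0⟩, ⟨0, 0⟩, ⟨0, 0⟩, ⟨0, 0⟩, ⟨0, 0⟩, ⟨1, 0⟩, ⟨0, 0⟩, ⟨0, 0⟩, ⟨0, 0⟩, ⟨0, 0⟩, ⟨0, 0⟩, ⟨0, 0⟩, ⟨0, 0⟩, ⟨0, 0⟩],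
  [⟨0, 0⟩, ⟨0, 0⟩, ⟨0, 0⟩, ⟨0, 0⟩, ⟨0, 0⟩, ⟨0, 0⟩, ⟨0, 0⟩, ⟨0, 0⟩, ⟨0, 0⟩, ⟨0, 0⟩, ⟨0, 0⟩, ⟨1, 0⟩, ⟨0, 0⟩, ⟨0, 0⟩, ⟨0, 0⟩, ⟨0, 0⟩, ⟨0, 0⟩, ⟨0, 0⟩, ⟨0, 0⟩],
  [⟨0, 0⟩, ⟨0, 0⟩, ⟨0, 0⟩, ⟨0, 0⟩, ⟨0, 0⟩, ⟨0, 0⟩, ⟨0, 0⟩, ⟨0, 0⟩, ⟨0, 0⟩, ⟨0, 0⟩, ⟨0, 0⟩, ⟨0, 0⟩, ⟨1, 0⟩, ⟨0, 0⟩, ⟨0, 0⟩, ⟨0, 0⟩, ⟨0, 0⟩, ⟨0, 0⟩, ⟨0, 0⟩],
  [⟨0, 0⟩, ⟨0, 0⟩, ⟨0, 0⟩, ⟨0, 0⟩, ⟨0, 0⟩, ⟨0, 0⟩, ⟨0, 0⟩, ⟨0, 0⟩, ⟨0, 0⟩, ⟨0, 0⟩, ⟨0, 0⟩, ⟨0, 0⟩, ⟨0, 0⟩, ⟨1, 0⟩, ⟨0, 0⟩, ⟨0, 0⟩, ⟨0, 0⟩, ⟨0, 0⟩, ⟨0, 0⟩],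
  [⟨0, 0⟩, ⟨0, 0⟩, ⟨0, 0⟩, ⟨0, 0⟩, ⟨0, 0⟩, ⟨0, 0⟩, ⟨0, 0⟩, ⟨0, 0⟩, ⟨0, 0⟩, ⟨0, 0⟩, ⟨0, 0⟩, ⟨0, 0⟩, ⟨0, 0⟩, ⟨0, 0⟩, ⟨1, 0⟩, ⟨0, 0⟩, ⟨0, 0⟩, ⟨0, 0⟩, ⟨0, 0⟩],
  [⟨0, 0⟩, ⟨0, 0⟩, ⟨0, 0⟩, ⟨0, 0⟩, ⟨0, 0⟩, ⟨0, 0⟩, ⟨0, 0⟩, ⟨0, 0⟩, ⟨0, 0⟩, ⟨0, 0⟩, ⟨0, 0⟩, ⟨0, 0⟩, ⟨0, 0⟩, ⟨0, 0⟩, ⟨0, 0⟩, ⟨1, 0⟩, ⟨0, 0⟩, ⟨0, 0⟩, ⟨0, 0⟩],
  [⟨0, 0⟩, ⟨0, 0⟩, ⟨0, 0⟩, ⟨0, 0⟩, ⟨0, 0⟩, ⟨0, 0⟩, ⟨0, 0⟩, ⟨0, 0⟩, ⟨0, 0⟩, ⟨0, 0⟩, ⟨0, 0⟩, ⟨0, 0⟩, ⟨0, 0⟩, ⟨0, 0⟩, ⟨0, 0⟩, ⟨0, 0⟩, ⟨1, 0⟩, ⟨0, 0⟩, ⟨0, 0⟩],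
  [⟨0, 0⟩, ⟨0, 0⟩, ⟨0, 0⟩, ⟨0, 0⟩, ⟨0, 0⟩, ⟨0, 0⟩, ⟨0, 0⟩, ⟨0, 0⟩, ⟨0, 0⟩, ⟨0, 0⟩, ⟨0, 0⟩, ⟨0, 0⟩, ⟨0, 0⟩, ⟨0, 0⟩, ⟨0, 0⟩, ⟨0, 0⟩, ⟨0, 0⟩, ⟨1, 0⟩, ⟨0, 0⟩],
  [⟨0, 0⟩, ⟨0, 0⟩, ⟨0, 0⟩, ⟨0, 0⟩, ⟨0, 0⟩, ⟨0, 0⟩, ⟨0, 0⟩, ⟨0, 0⟩, ⟨0, 0⟩, ⟨0, 0⟩, ⟨0, 0⟩, ⟨0, 0⟩, ⟨0, 0⟩, ⟨0, 0⟩, ⟨0, 0⟩, ⟨0, 0⟩, ⟨0, 0⟩, ⟨0, 0⟩, ⟨0, 1⟩]
]

def rvlW_Sg : List RuVec := [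
  rvlMk [(-1, 0), (-1, 0), (-1, 0), (2, -7), (-2, 0), (-1, -1), (-2, -5), (2, -5), (0, -2), (0, -4), (4, -3), (1, -4), (1, -2), (3, -5), (3, -5), (3, -7), (0, -2), (3, -4), (0, -5), (1, -7), (2, -2), (2, -5), (2, -8), (1, -5), (-1, -5), (2, -6), (-2, -3), (-1, -4)],
  rvlMk [(0, 0), (-2, 0), (-1, 0), (5, -7), (-2, -1), (-1, -2), (0, -8), (3, -6), (1, -2), (2, -6), (4, -4), (1, -9), (-1, -4), (0, -8), (2, -12), (6, -10), (-1, -2), (1, -6), (2, -6), (3, -7), (1, -5), (-2, -8), (3, -11), (0, -7), (-1, -7), (1, -10), (-1, -6), (3, -8)],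
  rvlMk [(0, 0), (-1, 0), (0, 0), (0, -8), (-1, -2), (-1, -3), (-4, -7), (1, -11), (0, -3), (-3, -10), (3, -8), (-3, -8), (-2, -6), (-3, -10), (-1, -13), (1, -15), (-2, -4), (-1, -5), (1, -6), (1, -11), (0, -7), (-2, -13), (0, -14), (-3, -13), (-4, -7), (-2, -10), (-2, -7), (0, -10)],
  rvlMk [(0, 0), (0, 0), (0, 0), (1, -5), (0, 0), (0, 0), (-1, -2), (0, -3), (0, 0), (-2, -4), (1, -3), (-2, -4), (-1, 0), (-2, -2), (-1, -5), (-1, -7), (0, 0), (0, -2), (1, -5), (-1, -5), (-2, -2), (-1, -6), (-3, -8), (0, -4), (-2, -3), (-2, -4), (-1, -3), (-2, -2)],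
  rvlMk [(0, 0), (0, 0), (0, 0), (-1, -6), (0, 0), (0, 0), (1, -2), (-1, -5), (0, 0), (0, -4), (1, -2), (0, -6), (-2, -1), (-1, -5), (-1, -5), (1, -7), (0, 0), (0, -4), (0, -4), (1, -5), (0, -3), (-1, -8), (-1, -8), (-3, -5), (0, -4), (-1, -7), (-1, -4), (0, -4)],
  rvlMk [(0, 0), (0, 0), (0, 0), (2, -4), (0, 0), (0, 0), (1, -3), (1, -6), (0, 0), (0, -6), (3, -3), (1, -6), (-2, -2), (-3, -5), (0, -6), (2, -8), (0, 0), (0, -3), (3, -4), (2, -7), (0, -4), (1, -7), (0, -9), (-1, -5), (0, -4), (-2, -6), (0, -6), (1, -5)],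
  rvlMk [(0, 0), (0, 0), (0, 0), (0, -5), (0, 0), (0, 0), (0, -1), (-1, -3), (0, 0), (-1, -2), (0, -1), (-1, -4), (-1, 0), (-3, -3), (-2, -4), (0, -6), (0, 0), (0, -3), (0, -3), (1, -3), (-2, -2), (-3, -6), (-3, -5), (-2, -2), (-2, -3), (-1, -5), (0, -3), (1, -2)],
  rvlMk [(0, 0), (0, 0), (0, 0), (2, -5), (0, 0), (0, 0), (1, -2), (1, -4), (0, 0), (1, -4), (2, -2), (0, -4), (0, 0), (-2, -3), (0, -3), (0, -5), (0, 0), (0, -2), (3, -3), (3, -4), (0, -1), (1, -4), (-1, -6), (1, -5), (-1, -3), (-2, -5), (-1, -4), (0, -4)],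
  rvlMk [(0, 0), (0, 0), (0, 0), (0, -6), (0, 0), (0, 0), (-1, 0), (0, -6), (0, 0), (-1, -2), (0, -2), (-2, -3), (0, 0), (0, -1), (-1, -5), (-1, -6), (0, 0), (0, -1), (0, -5), (0, -4), (-1, 0), (1, -6), (-2, -5), (-1, -6), (-2, -1), (-1, -5), (-1, -4), (0, -2)],
  rvlMk [(0, 0), (0, 0), (0, 0), (1, -1), (0, 0), (0, 0), (1, 0), (1, -1), (0, 0), (1, 0), (1, -1), (1, -1), (0, 0), (0, -2), (1, -1), (0, -2), (0, 0), (0, -1), (0, 0), (0, 0), (0, 0), (0, -2), (0, -2), (-1, -1), (0, -1), (-1, -2), (-1, -2), (0, -3)],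
  rvlMk [(0, 0), (0, 0), (0, 0), (0, 0), (0, 0), (0, 0), (0, 0), (0, 0), (0, 0), (0, 0), (0, 0), (0, 0), (0, 0), (-1, 0), (-1, 0), (0, 0), (0, 0), (0, 0), (0, 0), (0, 0), (0, 0), (-1, -1), (-1, -1), (-1, -1), (0, 0), (-1, -1), (-1, -1), (0, 0)],
  rvlMk [(0, 0), (0, 0), (0, 0), (-1, -1), (0, 0), (0, 0), (0, 0), (0, 0), (0, 0), (0, 0), (0, 0), (0, 0), (0, 0), (-1, 0), (-1, -1), (-1, 0), (0, 0), (0, 0), (0, 0), (0, 0), (0, 0), (-1, -1), (-1, 0), (0, -1), (0, 0), (0, 0), (0, 0), (0, 0)],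
  rvlMk [(0, 0), (0, 0), (0, 0), (-1, -1), (0, 0), (0, 0), (0, 0), (0, 0), (0, 0), (0, 0), (0, 0), (0, 0), (0, 0), (0, -1), (-1, 0), (-1, -1), (0, 0), (0, 0), (0, 0), (0, 0), (0, 0), (-1, -1), (0, 0), (0, 0), (0, 0), (0, -1), (0, 0), (0, -1)],
  rvlMk [(0, 0), (0, 0), (0, 0), (-1, -1), (0, 0), (0, 0), (0, 0), (0, 0), (0, 0), (0, 0), (0, 0), (0, 0), (0, 0), (0, 0), (0, 0), (0, 0), (0, 0), (0, 0), (0, 0), (0, 0), (0, 0), (-1, 0), (-1, 0), (0, 0), (0, 0), (-1, -1), (-1, -1), (0, 0)],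
  rvlMk [(0, 0), (0, 0), (0, 0), (-1, -1), (0, 0), (0, 0), (0, 0), (0, 0), (0, 0), (0, 0), (0, 0), (0, 0), (0, 0), (0, 0), (-1, 0), (0, -1), (0, 0), (0, 0), (0, 0), (0, 0), (0, 0), (0, -1), (0, -1), (-1, -1), (0, 0), (-1, -1), (0, 0), (0, 0)],
  rvlMk [(0, 0), (0, 0), (0, 0), (0, 0), (0, 0), (0, 0), (0, 0), (0, 0), (0, 0), (0, 0), (0, 0), (0, 0), (0, 0), (0, 0), (-1, -1), (-1, -1), (0, 0), (0, 0), (0, 0), (0, 0), (0, 0), (0, -1), (-1, -1), (0, -1), (0, 0), (-1, 0), (-1, 0), (0, 0)],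
  rvlMk [(0, 0), (0, 0), (0, 0), (-1, -1), (0, 0), (0, 0), (0, 0), (0, 0), (0, 0), (0, 0), (0, 0), (0, 0), (0, 0), (0, 0), (0, -1), (0, -1), (0, 0), (0, 0), (0, 0), (0, 0), (0, 0), (0, 0), (0, 0), (-1, -1), (0, 0), (-1, 0), (-1, 0), (-1, -1)],
  rvlMk [(0, 0), (0, 0), (0, 0), (-1, -1), (0, 0), (0, 0), (0, 0), (0, 0), (0, 0), (0, 0), (0, 0), (0, 0), (0, 0), (0, 0), (0, 0), (-1, -1), (0, 0), (0, 0), (0, 0), (0, 0), (0, 0), (0, 0), (0, -1), (-1, 0), (0, 0), (-1, 0), (-1, -1), (0, -1)],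
  rvlMk [(0, 0), (0, 0), (0, 0), (0, -1), (0, 0), (0, 0), (0, 0), (1, 0), (0, 0), (0, 0), (0, 0), (1, 0), (0, 0), (0, 0), (0, 0), (0, -1), (0, 0), (0, 0), (0, 0), (1, 0), (0, 0), (0, 0), (0, 0), (0, -1), (0, 0), (0, 0), (0, 0), (0, -1)]
]

theorem rvl_cert_Sg : ∀ j : Fin 19, rvlCert (ruSign (rvlRm.getD j 0)) (rvlA_Sg.getD j []) (rvlW_Sg.getD j 0) := by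
  decide +kernel

def rvlA_Sh : List (List GaussianInt) := [
  [⟨3, 0⟩, ⟨0, 0⟩, ⟨1, 1⟩, ⟨2, 0⟩, ⟨3, 1⟩, ⟨3, 2⟩, ⟨3, 3⟩, ⟨3, 0⟩, ⟨1, 2⟩, ⟨1, 0⟩, ⟨1, 1⟩, ⟨0, 0⟩, ⟨0, 0⟩, ⟨1, 1⟩, ⟨1, 1⟩, ⟨0, 0⟩, ⟨1, 0⟩, ⟨1, 1⟩, ⟨0, 0⟩],
  [⟨2, 0⟩, ⟨1, 0⟩, ⟨0, 1⟩, ⟨2, 2⟩, ⟨1, 3⟩, ⟨0, 2⟩, ⟨1, 2⟩, ⟨3, 0⟩, ⟨1, 0⟩, ⟨1, 0⟩, ⟨1, 0⟩, ⟨0, 1⟩, ⟨0, 0⟩, ⟨1, 1⟩, ⟨1, 0⟩, ⟨1, 0⟩, ⟨1, 1⟩, ⟨1, 1⟩, ⟨0, 0⟩],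
  [⟨3, 0⟩, ⟨0, 1⟩, ⟨1, 2⟩, ⟨1, 0⟩, ⟨0, 1⟩, ⟨3, 3⟩, ⟨3, 2⟩, ⟨0, 2⟩, ⟨0, 0⟩, ⟨1, 2⟩, ⟨1, 0⟩, ⟨0, 1⟩, ⟨0, 1⟩, ⟨1, 1⟩, ⟨0, 1⟩, ⟨1, 0⟩, ⟨1, 1⟩, ⟨0, 1⟩, ⟨0, 0⟩],
  [⟨1, 0⟩, ⟨1, 1⟩, ⟨0, 2⟩, ⟨1, 2⟩, ⟨0, 0⟩, ⟨3, 1⟩, ⟨1, 1⟩, ⟨0, 2⟩, ⟨3, 1⟩, ⟨0, 1⟩, ⟨1, 1⟩, ⟨0, 1⟩, ⟨0, 1⟩, ⟨0, 0⟩, ⟨1, 1⟩, ⟨0, 0⟩, ⟨0, 1⟩, ⟨0, 1⟩, ⟨0, 1⟩],
  [⟨1, 2⟩, ⟨3, 3⟩, ⟨2, 3⟩, ⟨2, 1⟩, ⟨1, 1⟩, ⟨0, 3⟩, ⟨1, 2⟩, ⟨3, 0⟩, ⟨3, 3⟩, ⟨1, 1⟩, ⟨1, 1⟩, ⟨0, 0⟩, ⟨1, 0⟩, ⟨0, 1⟩, ⟨0, 1⟩, ⟨0, 1⟩, ⟨0, 1⟩, ⟨1, 0⟩, ⟨0, 0⟩],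
  [⟨2, 0⟩, ⟨2, 2⟩, ⟨1, 1⟩, ⟨0, 0⟩, ⟨2, 0⟩, ⟨1, 1⟩, ⟨2, 0⟩, ⟨2, 0⟩, ⟨1, 2⟩, ⟨1, 0⟩, ⟨0, 1⟩, ⟨0, 1⟩, ⟨1, 0⟩, ⟨0, 1⟩, ⟨0, 0⟩, ⟨0, 1⟩, ⟨0, 0⟩, ⟨1, 1⟩, ⟨0, 0⟩],
  [⟨2, 3⟩, ⟨2, 2⟩, ⟨3, 3⟩, ⟨0, 3⟩, ⟨0, 2⟩, ⟨2, 0⟩, ⟨0, 1⟩, ⟨3, 0⟩, ⟨0, 3⟩, ⟨1, 1⟩, ⟨1, 0⟩, ⟨0, 0⟩, ⟨1, 0⟩, ⟨0, 0⟩, ⟨0, 0⟩, ⟨0, 0⟩, ⟨0, 0⟩, ⟨0, 0⟩, ⟨0, 0⟩],
  [⟨3, 3⟩, ⟨3, 1⟩, ⟨2, 2⟩, ⟨3, 1⟩, ⟨0, 0⟩, ⟨1, 1⟩, ⟨2, 1⟩, ⟨0, 2⟩, ⟨0, 0⟩, ⟨1, 2⟩, ⟨1, 0⟩, ⟨0, 0⟩, ⟨0, 0⟩, ⟨1, 0⟩, ⟨1, 1⟩, ⟨1, 1⟩, ⟨0, 0⟩, ⟨0, 0⟩, ⟨0, 0⟩],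
  [⟨2, 1⟩, ⟨2, 0⟩, ⟨2, 0⟩, ⟨2, 1⟩, ⟨0, 0⟩, ⟨1, 0⟩, ⟨3, 0⟩, ⟨3, 0⟩, ⟨3, 3⟩, ⟨0, 1⟩, ⟨1, 0⟩, ⟨1, 0⟩, ⟨0, 1⟩, ⟨0, 0⟩, ⟨0, 1⟩, ⟨0, 0⟩, ⟨0, 1⟩, ⟨1, 0⟩, ⟨0, 1⟩],
  [⟨1, 1⟩, ⟨2, 0⟩, ⟨2, 0⟩, ⟨1, 1⟩, ⟨2, 2⟩, ⟨3, 1⟩, ⟨1, 3⟩, ⟨3, 3⟩, ⟨0, 0⟩, ⟨1, 0⟩, ⟨0, 0⟩, ⟨1, 1⟩, ⟨0, 1⟩, ⟨0, 0⟩, ⟨1, 0⟩, ⟨1, 0⟩, ⟨1, 1⟩, ⟨1, 1⟩, ⟨0, 0⟩],
  [⟨0, 0⟩, ⟨2, 2⟩, ⟨2, 2⟩, ⟨0, 0⟩, ⟨0, 0⟩, ⟨0, 0⟩, ⟨0, 0⟩, ⟨2, 2⟩, ⟨2, 2⟩, ⟨0, 0⟩, ⟨1, 1⟩, ⟨1, 1⟩, ⟨0, 0⟩, ⟨1, 0⟩, ⟨1, 1⟩, ⟨0, 1⟩, ⟨0, 1⟩, ⟨0, 0⟩, ⟨0, 0⟩],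
  [⟨0, 0⟩, ⟨0, 0⟩, ⟨0, 0⟩, ⟨0, 0⟩, ⟨0, 0⟩, ⟨0, 0⟩, ⟨0, 0⟩, ⟨0, 0⟩, ⟨0, 0⟩, ⟨0, 0⟩, ⟨1, 0⟩, ⟨0, 0⟩, ⟨0, 1⟩, ⟨1, 0⟩, ⟨0, 0⟩, ⟨1, 0⟩, ⟨0, 0⟩, ⟨1, 1⟩, ⟨0, 0⟩],
  [⟨0, 0⟩, ⟨0, 0⟩, ⟨0, 2⟩, ⟨2, 2⟩, ⟨2, 2⟩, ⟨2, 2⟩, ⟨2, 2⟩, ⟨0, 0⟩, ⟨0, 2⟩, ⟨0, 0⟩, ⟨1, 0⟩, ⟨1, 1⟩, ⟨0, 1⟩, ⟨1, 0⟩, ⟨0, 1⟩, ⟨0, 1⟩, ⟨0, 0⟩, ⟨0, 1⟩, ⟨0, 0⟩],
  [⟨0, 0⟩, ⟨2, 2⟩, ⟨2, 2⟩, ⟨0, 0⟩, ⟨0, 0⟩, ⟨0, 0⟩, ⟨0, 0⟩, ⟨2, 2⟩, ⟨2, 2⟩, ⟨0, 0⟩, ⟨1, 1⟩, ⟨1, 1⟩, ⟨0, 0⟩, ⟨1, 1⟩, ⟨0, 0⟩, ⟨1, 0⟩, ⟨0, 0⟩, ⟨0, 0⟩, ⟨0, 0⟩],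
  [⟨0, 0⟩, ⟨0, 0⟩, ⟨2, 2⟩, ⟨0, 0⟩, ⟨0, 0⟩, ⟨0, 0⟩, ⟨0, 0⟩, ⟨0, 0⟩, ⟨2, 2⟩, ⟨0, 0⟩, ⟨1, 1⟩, ⟨0, 0⟩, ⟨0, 1⟩, ⟨1, 1⟩, ⟨1, 1⟩, ⟨0, 0⟩, ⟨0, 1⟩, ⟨0, 1⟩, ⟨0, 0⟩],
  [⟨0, 0⟩, ⟨2, 0⟩, ⟨2, 0⟩, ⟨0, 0⟩, ⟨2, 2⟩, ⟨0, 0⟩, ⟨0, 0⟩, ⟨0, 2⟩, ⟨0, 2⟩, ⟨0, 0⟩, ⟨1, 0⟩, ⟨1, 0⟩, ⟨0, 1⟩, ⟨0, 1⟩, ⟨0, 0⟩, ⟨0, 0⟩, ⟨1, 1⟩, ⟨0, 0⟩, ⟨0, 0⟩],
  [⟨0, 0⟩, ⟨2, 0⟩, ⟨2, 0⟩, ⟨0, 0⟩, ⟨2, 2⟩, ⟨0, 0⟩, ⟨0, 0⟩, ⟨0, 2⟩, ⟨0, 2⟩, ⟨0, 0⟩, ⟨1, 0⟩, ⟨1, 0⟩, ⟨0, 1⟩, ⟨0, 1⟩, ⟨0, 0⟩, ⟨0, 0⟩, ⟨1, 1⟩, ⟨0, 1⟩, ⟨0, 0⟩],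
  [⟨0, 0⟩, ⟨2, 2⟩, ⟨2, 0⟩, ⟨2, 2⟩, ⟨2, 2⟩, ⟨2, 2⟩, ⟨2, 2⟩, ⟨2, 2⟩, ⟨2, 0⟩, ⟨0, 0⟩, ⟨0, 1⟩, ⟨0, 0⟩, ⟨1, 0⟩, ⟨1, 1⟩, ⟨1, 0⟩, ⟨0, 0⟩, ⟨0, 0⟩, ⟨1, 1⟩, ⟨0, 0⟩],
  [⟨0, 0⟩, ⟨0, 0⟩, ⟨0, 0⟩, ⟨0, 0⟩, ⟨0, 0⟩, ⟨0, 0⟩, ⟨0, 0⟩, ⟨0, 0⟩, ⟨0, 0⟩, ⟨0, 0⟩, ⟨0, 0⟩, ⟨0, 0⟩, ⟨0, 0⟩, ⟨0, 0⟩, ⟨0, 0⟩, ⟨0, 0⟩, ⟨0, 0⟩, ⟨0, 0⟩, ⟨0, 1⟩]
]

def rvlW_Sh : List RuVec := [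
  rvlMk [(0, 0), (-1, 0), (0, 0), (1, -11), (-2, -1), (-1, -2), (-6, -8), (-1, -11), (0, -3), (-2, -14), (2, -10), (-4, -12), (-4, -6), (-5, -11), (-4, -12), (1, -15), (-3, -4), (-2, -8), (-3, -7), (1, -13), (1, -9), (-3, -12), (-3, -16), (-6, -13), (-7, -11), (-6, -14), (-4, -8), (-5, -10)],
  rvlMk [(0, 0), (-1, 0), (0, 0), (2, -11), (-2, -1), (0, -3), (-2, -9), (2, -10), (2, -2), (1, -10), (3, -7), (-1, -9), (1, -5), (0, -8), (0, -11), (3, -11), (0, -5), (1, -6), (-2, -7), (3, -9), (4, -4), (-1, -12), (0, -12), (0, -12), (-3, -8), (-3, -12), (-4, -6), (-1, -8)],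
  rvlMk [(0, 0), (-1, -1), (0, 0), (6, -8), (-1, -2), (1, -2), (1, -8), (3, -10), (1, -3), (2, -6), (5, -6), (1, -10), (0, -5), (1, -10), (4, -12), (7, -13), (0, -5), (2, -8), (-1, -6), (3, -8), (3, -6), (0, -11), (1, -11), (0, -9), (-2, -9), (0, -12), (-2, -10), (3, -9)],
  rvlMk [(0, 0), (0, -1), (0, 0), (8, -7), (0, -2), (1, -2), (1, -7), (5, -9), (3, -3), (2, -6), (4, -5), (-1, -7), (-2, -3), (2, -6), (3, -10), (7, -12), (1, -3), (1, -5), (2, -7), (4, -7), (1, -5), (2, -10), (2, -9), (2, -8), (-2, -7), (1, -10), (1, -9), (4, -8)],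
  rvlMk [(0, 0), (-2, -2), (-1, -1), (8, -12), (-1, -7), (1, -4), (-1, -11), (5, -11), (0, -6), (1, -14), (5, -11), (0, -11), (1, -4), (2, -11), (7, -13), (4, -14), (0, -8), (2, -7), (2, -15), (7, -13), (2, -7), (0, -15), (1, -16), (3, -15), (-6, -14), (1, -13), (-3, -12), (1, -11)],
  rvlMk [(0, 0), (-1, -1), (-1, 0), (3, -8), (-2, -3), (0, -2), (-2, -6), (0, -8), (-1, -2), (-1, -8), (0, -7), (-2, -7), (-2, -2), (-3, -7), (1, -8), (0, -10), (-2, -3), (0, -5), (1, -6), (3, -8), (-1, -5), (-2, -8), (-2, -10), (-1, -7), (-7, -7), (-2, -9), (-3, -7), (-2, -6)],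
  rvlMk [(0, 0), (-2, -2), (-1, -1), (8, -8), (-1, -8), (3, -5), (3, -12), (5, -8), (1, -5), (4, -12), (5, -7), (-1, -8), (-1, -4), (1, -8), (3, -10), (4, -11), (1, -7), (-1, -5), (0, -8), (8, -9), (1, -7), (2, -10), (4, -9), (4, -10), (-5, -11), (0, -8), (-4, -10), (0, -13)],
  rvlMk [(0, 0), (-2, -1), (-1, -1), (6, -9), (-4, -6), (0, -4), (1, -11), (1, -8), (0, -6), (0, -7), (3, -5), (-2, -6), (-1, -2), (1, -8), (2, -10), (3, -11), (-1, -6), (2, -5), (-4, -10), (4, -11), (-1, -5), (-4, -8), (1, -11), (0, -8), (-5, -9), (-2, -10), (-7, -11), (-1, -10)],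
  rvlMk [(0, 0), (-2, 0), (-1, 0), (4, -11), (-4, -3), (-1, -3), (-5, -8), (1, -8), (-2, -3), (-5, -9), (2, -9), (-3, -9), (-2, -1), (-4, -6), (-2, -10), (-1, -13), (-2, -3), (-2, -6), (-2, -9), (-1, -11), (-4, -5), (-3, -9), (-5, -11), (-1, -10), (-9, -8), (-4, -8), (-6, -6), (-3, -9)],
  rvlMk [(0, 0), (-1, 0), (0, 0), (3, -10), (-3, -3), (-1, -3), (-3, -9), (0, -11), (-2, -3), (2, -10), (3, -7), (2, -8), (-3, -6), (-2, -11), (-2, -15), (2, -14), (-4, -4), (1, -8), (-3, -7), (3, -10), (2, -7), (-1, -11), (0, -14), (-2, -13), (-3, -10), (-2, -12), (-5, -7), (0, -12)],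
  rvlMk [(0, 0), (-1, -1), (0, 0), (4, -8), (0, -4), (1, -2), (-1, -6), (2, -5), (-1, -4), (1, -8), (3, -5), (0, -4), (0, 0), (1, -5), (4, -8), (2, -8), (-1, -4), (2, -4), (2, -9), (3, -8), (-1, -3), (1, -7), (0, -8), (5, -8), (-3, -7), (1, -7), (-3, -7), (1, -4)],
  rvlMk [(0, 0), (0, 0), (0, 0), (0, -2), (0, 0), (0, 0), (0, 0), (0, -2), (0, 0), (-1, -1), (0, 0), (0, -1), (0, 0), (0, 0), (-1, -1), (0, -2), (0, 0), (1, -1), (0, -2), (1, -2), (0, 0), (0, -1), (-1, -1), (-1, -1), (0, 0), (-1, -1), (-1, -2), (1, 0)],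
  rvlMk [(0, 0), (0, 0), (0, 0), (4, -5), (1, -1), (0, -2), (-1, -8), (4, -9), (3, -3), (1, -9), (4, -6), (-1, -8), (-2, -6), (0, -7), (1, -10), (8, -11), (0, -4), (0, -5), (3, -6), (6, -8), (3, -7), (1, -10), (3, -11), (1, -9), (0, -8), (0, -9), (2, -7), (3, -7)],
  rvlMk [(0, 0), (-1, -1), (0, 0), (4, -7), (0, -4), (1, -2), (-1, -6), (1, -4), (-1, -4), (1, -8), (3, -5), (0, -4), (0, 0), (1, -5), (3, -8), (0, -7), (-1, -4), (2, -4), (1, -9), (2, -7), (-1, -3), (0, -7), (-1, -8), (4, -7), (-3, -7), (1, -6), (-3, -7), (0, -4)],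
  rvlMk [(0, 0), (0, 0), (0, 0), (3, -6), (1, -2), (1, -1), (-2, -3), (3, -4), (0, -3), (0, -7), (2, -3), (-1, -4), (0, 0), (1, -2), (2, -4), (3, -6), (0, -2), (1, -1), (2, -5), (2, -5), (-1, -2), (2, -5), (1, -5), (2, -6), (-2, -3), (1, -4), (0, -5), (2, -2)],
  rvlMk [(0, 0), (-1, 0), (0, 0), (2, -6), (-2, -2), (-1, -2), (-3, -6), (0, -6), (-2, -2), (2, -6), (3, -4), (3, -3), (-1, -2), (0, -4), (0, -7), (2, -6), (-4, -3), (2, -2), (1, -5), (2, -6), (0, -2), (-1, -5), (2, -7), (2, -7), (0, -4), (3, -5), (-2, -3), (1, -4)],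
  rvlMk [(0, 0), (-1, 0), (0, 0), (3, -6), (-2, -2), (-1, -2), (-3, -6), (1, -6), (-2, -2), (2, -6), (3, -4), (3, -3), (-1, -2), (0, -4), (0, -7), (3, -6), (-4, -3), (2, -2), (1, -5), (2, -6), (0, -2), (-1, -5), (2, -7), (2, -8), (0, -4), (3, -6), (-2, -4), (2, -4)],
  rvlMk [(0, 0), (-1, -1), (0, 0), (2, -9), (-2, -4), (-1, -4), (-4, -8), (2, -10), (-1, -4), (-1, -11), (3, -9), (-1, -9), (-2, -6), (-1, -11), (-1, -14), (1, -14), (-3, -6), (1, -7), (-1, -9), (3, -9), (1, -7), (-4, -14), (0, -14), (-2, -12), (-4, -10), (-1, -14), (-2, -9), (1, -10)],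
  rvlMk [(0, 0), (0, 0), (0, 0), (1, 0), (0, 0), (0, 0), (0, 0), (1, 0), (0, 0), (0, 0), (0, 0), (1, 0), (0, 0), (0, 0), (0, 0), (1, 0), (0, 0), (0, 0), (0, 0), (1, 0), (0, 0), (0, 0), (0, 0), (1, 0), (0, 0), (0, 0), (0, 0), (1, 0)]
]

theorem rvl_cert_Sh : ∀ j : Fin 19, rvlCert (rvlShInv (rvlRm.getD j 0)) (rvlA_Sh.getD j []) (rvlW_Sh.getD j 0) := by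
  decide +kernel

def rvlA_T : List (List GaussianInt) := [
  [⟨0, 0⟩, ⟨0, 0⟩, ⟨0, 0⟩, ⟨0, 0⟩, ⟨0, 0⟩, ⟨0, 0⟩, ⟨0, 0⟩, ⟨0, 0⟩, ⟨0, 0⟩, ⟨0, 0⟩, ⟨0, 0⟩, ⟨0, 0⟩, ⟨0, 0⟩, ⟨0, 0⟩, ⟨0, 0⟩, ⟨0, 0⟩, ⟨0, 0⟩, ⟨0, 0⟩, ⟨0, 0⟩],
  [⟨0, 3⟩, ⟨1, 1⟩, ⟨3, 3⟩, ⟨0, 3⟩, ⟨0, 2⟩, ⟨3, 2⟩, ⟨0, 0⟩, ⟨0, 1⟩, ⟨3, 2⟩, ⟨0, 1⟩, ⟨1, 1⟩, ⟨0, 0⟩, ⟨1, 0⟩, ⟨1, 0⟩, ⟨1, 0⟩, ⟨0, 1⟩, ⟨1, 0⟩, ⟨1, 1⟩, ⟨0, 0⟩],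
  [⟨0, 3⟩, ⟨3, 1⟩, ⟨3, 3⟩, ⟨2, 1⟩, ⟨0, 2⟩, ⟨1, 0⟩, ⟨2, 2⟩, ⟨0, 3⟩, ⟨1, 0⟩, ⟨0, 1⟩, ⟨0, 0⟩, ⟨0, 1⟩, ⟨0, 0⟩, ⟨0, 0⟩, ⟨1, 1⟩, ⟨1, 1⟩, ⟨0, 0⟩, ⟨1, 1⟩, ⟨0, 0⟩],
  [⟨0, 3⟩, ⟨1, 1⟩, ⟨1, 3⟩, ⟨2, 1⟩, ⟨2, 0⟩, ⟨1, 0⟩, ⟨2, 2⟩, ⟨0, 1⟩, ⟨1, 2⟩, ⟨0, 1⟩, ⟨1, 0⟩, ⟨1, 1⟩, ⟨0, 0⟩, ⟨1, 0⟩, ⟨1, 1⟩, ⟨1, 1⟩, ⟨1, 1⟩, ⟨1, 0⟩, ⟨0, 0⟩],
  [⟨0, 3⟩, ⟨3, 1⟩, ⟨1, 3⟩, ⟨0, 3⟩, ⟨2, 0⟩, ⟨3, 2⟩, ⟨0, 0⟩, ⟨0, 3⟩, ⟨3, 0⟩, ⟨0, 1⟩, ⟨0, 1⟩, ⟨1, 0⟩, ⟨1, 0⟩, ⟨0, 0⟩, ⟨1, 0⟩, ⟨0, 1⟩, ⟨0, 1⟩, ⟨1, 0⟩, ⟨0, 0⟩],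
  [⟨1, 0⟩, ⟨0, 0⟩, ⟨0, 0⟩, ⟨2, 0⟩, ⟨0, 1⟩, ⟨1, 0⟩, ⟨0, 2⟩, ⟨1, 2⟩, ⟨2, 2⟩, ⟨1, 3⟩, ⟨0, 0⟩, ⟨1, 0⟩, ⟨0, 1⟩, ⟨0, 1⟩, ⟨0, 1⟩, ⟨0, 1⟩, ⟨1, 0⟩, ⟨0, 0⟩, ⟨0, 1⟩],
  [⟨1, 0⟩, ⟨0, 0⟩, ⟨0, 0⟩, ⟨1, 0⟩, ⟨1, 2⟩, ⟨1, 3⟩, ⟨3, 1⟩, ⟨0, 1⟩, ⟨0, 2⟩, ⟨1, 3⟩, ⟨0, 0⟩, ⟨1, 1⟩, ⟨1, 1⟩, ⟨1, 1⟩, ⟨0, 1⟩, ⟨1, 1⟩, ⟨1, 1⟩, ⟨1, 0⟩, ⟨0, 1⟩],
  [⟨1, 0⟩, ⟨0, 0⟩, ⟨0, 0⟩, ⟨1, 0⟩, ⟨2, 3⟩, ⟨2, 0⟩, ⟨2, 0⟩, ⟨0, 1⟩, ⟨2, 2⟩, ⟨0, 3⟩, ⟨0, 0⟩, ⟨1, 1⟩, ⟨1, 1⟩, ⟨1, 1⟩, ⟨0, 0⟩, ⟨1, 0⟩, ⟨1, 0⟩, ⟨1, 0⟩, ⟨0, 1⟩],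
  [⟨1, 0⟩, ⟨2, 0⟩, ⟨0, 0⟩, ⟨3, 2⟩, ⟨3, 2⟩, ⟨1, 0⟩, ⟨2, 2⟩, ⟨0, 3⟩, ⟨0, 2⟩, ⟨0, 2⟩, ⟨1, 1⟩, ⟨0, 1⟩, ⟨0, 0⟩, ⟨1, 0⟩, ⟨1, 0⟩, ⟨1, 1⟩, ⟨1, 1⟩, ⟨1, 1⟩, ⟨0, 1⟩],
  [⟨1, 0⟩, ⟨2, 0⟩, ⟨0, 0⟩, ⟨3, 2⟩, ⟨2, 1⟩, ⟨3, 0⟩, ⟨3, 1⟩, ⟨0, 3⟩, ⟨2, 2⟩, ⟨1, 2⟩, ⟨1, 0⟩, ⟨0, 1⟩, ⟨1, 0⟩, ⟨0, 0⟩, ⟨0, 0⟩, ⟨1, 0⟩, ⟨0, 1⟩, ⟨0, 1⟩, ⟨0, 0⟩],
  [⟨1, 0⟩, ⟨2, 0⟩, ⟨0, 0⟩, ⟨0, 2⟩, ⟨0, 1⟩, ⟨2, 2⟩, ⟨1, 3⟩, ⟨0, 3⟩, ⟨3, 1⟩, ⟨0, 2⟩, ⟨1, 1⟩, ⟨1, 0⟩, ⟨1, 0⟩, ⟨0, 0⟩, ⟨0, 1⟩, ⟨0, 1⟩, ⟨1, 0⟩, ⟨0, 1⟩, ⟨0, 1⟩],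
  [⟨1, 0⟩, ⟨2, 0⟩, ⟨0, 0⟩, ⟨3, 1⟩, ⟨1, 0⟩, ⟨1, 3⟩, ⟨0, 2⟩, ⟨2, 3⟩, ⟨1, 1⟩, ⟨0, 1⟩, ⟨1, 0⟩, ⟨0, 0⟩, ⟨1, 1⟩, ⟨0, 0⟩, ⟨1, 0⟩, ⟨0, 1⟩, ⟨0, 0⟩, ⟨1, 0⟩, ⟨0, 1⟩],
  [⟨1, 0⟩, ⟨0, 0⟩, ⟨2, 0⟩, ⟨3, 1⟩, ⟨3, 2⟩, ⟨1, 3⟩, ⟨0, 2⟩, ⟨1, 1⟩, ⟨0, 3⟩, ⟨0, 1⟩, ⟨1, 1⟩, ⟨1, 0⟩, ⟨1, 0⟩, ⟨0, 0⟩, ⟨0, 0⟩, ⟨0, 1⟩, ⟨1, 0⟩, ⟨0, 0⟩, ⟨0, 1⟩],
  [⟨1, 0⟩, ⟨0, 0⟩, ⟨2, 0⟩, ⟨2, 2⟩, ⟨2, 1⟩, ⟨2, 0⟩, ⟨3, 3⟩, ⟨0, 0⟩, ⟨1, 0⟩, ⟨0, 2⟩, ⟨0, 0⟩, ⟨0, 0⟩, ⟨0, 1⟩, ⟨1, 0⟩, ⟨1, 0⟩, ⟨1, 0⟩, ⟨0, 1⟩, ⟨1, 1⟩, ⟨0, 0⟩],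
  [⟨1, 0⟩, ⟨0, 0⟩, ⟨2, 0⟩, ⟨3, 2⟩, ⟨0, 1⟩, ⟨0, 1⟩, ⟨1, 1⟩, ⟨1, 1⟩, ⟨1, 0⟩, ⟨0, 3⟩, ⟨1, 0⟩, ⟨0, 1⟩, ⟨1, 0⟩, ⟨0, 0⟩, ⟨0, 1⟩, ⟨1, 0⟩, ⟨1, 1⟩, ⟨0, 1⟩, ⟨0, 1⟩],
  [⟨1, 0⟩, ⟨0, 0⟩, ⟨2, 0⟩, ⟨3, 2⟩, ⟨1, 0⟩, ⟨2, 1⟩, ⟨0, 0⟩, ⟨0, 0⟩, ⟨2, 1⟩, ⟨1, 1⟩, ⟨1, 0⟩, ⟨1, 0⟩, ⟨0, 1⟩, ⟨1, 1⟩, ⟨0, 1⟩, ⟨0, 0⟩, ⟨1, 1⟩, ⟨0, 0⟩, ⟨0, 1⟩],
  [⟨1, 0⟩, ⟨2, 0⟩, ⟨2, 0⟩, ⟨1, 0⟩, ⟨0, 1⟩, ⟨2, 0⟩, ⟨2, 2⟩, ⟨0, 2⟩, ⟨0, 3⟩, ⟨0, 1⟩, ⟨0, 0⟩, ⟨1, 1⟩, ⟨1, 1⟩, ⟨1, 0⟩, ⟨0, 1⟩, ⟨0, 1⟩, ⟨1, 1⟩, ⟨1, 0⟩, ⟨0, 1⟩],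
  [⟨1, 0⟩, ⟨2, 0⟩, ⟨2, 0⟩, ⟨1, 0⟩, ⟨3, 0⟩, ⟨1, 3⟩, ⟨3, 1⟩, ⟨3, 3⟩, ⟨1, 2⟩, ⟨0, 2⟩, ⟨0, 1⟩, ⟨0, 0⟩, ⟨1, 0⟩, ⟨0, 0⟩, ⟨0, 1⟩, ⟨1, 0⟩, ⟨0, 1⟩, ⟨1, 1⟩, ⟨0, 0⟩],
  [⟨1, 0⟩, ⟨2, 0⟩, ⟨2, 0⟩, ⟨1, 3⟩, ⟨3, 2⟩, ⟨0, 1⟩, ⟨3, 1⟩, ⟨1, 3⟩, ⟨2, 3⟩, ⟨1, 0⟩, ⟨0, 1⟩, ⟨1, 0⟩, ⟨1, 1⟩, ⟨1, 0⟩, ⟨1, 1⟩, ⟨0, 0⟩, ⟨1, 1⟩, ⟨1, 0⟩, ⟨0, 1⟩],
  [⟨1, 0⟩, ⟨2, 0⟩, ⟨2, 0⟩, ⟨2, 0⟩, ⟨2, 3⟩, ⟨0, 3⟩, ⟨0, 0⟩, ⟨0, 0⟩, ⟨3, 0⟩, ⟨0, 0⟩, ⟨0, 0⟩, ⟨0, 0⟩, ⟨0, 1⟩, ⟨1, 0⟩, ⟨1, 0⟩, ⟨0, 1⟩, ⟨1, 0⟩, ⟨0, 1⟩, ⟨0, 1⟩]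
]

def rvlW_T : List RuVec := [
  rvlMk [(1, 0), (0, 0), (0, 0), (0, 0), (0, 0), (0, 0), (0, 0), (0, 0), (0, 0), (0, 0), (0, 0), (0, 0), (0, 0), (0, 0), (0, 0), (0, 0), (0, 0), (0, 0), (0, 0), (0, 0), (0, 0), (0, 0), (0, 0), (0, 0), (0, 0), (0, 0), (0, 0), (0, 0)],
  rvlMk [(0, -1), (-1, -2), (0, -1), (6, -8), (1, -7), (3, -4), (2, -9), (6, -11), (2, -5), (2, -10), (5, -7), (-4, -8), (0, -6), (2, -8), (4, -13), (5, -15), (1, -6), (0, -5), (1, -11), (6, -9), (2, -6), (2, -11), (4, -10), (2, -12), (-3, -10), (0, -11), (0, -14), (4, -13)],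
  rvlMk [(0, -1), (-2, -2), (-1, -1), (7, -9), (-1, -7), (1, -4), (1, -11), (3, -10), (0, -7), (3, -8), (5, -5), (1, -4), (-1, -3), (3, -10), (4, -13), (5, -14), (-1, -7), (3, -4), (-1, -11), (5, -10), (0, -6), (0, -11), (5, -13), (4, -10), (-1, -11), (2, -9), (-4, -12), (3, -11)],
  rvlMk [(0, -1), (-1, -2), (0, -1), (5, -8), (1, -5), (1, -2), (1, -8), (0, -10), (2, -5), (0, -10), (3, -6), (-2, -7), (-3, -2), (1, -7), (2, -9), (4, -13), (0, -4), (1, -4), (1, -11), (4, -12), (0, -7), (-1, -11), (0, -13), (0, -10), (-1, -11), (-2, -9), (-3, -12), (1, -10)],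
  rvlMk [(0, -1), (-2, -2), (-1, -1), (6, -8), (0, -6), (2, -3), (2, -9), (3, -10), (3, -4), (3, -7), (2, -6), (-1, -7), (-2, -5), (2, -8), (3, -13), (4, -13), (-1, -4), (1, -6), (-1, -11), (5, -9), (2, -6), (-2, -10), (2, -10), (1, -10), (-3, -11), (1, -13), (0, -14), (5, -13)],
  rvlMk [(0, 0), (0, 0), (0, 0), (5, -7), (-1, 0), (-1, -1), (-1, -6), (3, -8), (0, -2), (3, -6), (5, -6), (2, -7), (-1, -2), (2, -6), (2, -8), (4, -10), (0, -2), (1, -5), (1, -7), (2, -7), (1, -3), (4, -8), (3, -11), (2, -8), (1, -6), (2, -8), (-1, -6), (0, -8)],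
  rvlMk [(0, 0), (0, 0), (0, 0), (4, -8), (-1, 0), (-1, -1), (0, -6), (3, -11), (0, -1), (2, -6), (5, -7), (2, -12), (0, -5), (0, -9), (3, -11), (6, -13), (-1, -3), (1, -8), (1, -7), (2, -9), (2, -4), (1, -11), (1, -13), (1, -10), (0, -8), (1, -12), (0, -7), (4, -10)],
  rvlMk [(0, 0), (0, 0), (0, 0), (3, -8), (-1, 0), (-1, -1), (-2, -6), (1, -12), (0, -1), (1, -6), (4, -8), (-1, -8), (-3, -4), (-1, -6), (-2, -9), (1, -13), (-2, -3), (-1, -6), (-1, -7), (0, -8), (0, -4), (0, -11), (-1, -12), (-1, -9), (-1, -6), (0, -9), (-1, -7), (1, -9)],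
  rvlMk [(0, 0), (-1, 0), (-1, 0), (4, -9), (-3, -1), (-2, -3), (-2, -10), (2, -14), (1, -3), (2, -10), (6, -7), (1, -9), (-4, -4), (1, -9), (0, -11), (6, -15), (-3, -4), (2, -5), (1, -8), (3, -13), (1, -6), (-1, -12), (4, -18), (1, -12), (1, -9), (-1, -14), (-3, -10), (2, -11)],
  rvlMk [(0, 0), (-1, 0), (-1, 0), (5, -8), (-3, -1), (-2, -3), (-3, -10), (0, -13), (1, -3), (-1, -8), (3, -9), (-3, -9), (-5, -4), (-2, -9), (-2, -12), (2, -16), (-3, -3), (-1, -6), (0, -7), (-1, -11), (-1, -7), (-4, -12), (-1, -16), (-2, -9), (-3, -9), (-3, -13), (-3, -10), (0, -12)],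
  rvlMk [(0, 0), (-1, 0), (-1, 0), (4, -7), (-2, -1), (0, -2), (1, -8), (5, -10), (1, -1), (3, -6), (6, -6), (2, -9), (0, -5), (2, -9), (4, -13), (8, -11), (-1, -2), (1, -7), (0, -8), (2, -9), (3, -4), (3, -11), (5, -12), (2, -11), (1, -8), (4, -13), (1, -8), (5, -9)],
  rvlMk [(0, 0), (-1, 0), (-1, 0), (2, -8), (-3, -1), (-2, -2), (-3, -7), (2, -8), (0, -3), (1, -7), (4, -6), (1, -8), (0, -4), (2, -9), (1, -10), (4, -12), (-2, -3), (3, -8), (-2, -8), (3, -10), (3, -4), (-1, -8), (1, -13), (0, -10), (-1, -8), (-1, -12), (-3, -6), (2, -9)],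
  rvlMk [(0, 0), (-1, 0), (0, 0), (1, -7), (-2, -2), (-2, -3), (-5, -8), (2, -11), (-1, -4), (1, -11), (6, -8), (0, -9), (-1, -6), (0, -10), (0, -11), (4, -13), (-3, -5), (1, -6), (1, -6), (4, -11), (3, -6), (0, -10), (3, -14), (0, -14), (-1, -8), (0, -11), (-1, -6), (0, -10)],
  rvlMk [(0, 0), (-1, 0), (0, 0), (1, -7), (-2, -2), (-1, -3), (-3, -6), (1, -11), (0, -3), (-3, -9), (2, -7), (-1, -8), (-4, -4), (-1, -8), (-2, -9), (2, -13), (-2, -3), (-1, -5), (-2, -4), (-1, -10), (-1, -7), (-2, -12), (0, -12), (-5, -10), (-3, -6), (-3, -10), (-2, -8), (1, -9)],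
  rvlMk [(0, 0), (-1, 0), (0, 0), (4, -8), (-2, -2), (-1, -3), (-2, -6), (2, -10), (0, -4), (0, -6), (4, -6), (0, -8), (0, -2), (1, -8), (1, -9), (3, -12), (0, -4), (1, -5), (0, -5), (1, -7), (0, -3), (0, -10), (2, -10), (1, -11), (-2, -5), (-1, -10), (-3, -7), (2, -10)],
  rvlMk [(0, 0), (-1, 0), (0, 0), (2, -9), (-2, -2), (-1, -3), (-4, -6), (0, -9), (0, -4), (-3, -7), (0, -6), (-4, -8), (-2, -3), (-2, -5), (-2, -9), (0, -11), (-1, -3), (-1, -4), (0, -7), (1, -8), (-1, -4), (-3, -8), (-2, -8), (-3, -9), (-5, -3), (-4, -8), (-4, -7), (-2, -9)],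
  rvlMk [(0, 0), (-2, 0), (-1, 0), (3, -9), (-3, -2), (-1, -2), (-1, -8), (2, -9), (-2, -3), (1, -7), (5, -4), (1, -8), (-2, -3), (-1, -8), (2, -11), (4, -12), (-3, -3), (0, -6), (0, -7), (2, -12), (-1, -5), (1, -7), (3, -11), (2, -8), (-1, -6), (1, -8), (-4, -6), (1, -9)],
  rvlMk [(0, 0), (-2, 0), (-1, 0), (3, -9), (-3, -2), (-2, -2), (-6, -7), (0, -10), (-3, -3), (0, -10), (4, -10), (2, -12), (-2, -4), (-2, -13), (0, -13), (2, -15), (-5, -3), (1, -9), (-2, -7), (-1, -11), (0, -6), (-3, -10), (-2, -16), (-1, -14), (-5, -12), (-1, -16), (-3, -8), (2, -11)],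
  rvlMk [(0, 0), (-2, 0), (-1, 0), (3, -12), (-3, -3), (-1, -4), (-5, -12), (1, -12), (0, -3), (0, -13), (5, -9), (0, -13), (-2, -4), (-1, -10), (0, -15), (4, -16), (-3, -4), (1, -6), (0, -9), (1, -13), (0, -6), (-2, -14), (1, -17), (1, -14), (-3, -11), (1, -15), (-4, -8), (1, -12)],
  rvlMk [(0, 0), (-2, 0), (-1, 0), (0, -10), (-3, -2), (-2, -3), (-6, -6), (3, -10), (-2, -3), (-3, -6), (1, -7), (-2, -5), (1, -5), (1, -6), (0, -11), (2, -10), (-4, -6), (2, -4), (-4, -8), (1, -8), (1, -2), (-3, -8), (-1, -9), (-1, -12), (-4, -4), (0, -8), (-3, -4), (0, -5)]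
]

theorem rvl_cert_T : ∀ j : Fin 20, rvlCert (ruTable.getD j 0) (rvlA_T.getD j []) (rvlW_T.getD j 0) := by
  decide +kernel

theorem rvl_table_length : ruTable.length = 20 := rfl

end Cfsg.Agent.Lib.Helper29
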