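import Mathlib
import Cfsg.Prelude.Def_Spor_Ru
import Cfsg.Agent.Lib.Helper29.RvLBasic
import Cfsg.Agent.Lib.Helper29.RvLData

set_option autoImplicit false
set_option maxRecDepth 100000

namespace Cfsg.Agent.Lib.Helper29

open Cfsg.Spor

/-- weight of a parity vector -/
def rvlWt (c : RuIdx → ZMod 2) : ℕ := (Finset.univ.filter fun p => c p = 1).card
/-- parity word: two full slots -/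
def rvlSlotPair (a b : Fin 7) : RuIdx → ZMod 2 := fun p => if p.1 = a ∨ p.1 = b then 1 else 0
/-- parity word: one full slot -/
def rvlSlot (a : Fin 7) : RuIdx → ZMod 2 := fun p => if p.1 = a then 1 else 0
/-- all 28 indices -/
def rvlAllIdx : List RuIdx := [(0, 0), (0, 1), (0, 2), (0, 3), (1, 0), (1, 1), (1, 2), (1, 3), (2, 0), (2, 1), (2, 2), (2, 3), (3, 0), (3, 1), (3, 2), (3, 3), (4, 0), (4, 1), (4, 2), (4, 3), (5, 0), (5, 1), (5, 2), (5, 3), (6, 0), (6, 1), (6, 2), (6, 3)]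

theorem rvl_mem_allIdx : ∀ p : RuIdx, p ∈ rvlAllIdx := by decide

theorem rvl_z2_solve {a b : ZMod 2} (h : a + b = 0) : a = b := by
  revert h; revert a b; decide

def rvlS0 : List RuVec := [
  rvlMk [(1, 0), (0, 0), (0, 0), (0, 0), (0, 0), (0, 0), (0, 0), (1, 0), (0, 0), (0, 0), (0, 0), (1, 0), (0, 0), (0, 0), (0, 0), (1, 0), (0, 0), (0, 0), (0, 0), (1, 0), (0, 0), (0, 0), (0, 0), (1, 0), (0, 0), (1, 0), (0, 0), (0, 0)],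
  rvlMk [(0, 0), (1, 0), (0, 0), (0, 0), (0, 0), (0, 0), (0, 0), (1, 0), (0, 0), (0, 0), (0, 0), (1, 0), (0, 0), (0, 0), (0, 0), (1, 0), (0, 0), (0, 0), (0, 0), (1, 0), (0, 0), (0, 0), (1, 0), (0, 0), (0, 0), (0, 0), (1, 0), (0, 0)],
  rvlMk [(0, 0), (0, 0), (1, 0), (0, 0), (0, 0), (0, 0), (0, 0), (1, 0), (0, 0), (0, 0), (0, 0), (1, 0), (0, 0), (0, 0), (0, 0), (1, 0), (0, 0), (0, 0), (0, 0), (1, 0), (0, 0), (0, 0), (1, 0), (0, 0), (0, 0), (1, 0), (1, 0), (1, 0)],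
  rvlMk [(0, 0), (0, 0), (0, 0), (1, 0), (0, 0), (0, 0), (0, 0), (1, 0), (0, 0), (0, 0), (0, 0), (1, 0), (0, 0), (0, 0), (0, 0), (1, 0), (0, 0), (0, 0), (0, 0), (1, 0), (0, 0), (0, 0), (0, 0), (1, 0), (0, 0), (0, 0), (0, 0), (1, 0)],
  rvlMk [(0, 0), (0, 0), (0, 0), (0, 0), (1, 0), (0, 0), (0, 0), (1, 0), (0, 0), (0, 0), (0, 0), (0, 0), (0, 0), (0, 0), (0, 0), (0, 0), (0, 0), (0, 0), (0, 0), (0, 0), (0, 0), (0, 0), (1, 0), (1, 0), (0, 0), (0, 0), (1, 0), (1, 0)],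
  rvlMk [(0, 0), (0, 0), (0, 0), (0, 0), (0, 0), (1, 0), (0, 0), (1, 0), (0, 0), (0, 0), (0, 0), (0, 0), (0, 0), (0, 0), (0, 0), (0, 0), (0, 0), (0, 0), (0, 0), (0, 0), (0, 0), (0, 0), (1, 0), (1, 0), (0, 0), (1, 0), (0, 0), (1, 0)],
  rvlMk [(0, 0), (0, 0), (0, 0), (0, 0), (0, 0), (0, 0), (1, 0), (1, 0), (0, 0), (0, 0), (0, 0), (0, 0), (0, 0), (0, 0), (0, 0), (0, 0), (0, 0), (0, 0), (0, 0), (0, 0), (0, 0), (0, 0), (0, 0), (0, 0), (0, 0), (1, 0), (1, 0), (0, 0)],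
  rvlMk [(0, 0), (0, 0), (0, 0), (0, 0), (0, 0), (0, 0), (0, 0), (0, 0), (1, 0), (0, 0), (0, 0), (1, 0), (0, 0), (0, 0), (0, 0), (0, 0), (0, 0), (0, 0), (0, 0), (0, 0), (0, 0), (0, 0), (1, 0), (1, 0), (0, 0), (1, 0), (0, 0), (1, 0)],
  rvlMk [(0, 0), (0, 0), (0, 0), (0, 0), (0, 0), (0, 0), (0, 0), (0, 0), (0, 0), (1, 0), (0, 0), (1, 0), (0, 0), (0, 0), (0, 0), (0, 0), (0, 0), (0, 0), (0, 0), (0, 0), (0, 0), (0, 0), (1, 0), (1, 0), (0, 0), (0, 0), (0, 0), (0, 0)],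
  rvlMk [(0, 0), (0, 0), (0, 0), (0, 0), (0, 0), (0, 0), (0, 0), (0, 0), (0, 0), (0, 0), (1, 0), (1, 0), (0, 0), (0, 0), (0, 0), (0, 0), (0, 0), (0, 0), (0, 0), (0, 0), (0, 0), (0, 0), (0, 0), (0, 0), (0, 0), (1, 0), (0, 0), (1, 0)],
  rvlMk [(0, 0), (0, 0), (0, 0), (0, 0), (0, 0), (0, 0), (0, 0), (0, 0), (0, 0), (0, 0), (0, 0), (0, 0), (1, 0), (0, 0), (0, 0), (1, 0), (0, 0), (0, 0), (0, 0), (0, 0), (0, 0), (0, 0), (1, 0), (1, 0), (0, 0), (0, 0), (0, 0), (0, 0)],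
  rvlMk [(0, 0), (0, 0), (0, 0), (0, 0), (0, 0), (0, 0), (0, 0), (0, 0), (0, 0), (0, 0), (0, 0), (0, 0), (0, 0), (1, 0), (0, 0), (1, 0), (0, 0), (0, 0), (0, 0), (0, 0), (0, 0), (0, 0), (0, 0), (0, 0), (0, 0), (0, 0), (1, 0), (1, 0)],
  rvlMk [(0, 0), (0, 0), (0, 0), (0, 0), (0, 0), (0, 0), (0, 0), (0, 0), (0, 0), (0, 0), (0, 0), (0, 0), (0, 0), (0, 0), (1, 0), (1, 0), (0, 0), (0, 0), (0, 0), (0, 0), (0, 0), (0, 0), (1, 0), (1, 0), (0, 0), (0, 0), (1, 0), (1, 0)],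
  rvlMk [(0, 0), (0, 0), (0, 0), (0, 0), (0, 0), (0, 0), (0, 0), (0, 0), (0, 0), (0, 0), (0, 0), (0, 0), (0, 0), (0, 0), (0, 0), (0, 0), (1, 0), (0, 0), (0, 0), (1, 0), (0, 0), (0, 0), (0, 0), (0, 0), (0, 0), (0, 0), (1, 0), (1, 0)],
  rvlMk [(0, 0), (0, 0), (0, 0), (0, 0), (0, 0), (0, 0), (0, 0), (0, 0), (0, 0), (0, 0), (0, 0), (0, 0), (0, 0), (0, 0), (0, 0), (0, 0), (0, 0), (1, 0), (0, 0), (1, 0), (0, 0), (0, 0), (1, 0), (1, 0), (0, 0), (1, 0), (1, 0), (0, 0)],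
  rvlMk [(0, 0), (0, 0), (0, 0), (0, 0), (0, 0), (0, 0), (0, 0), (0, 0), (0, 0), (0, 0), (0, 0), (0, 0), (0, 0), (0, 0), (0, 0), (0, 0), (0, 0), (0, 0), (1, 0), (1, 0), (0, 0), (0, 0), (1, 0), (1, 0), (0, 0), (1, 0), (0, 0), (1, 0)],
  rvlMk [(0, 0), (0, 0), (0, 0), (0, 0), (0, 0), (0, 0), (0, 0), (0, 0), (0, 0), (0, 0), (0, 0), (0, 0), (0, 0), (0, 0), (0, 0), (0, 0), (0, 0), (0, 0), (0, 0), (0, 0), (1, 0), (0, 0), (1, 0), (0, 0), (0, 0), (1, 0), (1, 0), (0, 0)],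
  rvlMk [(0, 0), (0, 0), (0, 0), (0, 0), (0, 0), (0, 0), (0, 0), (0, 0), (0, 0), (0, 0), (0, 0), (0, 0), (0, 0), (0, 0), (0, 0), (0, 0), (0, 0), (0, 0), (0, 0), (0, 0), (0, 0), (1, 0), (0, 0), (1, 0), (0, 0), (1, 0), (1, 0), (0, 0)],
  rvlMk [(0, 0), (0, 0), (0, 0), (0, 0), (0, 0), (0, 0), (0, 0), (0, 0), (0, 0), (0, 0), (0, 0), (0, 0), (0, 0), (0, 0), (0, 0), (0, 0), (0, 0), (0, 0), (0, 0), (0, 0), (0, 0), (0, 0), (0, 0), (0, 0), (1, 0), (1, 0), (1, 0), (1, 0)]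
]

def rvlP0 : List (List RuIdx) := [
  [(0, 0), (1, 3), (2, 3), (3, 3), (4, 3), (5, 3), (6, 1)],
  [(0, 1), (1, 3), (2, 3), (3, 3), (4, 3), (5, 2), (6, 2)],
  [(0, 2), (1, 3), (2, 3), (3, 3), (4, 3), (5, 2), (6, 1), (6, 2), (6, 3)],
  [(0, 3), (1, 3), (2, 3), (3, 3), (4, 3), (5, 3), (6, 3)],
  [(1, 0), (1, 3), (5, 2), (5, 3), (6, 2), (6, 3)],
  [(1, 1), (1, 3), (5, 2), (5, 3), (6, 1), (6, 3)],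
  [(1, 2), (1, 3), (6, 1), (6, 2)],
  [(2, 0), (2, 3), (5, 2), (5, 3), (6, 1), (6, 3)],
  [(2, 1), (2, 3), (5, 2), (5, 3)],
  [(2, 2), (2, 3), (6, 1), (6, 3)],
  [(3, 0), (3, 3), (5, 2), (5, 3)],
  [(3, 1), (3, 3), (6, 2), (6, 3)],
  [(3, 2), (3, 3), (5, 2), (5, 3), (6, 2), (6, 3)],
  [(4, 0), (4, 3), (6, 2), (6, 3)],
  [(4, 1), (4, 3), (5, 2), (5, 3), (6, 1), (6, 2)],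
  [(4, 2), (4, 3), (5, 2), (5, 3), (6, 1), (6, 3)],
  [(5, 0), (5, 2), (6, 1), (6, 2)],
  [(5, 1), (5, 3), (6, 1), (6, 2)],
  [(6, 0), (6, 1), (6, 2), (6, 3)]
]

def rvlA_S0 : List (List GaussianInt) := [
  [⟨2, 2⟩, ⟨2, 2⟩, ⟨2, 2⟩, ⟨2, 2⟩, ⟨0, 0⟩, ⟨2, 2⟩, ⟨2, 2⟩, ⟨0, 0⟩, ⟨2, 2⟩, ⟨0, 2⟩, ⟨1, 1⟩, ⟨1, 1⟩, ⟨1, 1⟩, ⟨1, 1⟩, ⟨0, 0⟩, ⟨0, 0⟩, ⟨0, 0⟩, ⟨0, 0⟩, ⟨0, 1⟩],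
  [⟨0, 0⟩, ⟨0, 0⟩, ⟨2, 2⟩, ⟨0, 0⟩, ⟨0, 0⟩, ⟨0, 0⟩, ⟨0, 0⟩, ⟨0, 0⟩, ⟨2, 2⟩, ⟨0, 0⟩, ⟨1, 1⟩, ⟨0, 0⟩, ⟨1, 1⟩, ⟨0, 0⟩, ⟨1, 1⟩, ⟨0, 0⟩, ⟨0, 0⟩, ⟨0, 0⟩, ⟨0, 1⟩],
  [⟨0, 0⟩, ⟨2, 2⟩, ⟨0, 0⟩, ⟨0, 0⟩, ⟨0, 0⟩, ⟨0, 0⟩, ⟨0, 0⟩, ⟨2, 2⟩, ⟨0, 0⟩, ⟨0, 0⟩, ⟨0, 0⟩, ⟨1, 1⟩, ⟨0, 0⟩, ⟨1, 1⟩, ⟨1, 1⟩, ⟨0, 0⟩, ⟨0, 0⟩, ⟨0, 0⟩, ⟨0, 1⟩],
  [⟨0, 0⟩, ⟨0, 0⟩, ⟨0, 0⟩, ⟨0, 0⟩, ⟨0, 0⟩, ⟨0, 0⟩, ⟨0, 0⟩, ⟨0, 0⟩, ⟨0, 0⟩, ⟨0, 0⟩, ⟨0, 0⟩, ⟨0, 0⟩, ⟨0, 0⟩, ⟨0, 0⟩, ⟨0, 0⟩, ⟨0, 0⟩, ⟨0, 0⟩, ⟨0, 0⟩, ⟨0, 1⟩],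
  [⟨0, 0⟩, ⟨0, 0⟩, ⟨0, 0⟩, ⟨2, 2⟩, ⟨2, 2⟩, ⟨2, 2⟩, ⟨2, 2⟩, ⟨2, 2⟩, ⟨0, 0⟩, ⟨0, 2⟩, ⟨1, 1⟩, ⟨0, 0⟩, ⟨1, 1⟩, ⟨1, 1⟩, ⟨0, 0⟩, ⟨0, 0⟩, ⟨1, 1⟩, ⟨1, 1⟩, ⟨0, 0⟩],
  [⟨0, 0⟩, ⟨0, 0⟩, ⟨0, 0⟩, ⟨0, 0⟩, ⟨2, 2⟩, ⟨2, 2⟩, ⟨0, 0⟩, ⟨0, 0⟩, ⟨2, 2⟩, ⟨0, 0⟩, ⟨1, 1⟩, ⟨1, 1⟩, ⟨0, 0⟩, ⟨1, 1⟩, ⟨0, 0⟩, ⟨0, 0⟩, ⟨0, 0⟩, ⟨0, 0⟩, ⟨0, 0⟩],
  [⟨0, 0⟩, ⟨0, 0⟩, ⟨0, 0⟩, ⟨0, 0⟩, ⟨0, 0⟩, ⟨0, 0⟩, ⟨0, 0⟩, ⟨0, 0⟩, ⟨0, 0⟩, ⟨0, 0⟩, ⟨0, 0⟩, ⟨1, 1⟩, ⟨1, 1⟩, ⟨0, 0⟩, ⟨0, 0⟩, ⟨0, 0⟩, ⟨1, 1⟩, ⟨1, 1⟩, ⟨0, 0⟩],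
  [⟨0, 0⟩, ⟨0, 0⟩, ⟨0, 0⟩, ⟨0, 0⟩, ⟨0, 0⟩, ⟨0, 0⟩, ⟨0, 0⟩, ⟨2, 2⟩, ⟨2, 2⟩, ⟨0, 2⟩, ⟨1, 1⟩, ⟨0, 0⟩, ⟨1, 1⟩, ⟨0, 0⟩, ⟨1, 1⟩, ⟨1, 1⟩, ⟨1, 1⟩, ⟨0, 0⟩, ⟨0, 0⟩],
  [⟨0, 0⟩, ⟨0, 0⟩, ⟨0, 0⟩, ⟨0, 0⟩, ⟨0, 0⟩, ⟨0, 0⟩, ⟨0, 0⟩, ⟨0, 0⟩, ⟨0, 0⟩, ⟨0, 0⟩, ⟨0, 0⟩, ⟨0, 0⟩, ⟨0, 0⟩, ⟨0, 0⟩, ⟨1, 1⟩, ⟨1, 1⟩, ⟨1, 1⟩, ⟨0, 0⟩, ⟨0, 0⟩],
  [⟨0, 0⟩, ⟨0, 0⟩, ⟨0, 0⟩, ⟨0, 0⟩, ⟨0, 0⟩, ⟨0, 0⟩, ⟨0, 0⟩, ⟨0, 0⟩, ⟨0, 0⟩, ⟨0, 0⟩, ⟨1, 1⟩, ⟨0, 0⟩, ⟨1, 1⟩, ⟨0, 0⟩, ⟨0, 0⟩, ⟨0, 0⟩, ⟨0, 0⟩, ⟨0, 0⟩, ⟨0, 0⟩],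
  [⟨0, 0⟩, ⟨0, 0⟩, ⟨0, 0⟩, ⟨0, 0⟩, ⟨0, 0⟩, ⟨0, 0⟩, ⟨2, 2⟩, ⟨0, 0⟩, ⟨0, 0⟩, ⟨0, 2⟩, ⟨0, 0⟩, ⟨0, 0⟩, ⟨1, 1⟩, ⟨0, 0⟩, ⟨0, 0⟩, ⟨0, 0⟩, ⟨0, 0⟩, ⟨1, 1⟩, ⟨0, 0⟩],
  [⟨0, 0⟩, ⟨0, 0⟩, ⟨0, 0⟩, ⟨0, 0⟩, ⟨0, 0⟩, ⟨0, 0⟩, ⟨0, 0⟩, ⟨0, 0⟩, ⟨0, 0⟩, ⟨0, 0⟩, ⟨0, 0⟩, ⟨0, 0⟩, ⟨1, 1⟩, ⟨0, 0⟩, ⟨0, 0⟩, ⟨0, 0⟩, ⟨1, 1⟩, ⟨0, 0⟩, ⟨0, 0⟩],
  [⟨0, 0⟩, ⟨0, 0⟩, ⟨0, 0⟩, ⟨0, 0⟩, ⟨0, 0⟩, ⟨0, 0⟩, ⟨0, 0⟩, ⟨0, 0⟩, ⟨0, 0⟩, ⟨0, 0⟩, ⟨0, 0⟩, ⟨0, 0⟩, ⟨0, 0⟩, ⟨0, 0⟩, ⟨0, 0⟩, ⟨0, 0⟩, ⟨1, 1⟩, ⟨1, 1⟩, ⟨0, 0⟩],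
  [⟨0, 0⟩, ⟨0, 0⟩, ⟨0, 0⟩, ⟨0, 0⟩, ⟨0, 0⟩, ⟨2, 2⟩, ⟨0, 0⟩, ⟨0, 0⟩, ⟨2, 2⟩, ⟨0, 2⟩, ⟨0, 0⟩, ⟨0, 0⟩, ⟨0, 0⟩, ⟨1, 1⟩, ⟨0, 0⟩, ⟨1, 1⟩, ⟨0, 0⟩, ⟨1, 1⟩, ⟨0, 0⟩],
  [⟨0, 0⟩, ⟨0, 0⟩, ⟨0, 0⟩, ⟨0, 0⟩, ⟨0, 0⟩, ⟨0, 0⟩, ⟨0, 0⟩, ⟨0, 0⟩, ⟨0, 0⟩, ⟨0, 0⟩, ⟨0, 0⟩, ⟨0, 0⟩, ⟨0, 0⟩, ⟨1, 1⟩, ⟨0, 0⟩, ⟨1, 1⟩, ⟨0, 0⟩, ⟨0, 0⟩, ⟨0, 0⟩],
  [⟨0, 0⟩, ⟨0, 0⟩, ⟨0, 0⟩, ⟨0, 0⟩, ⟨0, 0⟩, ⟨0, 0⟩, ⟨0, 0⟩, ⟨0, 0⟩, ⟨0, 0⟩, ⟨0, 0⟩, ⟨0, 0⟩, ⟨0, 0⟩, ⟨0, 0⟩, ⟨0, 0⟩, ⟨0, 0⟩, ⟨0, 0⟩, ⟨0, 0⟩, ⟨1, 1⟩, ⟨0, 0⟩],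
  [⟨0, 0⟩, ⟨0, 0⟩, ⟨0, 0⟩, ⟨0, 0⟩, ⟨0, 0⟩, ⟨0, 0⟩, ⟨0, 0⟩, ⟨0, 0⟩, ⟨2, 2⟩, ⟨0, 2⟩, ⟨0, 0⟩, ⟨0, 0⟩, ⟨0, 0⟩, ⟨0, 0⟩, ⟨0, 0⟩, ⟨1, 1⟩, ⟨0, 0⟩, ⟨0, 0⟩, ⟨0, 0⟩],
  [⟨0, 0⟩, ⟨0, 0⟩, ⟨0, 0⟩, ⟨0, 0⟩, ⟨0, 0⟩, ⟨0, 0⟩, ⟨0, 0⟩, ⟨0, 0⟩, ⟨0, 0⟩, ⟨0, 0⟩, ⟨0, 0⟩, ⟨0, 0⟩, ⟨0, 0⟩, ⟨0, 0⟩, ⟨0, 0⟩, ⟨1, 1⟩, ⟨0, 0⟩, ⟨0, 0⟩, ⟨0, 0⟩],
  [⟨0, 0⟩, ⟨0, 0⟩, ⟨0, 0⟩, ⟨0, 0⟩, ⟨0, 0⟩, ⟨0, 0⟩, ⟨0, 0⟩, ⟨0, 0⟩, ⟨0, 0⟩, ⟨0, 2⟩, ⟨0, 0⟩, ⟨0, 0⟩, ⟨0, 0⟩, ⟨0, 0⟩, ⟨0, 0⟩, ⟨0, 0⟩, ⟨0, 0⟩, ⟨0, 0⟩, ⟨0, 0⟩]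
]

def rvlW_S0 : List RuVec := [
  rvlMk [(-1, 0), (-2, -2), (-1, -1), (7, -10), (-2, -6), (1, -4), (2, -10), (4, -10), (1, -5), (-1, -10), (4, -7), (-2, -10), (-1, -4), (1, -10), (4, -12), (4, -13), (0, -6), (1, -8), (0, -11), (5, -12), (0, -7), (-1, -14), (1, -12), (0, -10), (-5, -10), (0, -10), (-2, -12), (2, -11)],
  rvlMk [(0, 0), (-1, 0), (0, 0), (2, -5), (1, -2), (1, -1), (-2, -3), (1, -4), (0, -3), (0, -6), (2, -3), (-2, -3), (0, 0), (1, -3), (1, -4), (1, -6), (0, -2), (0, -1), (0, -4), (1, -5), (-1, -2), (2, -5), (0, -4), (2, -6), (-2, -3), (1, -3), (-1, -3), (1, -3)],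
  rvlMk [(0, 0), (-1, -1), (-1, 0), (3, -6), (-1, -2), (0, -1), (1, -3), (0, -1), (-1, -1), (2, -3), (1, -2), (1, -3), (0, 0), (0, -3), (1, -5), (0, -3), (-1, -2), (2, -4), (0, -6), (3, -3), (0, -1), (-1, -4), (-1, -4), (3, -4), (-1, -4), (0, -5), (-3, -3), (0, -2)],
  rvlMk [(0, 0), (0, 0), (0, 0), (0, 0), (0, 0), (0, 0), (0, 0), (0, 0), (0, 0), (0, 0), (0, 0), (0, 0), (0, 0), (0, 0), (0, 0), (0, 0), (0, 0), (0, 0), (0, 0), (0, 0), (0, 0), (0, 0), (0, 0), (0, 0), (0, 0), (0, 0), (0, 0), (0, 0)],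
  rvlMk [(0, 0), (0, 0), (0, 0), (3, -7), (-1, 0), (-1, -2), (-2, -6), (2, -11), (1, -2), (2, -9), (5, -8), (1, -12), (-2, -6), (0, -10), (-1, -11), (5, -13), (-1, -3), (1, -8), (1, -6), (3, -7), (3, -6), (-1, -12), (1, -13), (-2, -11), (0, -9), (-1, -15), (0, -9), (3, -11)],
  rvlMk [(0, 0), (0, 0), (0, 0), (1, -4), (0, 0), (-1, 0), (-2, -3), (1, -6), (0, 0), (0, -6), (2, -6), (-2, -5), (-1, -5), (-2, -4), (-1, -7), (1, -6), (-2, -2), (0, -4), (1, -5), (2, -5), (2, -3), (0, -7), (-2, -7), (-1, -7), (-1, -4), (0, -6), (2, -4), (0, -3)],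
  rvlMk [(0, 0), (0, 0), (0, 0), (0, -4), (0, 0), (0, 0), (0, 0), (-1, -3), (0, 0), (0, 0), (0, 0), (0, -2), (0, 0), (0, -1), (0, -2), (0, -3), (0, 0), (0, -2), (1, -2), (1, -2), (0, 0), (0, -2), (0, -1), (0, -2), (0, 0), (-1, -1), (-1, -1), (1, -2)],
  rvlMk [(0, 0), (0, 0), (0, 0), (3, -5), (0, 0), (0, 0), (-1, -2), (2, -6), (-1, 0), (2, -5), (4, -5), (0, -6), (0, 0), (1, -4), (1, -6), (2, -8), (0, 0), (1, -4), (1, -6), (0, -5), (0, -1), (4, -6), (0, -8), (2, -7), (0, -5), (0, -8), (-1, -5), (1, -5)],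
  rvlMk [(0, 0), (0, 0), (0, 0), (0, -2), (0, 0), (0, 0), (0, 0), (0, -2), (0, 0), (0, 0), (0, 0), (-1, -1), (0, 0), (0, 0), (0, -2), (1, -2), (0, 0), (0, 0), (0, -2), (0, -2), (0, 0), (1, -1), (0, -1), (0, -2), (0, 0), (-1, -2), (-1, -1), (0, -1)],
  rvlMk [(0, 0), (0, 0), (0, 0), (0, -1), (0, 0), (0, 0), (0, 0), (0, -2), (0, 0), (0, -1), (0, 0), (-1, -1), (0, 0), (0, -1), (-1, -1), (0, -1), (0, 0), (0, -1), (0, -1), (1, -1), (0, 0), (0, -2), (0, -1), (0, -1), (0, 0), (0, -1), (0, -1), (0, 0)],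
  rvlMk [(0, 0), (0, 0), (0, 0), (1, -2), (0, 0), (0, 0), (1, -1), (1, -4), (0, 0), (0, -2), (2, -2), (2, -4), (-1, 0), (1, -4), (1, -2), (2, -4), (0, 0), (0, -3), (0, -1), (0, -3), (0, -2), (1, -5), (1, -4), (-2, -2), (1, -3), (1, -4), (1, -3), (3, -3)],
  rvlMk [(0, 0), (0, 0), (0, 0), (0, -2), (0, 0), (0, 0), (0, 0), (0, -2), (0, 0), (0, 0), (0, 0), (0, -2), (0, 0), (0, 0), (0, -1), (0, -1), (0, 0), (0, -1), (0, -1), (0, -1), (0, 0), (0, -1), (0, 0), (0, -1), (0, 0), (0, -1), (-1, 0), (0, -1)],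
  rvlMk [(0, 0), (0, 0), (0, 0), (0, -2), (0, 0), (0, 0), (0, 0), (0, -2), (0, 0), (0, 0), (0, 0), (0, -1), (0, 0), (0, 0), (0, 0), (0, -1), (0, 0), (0, 0), (1, -1), (0, -1), (0, 0), (0, 0), (0, 0), (-1, -1), (0, 0), (-1, -1), (-1, -1), (0, -1)],
  rvlMk [(0, 0), (0, 0), (0, 0), (2, -3), (0, 0), (0, 0), (0, -1), (3, -5), (0, 0), (0, -3), (2, -4), (-1, -5), (0, -3), (0, -3), (2, -5), (2, -7), (-1, 0), (0, -4), (1, -5), (0, -4), (1, -2), (2, -4), (0, -6), (-1, -5), (-1, -3), (-1, -6), (1, -5), (2, -4)],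
  rvlMk [(0, 0), (0, 0), (0, 0), (0, -1), (0, 0), (0, 0), (0, 0), (0, -1), (0, 0), (0, -1), (0, 0), (0, -1), (0, 0), (0, 0), (0, -1), (0, -1), (0, 0), (0, 0), (0, -2), (0, -1), (0, 0), (0, -1), (-1, -1), (0, 0), (0, 0), (-1, -1), (-1, -1), (0, 0)],
  rvlMk [(0, 0), (0, 0), (0, 0), (0, -1), (0, 0), (0, 0), (0, 0), (0, -1), (0, 0), (0, 0), (0, 0), (0, 0), (0, 0), (0, 0), (0, 0), (0, -1), (0, 0), (0, 0), (0, 0), (0, 0), (0, 0), (0, 0), (0, 0), (-1, 0), (0, 0), (-1, 0), (0, -1), (0, 0)],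
  rvlMk [(0, 0), (0, 0), (0, 0), (2, -1), (0, 0), (0, 0), (0, -1), (2, -3), (0, 0), (0, -2), (2, -3), (0, -2), (0, 0), (1, -1), (2, -2), (1, -4), (0, 0), (0, -1), (1, -3), (-1, -3), (-1, 0), (3, -3), (0, -4), (1, -3), (0, -2), (0, -2), (0, -2), (1, -2)],
  rvlMk [(0, 0), (0, 0), (0, 0), (0, 0), (0, 0), (0, 0), (0, 0), (0, -1), (0, 0), (0, 0), (0, 0), (0, 0), (0, 0), (0, 0), (0, -1), (0, -1), (0, 0), (0, 0), (0, -1), (0, -1), (0, 0), (0, 0), (0, -1), (0, 0), (0, 0), (-1, 0), (-1, 0), (0, 0)],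
  rvlMk [(0, 0), (0, 0), (0, 0), (1, 0), (0, 0), (0, 0), (1, 0), (1, -1), (0, 0), (1, 0), (1, -1), (1, -1), (0, 0), (1, -1), (1, 0), (1, -1), (0, 0), (0, -1), (0, 0), (0, 0), (0, 0), (1, -1), (1, -1), (0, -1), (0, 0), (0, -1), (0, -1), (1, -1)]
]

theorem rvl_cert_S0 : ∀ k : Fin 19, rvlCert (fun p => (⟨-2, 2⟩ : GaussianInt) * (rvlS0.getD k 0) p) (rvlA_S0.getD k []) (rvlW_S0.getD k 0) := by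
  decide +kernel

theorem rvl_par_S0 : ∀ k : Fin 19, ∀ p, rvlParI ((rvlS0.getD k 0) p) = if p ∈ rvlP0.getD k [] then 1 else 0 := by
  decide +kernel

theorem rvl_nodup_P0 : ∀ k : Fin 19, (rvlP0.getD k []).Nodup := by
  decide +kernel

/-- the code at level 0 in systematic form -/
def rvlH0 (b0 b1 b2 b3 b4 b5 b6 b7 b8 : ZMod 2) : RuIdx → ZMod 2 := fun p =>
  ([b0 + (b1 + (b2 + (b3 + (b5 + (b6 + 0))))), b0 + (b1 + (b2 + (b3 + (b4 + (b7 + 0))))), b0 + (b1 + (b2 + (b3 + (b4 + (b6 + (b7 + (b8 + 0))))))), b0 + (b1 + (b2 + (b3 + (b5 + (b8 + 0))))), b0 + (b4 + (b5 + (b7 + (b8 + 0)))), b0 + (b4 + (b5 + (b6 + (b8 + 0)))), b0 + (b6 + (b7 + 0)), b0, b1 + (b4 + (b5 + (b6 + (b8 + 0)))), b1 + (b4 + (b5 + 0)), b1 + (b6 + (b8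 + 0)), b1, b2 + (b4 + (b5 + 0)), b2 + (b7 + (b8 + 0)), b2 + (b4 + (b5 + (b7 + (b8 + 0)))), b2, b3 + (b7 + (b8 + 0)), b3 + (b4 + (b5 + (b6 + (b7 + 0)))), b3 + (b4 + (b5 + (b6 + (b8 + 0)))), b3, b4 + (b6 + (b7 + 0)), b5 + (b6 + (b7 + 0)), b4, b5, b6 + (b7 + (b8 + 0)), b6, b7, b8] : List (ZMod 2)).getD (p.1.val * 4 + p.2.val) 0

theorem rvl_enum0 : ∀ b0 b1 b2 b3 b4 b5 b6 b7 b8 : ZMod 2, rvlWt (rvlH0 b0 b1 b2 b3 b4 b5 b6 b7 b8) ≤ 8 → (rvlH0 b0 b1 b2 b3 b4 b5 b6 b7 b8 = 0 ∨ ∃ a : Fin 7, ∃ d : Fin 7, (d = 1 ∨ d = 2 ∨ d = 4) ∧ rvlH0 b0 b1 b2 b3 b4 b5 b6 b7 b8 = rvlSlotPair a (a + d)) := by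
  decide +kernel

theorem rvl_solve0 (c : RuIdx → ZMod 2) (h : ∀ k : Fin 19, ((rvlP0.getD k []).map c).sum = 0) :
    c = rvlH0 (c (1, 3)) (c (2, 3)) (c (3, 3)) (c (4, 3)) (c (5, 2)) (c (5, 3)) (c (6, 1)) (c (6, 2)) (c (6, 3)) := by
  have s0 : c (0, 0) = c (1, 3) + (c (2, 3) + (c (3, 3) + (c (4, 3) + (c (5, 3) + (c (6, 1) + 0))))) := rvl_z2_solve (h 0)
  have s1 : c (0, 1) = c (1, 3) + (c (2, 3) + (c (3, 3) + (c (4, 3) + (c (5, 2) + (c (6, 2) + 0))))) := rvl_z2_solve (h 1)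
  have s2 : c (0, 2) = c (1, 3) + (c (2, 3) + (c (3, 3) + (c (4, 3) + (c (5, 2) + (c (6, 1) + (c (6, 2) + (c (6, 3) + 0))))))) := rvl_z2_solve (h 2)
  have s3 : c (0, 3) = c (1, 3) + (c (2, 3) + (c (3, 3) + (c (4, 3) + (c (5, 3) + (c (6, 3) + 0))))) := rvl_z2_solve (h 3)
  have s4 : c (1, 0) = c (1, 3) + (c (5, 2) + (c (5, 3) + (c (6, 2) + (c (6, 3) + 0)))) := rvl_z2_solve (h 4)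
  have s5 : c (1, 1) = c (1, 3) + (c (5, 2) + (c (5, 3) + (c (6, 1) + (c (6, 3) + 0)))) := rvl_z2_solve (h 5)
  have s6 : c (1, 2) = c (1, 3) + (c (6, 1) + (c (6, 2) + 0)) := rvl_z2_solve (h 6)
  have s7 : c (2, 0) = c (2, 3) + (c (5, 2) + (c (5, 3) + (c (6, 1) + (c (6, 3) + 0)))) := rvl_z2_solve (h 7)
  have s8 : c (2, 1) = c (2, 3) + (c (5, 2) + (c (5, 3) + 0)) := rvl_z2_solve (h 8)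
  have s9 : c (2, 2) = c (2, 3) + (c (6, 1) + (c (6, 3) + 0)) := rvl_z2_solve (h 9)
  have s10 : c (3, 0) = c (3, 3) + (c (5, 2) + (c (5, 3) + 0)) := rvl_z2_solve (h 10)
  have s11 : c (3, 1) = c (3, 3) + (c (6, 2) + (c (6, 3) + 0)) := rvl_z2_solve (h 11)
  have s12 : c (3, 2) = c (3, 3) + (c (5, 2) + (c (5, 3) + (c (6, 2) + (c (6, 3) + 0)))) := rvl_z2_solve (h 12)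
  have s13 : c (4, 0) = c (4, 3) + (c (6, 2) + (c (6, 3) + 0)) := rvl_z2_solve (h 13)
  have s14 : c (4, 1) = c (4, 3) + (c (5, 2) + (c (5, 3) + (c (6, 1) + (c (6, 2) + 0)))) := rvl_z2_solve (h 14)
  have s15 : c (4, 2) = c (4, 3) + (c (5, 2) + (c (5, 3) + (c (6, 1) + (c (6, 3) + 0)))) := rvl_z2_solve (h 15)
  have s16 : c (5, 0) = c (5, 2) + (c (6, 1) + (c (6, 2) + 0)) := rvl_z2_solve (h 16)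
  have s17 : c (5, 1) = c (5, 3) + (c (6, 1) + (c (6, 2) + 0)) := rvl_z2_solve (h 17)
  have s18 : c (6, 0) = c (6, 1) + (c (6, 2) + (c (6, 3) + 0)) := rvl_z2_solve (h 18)
  funext p
  have hp := rvl_mem_allIdx p
  simp only [rvlAllIdx, List.mem_cons, List.not_mem_nil, or_false] at hp
  rcases hp with rfl | rfl | rfl | rfl | rfl | rfl | rfl | rfl | rfl | rfl | rfl | rfl | rfl | rfl | rfl | rfl | rfl | rfl | rfl | rfl | rfl | rfl | rfl | rfl | rfl | rfl | rfl | rfl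
  · exact s0
  · exact s1
  · exact s2
  · exact s3
  · exact s4
  · exact s5
  · exact s6
  · rfl
  · exact s7
  · exact s8
  · exact s9
  · rfl
  · exact s10
  · exact s11
  · exact s12
  · rfl
  · exact s13
  · exact s14
  · exact s15
  · rfl
  · exact s16
  · exact s17
  · rfl
  · rfl
  · exact s18
  · rfl
  · rfl
  · rfl

theorem rvl_level0_code (c : RuIdx → ZMod 2) (h : ∀ k : Fin 19, ((rvlP0.getD k []).map c).sum = 0)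
    (hw : rvlWt c ≤ 8) : c = 0 ∨ ∃ a : Fin 7, ∃ d : Fin 7, (d = 1 ∨ d = 2 ∨ d = 4) ∧ c = rvlSlotPair a (a + d) := by
  have hc := rvl_solve0 c h
  have key := rvl_enum0 (c (1, 3)) (c (2, 3)) (c (3, 3)) (c (4, 3)) (c (5, 2)) (c (5, 3)) (c (6, 1)) (c (6, 2)) (c (6, 3)) (by rw [← hc]; exact hw)
  rw [← hc] at key
  exact key

def rvlS1 : List RuVec := [
  rvlMk [(1, 0), (0, 0), (0, 0), (1, 0), (0, 0), (1, 1), (1, 1), (1, 1), (0, 0), (1, 1), (0, 0), (1, 1), (1, 1), (0, 0), (0, 0), (0, 0), (0, 0), (0, 0), (0, 0), (1, 1), (1, 1), (0, 0), (1, 1), (1, 1), (0, 0), (0, 1), (1, 1), (1, 0)],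
  rvlMk [(0, 0), (1, 0), (0, 0), (1, 0), (1, 1), (0, 0), (1, 1), (1, 1), (1, 1), (1, 1), (0, 0), (1, 1), (0, 0), (0, 0), (0, 0), (0, 0), (0, 0), (1, 1), (1, 1), (1, 1), (1, 1), (0, 0), (1, 0), (0, 1), (1, 1), (1, 1), (0, 1), (1, 0)],
  rvlMk [(0, 0), (0, 0), (1, 0), (1, 0), (1, 1), (1, 1), (1, 1), (0, 0), (0, 0), (0, 0), (1, 1), (1, 1), (0, 0), (0, 0), (1, 1), (1, 1), (1, 1), (1, 1), (0, 0), (1, 1), (1, 1), (1, 1), (0, 1), (0, 1), (1, 1), (1, 0), (0, 1), (0, 0)],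
  rvlMk [(0, 0), (0, 0), (0, 0), (0, 0), (1, 0), (1, 1), (0, 0), (1, 0), (1, 1), (1, 1), (0, 0), (0, 0), (0, 0), (0, 0), (1, 1), (1, 1), (0, 0), (0, 0), (1, 1), (1, 1), (1, 1), (0, 0), (0, 1), (0, 1), (0, 0), (0, 0), (1, 0), (1, 0)],
  rvlMk [(0, 0), (0, 0), (0, 0), (1, 1), (0, 0), (1, 0), (0, 0), (0, 1), (0, 0), (0, 0), (1, 1), (0, 0), (0, 0), (0, 0), (1, 1), (0, 0), (0, 0), (1, 1), (0, 0), (0, 0), (1, 1), (0, 0), (1, 0), (1, 0), (1, 1), (0, 1), (0, 0), (1, 0)],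
  rvlMk [(0, 0), (0, 0), (0, 0), (0, 0), (0, 0), (0, 0), (1, 0), (1, 0), (0, 0), (0, 0), (0, 0), (0, 0), (0, 0), (1, 1), (0, 0), (1, 1), (0, 0), (0, 0), (1, 1), (1, 1), (0, 0), (0, 0), (1, 1), (0, 0), (0, 0), (1, 0), (1, 0), (1, 1)],
  rvlMk [(0, 0), (0, 0), (0, 0), (0, 0), (0, 0), (0, 0), (1, 1), (0, 0), (1, 0), (0, 0), (0, 0), (0, 1), (0, 0), (1, 1), (1, 1), (0, 0), (0, 0), (1, 1), (1, 1), (1, 1), (1, 1), (0, 0), (1, 0), (0, 1), (0, 0), (0, 1), (1, 1), (0, 1)],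
  rvlMk [(0, 0), (0, 0), (0, 0), (0, 0), (0, 0), (0, 0), (0, 0), (0, 0), (0, 0), (1, 0), (0, 0), (1, 0), (0, 0), (0, 0), (0, 0), (1, 1), (0, 0), (0, 0), (0, 0), (0, 0), (0, 0), (0, 0), (0, 1), (1, 0), (0, 0), (1, 1), (0, 0), (1, 1)],
  rvlMk [(0, 0), (0, 0), (0, 0), (1, 1), (0, 0), (0, 0), (0, 0), (0, 0), (0, 0), (1, 1), (1, 0), (1, 0), (0, 0), (1, 1), (0, 0), (1, 1), (0, 0), (1, 1), (1, 1), (0, 0), (0, 0), (0, 0), (1, 1), (1, 1), (0, 0), (0, 1), (1, 1), (1, 0)],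
  rvlMk [(0, 0), (0, 0), (0, 0), (1, 1), (0, 0), (0, 0), (0, 0), (1, 1), (0, 0), (0, 0), (0, 0), (0, 0), (1, 0), (0, 0), (0, 0), (0, 1), (0, 0), (1, 1), (1, 1), (1, 1), (0, 0), (0, 0), (0, 1), (1, 0), (1, 1), (0, 0), (1, 1), (1, 1)],
  rvlMk [(0, 0), (0, 0), (0, 0), (0, 0), (0, 0), (0, 0), (0, 0), (0, 0), (0, 0), (0, 0), (0, 0), (0, 0), (0, 0), (1, 0), (1, 1), (0, 1), (0, 0), (1, 1), (1, 1), (1, 1), (0, 0), (1, 1), (0, 0), (1, 1), (0, 0), (1, 1), (0, 1), (0, 1)],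
  rvlMk [(0, 0), (0, 0), (0, 0), (0, 0), (0, 0), (0, 0), (0, 0), (0, 0), (0, 0), (0, 0), (0, 0), (1, 1), (0, 0), (0, 0), (1, 0), (0, 1), (0, 0), (0, 0), (0, 0), (1, 1), (0, 0), (0, 0), (1, 0), (1, 0), (0, 0), (0, 0), (1, 0), (0, 1)],
  rvlMk [(0, 0), (0, 0), (0, 0), (1, 1), (0, 0), (0, 0), (1, 1), (0, 0), (0, 0), (1, 1), (0, 0), (0, 0), (1, 1), (1, 1), (1, 1), (1, 1), (1, 0), (1, 1), (1, 1), (0, 1), (1, 1), (0, 0), (0, 0), (0, 0), (1, 1), (0, 0), (0, 1), (0, 1)],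
  rvlMk [(0, 0), (0, 0), (0, 0), (1, 1), (0, 0), (0, 0), (0, 0), (1, 1), (0, 0), (1, 1), (0, 0), (1, 1), (0, 0), (0, 0), (1, 1), (1, 1), (0, 0), (1, 0), (0, 0), (0, 1), (0, 0), (1, 1), (1, 0), (1, 0), (0, 0), (1, 0), (1, 0), (0, 0)],
  rvlMk [(0, 0), (0, 0), (0, 0), (1, 1), (0, 0), (0, 0), (0, 0), (1, 1), (0, 0), (0, 0), (0, 0), (0, 0), (0, 0), (0, 0), (0, 0), (1, 1), (0, 0), (0, 0), (1, 0), (1, 0), (0, 0), (0, 0), (1, 0), (0, 1), (0, 0), (0, 1), (1, 1), (1, 0)],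
  rvlMk [(0, 0), (0, 0), (0, 0), (1, 1), (0, 0), (0, 0), (1, 1), (1, 1), (0, 0), (0, 0), (1, 1), (0, 0), (0, 0), (0, 0), (0, 0), (1, 1), (0, 0), (1, 1), (0, 0), (0, 0), (1, 0), (1, 1), (0, 1), (1, 1), (1, 1), (0, 1), (0, 1), (0, 0)],
  rvlMk [(0, 0), (0, 0), (0, 0), (0, 0), (0, 0), (0, 0), (0, 0), (1, 1), (0, 0), (0, 0), (0, 0), (0, 0), (0, 0), (0, 0), (1, 1), (1, 1), (0, 0), (0, 0), (1, 1), (1, 1), (0, 0), (1, 0), (1, 1), (1, 0), (0, 0), (0, 1), (0, 1), (0, 0)],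
  rvlMk [(0, 0), (0, 0), (0, 0), (1, 1), (0, 0), (0, 0), (1, 1), (0, 0), (0, 0), (1, 1), (0, 0), (0, 0), (0, 0), (0, 0), (1, 1), (0, 0), (0, 0), (1, 1), (0, 0), (0, 0), (0, 0), (0, 0), (0, 0), (1, 1), (1, 0), (0, 1), (0, 1), (1, 0)]
]

def rvlP1 : List (List RuIdx) := [
  [(0, 0), (0, 3), (6, 1), (6, 3)],
  [(0, 1), (0, 3), (5, 2), (5, 3), (6, 2), (6, 3)],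
  [(0, 2), (0, 3), (5, 2), (5, 3), (6, 1), (6, 2)],
  [(1, 0), (1, 3), (5, 2), (5, 3), (6, 2), (6, 3)],
  [(1, 1), (1, 3), (5, 2), (5, 3), (6, 1), (6, 3)],
  [(1, 2), (1, 3), (6, 1), (6, 2)],
  [(2, 0), (2, 3), (5, 2), (5, 3), (6, 1), (6, 3)],
  [(2, 1), (2, 3), (5, 2), (5, 3)],
  [(2, 2), (2, 3), (6, 1), (6, 3)],
  [(3, 0), (3, 3), (5, 2), (5, 3)],
  [(3, 1), (3, 3), (6, 2), (6, 3)],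
  [(3, 2), (3, 3), (5, 2), (5, 3), (6, 2), (6, 3)],
  [(4, 0), (4, 3), (6, 2), (6, 3)],
  [(4, 1), (4, 3), (5, 2), (5, 3), (6, 1), (6, 2)],
  [(4, 2), (4, 3), (5, 2), (5, 3), (6, 1), (6, 3)],
  [(5, 0), (5, 2), (6, 1), (6, 2)],
  [(5, 1), (5, 3), (6, 1), (6, 2)],
  [(6, 0), (6, 1), (6, 2), (6, 3)]
]

def rvlA_S1 : List (List GaussianInt) := [
  [⟨0, 2⟩, ⟨0, 2⟩, ⟨0, 2⟩, ⟨0, 2⟩, ⟨0, 0⟩, ⟨0, 2⟩, ⟨0, 2⟩, ⟨0, 0⟩, ⟨0, 2⟩, ⟨1, 1⟩, ⟨1, 0⟩, ⟨1, 0⟩, ⟨1, 0⟩, ⟨1, 0⟩, ⟨0, 0⟩, ⟨0, 0⟩, ⟨0, 0⟩, ⟨0, 0⟩, ⟨0, 0⟩],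
  [⟨0, 0⟩, ⟨0, 0⟩, ⟨0, 2⟩, ⟨0, 0⟩, ⟨0, 0⟩, ⟨0, 0⟩, ⟨0, 0⟩, ⟨0, 0⟩, ⟨0, 2⟩, ⟨0, 0⟩, ⟨1, 0⟩, ⟨0, 0⟩, ⟨1, 0⟩, ⟨0, 0⟩, ⟨1, 0⟩, ⟨0, 0⟩, ⟨0, 0⟩, ⟨0, 0⟩, ⟨0, 0⟩],
  [⟨0, 0⟩, ⟨0, 2⟩, ⟨0, 0⟩, ⟨0, 0⟩, ⟨0, 0⟩, ⟨0, 0⟩, ⟨0, 0⟩, ⟨0, 2⟩, ⟨0, 0⟩, ⟨0, 0⟩, ⟨0, 0⟩, ⟨1, 0⟩, ⟨0, 0⟩, ⟨1, 0⟩, ⟨1, 0⟩, ⟨0, 0⟩, ⟨0, 0⟩, ⟨0, 0⟩, ⟨0, 0⟩],
  [⟨0, 0⟩, ⟨0, 0⟩, ⟨0, 0⟩, ⟨0, 2⟩, ⟨0, 2⟩, ⟨0, 2⟩, ⟨0, 2⟩, ⟨0, 2⟩, ⟨0, 0⟩, ⟨1, 1⟩, ⟨1, 0⟩, ⟨0, 0⟩, ⟨1, 0⟩, ⟨1, 0⟩, ⟨0, 0⟩, ⟨0, 0⟩, ⟨1, 0⟩, ⟨1, 0⟩, ⟨0, 0⟩],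
  [⟨0, 0⟩, ⟨0, 0⟩, ⟨0, 0⟩, ⟨0, 0⟩, ⟨0, 2⟩, ⟨0, 2⟩, ⟨0, 0⟩, ⟨0, 0⟩, ⟨0, 2⟩, ⟨0, 0⟩, ⟨1, 0⟩, ⟨1, 0⟩, ⟨0, 0⟩, ⟨1, 0⟩, ⟨0, 0⟩, ⟨0, 0⟩, ⟨0, 0⟩, ⟨0, 0⟩, ⟨0, 0⟩],
  [⟨0, 0⟩, ⟨0, 0⟩, ⟨0, 0⟩, ⟨0, 0⟩, ⟨0, 0⟩, ⟨0, 0⟩, ⟨0, 0⟩, ⟨0, 0⟩, ⟨0, 0⟩, ⟨0, 0⟩, ⟨0, 0⟩, ⟨1, 0⟩, ⟨1, 0⟩, ⟨0, 0⟩, ⟨0, 0⟩, ⟨0, 0⟩, ⟨1, 0⟩, ⟨1, 0⟩, ⟨0, 0⟩],
  [⟨0, 0⟩, ⟨0, 0⟩, ⟨0, 0⟩, ⟨0, 0⟩, ⟨0, 0⟩, ⟨0, 0⟩, ⟨0, 0⟩, ⟨0, 2⟩, ⟨0, 2⟩, ⟨1, 1⟩, ⟨1, 0⟩, ⟨0, 0⟩, ⟨1, 0⟩, ⟨0, 0⟩, ⟨1, 0⟩, ⟨1, 0⟩, ⟨1, 0⟩, ⟨0, 0⟩, ⟨0, 0⟩],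
  [⟨0, 0⟩, ⟨0, 0⟩, ⟨0, 0⟩, ⟨0, 0⟩, ⟨0, 0⟩, ⟨0, 0⟩, ⟨0, 0⟩, ⟨0, 0⟩, ⟨0, 0⟩, ⟨0, 0⟩, ⟨0, 0⟩, ⟨0, 0⟩, ⟨0, 0⟩, ⟨0, 0⟩, ⟨1, 0⟩, ⟨1, 0⟩, ⟨1, 0⟩, ⟨0, 0⟩, ⟨0, 0⟩],
  [⟨0, 0⟩, ⟨0, 0⟩, ⟨0, 0⟩, ⟨0, 0⟩, ⟨0, 0⟩, ⟨0, 0⟩, ⟨0, 0⟩, ⟨0, 0⟩, ⟨0, 0⟩, ⟨0, 0⟩, ⟨1, 0⟩, ⟨0, 0⟩, ⟨1, 0⟩, ⟨0, 0⟩, ⟨0, 0⟩, ⟨0, 0⟩, ⟨0, 0⟩, ⟨0, 0⟩, ⟨0, 0⟩],
  [⟨0, 0⟩, ⟨0, 0⟩, ⟨0, 0⟩, ⟨0, 0⟩, ⟨0, 0⟩, ⟨0, 0⟩, ⟨0, 2⟩, ⟨0, 0⟩, ⟨0, 0⟩, ⟨1, 1⟩, ⟨0, 0⟩, ⟨0, 0⟩, ⟨1, 0⟩, ⟨0, 0⟩, ⟨0, 0⟩, ⟨0, 0⟩, ⟨0, 0⟩, ⟨1, 0⟩, ⟨0, 0⟩],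
  [⟨0, 0⟩, ⟨0, 0⟩, ⟨0, 0⟩, ⟨0, 0⟩, ⟨0, 0⟩, ⟨0, 0⟩, ⟨0, 0⟩, ⟨0, 0⟩, ⟨0, 0⟩, ⟨0, 0⟩, ⟨0, 0⟩, ⟨0, 0⟩, ⟨1, 0⟩, ⟨0, 0⟩, ⟨0, 0⟩, ⟨0, 0⟩, ⟨1, 0⟩, ⟨0, 0⟩, ⟨0, 0⟩],
  [⟨0, 0⟩, ⟨0, 0⟩, ⟨0, 0⟩, ⟨0, 0⟩, ⟨0, 0⟩, ⟨0, 0⟩, ⟨0, 0⟩, ⟨0, 0⟩, ⟨0, 0⟩, ⟨0, 0⟩, ⟨0, 0⟩, ⟨0, 0⟩, ⟨0, 0⟩, ⟨0, 0⟩, ⟨0, 0⟩, ⟨0, 0⟩, ⟨1, 0⟩, ⟨1, 0⟩, ⟨0, 0⟩],
  [⟨0, 0⟩, ⟨0, 0⟩, ⟨0, 0⟩, ⟨0, 0⟩, ⟨0, 0⟩, ⟨0, 2⟩, ⟨0, 0⟩, ⟨0, 0⟩, ⟨0, 2⟩, ⟨1, 1⟩, ⟨0, 0⟩, ⟨0, 0⟩, ⟨0, 0⟩, ⟨1, 0⟩, ⟨0, 0⟩, ⟨1, 0⟩, ⟨0, 0⟩, ⟨1, 0⟩, ⟨0, 0⟩],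
  [⟨0, 0⟩, ⟨0, 0⟩, ⟨0, 0⟩, ⟨0, 0⟩, ⟨0, 0⟩, ⟨0, 0⟩, ⟨0, 0⟩, ⟨0, 0⟩, ⟨0, 0⟩, ⟨0, 0⟩, ⟨0, 0⟩, ⟨0, 0⟩, ⟨0, 0⟩, ⟨1, 0⟩, ⟨0, 0⟩, ⟨1, 0⟩, ⟨0, 0⟩, ⟨0, 0⟩, ⟨0, 0⟩],
  [⟨0, 0⟩, ⟨0, 0⟩, ⟨0, 0⟩, ⟨0, 0⟩, ⟨0, 0⟩, ⟨0, 0⟩, ⟨0, 0⟩, ⟨0, 0⟩, ⟨0, 0⟩, ⟨0, 0⟩, ⟨0, 0⟩, ⟨0, 0⟩, ⟨0, 0⟩, ⟨0, 0⟩, ⟨0, 0⟩, ⟨0, 0⟩, ⟨0, 0⟩, ⟨1, 0⟩, ⟨0, 0⟩],
  [⟨0, 0⟩, ⟨0, 0⟩, ⟨0, 0⟩, ⟨0, 0⟩, ⟨0, 0⟩, ⟨0, 0⟩, ⟨0, 0⟩, ⟨0, 0⟩, ⟨0, 2⟩, ⟨1, 1⟩, ⟨0, 0⟩, ⟨0, 0⟩, ⟨0, 0⟩, ⟨0, 0⟩, ⟨0, 0⟩, ⟨1, 0⟩, ⟨0, 0⟩, ⟨0, 0⟩, ⟨0, 0⟩],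
  [⟨0, 0⟩, ⟨0, 0⟩, ⟨0, 0⟩, ⟨0, 0⟩, ⟨0, 0⟩, ⟨0, 0⟩, ⟨0, 0⟩, ⟨0, 0⟩, ⟨0, 0⟩, ⟨0, 0⟩, ⟨0, 0⟩, ⟨0, 0⟩, ⟨0, 0⟩, ⟨0, 0⟩, ⟨0, 0⟩, ⟨1, 0⟩, ⟨0, 0⟩, ⟨0, 0⟩, ⟨0, 0⟩],
  [⟨0, 0⟩, ⟨0, 0⟩, ⟨0, 0⟩, ⟨0, 0⟩, ⟨0, 0⟩, ⟨0, 0⟩, ⟨0, 0⟩, ⟨0, 0⟩, ⟨0, 0⟩, ⟨1, 1⟩, ⟨0, 0⟩, ⟨0, 0⟩, ⟨0, 0⟩, ⟨0, 0⟩, ⟨0, 0⟩, ⟨0, 0⟩, ⟨0, 0⟩, ⟨0, 0⟩, ⟨0, 0⟩]
]

def rvlW_S1 : List RuVec := [
  rvlMk [(0, 0), (0, -2), (0, -1), (5, -2), (2, -4), (2, -1), (5, -5), (3, -3), (3, -2), (2, -6), (4, -3), (0, -6), (1, -2), (3, -5), (6, -4), (6, -5), (3, -3), (1, -4), (3, -6), (6, -5), (3, -3), (2, -8), (3, -5), (2, -5), (2, -8), (1, -6), (1, -7), (4, -6)],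
  rvlMk [(0, 0), (0, 0), (0, 0), (1, -1), (1, 0), (1, 0), (0, -2), (0, -1), (1, -1), (1, -3), (2, -1), (-2, -1), (0, 0), (1, -1), (1, 0), (2, -3), (1, -1), (-1, 0), (0, -1), (1, -3), (0, -1), (1, -2), (1, -2), (1, -2), (0, -2), (-1, -1), (0, -2), (1, -1)],
  rvlMk [(0, 0), (0, -1), (0, 0), (1, -1), (0, -1), (0, 0), (1, -1), (0, 0), (0, -1), (1, -1), (1, 0), (0, 0), (0, 0), (1, -1), (1, -1), (0, -1), (0, -1), (1, -1), (1, -3), (1, -1), (0, 0), (-1, -2), (0, -2), (1, -1), (1, -2), (1, -2), (-1, -3), (1, -1)],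
  rvlMk [(0, 0), (0, 0), (0, 0), (1, -3), (0, 0), (0, -1), (2, -5), (2, -5), (1, 0), (3, -4), (5, -3), (2, -6), (2, -4), (3, -6), (3, -6), (5, -5), (1, -2), (2, -4), (0, -3), (2, -3), (4, -1), (2, -7), (4, -7), (1, -6), (4, -5), (2, -8), (0, -4), (4, -6)],
  rvlMk [(0, 0), (0, 0), (0, 0), (0, -1), (0, 0), (0, 0), (0, -3), (2, -2), (0, 0), (1, -3), (3, -2), (0, -3), (2, -3), (0, -2), (1, -3), (3, -2), (0, -2), (0, -2), (1, -3), (2, -3), (2, 0), (1, -3), (1, -3), (2, -4), (1, -2), (1, -3), (1, -1), (2, -1)],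
  rvlMk [(0, 0), (0, 0), (0, 0), (-2, -2), (0, 0), (0, 0), (0, 0), (-2, -1), (0, 0), (0, 0), (0, 0), (-1, -1), (0, 0), (-1, 0), (-1, -1), (-2, -1), (0, 0), (-1, -1), (-1, -1), (-1, -1), (0, 0), (-1, -1), (-1, 0), (-1, -1), (0, 0), (-1, 0), (-1, 0), (-1, -1)],
  rvlMk [(0, 0), (0, 0), (0, 0), (1, -2), (0, 0), (0, 0), (0, -2), (-1, -3), (0, 0), (2, -3), (3, -2), (-1, -3), (0, 0), (0, -2), (0, -2), (1, -5), (0, 0), (0, -1), (0, -2), (-1, -3), (0, 0), (1, -3), (1, -5), (0, -3), (2, -3), (-1, -4), (-2, -2), (0, -4)],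
  rvlMk [(0, 0), (0, 0), (0, 0), (-1, -1), (0, 0), (0, 0), (0, 0), (-1, -1), (0, 0), (0, 0), (0, 0), (-1, 0), (0, 0), (0, 0), (-1, -1), (-1, -1), (0, 0), (0, 0), (-1, -1), (-1, -1), (0, 0), (0, -1), (-1, -1), (-1, -1), (0, 0), (-2, 0), (-1, 0), (-1, 0)],
  rvlMk [(0, 0), (0, 0), (0, 0), (-1, 0), (0, 0), (0, 0), (0, 0), (-1, -1), (0, 0), (-1, 0), (0, 0), (-1, 0), (0, 0), (-1, 0), (-1, 0), (-1, 0), (0, 0), (-1, 0), (-1, 0), (0, -1), (0, 0), (-1, -1), (-1, 0), (-1, 0), (0, 0), (-1, -1), (-1, 0), (0, 0)],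
  rvlMk [(0, 0), (0, 0), (0, 0), (-1, -1), (0, 0), (0, 0), (1, -1), (-1, -2), (0, 0), (1, -2), (1, -1), (1, -2), (0, 0), (1, -3), (1, -1), (0, -2), (0, 0), (-1, -1), (-1, 0), (0, -2), (1, -1), (1, -3), (1, -3), (-1, -1), (1, -1), (0, -2), (-1, -1), (0, -2)],
  rvlMk [(0, 0), (0, 0), (0, 0), (-1, -1), (0, 0), (0, 0), (0, 0), (-1, -1), (0, 0), (0, 0), (0, 0), (-1, -1), (0, 0), (0, 0), (-1, 0), (-1, -1), (0, 0), (-1, 0), (-1, 0), (-1, 0), (0, 0), (-1, 0), (0, 0), (-1, 0), (0, 0), (-1, 0), (-1, 0), (-1, -1)],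
  rvlMk [(0, 0), (0, 0), (0, 0), (-1, -1), (0, 0), (0, 0), (0, 0), (-1, -1), (0, 0), (0, 0), (0, 0), (-1, 0), (0, 0), (0, 0), (0, 0), (-1, -1), (0, 0), (0, 0), (0, -1), (-1, 0), (0, 0), (0, 0), (0, 0), (-1, 0), (0, 0), (-1, 0), (-1, 0), (-1, -1)],
  rvlMk [(0, 0), (0, 0), (0, 0), (0, -1), (0, 0), (0, 0), (0, -1), (1, -2), (0, 0), (0, -2), (2, -2), (0, -4), (1, -1), (0, -2), (2, -2), (1, -3), (0, 0), (0, -2), (0, -2), (0, -3), (1, 0), (1, -2), (0, -4), (0, -3), (0, -2), (-1, -3), (-1, -2), (1, -3)],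
  rvlMk [(0, 0), (0, 0), (0, 0), (-1, 0), (0, 0), (0, 0), (0, 0), (-1, 0), (0, 0), (-1, 0), (0, 0), (-1, 0), (0, 0), (0, 0), (-1, 0), (-1, 0), (0, 0), (0, 0), (-1, -1), (-1, -1), (0, 0), (-1, 0), (-1, 0), (0, 0), (0, 0), (-1, 0), (-1, 0), (0, 0)],
  rvlMk [(0, 0), (0, 0), (0, 0), (-1, 0), (0, 0), (0, 0), (0, 0), (-1, 0), (0, 0), (0, 0), (0, 0), (0, 0), (0, 0), (0, 0), (0, 0), (-1, 0), (0, 0), (0, 0), (0, 0), (0, 0), (0, 0), (0, 0), (0, 0), (-1, 0), (0, 0), (-1, 0), (-1, 0), (0, 0)],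
  rvlMk [(0, 0), (0, 0), (0, 0), (1, 0), (0, 0), (0, 0), (0, -1), (0, -1), (0, 0), (1, -2), (1, -1), (0, -2), (0, 0), (0, -1), (1, -1), (0, -2), (0, 0), (-1, 0), (1, -1), (0, -2), (0, 0), (1, -1), (0, -3), (0, -1), (0, -1), (-1, -1), (-1, -1), (0, -2)],
  rvlMk [(0, 0), (0, 0), (0, 0), (0, 0), (0, 0), (0, 0), (0, 0), (-1, 0), (0, 0), (0, 0), (0, 0), (0, 0), (0, 0), (0, 0), (-1, 0), (-1, 0), (0, 0), (0, 0), (-1, 0), (-1, 0), (0, 0), (0, 0), (-1, 0), (0, 0), (0, 0), (-1, 0), (-1, 0), (0, 0)],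
  rvlMk [(0, 0), (0, 0), (0, 0), (0, 0), (0, 0), (0, 0), (0, 0), (0, -1), (0, 0), (0, 0), (0, -1), (0, -1), (0, 0), (0, -1), (0, 0), (0, -1), (0, 0), (-1, 0), (0, 0), (0, 0), (0, 0), (0, -1), (0, -1), (-1, 0), (0, 0), (-1, -1), (-1, -1), (0, -1)]
]

theorem rvl_cert_S1 : ∀ k : Fin 18, rvlCert (fun p => (⟨0, 2⟩ : GaussianInt) * (rvlS1.getD k 0) p) (rvlA_S1.getD k []) (rvlW_S1.getD k 0) := by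
  decide +kernel

theorem rvl_par_S1 : ∀ k : Fin 18, ∀ p, rvlParI ((rvlS1.getD k 0) p) = if p ∈ rvlP1.getD k [] then 1 else 0 := by
  decide +kernel

theorem rvl_nodup_P1 : ∀ k : Fin 18, (rvlP1.getD k []).Nodup := by
  decide +kernel

/-- the code at level 1 in systematic form -/
def rvlH1 (b0 b1 b2 b3 b4 b5 b6 b7 b8 b9 : ZMod 2) : RuIdx → ZMod 2 := fun p =>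
  ([b0 + (b7 + (b9 + 0)), b0 + (b5 + (b6 + (b8 + (b9 + 0)))), b0 + (b5 + (b6 + (b7 + (b8 + 0)))), b0, b1 + (b5 + (b6 + (b8 + (b9 + 0)))), b1 + (b5 + (b6 + (b7 + (b9 + 0)))), b1 + (b7 + (b8 + 0)), b1, b2 + (b5 + (b6 + (b7 + (b9 + 0)))), b2 + (b5 + (b6 + 0)), b2 + (b7 + (b9 + 0)), b2, b3 + (b5 + (b6 + 0)), b3 + (b8 + (b9 + 0)), b3 + (b5 + (b6 + (b8 + (b9 + 0)))), b3, b4 + (b8 + (b9 + 0)), b4 + (b5 + (b6 + (b7 + (b8 + 0)))), b4 + (b5 + (b6 + (b7 + (b9 + 0)))), b4, b5 + (b7 + (b8 + 0)), b6 + (b7 + (b8 + 0)), b5, b6, b7 + (b8 + (b9 + 0)), b7, b8, b9] : List (ZMod 2)).getD (p.1.val * 4 + p.2.val) 0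

theorem rvl_enum1 : ∀ b0 b1 b2 b3 b4 b5 b6 b7 b8 b9 : ZMod 2, rvlWt (rvlH1 b0 b1 b2 b3 b4 b5 b6 b7 b8 b9) ≤ 4 → (rvlH1 b0 b1 b2 b3 b4 b5 b6 b7 b8 b9 = 0 ∨ ∃ a : Fin 7, rvlH1 b0 b1 b2 b3 b4 b5 b6 b7 b8 b9 = rvlSlot a) := by
  decide +kernel

theorem rvl_solve1 (c : RuIdx → ZMod 2) (h : ∀ k : Fin 18, ((rvlP1.getD k []).map c).sum = 0) :
    c = rvlH1 (c (0, 3)) (c (1, 3)) (c (2, 3)) (c (3, 3)) (c (4, 3)) (c (5, 2)) (c (5, 3)) (c (6, 1)) (c (6, 2)) (c (6, 3)) := by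
  have s0 : c (0, 0) = c (0, 3) + (c (6, 1) + (c (6, 3) + 0)) := rvl_z2_solve (h 0)
  have s1 : c (0, 1) = c (0, 3) + (c (5, 2) + (c (5, 3) + (c (6, 2) + (c (6, 3) + 0)))) := rvl_z2_solve (h 1)
  have s2 : c (0, 2) = c (0, 3) + (c (5, 2) + (c (5, 3) + (c (6, 1) + (c (6, 2) + 0)))) := rvl_z2_solve (h 2)
  have s3 : c (1, 0) = c (1, 3) + (c (5, 2) + (c (5, 3) + (c (6, 2) + (c (6, 3) + 0)))) := rvl_z2_solve (h 3)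
  have s4 : c (1, 1) = c (1, 3) + (c (5, 2) + (c (5, 3) + (c (6, 1) + (c (6, 3) + 0)))) := rvl_z2_solve (h 4)
  have s5 : c (1, 2) = c (1, 3) + (c (6, 1) + (c (6, 2) + 0)) := rvl_z2_solve (h 5)
  have s6 : c (2, 0) = c (2, 3) + (c (5, 2) + (c (5, 3) + (c (6, 1) + (c (6, 3) + 0)))) := rvl_z2_solve (h 6)
  have s7 : c (2, 1) = c (2, 3) + (c (5, 2) + (c (5, 3) + 0)) := rvl_z2_solve (h 7)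
  have s8 : c (2, 2) = c (2, 3) + (c (6, 1) + (c (6, 3) + 0)) := rvl_z2_solve (h 8)
  have s9 : c (3, 0) = c (3, 3) + (c (5, 2) + (c (5, 3) + 0)) := rvl_z2_solve (h 9)
  have s10 : c (3, 1) = c (3, 3) + (c (6, 2) + (c (6, 3) + 0)) := rvl_z2_solve (h 10)
  have s11 : c (3, 2) = c (3, 3) + (c (5, 2) + (c (5, 3) + (c (6, 2) + (c (6, 3) + 0)))) := rvl_z2_solve (h 11)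
  have s12 : c (4, 0) = c (4, 3) + (c (6, 2) + (c (6, 3) + 0)) := rvl_z2_solve (h 12)
  have s13 : c (4, 1) = c (4, 3) + (c (5, 2) + (c (5, 3) + (c (6, 1) + (c (6, 2) + 0)))) := rvl_z2_solve (h 13)
  have s14 : c (4, 2) = c (4, 3) + (c (5, 2) + (c (5, 3) + (c (6, 1) + (c (6, 3) + 0)))) := rvl_z2_solve (h 14)
  have s15 : c (5, 0) = c (5, 2) + (c (6, 1) + (c (6, 2) + 0)) := rvl_z2_solve (h 15)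
  have s16 : c (5, 1) = c (5, 3) + (c (6, 1) + (c (6, 2) + 0)) := rvl_z2_solve (h 16)
  have s17 : c (6, 0) = c (6, 1) + (c (6, 2) + (c (6, 3) + 0)) := rvl_z2_solve (h 17)
  funext p
  have hp := rvl_mem_allIdx p
  simp only [rvlAllIdx, List.mem_cons, List.not_mem_nil, or_false] at hp
  rcases hp with rfl | rfl | rfl | rfl | rfl | rfl | rfl | rfl | rfl | rfl | rfl | rfl | rfl | rfl | rfl | rfl | rfl | rfl | rfl | rfl | rfl | rfl | rfl | rfl | rfl | rfl | rfl | rfl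
  · exact s0
  · exact s1
  · exact s2
  · rfl
  · exact s3
  · exact s4
  · exact s5
  · rfl
  · exact s6
  · exact s7
  · exact s8
  · rfl
  · exact s9
  · exact s10
  · exact s11
  · rfl
  · exact s12
  · exact s13
  · exact s14
  · rfl
  · exact s15
  · exact s16
  · rfl
  · rfl
  · exact s17
  · rfl
  · rfl
  · rfl

theorem rvl_level1_code (c : RuIdx → ZMod 2) (h : ∀ k : Fin 18, ((rvlP1.getD k []).map c).sum = 0)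
    (hw : rvlWt c ≤ 4) : c = 0 ∨ ∃ a : Fin 7, c = rvlSlot a := by
  have hc := rvl_solve1 c h
  have key := rvl_enum1 (c (0, 3)) (c (1, 3)) (c (2, 3)) (c (3, 3)) (c (4, 3)) (c (5, 2)) (c (5, 3)) (c (6, 1)) (c (6, 2)) (c (6, 3)) (by rw [← hc]; exact hw)
  rw [← hc] at key
  exact key

/-- the units of the Gaussian integers -/
def rvlUnits : List GaussianInt := [⟨1, 0⟩, ⟨-1, 0⟩, ⟨0, 1⟩, ⟨0, -1⟩]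

/-- divisibility by four, decidable form -/
def rvlD4 (z : GaussianInt) : Prop := (4 : ℤ) ∣ z.re ∧ (4 : ℤ) ∣ z.im

instance (z : GaussianInt) : Decidable (rvlD4 z) := by unfold rvlD4; infer_instance

theorem rvl_sep : ∀ p q : RuIdx, p ≠ q → ∃ j : Fin 9, rvlParI ((rvlRm.getD j 0) p) ≠ rvlParI ((rvlRm.getD j 0) q) := by
  decide +kernel

theorem rvl_cov : ∀ p : RuIdx, ∃ j : Fin 9, rvlParI ((rvlRm.getD j 0) p) = 1 := by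
  decide +kernel

theorem rvl_wt_slotpair : ∀ a d : Fin 7, (d = 1 ∨ d = 2 ∨ d = 4) → rvlWt (rvlSlotPair a (a + d)) = 8 := by
  decide +kernel

theorem rvl_wt_slot : ∀ a : Fin 7, rvlWt (rvlSlot a) = 4 := by
  decide +kernel

/-- test vectors for the two-slot case: (table index, extra shift) -/
def rvlTestI (d : Fin 7) : List (ℕ × ℕ) :=
  if d = 1 then [(1, 0), (1, 4), (2, 4)] else if d = 2 then [(1, 0), (1, 1), (3, 1)]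
  else [(1, 0), (1, 2), (2, 0)]

theorem rvl_testI_zero : ∀ d : Fin 7, (d = 1 ∨ d = 2 ∨ d = 4) → ∀ ik ∈ rvlTestI d, ∀ t : Fin 4,
    (ruTable.getD ik.1 0) (d - Fin.ofNat 7 ik.2, t) = 0 := by
  decide +kernel

theorem rvl_caseI : ∀ d : Fin 7, (d = 1 ∨ d = 2 ∨ d = 4) →
    ∀ u0 ∈ rvlUnits, ∀ u1 ∈ rvlUnits, ∀ u2 ∈ rvlUnits, ∀ u3 ∈ rvlUnits,
    ¬ (∀ ik ∈ rvlTestI d,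
        rvlD4 (u0 * star ((ruTable.getD ik.1 0) (-Fin.ofNat 7 ik.2, 0)) +
          u1 * star ((ruTable.getD ik.1 0) (-Fin.ofNat 7 ik.2, 1)) +
          u2 * star ((ruTable.getD ik.1 0) (-Fin.ofNat 7 ik.2, 2)) +
          u3 * star ((ruTable.getD ik.1 0) (-Fin.ofNat 7 ik.2, 3)))) := by
  decide +kernel

theorem rvl_caseII : ∀ u0 ∈ rvlUnits, ∀ u1 ∈ rvlUnits, ∀ u2 ∈ rvlUnits, ∀ u3 ∈ rvlUnits,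
    ¬ (rvlD4 (rvlPi * (u0 * star ((ruTable.getD 1 0) (0, 0)) + u1 * star ((ruTable.getD 1 0) (0, 1)) +
          u2 * star ((ruTable.getD 1 0) (0, 2)) + u3 * star ((ruTable.getD 1 0) (0, 3)))) ∧
       rvlD4 (rvlPi * (u0 * star ((ruTable.getD 5 0) (0, 0)) + u1 * star ((ruTable.getD 5 0) (0, 1)) +
          u2 * star ((ruTable.getD 5 0) (0, 2)) + u3 * star ((ruTable.getD 5 0) (0, 3))))) := by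
  decide +kernel

end Cfsg.Agent.Lib.Helper29
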