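import Mathlib
import Cfsg.Prelude.Def_Spor_Ru
import Cfsg.Agent.Lib.Helper29.RvLBasic
import Cfsg.Agent.Lib.Helper29.RvLData
import Cfsg.Agent.Lib.Helper29.RvLCode

set_option autoImplicit false

namespace Cfsg.Agent.Lib.Helper29

open Cfsg.Spor

/-- the congruence lattice -/
def rvlM : AddSubgroup RuVec where
  carrier := {x | ∀ r ∈ rvlRm, (4 : GaussianInt) ∣ rvlHerm x r}
  zero_mem' := by
    intro r _
    rw [rvlHerm_zero_left]
    exact dvd_zero _
  add_mem' := by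
    intro x y hx hy r hr
    rw [rvlHerm_add_left]
    exact dvd_add (hx r hr) (hy r hr)
  neg_mem' := by
    intro x hx r hr
    rw [rvlHerm_neg_left]
    exact (dvd_neg).2 (hx r hr)

theorem rvl_mem_M {x : RuVec} : x ∈ rvlM ↔ ∀ r ∈ rvlRm, (4 : GaussianInt) ∣ rvlHerm x r := Iff.rfl

/-- vectors pairing into `4ℤ[i]` with the congruence lattice -/
def rvlDual (y : RuVec) : Prop := ∀ x ∈ rvlM, (4 : GaussianInt) ∣ rvlHerm x y

theorem rvlDual_of_mem {r : RuVec} (hr : r ∈ rvlRm) : rvlDual r := fun _ hx => hx r hr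

theorem rvlDual_add {y y' : RuVec} (h : rvlDual y) (h' : rvlDual y') : rvlDual (y + y') := by
  intro x hx
  rw [rvlHerm_add_right]
  exact dvd_add (h x hx) (h' x hx)

theorem rvlDual_smul (a : GaussianInt) {y : RuVec} (h : rvlDual y) : rvlDual (a • y) := by
  intro x hx
  rw [rvlHerm_smul_right]
  exact Dvd.dvd.mul_left (h x hx) _

theorem rvlDual_neg {y : RuVec} (h : rvlDual y) : rvlDual (-y) := by
  intro x hx
  rw [rvlHerm_neg_right]
  exact (dvd_neg).2 (h x hx)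

theorem rvlHerm_comb (x : RuVec) (L : List RuVec) (hL : ∀ r ∈ L, (4 : GaussianInt) ∣ rvlHerm x r) :
    ∀ A : List GaussianInt, (4 : GaussianInt) ∣ rvlHerm x (rvlComb A L) := by
  induction L with
  | nil =>
    intro A
    have : rvlComb A [] = 0 := by
      funext p
      simp [rvlComb]
    rw [this, rvlHerm_zero_right]
    exact dvd_zero _
  | cons r L ih =>
    intro A
    cases A with
    | nil =>
      have : rvlComb [] (r :: L) = 0 := by
        funext p
        simp [rvlComb]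
      rw [this, rvlHerm_zero_right]
      exact dvd_zero _
    | cons a A =>
      have : rvlComb (a :: A) (r :: L) = a • r + rvlComb A L := by
        funext p
        simp [rvlComb]
      rw [this, rvlHerm_add_right, rvlHerm_smul_right]
      exact dvd_add (Dvd.dvd.mul_left (hL r (List.mem_cons_self ..)) _)
        (ih (fun r' hr' => hL r' (List.mem_cons_of_mem _ hr')) A)

theorem rvl_four_eq : (⟨4, 0⟩ : GaussianInt) = 4 := by
  apply Zsqrtd.ext <;> simp

theorem rvlDual_of_cert {y : RuVec} {A : List GaussianInt} {w : RuVec} (h : rvlCert y A w) :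
    rvlDual y := by
  intro x hx
  have hy : y = rvlComb A rvlRm + (4 : GaussianInt) • w := by
    funext p
    rw [h p, rvl_four_eq]
    rfl
  rw [hy, rvlHerm_add_right, rvlHerm_smul_right]
  refine dvd_add (rvlHerm_comb x rvlRm hx A) ?_
  have : star (4 : GaussianInt) = 4 := by
    apply Zsqrtd.ext <;> simp
  rw [this]
  exact dvd_mul_right _ _

theorem rvl_Rm_index {r : RuVec} (hr : r ∈ rvlRm) : ∃ j : Fin 19, rvlRm.getD j 0 = r := by
  obtain ⟨n, hn, rfl⟩ := List.getElem_of_mem hr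
  have h19 : rvlRm.length = 19 := rfl
  refine ⟨⟨n, h19 ▸ hn⟩, ?_⟩
  simp [List.getElem?_eq_getElem hn]

theorem rvlM_gI {x : RuVec} (hx : x ∈ rvlM) : gI • x ∈ rvlM := by
  intro r hr
  rw [rvlHerm_smul_left]
  exact Dvd.dvd.mul_left (hx r hr) _

theorem rvlM_Rj {x : RuVec} (hx : x ∈ rvlM) : ruRj x ∈ rvlM := by
  intro r hr
  obtain ⟨j, rfl⟩ := rvl_Rm_index hr
  rw [rvlHerm_Rj]
  exact rvlDual_of_cert (rvl_cert_Rj j) x hx

theorem rvlM_Rk {x : RuVec} (hx : x ∈ rvlM) : ruRk x ∈ rvlM := by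
  intro r hr
  obtain ⟨j, rfl⟩ := rvl_Rm_index hr
  rw [rvlHerm_Rk]
  exact rvlDual_of_cert (rvl_cert_Rk j) x hx

theorem rvlM_Sign {x : RuVec} (hx : x ∈ rvlM) : ruSign x ∈ rvlM := by
  intro r hr
  obtain ⟨j, rfl⟩ := rvl_Rm_index hr
  rw [rvlHerm_Sign]
  exact rvlDual_of_cert (rvl_cert_Sg j) x hx

theorem rvlM_Shift {x : RuVec} (hx : x ∈ rvlM) : ruShift x ∈ rvlM := by
  intro r hr
  obtain ⟨j, rfl⟩ := rvl_Rm_index hr
  rw [rvlHerm_Shift]
  exact rvlDual_of_cert (rvl_cert_Sh j) x hx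

theorem rvl_table_index {v : RuVec} (hv : v ∈ ruTable) : ∃ j : Fin 20, ruTable.getD j 0 = v := by
  obtain ⟨n, hn, rfl⟩ := List.getElem_of_mem hv
  have h20 : ruTable.length = 20 := rfl
  refine ⟨⟨n, h20 ▸ hn⟩, ?_⟩
  simp [List.getElem?_eq_getElem hn]

theorem rvlDual_table {v : RuVec} (hv : v ∈ ruTable) : rvlDual v := by
  obtain ⟨j, rfl⟩ := rvl_table_index hv
  exact rvlDual_of_cert (rvl_cert_T j)

theorem rvl_four_dvd_star {z : GaussianInt} (h : (4 : GaussianInt) ∣ z) : (4 : GaussianInt) ∣ star z := by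
  obtain ⟨w, rfl⟩ := h
  refine ⟨star w, ?_⟩
  rw [star_mul]
  have : star (4 : GaussianInt) = 4 := by
    apply Zsqrtd.ext <;> simp
  rw [this, mul_comm]


/-! ### the lattice is contained in the congruence lattice -/

theorem rvl_four_dvd_iff (z : GaussianInt) :
    (4 : GaussianInt) ∣ z ↔ (4 : ℤ) ∣ z.re ∧ (4 : ℤ) ∣ z.im := by
  have h : (4 : GaussianInt) = ((4 : ℤ) : GaussianInt) := by norm_cast
  rw [h, Zsqrtd.intCast_dvd]

set_option maxRecDepth 100000 in
theorem rvl_Rm_self : ∀ i j : Fin 19,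
    (4 : ℤ) ∣ (rvlHerm (rvlRm.getD i 0) (rvlRm.getD j 0)).re ∧
    (4 : ℤ) ∣ (rvlHerm (rvlRm.getD i 0) (rvlRm.getD j 0)).im := by
  decide +kernel

theorem rvl_Rm_mem_M {r : RuVec} (hr : r ∈ rvlRm) : r ∈ rvlM := by
  intro r' hr'
  obtain ⟨i, rfl⟩ := rvl_Rm_index hr
  obtain ⟨j, rfl⟩ := rvl_Rm_index hr'
  exact (rvl_four_dvd_iff _).2 (rvl_Rm_self i j)

theorem rvl_table_mem_M {v : RuVec} (hv : v ∈ ruTable) : v ∈ rvlM := by
  intro r hr
  rw [rvlHerm_conj r v]
  exact rvl_four_dvd_star (rvlDual_table hv r (rvl_Rm_mem_M hr))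

theorem rvlM_mem_ruClosed : rvlM ∈ ruClosed :=
  ⟨fun _ hv => rvl_table_mem_M hv,
    fun _ hv => ⟨rvlM_gI hv, rvlM_Rj hv, rvlM_Rk hv, rvlM_Sign hv, rvlM_Shift hv⟩⟩

theorem rvl_lattice_le_M : ruLattice ≤ rvlM := sInf_le rvlM_mem_ruClosed

theorem rvl_lattice_mem_ruClosed : ruLattice ∈ ruClosed := by
  refine ⟨fun v hv => ?_, fun v hv => ?_⟩
  · rw [ruLattice, AddSubgroup.mem_sInf]
    intro L hL
    exact hL.1 v hv
  · rw [ruLattice, AddSubgroup.mem_sInf] at hv
    simp only [ruLattice, AddSubgroup.mem_sInf]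
    exact ⟨fun L hL => (hL.2 v (hv L hL)).1, fun L hL => (hL.2 v (hv L hL)).2.1,
      fun L hL => (hL.2 v (hv L hL)).2.2.1, fun L hL => (hL.2 v (hv L hL)).2.2.2.1,
      fun L hL => (hL.2 v (hv L hL)).2.2.2.2⟩

theorem rvl_Rj_mem {v : RuVec} (hv : v ∈ ruLattice) : ruRj v ∈ ruLattice :=
  (rvl_lattice_mem_ruClosed.2 v hv).2.1
theorem rvl_Rk_mem {v : RuVec} (hv : v ∈ ruLattice) : ruRk v ∈ ruLattice :=
  (rvl_lattice_mem_ruClosed.2 v hv).2.2.1
theorem rvl_Sign_mem {v : RuVec} (hv : v ∈ ruLattice) : ruSign v ∈ ruLattice :=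
  (rvl_lattice_mem_ruClosed.2 v hv).2.2.2.1
theorem rvl_Shift_mem {v : RuVec} (hv : v ∈ ruLattice) : ruShift v ∈ ruLattice :=
  (rvl_lattice_mem_ruClosed.2 v hv).2.2.2.2

theorem rvl_RjDag_mem {v : RuVec} (hv : v ∈ ruLattice) : rvlRjDag v ∈ ruLattice := by
  have : rvlRjDag v = - ruRj v := rfl
  rw [this]
  exact neg_mem (rvl_Rj_mem hv)

theorem rvl_RkDag_mem {v : RuVec} (hv : v ∈ ruLattice) : rvlRkDag v ∈ ruLattice := by
  have : rvlRkDag v = - ruRk v := rfl
  rw [this]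
  exact neg_mem (rvl_Rk_mem hv)

theorem rvl_ShInv_eq (v : RuVec) :
    rvlShInv v = ruShift (ruShift (ruShift (ruShift (ruShift (ruShift v))))) := by
  funext p
  simp only [rvlShInv, ruShift]
  have : ∀ n : Fin 7, n - 1 = n + 1 + 1 + 1 + 1 + 1 + 1 := by decide
  rw [this]

theorem rvl_ShInv_mem {v : RuVec} (hv : v ∈ ruLattice) : rvlShInv v ∈ ruLattice := by
  rw [rvl_ShInv_eq]
  exact rvl_Shift_mem (rvl_Shift_mem (rvl_Shift_mem (rvl_Shift_mem (rvl_Shift_mem
    (rvl_Shift_mem hv)))))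

/-- all Hermitian products in the lattice are divisible by `4` -/
theorem rvl_bil {x y : RuVec} (hx : x ∈ ruLattice) (hy : y ∈ ruLattice) :
    (4 : GaussianInt) ∣ rvlHerm x y := by
  let S : AddSubgroup RuVec :=
    { carrier := {x | ∀ y ∈ ruLattice, (4 : GaussianInt) ∣ rvlHerm x y}
      zero_mem' := by
        intro y _
        rw [rvlHerm_zero_left]
        exact dvd_zero _
      add_mem' := by
        intro x x' hx hx' y hy
        rw [rvlHerm_add_left]
        exact dvd_add (hx y hy) (hx' y hy)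
      neg_mem' := by
        intro x hx y hy
        rw [rvlHerm_neg_left]
        exact (dvd_neg).2 (hx y hy) }
  have hS : S ∈ ruClosed := by
    refine ⟨fun v hv y hy => ?_, fun v hv => ⟨fun y hy => ?_, fun y hy => ?_, fun y hy => ?_,
      fun y hy => ?_, fun y hy => ?_⟩⟩
    · rw [rvlHerm_conj y v]
      exact rvl_four_dvd_star (rvlDual_table hv y (rvl_lattice_le_M hy))
    · rw [rvlHerm_smul_left]
      exact Dvd.dvd.mul_left (hv y hy) _
    · rw [rvlHerm_Rj]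
      exact hv _ (rvl_RjDag_mem hy)
    · rw [rvlHerm_Rk]
      exact hv _ (rvl_RkDag_mem hy)
    · rw [rvlHerm_Sign]
      exact hv _ (rvl_Sign_mem hy)
    · rw [rvlHerm_Shift]
      exact hv _ (rvl_ShInv_mem hy)
  have : ruLattice ≤ S := sInf_le hS
  exact this hx y hy

set_option maxRecDepth 100000 in
theorem rvl_table_norm : ∀ j : Fin 20, ruNorm (ruTable.getD j 0) = 16 := by
  decide +kernel

/-- the lattice is even: stored norms are multiples of `8` -/
theorem rvl_even {x : RuVec} (hx : x ∈ ruLattice) : (8 : ℤ) ∣ ruNorm x := by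
  let N : AddSubgroup RuVec :=
    { carrier := {x | x ∈ ruLattice ∧ (8 : ℤ) ∣ ruNorm x}
      zero_mem' := by
        refine ⟨zero_mem _, ?_⟩
        have : ruNorm 0 = 0 := by simp [ruNorm]
        rw [this]
        exact dvd_zero _
      add_mem' := by
        intro x y hx hy
        refine ⟨add_mem hx.1 hy.1, ?_⟩
        rw [ruNorm_add]
        have h4 := ((rvl_four_dvd_iff _).1 (rvl_bil hx.1 hy.1)).1
        obtain ⟨a, ha⟩ := hx.2
        obtain ⟨b, hb⟩ := hy.2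
        obtain ⟨c, hc⟩ := h4
        exact ⟨a + b + c, by rw [ha, hb, hc]; ring⟩
      neg_mem' := by
        intro x hx
        refine ⟨neg_mem hx.1, ?_⟩
        rw [ruNorm_neg]
        exact hx.2 }
  have hN : N ∈ ruClosed := by
    refine ⟨fun v hv => ⟨rvl_lattice_mem_ruClosed.1 v hv, ?_⟩, fun v hv => ⟨⟨?_, ?_⟩, ⟨?_, ?_⟩,
      ⟨?_, ?_⟩, ⟨?_, ?_⟩, ⟨?_, ?_⟩⟩⟩
    · obtain ⟨j, rfl⟩ := rvl_table_index hv
      rw [rvl_table_norm j]
      norm_num
    · exact (rvl_lattice_mem_ruClosed.2 v hv.1).1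
    · rw [ruNorm_gI]; exact hv.2
    · exact rvl_Rj_mem hv.1
    · rw [ruNorm_Rj]; exact hv.2
    · exact rvl_Rk_mem hv.1
    · rw [ruNorm_Rk]; exact hv.2
    · exact rvl_Sign_mem hv.1
    · rw [ruNorm_Sign]; exact hv.2
    · exact rvl_Shift_mem hv.1
    · rw [ruNorm_Shift]; exact hv.2
  have : ruLattice ≤ N := sInf_le hN
  exact (this hx).2

end Cfsg.Agent.Lib.Helper29
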