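import Cfsg.Agent.Lib.Helper29.RUBridge
import Cfsg.Agent.Lib.helper23.RULMasks

set_option autoImplicit false

/-!
# Project RU: the minimal vectors of the Rudvalis lattice (P2 complete)

helper23's mask theorem `rul_masks` and helper29's bridge `ru_bridge` give: the vectors of stored
norm `16` of `ruLattice` are exactly the `16240` vectors of `rulMin`.
-/

namespace Cfsg.Agent.Lib.Helper29

open Cfsg.Spor Cfsg.Agent.Lib.helper23

/-- every minimal vector of the lattice is in the list -/
theorem ru_min_complete {x : RuVec} (hx : x ∈ ruLattice) (hn : ruNorm x = 16) : x ∈ rulMin :=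
  ru_min_of_masks (fun _ _ _ hc _ hz hcz hncz hw hs => rul_masks hc hz hcz hncz hw hs) hx hn

/-- **the minimal vectors** of the Rudvalis lattice -/
theorem ru_min_iff (x : RuVec) : x ∈ rulMin ↔ x ∈ ruLattice ∧ ruNorm x = 16 :=
  ⟨ru_rulMin_mem, fun h => ru_min_complete h.1 h.2⟩

/-- a minimal vector is `4 u e_p` or a list vector -/
theorem ru_min_cases {x : RuVec} (hx : x ∈ ruLattice) (hn : ruNorm x = 16) :
    (∃ p : RuIdx, ∃ u : GaussianInt, IsUnit u ∧ x = Pi.single p (4 * u)) ∨
      ∃ i < 16128, x = rulVec i :=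
  ru_min_complete hx hn

end Cfsg.Agent.Lib.Helper29
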