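import Cfsg.Agent.Lib.Helper29.RULinesB
import Cfsg.Agent.Lib.Helper29.RUMin
import Cfsg.Agent.Lib.Helper16.RU.Lines

set_option autoImplicit false

/-!
# Project RU, row LINES: the 4060 lines of minimal vectors

`ru_lines : RuLines 4060 ruLineRep` (helper16's interface): the representatives are minimal vectors of
the lattice, every minimal vector is a unit multiple of exactly one of them.
-/

namespace Cfsg.Agent.Lib.Helper29

open Cfsg.Spor Cfsg.Agent.Lib.helper23 Cfsg.Agent.Lib.Helper16.RU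

theorem ruLineRep_unit {j : ℕ} (h : ruLnCode j < 16128) : ruLineRep j = rulVec (ruLnCode j) :=
  if_pos h

theorem ruLineRep_frame {j : ℕ} (h : ¬ ruLnCode j < 16128) :
    ruLineRep j = Pi.single (rulIdx (ruLnCode j - 16128)) ⟨-4, 0⟩ :=
  if_neg h

/-! ### soundness of the checks -/

theorem ruLn_T {i : ℕ} (hi : i < 16128) :
    ruLnTk i / 4 < 4060 ∧ ruLnCode (ruLnTk i / 4) < 16128 ∧
      (rulS i, rulN i) = rubGIp (ruLnTk i % 4)
        (rulS (ruLnCode (ruLnTk i / 4)), rulN (ruLnCode (ruLnTk i / 4))) := by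
  have h := (pgAll_iff _ _).1 ruLn_chkT i hi
  unfold ruLnChkT at h
  rw [pgForce_eq, pgForce_eq, pgForce_eq, Bool.and_eq_true, Bool.and_eq_true] at h
  obtain ⟨⟨h1, h2⟩, h3⟩ := h
  have h1' : (ruLnTk i).div 4 < 4060 := by simpa using h1
  have h2' : ruLnCode ((ruLnTk i).div 4) < 16128 := by simpa using h2
  exact ⟨h1', h2', rubEq2_iff h3⟩

theorem ruLn_R1 {j a k : ℕ} (h : ruLnChkR1 j a k = true) :
    ruLnRk (4 * j + k) < 16128 ∧ ruLnTk (ruLnRk (4 * j + k)) = 4 * j + k ∧
      (rulS (ruLnRk (4 * j + k)), rulN (ruLnRk (4 * j + k))) = rubGIp k (rulS a, rulN a) := by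
  unfold ruLnChkR1 at h
  rw [pgForce_eq, Bool.and_eq_true, Bool.and_eq_true] at h
  obtain ⟨⟨h1, h2⟩, h3⟩ := h
  exact ⟨by simpa using h1, Nat.eq_of_beq_eq_true h2, rubEq2_iff h3⟩

theorem ruLn_R {j : ℕ} (hj : j < 4060) (ha : ruLnCode j < 16128) {k : ℕ} (hk : k < 4) :
    ruLnRk (4 * j + k) < 16128 ∧ ruLnTk (ruLnRk (4 * j + k)) = 4 * j + k ∧
      (rulS (ruLnRk (4 * j + k)), rulN (ruLnRk (4 * j + k))) =
        rubGIp k (rulS (ruLnCode j), rulN (ruLnCode j)) := by
  have h := (pgAll_iff _ _).1 ruLn_chkR j hj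
  unfold ruLnChkR at h
  rw [pgForce_eq] at h
  have hb : Nat.blt (ruLnCode j) 16128 = true := by simpa using ha
  rw [hb, cond_true, Bool.and_eq_true, Bool.and_eq_true, Bool.and_eq_true] at h
  obtain ⟨⟨⟨h0, h1⟩, h2⟩, h3⟩ := h
  interval_cases k
  · exact ruLn_R1 h0
  · exact ruLn_R1 h1
  · exact ruLn_R1 h2
  · exact ruLn_R1 h3

theorem ruLn_F {j : ℕ} (hj : j < 4060) (ha : ¬ ruLnCode j < 16128) :
    ruLnCode j < 16156 ∧ ruLnFr.getD (ruLnCode j - 16128) 0 = j := by
  have h := (pgAll_iff _ _).1 ruLn_chkR j hj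
  unfold ruLnChkR at h
  rw [pgForce_eq] at h
  have hb : Nat.blt (ruLnCode j) 16128 = false :=
    Bool.eq_false_iff.mpr fun hb => ha (by simpa using hb)
  rw [hb, cond_false, Bool.and_eq_true] at h
  exact ⟨by simpa using h.1, Nat.eq_of_beq_eq_true h.2⟩

theorem ruLn_code_lt {j : ℕ} (hj : j < 4060) : ruLnCode j < 16156 := by
  by_cases ha : ruLnCode j < 16128
  · omega
  · exact (ruLn_F hj ha).1

/-- the list vectors are pairwise distinct -/
theorem rub_vec_inj {i i' : ℕ} (hi : i < 16128) (hi' : i' < 16128) (h : rulVec i = rulVec i') :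
    i = i' := by
  have hm := rub_dec_inj (rub_S_lt i) (rub_S_lt i') (rub_N_sub hi) (rub_N_sub hi') h
  have key : ∀ t, t + 1 < 16128 →
      rulS t * 72057594037927936 + rulN t < rulS (t + 1) * 72057594037927936 + rulN (t + 1) := by
    intro t ht
    have := (pgAll_iff _ _).1 ruLn_chkS t (by omega)
    unfold ruLnChkS at this
    simpa using this
  have mono := rub_mono (fun t => rulS t * 72057594037927936 + rulN t) 16128 key
  by_contra hne
  rcases lt_or_gt_of_ne hne with h1 | h1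
  · have := mono i i' h1 hi'
    simp only [hm.1, hm.2] at this
    exact lt_irrefl _ this
  · have := mono i' i h1 hi
    simp only [hm.1, hm.2] at this
    exact lt_irrefl _ this

theorem rub_vec_of_masks {i a k : ℕ} (h : (rulS i, rulN i) = rubGIp k (rulS a, rulN a)) :
    rulVec i = gI ^ k • rulVec a := by
  have := rub_gI_pow k (rulS a, rulN a)
  rw [← h] at this
  exact this.symm

/-! ### frame vectors -/

theorem rub_smul_single (a b : GaussianInt) (p : RuIdx) :
    a • (Pi.single p b : RuVec) = Pi.single p (a * b) := by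
  funext q
  by_cases hq : q = p
  · subst hq
    simp [Pi.single_eq_same]
  · simp [Pi.single_eq_of_ne hq]

theorem rub_norm_gI_pow (k : ℕ) : (gI ^ k).norm = 1 := by
  induction k with
  | zero => rw [pow_zero]; decide
  | succ k ih => rw [pow_succ, Zsqrtd.norm_mul, ih, rvl_norm_gI, one_mul]

theorem rub_idx_inj {q q' : ℕ} (hq : q < 28) (hq' : q' < 28) (h : rulIdx q = rulIdx q') : q = q' := by
  have h1 := rubK_idx hq
  have h2 := rubK_idx hq'
  rw [h] at h1
  omega

theorem rub_frame_eq : (⟨-4, 0⟩ : GaussianInt) = 4 * (-1) := by decide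

/-- the unit multiples of `4` are the `gI ^ k * (-4)` -/
theorem rub_unit_pow {u : GaussianInt} (hu : IsUnit u) :
    ∃ k : ℕ, 4 * u = gI ^ k * (⟨-4, 0⟩ : GaussianInt) := by
  have h := rvl_unit_of_norm_one (rub_norm_unit hu)
  simp only [rvlUnits, List.mem_cons, List.not_mem_nil, or_false] at h
  rcases h with rfl | rfl | rfl | rfl
  · exact ⟨2, by decide⟩
  · exact ⟨0, by decide⟩
  · exact ⟨3, by decide⟩
  · exact ⟨1, by decide⟩

/-! ### the structure -/

theorem ruLineRep_mem {j : ℕ} (_hj : j < 4060) : ruLineRep j ∈ ruLattice := by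
  by_cases ha : ruLnCode j < 16128
  · rw [ruLineRep_unit ha]
    exact ru_rulVec_mem ha
  · rw [ruLineRep_frame ha, rub_frame_eq]
    exact ru_four_single_mem _ _

theorem ruLineRep_norm {j : ℕ} (_hj : j < 4060) : ruNorm (ruLineRep j) = 16 := by
  by_cases ha : ruLnCode j < 16128
  · rw [ruLineRep_unit ha]
    exact ru_rulVec_norm ha
  · rw [ruLineRep_frame ha, ruNorm_single]
    decide

theorem ruLineRep_complete {x : RuVec} (hx : x ∈ ruLattice) (hn : ruNorm x = 16) :
    ∃ j < 4060, ∃ k : ℕ, x = gI ^ k • ruLineRep j := by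
  rcases ru_min_cases hx hn with ⟨p, u, hu, rfl⟩ | ⟨i, hi, rfl⟩
  · have hq : 4 * p.1.val + p.2.val < 28 := by
      have h1 := p.1.isLt
      have h2 := p.2.isLt
      omega
    obtain ⟨h1, h2⟩ := ruLn_chkF ⟨4 * p.1.val + p.2.val, hq⟩
    obtain ⟨k, hk⟩ := rub_unit_pow hu
    refine ⟨_, h1, k, ?_⟩
    have ha : ¬ ruLnCode (ruLnFr.getD (4 * p.1.val + p.2.val) 0) < 16128 := by
      rw [h2]
      omega
    rw [ruLineRep_frame ha, h2, Nat.add_sub_cancel_left, rub_idx, rub_smul_single, hk]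
  · obtain ⟨h1, h2, h3⟩ := ruLn_T hi
    refine ⟨_, h1, ruLnTk i % 4, ?_⟩
    rw [ruLineRep_unit h2]
    exact rub_vec_of_masks h3

theorem ruLineRep_inj {j j' : ℕ} (hj : j < 4060) (hj' : j' < 4060) (k : ℕ)
    (h : ruLineRep j' = gI ^ k • ruLineRep j) : j = j' := by
  rw [rub_gI_pow_mod k] at h
  have hk : k % 4 < 4 := Nat.mod_lt _ (by norm_num)
  generalize k % 4 = k' at h hk
  by_cases ha : ruLnCode j < 16128 <;> by_cases ha' : ruLnCode j' < 16128
  · -- both of unit type
    rw [ruLineRep_unit ha, ruLineRep_unit ha'] at h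
    obtain ⟨r1, r2, r3⟩ := ruLn_R hj ha hk
    obtain ⟨s1, s2, s3⟩ := ruLn_R hj' ha' (k := 0) (by norm_num)
    have e1 : ruLnRk (4 * j + k') = ruLnCode j' :=
      rub_vec_inj r1 ha' ((rub_vec_of_masks r3).trans h.symm)
    have e2 : ruLnRk (4 * j' + 0) = ruLnCode j' := by
      apply rub_vec_inj s1 ha'
      rw [rub_vec_of_masks s3, pow_zero, one_smul]
    rw [e1] at r2
    rw [e2] at s2
    omega
  · -- `j` of unit type, `j'` a frame vector
    exfalso
    rw [ruLineRep_unit ha, ruLineRep_frame ha'] at h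
    have h1 := congrFun h (rulIdx (ruLnCode j' - 16128))
    rw [Pi.single_eq_same] at h1
    have h2 := congrArg Zsqrtd.norm h1
    have e : (gI ^ k' • rulVec (ruLnCode j')) = gI ^ k' • rulVec (ruLnCode j') := rfl
    rw [Pi.smul_apply, smul_eq_mul, Zsqrtd.norm_mul, rub_norm_gI_pow, one_mul] at h2
    have h3 := rub_dec_norm_le (rulS (ruLnCode j)) (rulN (ruLnCode j)) (rulIdx (ruLnCode j' - 16128))
    have h4 : (⟨-4, 0⟩ : GaussianInt).norm = 16 := by decide
    rw [h4] at h2
    unfold rulVec at h2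
    omega
  · -- `j` a frame vector, `j'` of unit type
    exfalso
    rw [ruLineRep_frame ha, ruLineRep_unit ha', rub_smul_single] at h
    have h1 := congrFun h (rulIdx (ruLnCode j - 16128))
    rw [Pi.single_eq_same] at h1
    have h2 := congrArg Zsqrtd.norm h1
    rw [Zsqrtd.norm_mul, rub_norm_gI_pow, one_mul] at h2
    have h3 := rub_dec_norm_le (rulS (ruLnCode j')) (rulN (ruLnCode j')) (rulIdx (ruLnCode j - 16128))
    have h4 : (⟨-4, 0⟩ : GaussianInt).norm = 16 := by decide
    rw [h4] at h2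
    unfold rulVec at h2
    omega
  · -- both frame vectors
    rw [ruLineRep_frame ha, ruLineRep_frame ha', rub_smul_single] at h
    obtain ⟨b1, b2⟩ := ruLn_F hj ha
    obtain ⟨b1', b2'⟩ := ruLn_F hj' ha'
    have hp : rulIdx (ruLnCode j' - 16128) = rulIdx (ruLnCode j - 16128) := by
      by_contra hne
      have h1 := congrFun h (rulIdx (ruLnCode j' - 16128))
      rw [Pi.single_eq_same, Pi.single_eq_of_ne hne] at h1
      exact absurd h1 (by decide)
    have hq := rub_idx_inj (by omega) (by omega) hp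
    rw [← b2, ← b2', hq]

/-- **LINES**: the 4060 lines of minimal vectors of the Rudvalis lattice -/
theorem ru_lines : RuLines 4060 ruLineRep where
  mem := fun _ hj => ruLineRep_mem hj
  norm := fun _ hj => ruLineRep_norm hj
  complete := fun _ hx hn => ruLineRep_complete hx hn
  inj := fun _ hj _ hj' k h => ruLineRep_inj hj hj' k h

end Cfsg.Agent.Lib.Helper29
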