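import Cfsg.Agent.Lib.Helper29.RUMin
import Cfsg.Agent.Lib.helper23.RULGram

set_option autoImplicit false

/-!
# Project RU: the upper bound for the order of `fourRu` (GRAM glued with the minimal vectors)
-/

namespace Cfsg.Agent.Lib.Helper29

open Cfsg.Spor Cfsg.Agent.Lib.helper23

/-- **UPPER**: `|fourRu| ≤ 4 · |Ru|` -/
theorem ru_card_le : Nat.card fourRu ≤ 583704576000 :=
  rul_gram (fun _ hx hn => ru_min_complete hx hn) (fun _ hx => (ru_rulMin_mem hx).1)

end Cfsg.Agent.Lib.Helper29
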