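import Mathlib
import Cfsg.Prelude.Def_Spor_Ru
import Cfsg.Agent.Lib.Helper29.RvLBasic
import Cfsg.Agent.Lib.Helper29.RvLData
import Cfsg.Agent.Lib.Helper29.RvLCode
import Cfsg.Agent.Lib.Helper29.RvLMain

set_option autoImplicit false

namespace Cfsg.Agent.Lib.Helper29

open Cfsg.Spor

/-- parity vector -/
def rvlParV (x : RuVec) : RuIdx → ZMod 2 := fun p => rvlPar (x p)

theorem rvlPar_herm (x s : RuVec) :
    rvlPar (rvlHerm x s) = ∑ p, rvlParV x p * rvlPar (s p) := by
  simp only [rvlHerm, map_sum, map_mul, rvlPar_star, rvlParV]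

theorem rvl_sum_ind (c : RuIdx → ZMod 2) (S : List RuIdx) (hS : S.Nodup) :
    ∑ p, c p * (if p ∈ S then 1 else 0) = (S.map c).sum := by
  simp only [mul_ite, mul_one, mul_zero]
  rw [← Finset.sum_filter]
  have : Finset.univ.filter (fun p => p ∈ S) = S.toFinset := by
    ext p
    simp
  rw [this, List.sum_toFinset _ hS]

theorem rvl_norm_pi_pow (n : ℕ) : (rvlPi ^ n).norm = 2 ^ n := by
  induction n with
  | zero => simp
  | succ n ih => rw [pow_succ, Zsqrtd.norm_mul, ih, rvl_norm_Pi, pow_succ]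

theorem rvl_level {k e : ℕ} (hke : k + e ≤ 3) {x s : RuVec} (hx : (rvlPi ^ k) • x ∈ rvlM)
    (hs : rvlDual ((rvlPi ^ e) • s)) : rvlPar (rvlHerm x s) = 0 := by
  have h := hs _ hx
  rw [rvlHerm_smul_left, rvlHerm_smul_right] at h
  by_contra hne
  have h1 : rvlPar (rvlHerm x s) = 1 := by
    have : ∀ a : ZMod 2, a ≠ 0 → a = 1 := by decide
    exact this _ hne
  have hodd : (rvlHerm x s).norm % 2 = 1 := by
    have h2 := rvlPar_norm (rvlHerm x s)
    rw [h1] at h2
    have h3 : ((((rvlHerm x s).norm - 1 : ℤ)) : ZMod 2) = 0 := by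
      push_cast
      rw [h2]
      ring
    rw [ZMod.intCast_zmod_eq_zero_iff_dvd] at h3
    omega
  obtain ⟨w, hw⟩ := h
  have hn := congrArg Zsqrtd.norm hw
  rw [Zsqrtd.norm_mul, Zsqrtd.norm_mul, Zsqrtd.norm_mul, Zsqrtd.norm_conj, rvl_norm_pi_pow,
    rvl_norm_pi_pow] at hn
  have h16 : (4 : GaussianInt).norm = 16 := by
    rw [← rvl_four_eq]
    simp [Zsqrtd.norm_def]
  rw [h16] at hn
  have hk : k ≤ 3 := by omega
  have he : e ≤ 3 := by omega
  interval_cases k <;> interval_cases e <;> omega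

theorem rvl_descend {x : RuVec} (h : rvlParV x = 0) :
    ∃ x' : RuVec, x = rvlPi • x' ∧ ruNorm x = 2 * ruNorm x' := by
  have hx : x = rvlPi • (fun p => rvlHalf (x p)) := by
    funext p
    exact rvl_eq_pi_mul_half (congrFun h p)
  refine ⟨fun p => rvlHalf (x p), hx, ?_⟩
  conv_lhs => rw [hx]
  rw [ruNorm_smul, rvl_norm_Pi]

theorem rvlWt_eq_sum (c : RuIdx → ZMod 2) :
    (rvlWt c : ℤ) = ∑ p, if c p = 1 then (1 : ℤ) else 0 := by
  unfold rvlWt
  rw [Finset.card_filter]
  push_cast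
  rfl

theorem rvl_term_le (x : RuVec) (p : RuIdx) :
    (if rvlParV x p = 1 then (1 : ℤ) else 0) ≤ (x p).norm := by
  split_ifs with h
  · exact rvl_norm_pos_of_par h
  · exact rvl_norm_nonneg _

theorem rvlWt_le_norm (x : RuVec) : (rvlWt (rvlParV x) : ℤ) ≤ ruNorm x := by
  rw [rvlWt_eq_sum]
  exact Finset.sum_le_sum fun p _ => rvl_term_le x p

theorem rvl_exact {x : RuVec} (h : (rvlWt (rvlParV x) : ℤ) = ruNorm x) :
    ∀ p, (x p).norm = if rvlParV x p = 1 then 1 else 0 := by
  rw [rvlWt_eq_sum] at h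
  have := (Finset.sum_eq_sum_iff_of_le (fun p _ => rvl_term_le x p)).1 h
  intro p
  exact (this p (Finset.mem_univ p)).symm

theorem rvlParI_eq_of {z z' : GaussianInt} (h : rvlPar z = rvlPar z') : rvlParI z = rvlParI z' := by
  rw [rvlPar_eq_parI, rvlPar_eq_parI, ZMod.intCast_eq_intCast_iff'] at h
  unfold rvlParI at h ⊢
  push_cast at h
  omega

theorem rvlParI_eq_one_of {z : GaussianInt} (h : rvlPar z = 1) : rvlParI z = 1 := by
  have h1 : rvlPar z = ((1 : ℤ) : ZMod 2) := by rw [h]; simp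
  rw [rvlPar_eq_parI, ZMod.intCast_eq_intCast_iff'] at h1
  unfold rvlParI at h1 ⊢
  push_cast at h1
  omega

theorem rvl_getD_mem9 (j : Fin 9) : rvlRm.getD j 0 ∈ rvlRm := by
  have h19 : rvlRm.length = 19 := rfl
  have hj : (j : ℕ) < rvlRm.length := by omega
  rw [List.getD_eq_getElem _ _ hj]
  exact List.getElem_mem hj

theorem rvl_small {k : ℕ} (hk3 : k ≤ 3) {x : RuVec} (hx : (rvlPi ^ k) • x ∈ rvlM)
    (hw : rvlWt (rvlParV x) ≤ 2) : rvlParV x = 0 := by
  have eqs : ∀ j : Fin 9, ∑ p, rvlParV x p * rvlPar ((rvlRm.getD j 0) p) = 0 := by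
    intro j
    rw [← rvlPar_herm]
    refine rvl_level (e := 0) (by omega) hx ?_
    rw [pow_zero, one_smul]
    exact rvlDual_of_mem (rvl_getD_mem9 j)
  by_contra hne
  obtain ⟨p0, hp0⟩ : ∃ p, rvlParV x p ≠ 0 := by
    by_contra h
    push Not at h
    exact hne (funext h)
  have hp01 : rvlParV x p0 = 1 := by
    have : ∀ a : ZMod 2, a ≠ 0 → a = 1 := by decide
    exact this _ hp0
  have hsum : ∀ h : RuIdx → ZMod 2, ∑ p, rvlParV x p * h p =
      ∑ p ∈ Finset.univ.filter (fun p => rvlParV x p = 1), h p := by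
    intro h
    rw [Finset.sum_filter]
    refine Finset.sum_congr rfl fun p _ => ?_
    have : ∀ a b : ZMod 2, a * b = if a = 1 then b else 0 := by decide
    exact this _ _
  by_cases hq : ∃ q0, q0 ≠ p0 ∧ rvlParV x q0 = 1
  · obtain ⟨q0, hq0, hq1⟩ := hq
    have hT : Finset.univ.filter (fun p => rvlParV x p = 1) = {p0, q0} := by
      symm
      apply Finset.eq_of_subset_of_card_le
      · intro p hp
        simp only [Finset.mem_insert, Finset.mem_singleton] at hp
        simp only [Finset.mem_filter, Finset.mem_univ, true_and]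
        rcases hp with rfl | rfl <;> assumption
      · rw [Finset.card_pair hq0.symm]
        exact hw
    obtain ⟨j, hj⟩ := rvl_sep p0 q0 hq0.symm
    have h1 := eqs j
    rw [hsum, hT, Finset.sum_pair hq0.symm] at h1
    exact hj (rvlParI_eq_of (rvl_z2_solve h1))
  · have hT : Finset.univ.filter (fun p => rvlParV x p = 1) = {p0} := by
      ext p
      simp only [Finset.mem_filter, Finset.mem_univ, true_and, Finset.mem_singleton]
      constructor
      · intro hp
        by_contra hpp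
        exact hq ⟨p, hpp, hp⟩
      · rintro rfl
        exact hp01
    obtain ⟨j, hj⟩ := rvl_cov p0
    have h1 := eqs j
    rw [hsum, hT, Finset.sum_singleton] at h1
    rw [rvlPar_eq_parI, hj] at h1
    simp at h1

end Cfsg.Agent.Lib.Helper29
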