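import Mathlib
import Cfsg.Prelude.Def_Spor_Ru
import Cfsg.Agent.Lib.Helper29.RvLBasic
import Cfsg.Agent.Lib.Helper29.RvLData
import Cfsg.Agent.Lib.Helper29.RvLCode
import Cfsg.Agent.Lib.Helper29.RvLMain
import Cfsg.Agent.Lib.Helper29.RvLLevel

set_option autoImplicit false

namespace Cfsg.Agent.Lib.Helper29

open Cfsg.Spor

theorem rvlDual_zero : rvlDual 0 := by
  intro x _
  rw [rvlHerm_zero_right]
  exact dvd_zero _

theorem rvlDual_tableD (i : ℕ) : rvlDual (ruTable.getD i 0) := by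
  by_cases hi : i < 20
  · exact rvlDual_of_cert (rvl_cert_T ⟨i, hi⟩)
  · have h20 : ruTable.length = 20 := rfl
    rw [List.getD_eq_default _ _ (by omega)]
    exact rvlDual_zero

theorem rvlDual_ShInv {y : RuVec} (h : rvlDual y) : rvlDual (rvlShInv y) := by
  intro x hx
  rw [← rvlHerm_Shift]
  exact h _ (rvlM_Shift hx)

theorem rvlDual_ShInv_iter {y : RuVec} (h : rvlDual y) (n : ℕ) : rvlDual (rvlShInv^[n] y) := by
  induction n with
  | zero => exact h
  | succ n ih =>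
    rw [Function.iterate_succ_apply']
    exact rvlDual_ShInv ih

theorem rvl_ofNat_succ (n : ℕ) : Fin.ofNat 7 (n + 1) = Fin.ofNat 7 n + 1 := by
  apply Fin.ext
  simp [Fin.ofNat, Fin.val_add]

theorem rvl_ofNat_add (a : Fin 7) (k : ℕ) : Fin.ofNat 7 (a.val + k) = a + Fin.ofNat 7 k := by
  apply Fin.ext
  simp [Fin.ofNat, Fin.val_add]

theorem rvl_ofNat_val (a : Fin 7) : Fin.ofNat 7 a.val = a := by
  apply Fin.ext
  simp [Fin.ofNat]

theorem rvl_ShInv_iter_apply (y : RuVec) (n : ℕ) (m : Fin 7) (t : Fin 4) :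
    (rvlShInv^[n] y) (m, t) = y (m - Fin.ofNat 7 n, t) := by
  induction n generalizing m with
  | zero =>
    have : Fin.ofNat 7 0 = 0 := rfl
    simp
  | succ n ih =>
    rw [Function.iterate_succ_apply']
    show (rvlShInv^[n] y) (m - 1, t) = _
    rw [ih, rvl_ofNat_succ]
    congr 2
    abel

theorem rvlHerm_slot (x y : RuVec) (a : Fin 7)
    (h : ∀ m, m ≠ a → ∀ t, x (m, t) * star (y (m, t)) = 0) :
    rvlHerm x y = x (a, 0) * star (y (a, 0)) + x (a, 1) * star (y (a, 1)) +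
      x (a, 2) * star (y (a, 2)) + x (a, 3) * star (y (a, 3)) := by
  rw [rvlHerm, Fintype.sum_prod_type, Finset.sum_eq_single a]
  · rw [Fin.sum_univ_four]
  · intro m _ hm
    exact Finset.sum_eq_zero fun t _ => h m hm t
  · intro h'
    exact absurd (Finset.mem_univ a) h'

theorem rvl_unit_of_norm_one {z : GaussianInt} (h : z.norm = 1) : z ∈ rvlUnits := by
  rw [rvl_norm_eq] at h
  have hre : -1 ≤ z.re ∧ z.re ≤ 1 := by constructor <;> nlinarith [mul_self_nonneg z.im]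
  have him : -1 ≤ z.im ∧ z.im ≤ 1 := by constructor <;> nlinarith [mul_self_nonneg z.re]
  obtain ⟨re, im⟩ := z
  simp only at h hre him
  obtain ⟨h1, h2⟩ := hre
  obtain ⟨h3, h4⟩ := him
  interval_cases re <;> interval_cases im <;> simp_all [rvlUnits]

theorem rvl_eqs_of {k e : ℕ} (hke : k + e ≤ 3) {x : RuVec} (hx : (rvlPi ^ k) • x ∈ rvlM)
    (s : RuVec) (P : List RuIdx) (hP : P.Nodup) (hs : rvlDual ((rvlPi ^ e) • s))
    (hpar : ∀ p, rvlParI (s p) = if p ∈ P then 1 else 0) :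
    (P.map (rvlParV x)).sum = 0 := by
  rw [← rvl_sum_ind _ _ hP]
  have h := rvl_level hke hx hs
  rw [rvlPar_herm] at h
  refine Eq.trans ?_ h
  refine Finset.sum_congr rfl fun p _ => ?_
  rw [rvlPar_eq_parI (s p), hpar p]
  split_ifs <;> simp

theorem rvl_pi_pow_three : rvlPi ^ 3 = ⟨-2, 2⟩ := by
  apply Zsqrtd.ext <;> simp [rvlPi, pow_succ]

theorem rvl_pi_pow_two : rvlPi ^ 2 = ⟨0, 2⟩ := by
  apply Zsqrtd.ext <;> simp [rvlPi, pow_succ]

theorem rvlDual_S0 (k : Fin 19) : rvlDual ((rvlPi ^ 3) • (rvlS0.getD k 0)) := by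
  have : (rvlPi ^ 3) • (rvlS0.getD k 0) = fun p => (⟨-2, 2⟩ : GaussianInt) * (rvlS0.getD k 0) p := by
    funext p
    rw [rvl_pi_pow_three]
    rfl
  rw [this]
  exact rvlDual_of_cert (rvl_cert_S0 k)

theorem rvlDual_S1 (k : Fin 18) : rvlDual ((rvlPi ^ 2) • (rvlS1.getD k 0)) := by
  have : (rvlPi ^ 2) • (rvlS1.getD k 0) = fun p => (⟨0, 2⟩ : GaussianInt) * (rvlS1.getD k 0) p := by
    funext p
    rw [rvl_pi_pow_two]
    rfl
  rw [this]
  exact rvlDual_of_cert (rvl_cert_S1 k)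


/-- case (I): eight units on two slots -/
theorem rvl_caseI_main {x : RuVec} (hx : x ∈ rvlM) (hn : ruNorm x = 8) (a d : Fin 7)
    (hd : d = 1 ∨ d = 2 ∨ d = 4) (hsp : rvlParV x = rvlSlotPair a (a + d)) : False := by
  have hwt : rvlWt (rvlParV x) = 8 := by rw [hsp]; exact rvl_wt_slotpair a d hd
  have hex := rvl_exact (x := x) (by rw [hwt, hn]; rfl)
  have hunit : ∀ t, x (a, t) ∈ rvlUnits := by
    intro t
    apply rvl_unit_of_norm_one
    rw [hex, hsp]
    simp [rvlSlotPair]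
  have hzero : ∀ m, m ≠ a → m ≠ a + d → ∀ t, x (m, t) = 0 := by
    intro m h1 h2 t
    have h3 := hex (m, t)
    rw [hsp] at h3
    simp only [rvlSlotPair, h1, h2, or_self, if_false] at h3
    exact (Zsqrtd.norm_eq_zero_iff (by norm_num) _).1 h3
  apply rvl_caseI d hd _ (hunit 0) _ (hunit 1) _ (hunit 2) _ (hunit 3)
  intro ik hik
  have hdual : rvlDual (rvlShInv^[a.val + ik.2] (ruTable.getD ik.1 0)) :=
    rvlDual_ShInv_iter (rvlDual_tableD ik.1) _
  have h4 := hdual x hx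
  rw [rvlHerm_slot x _ a ?_] at h4
  · simp only [rvl_ShInv_iter_apply] at h4
    have hidx : a - Fin.ofNat 7 (a.val + ik.2) = - Fin.ofNat 7 ik.2 := by
      rw [rvl_ofNat_add, sub_add_cancel_left]
    rw [hidx] at h4
    exact (rvl_four_dvd_iff _).1 h4
  · intro m hm t
    by_cases hm2 : m = a + d
    · subst hm2
      rw [rvl_ShInv_iter_apply]
      have hidx : a + d - Fin.ofNat 7 (a.val + ik.2) = d - Fin.ofNat 7 ik.2 := by
        rw [rvl_ofNat_add, add_sub_add_left_eq_sub]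
      rw [hidx, rvl_testI_zero d hd ik hik t]
      simp
    · rw [hzero m hm hm2 t, zero_mul]

/-- case (II): `π` times four units on one slot -/
theorem rvl_caseII_main {x1 : RuVec} (hx : rvlPi • x1 ∈ rvlM) (hn : ruNorm x1 = 4) (a : Fin 7)
    (hsa : rvlParV x1 = rvlSlot a) : False := by
  have hwt : rvlWt (rvlParV x1) = 4 := by rw [hsa]; exact rvl_wt_slot a
  have hex := rvl_exact (x := x1) (by rw [hwt, hn]; rfl)
  have hunit : ∀ t, x1 (a, t) ∈ rvlUnits := by
    intro t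
    apply rvl_unit_of_norm_one
    rw [hex, hsa]
    simp [rvlSlot]
  have hzero : ∀ m, m ≠ a → ∀ t, x1 (m, t) = 0 := by
    intro m h1 t
    have h3 := hex (m, t)
    rw [hsa] at h3
    simp only [rvlSlot, h1, if_false] at h3
    exact (Zsqrtd.norm_eq_zero_iff (by norm_num) _).1 h3
  have key : ∀ i : ℕ, rvlD4 (rvlPi * (x1 (a, 0) * star ((ruTable.getD i 0) (0, 0)) +
      x1 (a, 1) * star ((ruTable.getD i 0) (0, 1)) + x1 (a, 2) * star ((ruTable.getD i 0) (0, 2)) +
      x1 (a, 3) * star ((ruTable.getD i 0) (0, 3)))) := by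
    intro i
    have hdual : rvlDual (rvlShInv^[a.val] (ruTable.getD i 0)) :=
      rvlDual_ShInv_iter (rvlDual_tableD i) _
    have h4 := hdual _ hx
    rw [rvlHerm_smul_left, rvlHerm_slot x1 _ a ?_] at h4
    · simp only [rvl_ShInv_iter_apply, rvl_ofNat_val, sub_self] at h4
      exact (rvl_four_dvd_iff _).1 h4
    · intro m hm t
      rw [hzero m hm t, zero_mul]
  exact rvl_caseII _ (hunit 0) _ (hunit 1) _ (hunit 2) _ (hunit 3) ⟨key 1, key 5⟩

/-- the congruence lattice has no vector of stored norm `8` -/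
theorem rvl_no_norm8 {x : RuVec} (hx : x ∈ rvlM) (hn : ruNorm x = 8) : False := by
  have hx0 : (rvlPi ^ 0) • x ∈ rvlM := by rw [pow_zero, one_smul]; exact hx
  have eqs0 : ∀ k : Fin 19, ((rvlP0.getD k []).map (rvlParV x)).sum = 0 := fun k =>
    rvl_eqs_of (k := 0) (e := 3) (by norm_num) hx0 _ _ (rvl_nodup_P0 k) (rvlDual_S0 k)
      (rvl_par_S0 k)
  have hw0 : rvlWt (rvlParV x) ≤ 8 := by
    have := rvlWt_le_norm x
    omega
  rcases rvl_level0_code _ eqs0 hw0 with h0 | ⟨a, d, hd, hsp⟩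
  · obtain ⟨x1, hx1, hn1⟩ := rvl_descend h0
    have hn1' : ruNorm x1 = 4 := by omega
    have hx1M : (rvlPi ^ 1) • x1 ∈ rvlM := by rw [pow_one, ← hx1]; exact hx
    have eqs1 : ∀ k : Fin 18, ((rvlP1.getD k []).map (rvlParV x1)).sum = 0 := fun k =>
      rvl_eqs_of (k := 1) (e := 2) (by norm_num) hx1M _ _ (rvl_nodup_P1 k) (rvlDual_S1 k)
        (rvl_par_S1 k)
    have hw1 : rvlWt (rvlParV x1) ≤ 4 := by
      have := rvlWt_le_norm x1
      omega
    rcases rvl_level1_code _ eqs1 hw1 with h1 | ⟨a, hsa⟩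
    · obtain ⟨x2, hx2, hn2⟩ := rvl_descend h1
      have hn2' : ruNorm x2 = 2 := by omega
      have hx2M : (rvlPi ^ 2) • x2 ∈ rvlM := by
        have : (rvlPi ^ 2) • x2 = x := by rw [hx1, hx2, smul_smul, pow_two]
        rw [this]
        exact hx
      have hw2 : rvlWt (rvlParV x2) ≤ 2 := by
        have := rvlWt_le_norm x2
        omega
      have h2 := rvl_small (k := 2) (by norm_num) hx2M hw2
      obtain ⟨x3, hx3, hn3⟩ := rvl_descend h2
      have hn3' : ruNorm x3 = 1 := by omega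
      have hx3M : (rvlPi ^ 3) • x3 ∈ rvlM := by
        have : (rvlPi ^ 3) • x3 = x := by
          rw [hx1, hx2, hx3, smul_smul, smul_smul]
          congr 1
        rw [this]
        exact hx
      have hw3 : rvlWt (rvlParV x3) ≤ 2 := by
        have := rvlWt_le_norm x3
        omega
      have h3 := rvl_small (k := 3) (by norm_num) hx3M hw3
      obtain ⟨x4, hx4, hn4⟩ := rvl_descend h3
      omega
    · rw [pow_one] at hx1M
      exact rvl_caseII_main hx1M hn1' a hsa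
  · exact rvl_caseI_main hx hn a d hd hsp

end Cfsg.Agent.Lib.Helper29
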