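import Mathlib
import Cfsg.Prelude.Def_Spor_Ru
import Cfsg.Agent.Lib.helper23.RULDefs
import Cfsg.Agent.Lib.Helper29.RvLMain
import Cfsg.Agent.Lib.Helper29.RvLFinal
import Cfsg.Agent.Lib.helper14.RuSpan

set_option autoImplicit false

/-!
# Project RU, row BRIDGE (helper29), part A: generic lemmas

Real scalar products of mask vectors (`rulDec`) modulo `4` by popcounts, **B1**
(`ru_four_single_mem`), the minimum norm, the dichotomy `4 u e_p` / small coordinates, the masks of a
vector with small coordinates, and **B2** relative to **B3** (`ru_bridge_of`).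
-/

namespace Cfsg.Agent.Lib.Helper29

open Cfsg.Spor Cfsg.Agent.Lib.helper23

/-- real-coordinate index of the real part of the Gaussian coordinate `p` -/
def rubK (p : RuIdx) : ℕ := 2 * (4 * p.1.val + p.2.val)

theorem rubK_lt (p : RuIdx) : rubK p + 1 < 56 := by
  have h1 := p.1.isLt
  have h2 := p.2.isLt
  unfold rubK
  omega

theorem rub_sum_idx (f : ℕ → ℤ) :
    ∑ p : RuIdx, (f (rubK p) + f (rubK p + 1)) = ∑ k ∈ Finset.range 56, f k := by
  rw [Fintype.sum_prod_type]
  simp only [Fin.sum_univ_succ, Fin.sum_univ_zero, rubK, Finset.sum_range_succ,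
    Finset.sum_range_zero, Fin.val_succ, Fin.val_zero]
  norm_num
  ring

theorem rub_herm_re (x y : RuVec) :
    (rvlHerm x y).re = ∑ p, ((x p).re * (y p).re + (x p).im * (y p).im) := by
  rw [rvlHerm]
  have : ∀ s : Finset RuIdx, (∑ p ∈ s, x p * star (y p)).re =
      ∑ p ∈ s, ((x p).re * (y p).re + (x p).im * (y p).im) := by
    intro s
    induction s using Finset.induction_on with
    | empty => simp
    | insert a s ha ih =>
      rw [Finset.sum_insert ha, Finset.sum_insert ha, Zsqrtd.re_add, ih]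
      simp [Zsqrtd.re_mul]
  exact this _

theorem rub_dec_re (c n z : ℕ) (p : RuIdx) : (rulDec c n z p).re = rulVal c n z (rubK p) := rfl

theorem rub_dec_im (c n z : ℕ) (p : RuIdx) : (rulDec c n z p).im = rulVal c n z (rubK p + 1) := rfl

/-- the real scalar product of two mask vectors -/
theorem rub_herm_dec (c n z c' n' z' : ℕ) :
    (rvlHerm (rulDec c n z) (rulDec c' n' z')).re =
      ∑ k ∈ Finset.range 56, rulVal c n z k * rulVal c' n' z' k := by
  rw [rub_herm_re, ← rub_sum_idx]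
  rfl

theorem rub_wt_cast (m : ℕ) :
    ((rulWt m : ℕ) : ℤ) = ∑ k ∈ Finset.range 56, (if m.testBit k then (1 : ℤ) else 0) := by
  unfold rulWt
  rw [Nat.cast_sum]
  refine Finset.sum_congr rfl fun k _ => ?_
  split <;> simp

/-- per-bit congruence for the product of two entries -/
theorem rub_bit (bc bn bz bs bh : Bool) :
    (4 : ℤ) ∣ ((if bn then -1 else 1) * ((if bc then 1 else 0) + (if bz then 2 else 0))) *
        ((if bh then -1 else 1) * ((if bs then 1 else 0) + (if false then 2 else 0))) -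
      ((if (bs && bc) then (1 : ℤ) else 0) + 2 * (if ((bs && bc) && (bn ^^ bh)) then (1 : ℤ) else 0)
        + 2 * (if (bs && bz) then (1 : ℤ) else 0)) := by
  cases bc <;> cases bn <;> cases bz <;> cases bs <;> cases bh <;> decide

/-- the real scalar product of a mask vector and a unit-type mask vector, modulo `4` -/
theorem rub_dot (c n z s h : ℕ) :
    (4 : ℤ) ∣ (∑ k ∈ Finset.range 56, rulVal c n z k * rulVal s h 0 k) -
      ((rulWt (s &&& c) + 2 * rulWt (s &&& c &&& (n ^^^ h)) + 2 * rulWt (s &&& z) : ℕ) : ℤ) := by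
  push_cast
  rw [rub_wt_cast, rub_wt_cast, rub_wt_cast, Finset.mul_sum, Finset.mul_sum,
    ← Finset.sum_add_distrib, ← Finset.sum_add_distrib, ← Finset.sum_sub_distrib]
  refine Finset.dvd_sum fun k _ => ?_
  have := rub_bit (c.testBit k) (n.testBit k) (z.testBit k) (s.testBit k) (h.testBit k)
  simp only [rulVal, Nat.testBit_and, Nat.testBit_xor, Nat.zero_testBit]
  exact this

theorem rub_herm_single (p : RuIdx) (a : GaussianInt) (y : RuVec) :
    rvlHerm (Pi.single p a) y = a * star (y p) := by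
  rw [rvlHerm, Finset.sum_eq_single p]
  · rw [Pi.single_eq_same]
  · intro q _ hq
    rw [Pi.single_eq_of_ne hq, zero_mul]
  · intro h
    exact absurd (Finset.mem_univ p) h

theorem rub_herm_single_right (p : RuIdx) (a : GaussianInt) (x : RuVec) :
    rvlHerm x (Pi.single p a) = x p * star a := by
  rw [rvlHerm, Finset.sum_eq_single p]
  · rw [Pi.single_eq_same]
  · intro q _ hq
    rw [Pi.single_eq_of_ne hq, star_zero, mul_zero]
  · intro h
    exact absurd (Finset.mem_univ p) h

/-- **B1**: the vectors `4 a e_p` lie in the lattice -/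
theorem ru_four_single_mem (p : RuIdx) (a : GaussianInt) : Pi.single p (4 * a) ∈ ruLattice := by
  rw [Cfsg.Agent.Lib.helper14.ru_mem_iff]
  intro t
  rw [rub_herm_single, mul_assoc]
  exact dvd_mul_right _ _

theorem ruNorm_single (p : RuIdx) (a : GaussianInt) : ruNorm (Pi.single p a) = a.norm := by
  rw [ruNorm, Finset.sum_eq_single p]
  · rw [Pi.single_eq_same]
  · intro q _ hq
    rw [Pi.single_eq_of_ne hq]
    rfl
  · intro h
    exact absurd (Finset.mem_univ p) h

/-- the minimum norm of the lattice -/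
theorem ru_min_norm {x : RuVec} (hx : x ∈ ruLattice) (h0 : x ≠ 0) : 16 ≤ ruNorm x := by
  have h1 := ruNorm_pos h0
  obtain ⟨k, hk⟩ := rvl_even hx
  have h8 : ruNorm x ≠ 8 := fun h8 => rvl_no_norm8 (rvl_lattice_le_M hx) h8
  omega

/-- a minimal vector is `4 u e_p` or its coordinate `p` has a small component in the direction `u` -/
theorem rub_dir {x : RuVec} (hx : x ∈ ruLattice) (hn : ruNorm x = 16) (p : RuIdx)
    (u : GaussianInt) (hu : u.norm = 1) :
    x = Pi.single p (4 * u) ∨ (x p * star u).re ≤ 2 := by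
  by_cases h0 : x + -(Pi.single p (4 * u)) = 0
  · left
    exact eq_neg_of_add_eq_zero_left h0 |>.trans (neg_neg _)
  · right
    have hy : x + -(Pi.single p (4 * u)) ∈ ruLattice :=
      ruLattice.add_mem hx (ruLattice.neg_mem (ru_four_single_mem p u))
    have h16 := ru_min_norm hy h0
    rw [ruNorm_add, ruNorm_neg, ruNorm_single, rvlHerm_neg_right, rub_herm_single_right, hn,
      Zsqrtd.norm_mul, hu] at h16
    have e4 : (4 : GaussianInt).norm = 16 := by decide
    have e5 : (-(x p * star (4 * u))).re = -(4 * (x p * star u).re) := by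
      have : star (4 * u : GaussianInt) = 4 * star u := by
        rw [star_mul']
        congr 1
      rw [this]
      have : x p * (4 * star u) = ((4 : ℤ) : GaussianInt) * (x p * star u) := by
        push_cast
        ring
      rw [Zsqrtd.re_neg, this, Zsqrtd.re_smul]
    rw [e4, e5] at h16
    omega

theorem rub_isUnit_gI : IsUnit gI :=
  IsUnit.of_mul_eq_one (-gI) (by rw [mul_neg, rvl_gI_mul_gI, neg_neg])

/-- **dichotomy**: a minimal vector is `4 u e_p` or all its real coordinates lie in `[-2, 2]` -/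
theorem rub_small {x : RuVec} (hx : x ∈ ruLattice) (hn : ruNorm x = 16) :
    (∃ p : RuIdx, ∃ u : GaussianInt, IsUnit u ∧ x = Pi.single p (4 * u)) ∨
      ∀ p : RuIdx, (-2 ≤ (x p).re ∧ (x p).re ≤ 2) ∧ (-2 ≤ (x p).im ∧ (x p).im ≤ 2) := by
  by_cases h : ∃ p : RuIdx, ∃ u : GaussianInt, IsUnit u ∧ x = Pi.single p (4 * u)
  · exact Or.inl h
  · right
    intro p
    have n1 : (1 : GaussianInt).norm = 1 := by decide
    have n2 : (-1 : GaussianInt).norm = 1 := by decide
    have n3 : gI.norm = 1 := rvl_norm_gI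
    have n4 : (-gI).norm = 1 := by rw [Zsqrtd.norm_neg]; exact rvl_norm_gI
    have h1 := (rub_dir hx hn p 1 n1).resolve_left
      (fun e => h ⟨p, 1, isUnit_one, e⟩)
    have h2 := (rub_dir hx hn p (-1) n2).resolve_left
      (fun e => h ⟨p, -1, isUnit_one.neg, e⟩)
    have h3 := (rub_dir hx hn p gI n3).resolve_left
      (fun e => h ⟨p, gI, rub_isUnit_gI, e⟩)
    have h4 := (rub_dir hx hn p (-gI) n4).resolve_left
      (fun e => h ⟨p, -gI, rub_isUnit_gI.neg, e⟩)
    simp only [star_one, mul_one, star_neg, mul_neg, Zsqrtd.re_neg, Zsqrtd.re_mul, gI,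
      Zsqrtd.re_star, Zsqrtd.im_star] at h1 h2 h3 h4
    refine ⟨⟨by omega, by omega⟩, ⟨by omega, by omega⟩⟩

theorem rub_idx (p : RuIdx) : rulIdx (4 * p.1.val + p.2.val) = p := by
  have h1 := p.1.isLt
  have h2 := p.2.isLt
  unfold rulIdx
  refine Prod.ext (Fin.ext ?_) (Fin.ext ?_)
  · simp only [Fin.ofNat_eq_cast, Fin.val_natCast]
    omega
  · simp only [Fin.ofNat_eq_cast, Fin.val_natCast]
    omega

theorem rub_coord_re (x : RuVec) (p : RuIdx) : rulCoord x (rubK p) = (x p).re := by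
  unfold rulCoord rubK
  rw [if_pos (by omega), Nat.mul_div_cancel_left _ (by norm_num), rub_idx]

theorem rub_coord_im (x : RuVec) (p : RuIdx) : rulCoord x (rubK p + 1) = (x p).im := by
  unfold rulCoord rubK
  rw [if_neg (by omega), show (2 * (4 * p.1.val + p.2.val) + 1) / 2 = 4 * p.1.val + p.2.val by omega,
    rub_idx]

theorem rub_coord_bound {x : RuVec}
    (h : ∀ p : RuIdx, (-2 ≤ (x p).re ∧ (x p).re ≤ 2) ∧ (-2 ≤ (x p).im ∧ (x p).im ≤ 2)) (k : ℕ) :
    -2 ≤ rulCoord x k ∧ rulCoord x k ≤ 2 := by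
  unfold rulCoord
  split
  · exact (h _).1
  · exact (h _).2

/-- mask of the odd positions -/
def rubC (x : RuVec) : ℕ := Nat.ofBits fun k : Fin 56 => decide (rulCoord x k % 2 = 1)

/-- mask of the positions with entry `±2` -/
def rubZ (x : RuVec) : ℕ :=
  Nat.ofBits fun k : Fin 56 => decide (rulCoord x k = 2 ∨ rulCoord x k = -2)

/-- mask of the negative positions -/
def rubN (x : RuVec) : ℕ := Nat.ofBits fun k : Fin 56 => decide (rulCoord x k < 0)

theorem rubC_lt (x : RuVec) : rubC x < 2 ^ 56 := Nat.ofBits_lt_two_pow _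
theorem rubZ_lt (x : RuVec) : rubZ x < 2 ^ 56 := Nat.ofBits_lt_two_pow _
theorem rubN_lt (x : RuVec) : rubN x < 2 ^ 56 := Nat.ofBits_lt_two_pow _

theorem rubC_bit (x : RuVec) (k : ℕ) :
    (rubC x).testBit k = decide (k < 56 ∧ rulCoord x k % 2 = 1) := by
  unfold rubC
  rw [Nat.testBit_ofBits]
  by_cases h : k < 56 <;> simp [h]

theorem rubZ_bit (x : RuVec) (k : ℕ) :
    (rubZ x).testBit k = decide (k < 56 ∧ (rulCoord x k = 2 ∨ rulCoord x k = -2)) := by
  unfold rubZ
  rw [Nat.testBit_ofBits]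
  by_cases h : k < 56 <;> simp [h]

theorem rubN_bit (x : RuVec) (k : ℕ) :
    (rubN x).testBit k = decide (k < 56 ∧ rulCoord x k < 0) := by
  unfold rubN
  rw [Nat.testBit_ofBits]
  by_cases h : k < 56 <;> simp [h]

/-- the masks reproduce the coordinates -/
theorem rub_val {x : RuVec} {k : ℕ} (hk : k < 56)
    (hb : -2 ≤ rulCoord x k ∧ rulCoord x k ≤ 2) :
    rulVal (rubC x) (rubN x) (rubZ x) k = rulCoord x k := by
  unfold rulVal
  rw [rubC_bit, rubZ_bit, rubN_bit]
  obtain ⟨h1, h2⟩ := hb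
  generalize rulCoord x k = v at h1 h2
  interval_cases v <;> simp [hk]

theorem rub_dec {x : RuVec}
    (h : ∀ p : RuIdx, (-2 ≤ (x p).re ∧ (x p).re ≤ 2) ∧ (-2 ≤ (x p).im ∧ (x p).im ≤ 2)) :
    x = rulDec (rubC x) (rubN x) (rubZ x) := by
  funext p
  have hp := rubK_lt p
  refine Zsqrtd.ext ?_ ?_
  · rw [rub_dec_re, rub_val (by omega) (rub_coord_bound h _), rub_coord_re]
  · rw [rub_dec_im, rub_val (by omega) (rub_coord_bound h _), rub_coord_im]

theorem rub_cz (x : RuVec) : rubC x &&& rubZ x = 0 := by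
  apply Nat.eq_of_testBit_eq
  intro k
  rw [Nat.testBit_and, rubC_bit, rubZ_bit, Nat.zero_testBit]
  by_cases h1 : rulCoord x k % 2 = 1
  · have : ¬ (rulCoord x k = 2 ∨ rulCoord x k = -2) := by omega
    simp [this]
  · simp [h1]

theorem rub_ncz {x : RuVec}
    (h : ∀ p : RuIdx, (-2 ≤ (x p).re ∧ (x p).re ≤ 2) ∧ (-2 ≤ (x p).im ∧ (x p).im ≤ 2)) :
    rubN x &&& (rubC x ||| rubZ x) = rubN x := by
  apply Nat.eq_of_testBit_eq
  intro k
  rw [Nat.testBit_and, Nat.testBit_or, rubC_bit, rubZ_bit, rubN_bit]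
  obtain ⟨h1, h2⟩ := rub_coord_bound h k
  generalize rulCoord x k = v at h1 h2
  by_cases hk : k < 56
  · interval_cases v <;> simp [hk]
  · simp [hk]

theorem rub_norm_eq (x : RuVec) :
    ruNorm x = ∑ k ∈ Finset.range 56, rulCoord x k * rulCoord x k := by
  rw [← rub_sum_idx, ruNorm]
  refine Finset.sum_congr rfl fun p _ => ?_
  rw [rub_coord_re, rub_coord_im, rvl_norm_eq]

theorem rub_wt {x : RuVec}
    (h : ∀ p : RuIdx, (-2 ≤ (x p).re ∧ (x p).re ≤ 2) ∧ (-2 ≤ (x p).im ∧ (x p).im ≤ 2)) :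
    ((rulWt (rubC x) + 4 * rulWt (rubZ x) : ℕ) : ℤ) = ruNorm x := by
  push_cast
  rw [rub_norm_eq, rub_wt_cast, rub_wt_cast, Finset.mul_sum, ← Finset.sum_add_distrib]
  refine Finset.sum_congr rfl fun k hk => ?_
  have hk' : k < 56 := Finset.mem_range.mp hk
  rw [rubC_bit, rubZ_bit]
  obtain ⟨h1, h2⟩ := rub_coord_bound h k
  generalize rulCoord x k = v at h1 h2
  interval_cases v <;> simp [hk']

/-- **B2** (relative to B3): a minimal vector is `4 u e_p` or a mask vector satisfying the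
integrality conditions -/
theorem ru_bridge_of (hB3 : ∀ i < 16128, rulVec i ∈ ruLattice) {x : RuVec} (hx : x ∈ ruLattice)
    (hn : ruNorm x = 16) :
    (∃ p : RuIdx, ∃ u : GaussianInt, IsUnit u ∧ x = Pi.single p (4 * u)) ∨
      ∃ c n z : ℕ, c < 2 ^ 56 ∧ n < 2 ^ 56 ∧ z < 2 ^ 56 ∧ c &&& z = 0 ∧ n &&& (c ||| z) = n ∧
        rulWt c + 4 * rulWt z = 16 ∧ x = rulDec c n z ∧ rulSat c n z := by
  rcases rub_small hx hn with h | h
  · exact Or.inl h
  · right
    refine ⟨rubC x, rubN x, rubZ x, rubC_lt x, rubN_lt x, rubZ_lt x, rub_cz x, rub_ncz h, ?_,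
      rub_dec h, ?_⟩
    · have := rub_wt h
      rw [hn] at this
      exact_mod_cast this
    · intro i hi
      have h4 := rvl_bil hx (hB3 i hi)
      rw [rvl_four_dvd_iff] at h4
      have h5 := h4.1
      rw [rub_dec h] at h5
      unfold rulVec at h5
      rw [rub_herm_dec] at h5
      have h6 := rub_dot (rubC x) (rubN x) (rubZ x) (rulS i) (rulN i)
      have h7 := (Int.dvd_iff_dvd_of_dvd_sub h6).1 h5
      have h8 : 4 ∣ (rulWt (rulS i &&& rubC x) + 2 * rulWt (rulS i &&& rubC x &&& (rubN x ^^^ rulN i))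
          + 2 * rulWt (rulS i &&& rubZ x)) := by exact_mod_cast h7
      exact Nat.mod_eq_zero_of_dvd h8

end Cfsg.Agent.Lib.Helper29
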