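import Mathlib
import Cfsg.Prelude.Def_KGroupFacts
import Cfsg.Prelude.Def_Spor_Ru
import Cfsg.Agent.Lib.Helper29.RvLMain
import Cfsg.Agent.Lib.Helper29.RUBridgeA
import Cfsg.Agent.Lib.Helper16.RU.Act

set_option autoImplicit false

/-!
# Project RU, row MULT-COVER: the lower half of the Schur multiplier of `Ru`

* abstract: for a finite group `G` with `G ⧸ Z(G)` simple of non-prime order, the commutator subgroup of
  `G` is a stem extension of `G ⧸ Z(G)` (`ruc_stem`);
* concrete: `Rj`, `Rk` as elements of `fourRu` with commutator `-1 = ruScal ^ 2`;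
* `ru_schur_of_upper`: `HasCyclicSchurMultiplier Ru 2` from the finiteness of `fourRu`, the simplicity of
  `Ru` and the upper bound `2` for the kernels of the finite stem extensions of `Ru`.
-/

namespace Cfsg.Agent.Lib.Helper29

open Subgroup
open scoped commutatorElement

universe u

section abstract

variable {G : Type u} [Group G]

/-- the restriction of the quotient map `G → G ⧸ Z(G)` to the commutator subgroup -/
def rucSigma (G : Type u) [Group G] : (commutator G) →* G ⧸ center G :=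
  (QuotientGroup.mk' (center G)).comp (commutator G).subtype

theorem rucSigma_apply (x : commutator G) : rucSigma G x = QuotientGroup.mk (x : G) := rfl

/-- a simple group of non-prime order is perfect -/
theorem ruc_commutator_top {Q : Type*} [Group Q] [IsSimpleGroup Q] (hnp : ¬ (Nat.card Q).Prime) :
    commutator Q = ⊤ := by
  rcases (inferInstance : (commutator Q).Normal).eq_bot_or_eq_top with h | h
  · exfalso
    apply hnp
    have hcomm : ∀ a b : Q, a * b = b * a := by
      intro a b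
      have h1 : ⁅a, b⁆ ∈ commutator Q := Subgroup.commutator_mem_commutator (mem_top a) (mem_top b)
      rw [h, Subgroup.mem_bot, commutatorElement_eq_one_iff_mul_comm] at h1
      exact h1
    let _ : CommGroup Q := { (inferInstance : Group Q) with mul_comm := hcomm }
    exact IsSimpleGroup.prime_card
  · exact h

theorem rucSigma_surjective [IsSimpleGroup (G ⧸ center G)]
    (hnp : ¬ (Nat.card (G ⧸ center G)).Prime) : Function.Surjective (rucSigma G) := by
  have h1 : (commutator G).map (QuotientGroup.mk' (center G)) = commutator (G ⧸ center G) := by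
    rw [commutator_def, Subgroup.map_commutator, ← MonoidHom.range_eq_map,
      MonoidHom.range_eq_top.2 (QuotientGroup.mk'_surjective _), commutator_def]
  intro q
  have hq : q ∈ (commutator G).map (QuotientGroup.mk' (center G)) := by
    rw [h1, ruc_commutator_top hnp]
    exact mem_top q
  obtain ⟨x, hx, rfl⟩ := hq
  exact ⟨⟨x, hx⟩, rfl⟩

theorem rucSigma_ker (x : commutator G) : x ∈ (rucSigma G).ker ↔ (x : G) ∈ center G := by
  rw [MonoidHom.mem_ker, rucSigma_apply, QuotientGroup.eq_one_iff]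

/-- `G = Γ Z` -/
theorem ruc_decomp [IsSimpleGroup (G ⧸ center G)] (hnp : ¬ (Nat.card (G ⧸ center G)).Prime)
    (g : G) : ∃ a : commutator G, ∃ z ∈ center G, g = (a : G) * z := by
  obtain ⟨a, ha⟩ := rucSigma_surjective hnp (QuotientGroup.mk g)
  rw [rucSigma_apply] at ha
  refine ⟨a, (a : G)⁻¹ * g, ?_, by group⟩
  exact QuotientGroup.eq.mp ha

/-- the commutator subgroup is perfect -/
theorem ruc_perfect [IsSimpleGroup (G ⧸ center G)] (hnp : ¬ (Nat.card (G ⧸ center G)).Prime) :
    commutator (commutator G) = ⊤ := by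
  rw [eq_top_iff]
  -- the image of `commutator Γ` in `G` contains all commutators of `G`
  have key0 : ∀ g h : G, ⁅g, h⁆ ∈ (commutator (commutator G)).map (commutator G).subtype := by
    intro g h
    obtain ⟨a, z, hz, rfl⟩ := ruc_decomp hnp g
    obtain ⟨b, w, hw, rfl⟩ := ruc_decomp hnp h
    have hz' := Subgroup.mem_center_iff.mp hz
    have hw' := Subgroup.mem_center_iff.mp hw
    have e : ⁅(a : G) * z, (b : G) * w⁆ = ⁅(a : G), (b : G)⁆ := by
      simp only [commutatorElement_def, mul_inv_rev]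
      have hz1 : z * ((b : G) * w) = (b : G) * w * z := (hz' _).symm
      have hw1 : w * (a : G)⁻¹ = (a : G)⁻¹ * w := (hw' _).symm
      calc (a : G) * z * ((b : G) * w) * (z⁻¹ * (a : G)⁻¹) * (w⁻¹ * (b : G)⁻¹)
          = (a : G) * (z * ((b : G) * w)) * z⁻¹ * (a : G)⁻¹ * w⁻¹ * (b : G)⁻¹ := by group
        _ = (a : G) * ((b : G) * w * z) * z⁻¹ * (a : G)⁻¹ * w⁻¹ * (b : G)⁻¹ := by rw [hz1]
        _ = (a : G) * (b : G) * (w * (a : G)⁻¹) * w⁻¹ * (b : G)⁻¹ := by group
        _ = (a : G) * (b : G) * ((a : G)⁻¹ * w) * w⁻¹ * (b : G)⁻¹ := by rw [hw1]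
        _ = (a : G) * (b : G) * (a : G)⁻¹ * (b : G)⁻¹ := by group
    rw [e]
    refine ⟨⁅a, b⁆, Subgroup.commutator_mem_commutator (mem_top a) (mem_top b), ?_⟩
    simp [commutatorElement_def]
  have key : commutator G ≤ (commutator (commutator G)).map (commutator G).subtype := by
    have := (Subgroup.commutator_le (H₁ := (⊤ : Subgroup G)) (H₂ := ⊤)
      (H₃ := (commutator (commutator G)).map (commutator G).subtype)).2 (fun g _ h _ => key0 g h)
    rwa [← commutator_def] at this
  intro x _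
  obtain ⟨y, hy, hxy⟩ := key x.2
  have : y = x := Subtype.ext hxy
  rw [← this]
  exact hy


/-- the commutator subgroup of `G` is a stem extension of `G ⧸ Z(G)` -/
theorem ruc_stem [IsSimpleGroup (G ⧸ center G)] (hnp : ¬ (Nat.card (G ⧸ center G)).Prime) :
    Cfsg.IsStemExtension (rucSigma G) := by
  refine ⟨rucSigma_surjective hnp, ?_, ?_⟩
  · intro x hx
    rw [rucSigma_ker] at hx
    rw [Subgroup.mem_center_iff]
    intro y
    exact Subtype.ext (Subgroup.mem_center_iff.mp hx y)
  · rw [ruc_perfect hnp]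
    exact le_top

theorem ruc_card_two : Nat.card (Multiplicative (ZMod 2)) = 2 := by
  rw [Nat.card_eq_fintype_card]
  rfl

/-- a group with at most two elements is a quotient of `ZMod 2` -/
theorem ruc_quot_two {K : Type*} [Group K] [Finite K] (h : Nat.card K ≤ 2) :
    ∃ π : Multiplicative (ZMod 2) →* K, Function.Surjective π := by
  have hpos : 0 < Nat.card K := Nat.card_pos
  have h12 : Nat.card K = 1 ∨ Nat.card K = 2 := by omega
  rcases h12 with h1 | h2
  · have : Subsingleton K := (Nat.card_eq_one_iff_unique.mp h1).1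
    exact ⟨1, fun y => ⟨1, Subsingleton.elim _ _⟩⟩
  · have : Fact (Nat.Prime 2) := ⟨Nat.prime_two⟩
    let e : Multiplicative (ZMod 2) ≃* K := mulEquivOfPrimeCardEq ruc_card_two h2
    exact ⟨e.toMonoidHom, e.surjective⟩

/-- the kernel is of order two if it contains a non-trivial element and has at most two elements -/
theorem ruc_ker_equiv [Finite G] (z : G) (hz1 : z ∈ commutator G) (hz2 : z ∈ center G) (hz3 : z ≠ 1)
    (hcard : Nat.card (rucSigma G).ker ≤ 2) :
    Nonempty ((rucSigma G).ker ≃* Multiplicative (ZMod 2)) := by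
  have hz : (⟨z, hz1⟩ : commutator G) ∈ (rucSigma G).ker := (rucSigma_ker _).2 hz2
  have h2 : Nat.card (rucSigma G).ker = 2 := by
    have h1 : 1 < Nat.card (rucSigma G).ker := by
      rw [Finite.one_lt_card_iff_nontrivial]
      refine ⟨⟨⟨⟨z, hz1⟩, hz⟩, 1, ?_⟩⟩
      intro h
      apply hz3
      have := congrArg (fun x : (rucSigma G).ker => ((x : commutator G) : G)) h
      exact this
    omega
  have : Fact (Nat.Prime 2) := ⟨Nat.prime_two⟩
  exact ⟨mulEquivOfPrimeCardEq h2 ruc_card_two⟩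

end abstract

/-! ### the elements `Rj`, `Rk` of `fourRu` -/

open Cfsg.Spor Cfsg.Agent.Lib.Helper16.RU

theorem ruc_Rj_Rj (v : RuVec) : ruRj (ruRj v) = -v := by
  funext p
  obtain ⟨n, t⟩ := p
  fin_cases t <;> simp [ruRj, ← mul_assoc, rvl_gI_mul_gI]

theorem ruc_Rk_Rk (v : RuVec) : ruRk (ruRk v) = -v := by
  funext p
  obtain ⟨n, t⟩ := p
  fin_cases t <;> simp [ruRk, ← mul_assoc, rvl_gI_mul_gI]

theorem ruc_Rj_add (v w : RuVec) : ruRj (v + w) = ruRj v + ruRj w := by
  funext p
  obtain ⟨n, t⟩ := p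
  fin_cases t <;> simp [ruRj, mul_add, add_comm]

theorem ruc_Rk_add (v w : RuVec) : ruRk (v + w) = ruRk v + ruRk w := by
  funext p
  obtain ⟨n, t⟩ := p
  fin_cases t <;> simp [ruRk, mul_add, add_comm]

theorem ruc_Rj_neg (v : RuVec) : ruRj (-v) = -ruRj v := by
  funext p
  obtain ⟨n, t⟩ := p
  fin_cases t <;> simp [ruRj]

theorem ruc_Rk_neg (v : RuVec) : ruRk (-v) = -ruRk v := by
  funext p
  obtain ⟨n, t⟩ := p
  fin_cases t <;> simp [ruRk]

theorem ruc_Rj_gI (v : RuVec) : ruRj (gI • v) = gI • ruRj v := by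
  funext p
  obtain ⟨n, t⟩ := p
  fin_cases t <;> simp [ruRj]

theorem ruc_Rk_gI (v : RuVec) : ruRk (gI • v) = gI • ruRk v := by
  funext p
  obtain ⟨n, t⟩ := p
  fin_cases t <;> simp [ruRk]

/-- `Rj` and `Rk` anticommute -/
theorem ruc_Rj_Rk (v : RuVec) : ruRj (ruRk v) = -ruRk (ruRj v) := by
  funext p
  obtain ⟨n, t⟩ := p
  fin_cases t <;> simp [ruRj, ruRk, ← mul_assoc, rvl_gI_mul_gI]

/-- `Rj` as a permutation of the lattice -/
def ruPermRj : Equiv.Perm ruLattice where
  toFun v := ⟨ruRj v, rvl_Rj_mem v.2⟩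
  invFun v := ⟨-ruRj v, ruLattice.neg_mem (rvl_Rj_mem v.2)⟩
  left_inv v := Subtype.ext (by
    show -ruRj (ruRj (v : RuVec)) = v
    rw [ruc_Rj_Rj, neg_neg])
  right_inv v := Subtype.ext (by
    show ruRj (-ruRj (v : RuVec)) = v
    rw [ruc_Rj_neg, ruc_Rj_Rj, neg_neg])

/-- `Rk` as a permutation of the lattice -/
def ruPermRk : Equiv.Perm ruLattice where
  toFun v := ⟨ruRk v, rvl_Rk_mem v.2⟩
  invFun v := ⟨-ruRk v, ruLattice.neg_mem (rvl_Rk_mem v.2)⟩
  left_inv v := Subtype.ext (by
    show -ruRk (ruRk (v : RuVec)) = v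
    rw [ruc_Rk_Rk, neg_neg])
  right_inv v := Subtype.ext (by
    show ruRk (-ruRk (v : RuVec)) = v
    rw [ruc_Rk_neg, ruc_Rk_Rk, neg_neg])

theorem ruPermRj_mem : ruPermRj ∈ fourRu :=
  ⟨fun v w => Subtype.ext (ruc_Rj_add v w), fun v => Subtype.ext (ruc_Rj_gI v),
    fun v => ruNorm_Rj v⟩

theorem ruPermRk_mem : ruPermRk ∈ fourRu :=
  ⟨fun v w => Subtype.ext (ruc_Rk_add v w), fun v => Subtype.ext (ruc_Rk_gI v),
    fun v => ruNorm_Rk v⟩

/-- `Rj` as an element of `fourRu` -/
def ruAutRj : fourRu := ⟨ruPermRj, ruPermRj_mem⟩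

/-- `Rk` as an element of `fourRu` -/
def ruAutRk : fourRu := ⟨ruPermRk, ruPermRk_mem⟩

theorem ruAutRj_apply (v : ruLattice) : ((ruAutRj.1 v : ruLattice) : RuVec) = ruRj v := rfl

theorem ruAutRk_apply (v : ruLattice) : ((ruAutRk.1 v : ruLattice) : RuVec) = ruRk v := rfl

/-- the commutator of `Rj` and `Rk` is `-1` -/
theorem ruc_comm : ⁅ruAutRj, ruAutRk⁆ = ruScal ^ 2 := by
  have h : ruAutRj * ruAutRk = ruScal ^ 2 * (ruAutRk * ruAutRj) := by
    apply Subtype.ext
    apply Equiv.ext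
    intro v
    apply Subtype.ext
    show ruRj (ruRk (v : RuVec)) = (((ruScal ^ 2).1 ((ruAutRk * ruAutRj).1 v) : ruLattice) : RuVec)
    rw [ruScal_pow_apply]
    show ruRj (ruRk (v : RuVec)) = gI ^ 2 • ruRk (ruRj (v : RuVec))
    rw [ruc_Rj_Rk, pow_two, rvl_gI_mul_gI, neg_one_smul]
  rw [commutatorElement_def]
  calc ruAutRj * ruAutRk * ruAutRj⁻¹ * ruAutRk⁻¹
      = (ruAutRj * ruAutRk) * (ruAutRk * ruAutRj)⁻¹ := by group
    _ = ruScal ^ 2 := by rw [h]; group

theorem ruScal_sq_ne_one : ruScal ^ 2 ≠ 1 := by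
  intro h
  have h1 := congrArg (fun f : fourRu => ((f.1 ⟨Pi.single (0, 0) (4 * 1), ru_four_single_mem _ _⟩ :
    ruLattice) : RuVec) (0, 0)) h
  simp only [ruScal_pow_apply] at h1
  have h2 : (gI ^ 2 • (Pi.single ((0 : Fin 7), (0 : Fin 4)) (4 * 1 : GaussianInt) : RuVec)) (0, 0)
      = (Pi.single ((0 : Fin 7), (0 : Fin 4)) (4 * 1 : GaussianInt) : RuVec) (0, 0) := h1
  rw [Pi.smul_apply, Pi.single_eq_same] at h2
  revert h2
  decide

theorem ruScal_sq_central : ruScal ^ 2 ∈ Subgroup.center fourRu := by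
  rw [Subgroup.mem_center_iff]
  intro f
  rw [pow_two, ← mul_assoc, ← ruScal_central f, mul_assoc, ← ruScal_central f, mul_assoc]

/-- **MULT-COVER**: the Schur multiplier of `Ru` is cyclic of order two, given the finiteness of `fourRu`,
the simplicity of `Ru` and the upper bound for the kernels of finite stem extensions -/
theorem ru_schur_of_upper [Finite fourRu] [IsSimpleGroup Ru] (hnp : ¬ (Nat.card Ru).Prime)
    (hup : ∀ (Γ : Type) [Group Γ] [Finite Γ] (σ : Γ →* Ru), Cfsg.IsStemExtension σ →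
      Nat.card σ.ker ≤ 2) :
    Cfsg.HasCyclicSchurMultiplier Ru 2 := by
  have hstem : Cfsg.IsStemExtension (rucSigma fourRu) := ruc_stem hnp
  refine ⟨⟨commutator fourRu, inferInstance, inferInstance, rucSigma fourRu, hstem, ?_⟩, ?_⟩
  · refine ruc_ker_equiv (ruScal ^ 2) ?_ ruScal_sq_central ruScal_sq_ne_one
      (hup _ (rucSigma fourRu) hstem)
    rw [← ruc_comm]
    exact Subgroup.commutator_mem_commutator (mem_top _) (mem_top _)
  · intro Γ _ _ σ hσ
    exact ruc_quot_two (hup Γ σ hσ)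

end Cfsg.Agent.Lib.Helper29
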