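import Cfsg.Agent.Lib.Helper29.RUBridgeA
import Cfsg.Agent.Lib.Helper29.RULinesDefs

set_option autoImplicit false

/-!
# Project RU, row LINES, part A: generic lemmas

Multiplication by `i` on mask vectors (`rub_gI_dec`, `rub_gI_pow`), injectivity of `rulDec` on normalised
masks, coordinates of mask vectors are small, frame vectors.
-/

namespace Cfsg.Agent.Lib.Helper29

open Cfsg.Spor Cfsg.Agent.Lib.helper23

/-- the even positions among the first 56 -/
def rubEv : ℕ := 24019198012642645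

/-- swap the two bits of each of the 28 pairs -/
def rubSw (m : ℕ) : ℕ :=
  Nat.lor (Nat.shiftLeft (Nat.land m rubEv) 1) (Nat.land (Nat.shiftRight m 1) rubEv)

theorem rubEv_bit : ∀ k < 56, rubEv.testBit k = decide (k % 2 = 0) := by decide

theorem rubSw_even (m : ℕ) {q : ℕ} (hq : q < 28) : (rubSw m).testBit (2 * q) = m.testBit (2 * q + 1) := by
  unfold rubSw
  show ((m &&& rubEv) <<< 1 ||| (m >>> 1 &&& rubEv)).testBit (2 * q) = _
  rw [Nat.testBit_or, Nat.testBit_shiftLeft, Nat.testBit_and, Nat.testBit_and, Nat.testBit_shiftRight,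
    rubEv_bit (2 * q) (by omega)]
  have h1 : (2 * q) % 2 = 0 := by omega
  rw [add_comm 1 (2 * q)]
  by_cases h0 : 1 ≤ 2 * q
  · have h2 : rubEv.testBit (2 * q - 1) = false := by
      rw [rubEv_bit _ (by omega)]
      have : (2 * q - 1) % 2 ≠ 0 := by omega
      simp [this]
    simp [h1, h2]
  · simp [h0, h1]

theorem rubSw_odd (m : ℕ) {q : ℕ} (hq : q < 28) : (rubSw m).testBit (2 * q + 1) = m.testBit (2 * q) := by
  unfold rubSw
  show ((m &&& rubEv) <<< 1 ||| (m >>> 1 &&& rubEv)).testBit (2 * q + 1) = _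
  rw [Nat.testBit_or, Nat.testBit_shiftLeft, Nat.testBit_and, Nat.testBit_and, Nat.testBit_shiftRight,
    rubEv_bit (2 * q + 1) (by omega)]
  have h1 : (2 * q + 1) % 2 ≠ 0 := by omega
  have h2 : rubEv.testBit (2 * q) = true := by
    rw [rubEv_bit _ (by omega)]
    have : (2 * q) % 2 = 0 := by omega
    simp [this]
  have h3 : 2 * q + 1 - 1 = 2 * q := by omega
  rw [h3, h2]
  simp

/-- multiplication by `i` on mask vectors -/
theorem rub_gI_dec (c n z : ℕ) :
    gI • rulDec c n z =
      rulDec (rubSw c) (Nat.xor (rubSw n) (Nat.land (rubSw (Nat.lor c z)) rubEv)) (rubSw z) := by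
  funext p
  have hq : 4 * p.1.val + p.2.val < 28 := by
    have h1 := p.1.isLt
    have h2 := p.2.isLt
    omega
  have hk : rubK p = 2 * (4 * p.1.val + p.2.val) := rfl
  have e1 : rubEv.testBit (rubK p) = true := by
    rw [rubEv_bit _ (by rw [hk]; omega)]
    have : rubK p % 2 = 0 := by rw [hk]; omega
    simp [this]
  have e2 : rubEv.testBit (rubK p + 1) = false := by
    rw [rubEv_bit _ (by rw [hk]; omega)]
    have : (rubK p + 1) % 2 ≠ 0 := by rw [hk]; omega
    simp [this]
  have hm : ∀ w : GaussianInt, gI * w = ⟨-w.im, w.re⟩ := by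
    intro w
    refine Zsqrtd.ext ?_ ?_ <;> simp [gI]
  show gI * rulDec c n z p = _
  rw [hm]
  refine Zsqrtd.ext ?_ ?_
  · rw [rub_dec_re, rub_dec_im]
    show -rulVal c n z (rubK p + 1) = _
    unfold rulVal
    show _ = (if (rubSw n ^^^ (rubSw (c ||| z) &&& rubEv)).testBit (rubK p) then (-1 : ℤ) else 1) * _
    rw [Nat.testBit_xor, Nat.testBit_and, e1, hk, rubSw_even _ hq, rubSw_even _ hq, rubSw_even _ hq,
      rubSw_even _ hq, Nat.testBit_or]
    cases n.testBit (2 * (4 * p.1.val + p.2.val) + 1) <;>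
      cases c.testBit (2 * (4 * p.1.val + p.2.val) + 1) <;>
      cases z.testBit (2 * (4 * p.1.val + p.2.val) + 1) <;> simp
  · rw [rub_dec_re, rub_dec_im]
    show rulVal c n z (rubK p) = _
    unfold rulVal
    show _ = (if (rubSw n ^^^ (rubSw (c ||| z) &&& rubEv)).testBit (rubK p + 1) then (-1 : ℤ) else 1) * _
    rw [Nat.testBit_xor, Nat.testBit_and, e2, hk]
    simp only [rubSw_odd _ hq]
    simp

theorem rubSw_zero : rubSw 0 = 0 := by decide

/-- multiplication by `i` on the masks `(s, n)` of a unit-type vector -/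
def rubGI (a : ℕ × ℕ) : ℕ × ℕ :=
  (rubSw a.1, Nat.xor (rubSw a.2) (Nat.land (rubSw a.1) rubEv))

/-- multiplication by `i ^ k` on the masks of a unit-type vector -/
def rubGIp : ℕ → ℕ × ℕ → ℕ × ℕ
  | 0, a => a
  | k + 1, a => rubGI (rubGIp k a)

theorem rub_gI_unit (a : ℕ × ℕ) : gI • rulDec a.1 a.2 0 = rulDec (rubGI a).1 (rubGI a).2 0 := by
  rw [rub_gI_dec]
  have e : Nat.lor a.1 0 = a.1 := Nat.or_zero a.1
  rw [e, rubSw_zero]
  rfl

theorem rub_gI_pow (k : ℕ) (a : ℕ × ℕ) :
    gI ^ k • rulDec a.1 a.2 0 = rulDec (rubGIp k a).1 (rubGIp k a).2 0 := by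
  induction k with
  | zero => rw [pow_zero, one_smul]; rfl
  | succ k ih =>
    rw [pow_succ', mul_smul, ih, rub_gI_unit]
    rfl

theorem rub_gI_pow_four : gI ^ 4 = 1 := by
  have h2 : gI ^ 2 = -1 := by rw [pow_two, rvl_gI_mul_gI]
  have : gI ^ 4 = (gI ^ 2) ^ 2 := by rw [← pow_mul]
  rw [this, h2]
  norm_num

theorem rub_gI_pow_mod (k : ℕ) : gI ^ k = gI ^ (k % 4) := by
  conv_lhs => rw [← Nat.div_add_mod k 4]
  rw [pow_add, pow_mul, rub_gI_pow_four, one_pow, one_mul]

/-- the index of the real part of the coordinate `rulIdx q` -/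
theorem rubK_idx {q : ℕ} (hq : q < 28) : rubK (rulIdx q) = 2 * q := by
  unfold rubK rulIdx
  simp only [Fin.ofNat_eq_cast, Fin.val_natCast]
  omega

/-- real coordinates of a mask vector -/
theorem rub_coord_dec (c n z : ℕ) {k : ℕ} (hk : k < 56) :
    rulCoord (rulDec c n z) k = rulVal c n z k := by
  have hq : k / 2 < 28 := by omega
  unfold rulCoord
  split
  · rw [rub_dec_re, rubK_idx hq]
    congr 1
    omega
  · rw [rub_dec_im, rubK_idx hq]
    congr 1
    omega

/-- `rulDec` is injective on normalised masks -/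
theorem rub_dec_inj {c n c' n' : ℕ} (hc : c < 2 ^ 56) (hc' : c' < 2 ^ 56) (hn : n &&& c = n)
    (hn' : n' &&& c' = n') (h : rulDec c n 0 = rulDec c' n' 0) : c = c' ∧ n = n' := by
  have hnl : n < 2 ^ 56 := lt_of_le_of_lt (hn ▸ Nat.and_le_right) hc
  have hnl' : n' < 2 ^ 56 := lt_of_le_of_lt (hn' ▸ Nat.and_le_right) hc'
  have hv : ∀ k < 56, rulVal c n 0 k = rulVal c' n' 0 k := by
    intro k hk
    rw [← rub_coord_dec c n 0 hk, ← rub_coord_dec c' n' 0 hk, h]
  have hsub : ∀ k, n.testBit k = true → c.testBit k = true := by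
    intro k hk
    rw [← hn, Nat.testBit_and] at hk
    exact (Bool.and_eq_true _ _ ▸ hk).2
  have hsub' : ∀ k, n'.testBit k = true → c'.testBit k = true := by
    intro k hk
    rw [← hn', Nat.testBit_and] at hk
    exact (Bool.and_eq_true _ _ ▸ hk).2
  have hbig : ∀ {m : ℕ}, m < 2 ^ 56 → ∀ k, 56 ≤ k → m.testBit k = false := by
    intro m hm k hk
    exact Nat.testBit_lt_two_pow (lt_of_lt_of_le hm (Nat.pow_le_pow_right (by norm_num) hk))
  have key : ∀ k, c.testBit k = c'.testBit k ∧ n.testBit k = n'.testBit k := by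
    intro k
    by_cases hk : k < 56
    · have h1 := hv k hk
      have h2 := hsub k
      have h3 := hsub' k
      unfold rulVal at h1
      rw [Nat.zero_testBit] at h1
      revert h1 h2 h3
      cases n.testBit k <;> cases c.testBit k <;> cases n'.testBit k <;> cases c'.testBit k <;> simp
    · have hk' : 56 ≤ k := by omega
      rw [hbig hc k hk', hbig hc' k hk', hbig hnl k hk', hbig hnl' k hk']
      exact ⟨rfl, rfl⟩
  exact ⟨Nat.eq_of_testBit_eq fun k => (key k).1, Nat.eq_of_testBit_eq fun k => (key k).2⟩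

/-- the coordinates of a unit-type mask vector have norm at most `2` -/
theorem rub_dec_norm_le (c n : ℕ) (p : RuIdx) : (rulDec c n 0 p).norm ≤ 2 := by
  have hv : ∀ k, rulVal c n 0 k * rulVal c n 0 k ≤ 1 := by
    intro k
    unfold rulVal
    rw [Nat.zero_testBit]
    cases n.testBit k <;> cases c.testBit k <;> simp
  rw [rvl_norm_eq, rub_dec_re, rub_dec_im]
  have := hv (rubK p)
  have := hv (rubK p + 1)
  omega

/-- consecutive strict inequalities give strict monotonicity -/
theorem rub_mono (f : ℕ → ℕ) (N : ℕ) (h : ∀ i, i + 1 < N → f i < f (i + 1)) :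
    ∀ i j, i < j → j < N → f i < f j := by
  intro i j hij
  induction j with
  | zero => omega
  | succ j ih =>
    intro hj
    rcases Nat.lt_succ_iff_lt_or_eq.mp hij with h1 | h1
    · exact lt_trans (ih h1 (by omega)) (h j hj)
    · rw [h1]
      exact h j hj

end Cfsg.Agent.Lib.Helper29
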