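import Cfsg.Agent.Lib.Helper29.RUAutU
import Cfsg.Agent.Lib.Helper29.RULines
import Cfsg.Agent.Lib.helper23.RULWords

set_option autoImplicit false

/-!
# Project RU, row GENS: the line map of the element `ruAutU`
-/

namespace Cfsg.Agent.Lib.Helper29

open Cfsg.Spor Cfsg.Agent.Lib.helper23 Cfsg.Agent.Lib.Helper16.RU

/-- `ruAutU` maps the line `j` to the line `rulGenF 4 j` -/
theorem ru_maps_U (j : Fin 4060) : ru_lines.Maps ruAutU j (rulGenFin ⟨4, by norm_num⟩ j) := by
  obtain ⟨k, hk⟩ := ru_gens_U j.2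
  refine ⟨k, ?_⟩
  funext p
  have h1 := ruAutU_spec (ru_lines.pt j) p
  rw [RuLines.pt_coe, hk p] at h1
  exact mul_left_cancel₀ (by norm_num : (4 : GaussianInt) ≠ 0) h1

end Cfsg.Agent.Lib.Helper29
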