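import Mathlib
import Cfsg.Prelude.Def_LieTypeChar
import Cfsg.Agent.Lib.helper14.SQD.Defs
import Cfsg.Agent.Lib.helper14.SQD.DefsU

/-!
Project SQD = S4625 (designer helper14), row H1 (`hsM_mul`, `hsM_zero`): product law of the Heisenberg layer.
-/

set_option autoImplicit false

namespace Cfsg.Agent.Lib.helper14.SQD

open Cfsg Cfsg.Lie Matrix

universe u v

theorem sqdh1_fromRows_add {m₁ m₂ n : Type*} {R : Type*} [Add R] (A₁ B₁ : Matrix m₁ n R)
    (A₂ B₂ : Matrix m₂ n R) :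
    Matrix.fromRows A₁ A₂ + Matrix.fromRows B₁ B₂ = Matrix.fromRows (A₁ + B₁) (A₂ + B₂) := by
  ext i j
  cases i <;> rfl

theorem sqdh1_fromCols_add {m n₁ n₂ : Type*} {R : Type*} [Add R] (A₁ B₁ : Matrix m n₁ R)
    (A₂ B₂ : Matrix m n₂ R) :
    Matrix.fromCols A₁ A₂ + Matrix.fromCols B₁ B₂ = Matrix.fromCols (A₁ + B₁) (A₂ + B₂) := by
  ext i j
  cases j <;> rfl

section H
variable {k d : ℕ} {F : Type u} [Field F] (τ : F →+* F) (G₀ : Matrix (Fin d) (Fin d) F)

/-- H1 [M]. `Matrix.fromBlocks_multiply`, `Matrix.fromBlocks_mul_fromRows`, `Matrix.fromCols_mul_fromBlocks`,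
`Matrix.fromRows_mul_fromCols`, `Matrix.fromCols_mul_fromRows`. -/
theorem hsM_mul (R R' : Matrix (Fin d) (Fin k) F) (C C' : Matrix (Fin k) (Fin k) F) :
    hsM τ G₀ R C * hsM τ G₀ R' C' = hsM τ G₀ (R + R') (C + C' + tadj τ R * G₀ * R') := by
  unfold hsM
  rw [Matrix.fromBlocks_multiply]
  congr 1
  · rw [Matrix.fromBlocks_multiply, Matrix.fromRows_mul_fromCols, Matrix.fromBlocks_add]
    congr 1
    · simp
    · simp only [Matrix.one_mul, Matrix.mul_one]
      abel
    · simp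
    · simp
  · rw [Matrix.fromBlocks_mul_fromRows, Matrix.mul_one, sqdh1_fromRows_add]
    congr 1
    · simp only [Matrix.one_mul, Matrix.mul_zero, add_zero, tadj_add, Matrix.add_mul]
      abel
    · simp
  · rw [Matrix.fromCols_mul_fromBlocks, Matrix.one_mul, sqdh1_fromCols_add]
    congr 1
    · simp
    · simp
  · rw [Matrix.fromCols_mul_fromRows]
    simp

/-- H1b [E]. -/
theorem hsM_zero : hsM τ G₀ (0 : Matrix (Fin d) (Fin k) F) 0 = 1 := by
  unfold hsM
  have h1 : tadj τ (0 : Matrix (Fin d) (Fin k) F) = 0 := by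
    unfold tadj
    rw [Matrix.map_zero τ (map_zero τ), Matrix.transpose_zero]
  rw [h1, Matrix.zero_mul]
  rw [Matrix.fromRows_zero, Matrix.fromCols_zero, Matrix.fromBlocks_one, Matrix.fromBlocks_one]

end H

end Cfsg.Agent.Lib.helper14.SQD
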