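import Mathlib
import Cfsg.Prelude.Def_LieTypeChar
import Cfsg.Agent.Lib.helper14.SQD.Defs
import Cfsg.Agent.Lib.helper14.SQD.DefsU
import Cfsg.Agent.Lib.Helper24.SQD.DefsO

/-!
Project SQD = S4625 (designer helper14, part O by helper24): row OM1 (`omQ0_add`, `omN_quad`, `omQ0_neg`), by helper29.
-/

set_option autoImplicit false

namespace Cfsg.Agent.Lib.helper14.SQD

open Cfsg Cfsg.Lie Matrix

universe u v

section OM
variable {k : ℕ} {F : Type u} [Field F] (a b : F)

/-- OM1a [E]. -/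
theorem omQ0_add [CharP F 2] (z z' : Fin 2 → F) :
    omQ0 a b (z + z') = omQ0 a b z + omQ0 a b z' + z ⬝ᵥ (omG0 a *ᵥ z') := by
  have h2 : (2 : F) = 0 := CharTwo.two_eq_zero
  simp only [omQ0, omG0, dotProduct, Matrix.mulVec, Fin.sum_univ_two, Pi.add_apply,
    Matrix.of_apply, Matrix.cons_val', Matrix.cons_val_zero, Matrix.cons_val_one,
    Matrix.cons_val_fin_one]
  linear_combination (z 0 * z' 0 + b * z 1 * z' 1) * h2

/-- OM1b [E]. -/
theorem omN_quad (z : Fin 2 → F) : z ⬝ᵥ (omN a b *ᵥ z) = omQ0 a b z := by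
  simp only [omQ0, omN, dotProduct, Matrix.mulVec, Fin.sum_univ_two,
    Matrix.of_apply, Matrix.cons_val', Matrix.cons_val_zero, Matrix.cons_val_one,
    Matrix.cons_val_fin_one]
  ring

/-- OM1c [E]. -/
theorem omQ0_neg (z : Fin 2 → F) : omQ0 a b (-z) = omQ0 a b z := by
  simp only [omQ0, Pi.neg_apply]
  ring

end OM

end Cfsg.Agent.Lib.helper14.SQD
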