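import Mathlib
import Cfsg.Prelude.Def_LieTypeChar
import Cfsg.Agent.Lib.helper14.SQD.Defs
import Cfsg.Agent.Lib.helper14.SQD.DefsU
import Cfsg.Agent.Lib.Helper24.SQD.DefsO
import Cfsg.Agent.Lib.Helper29.SQDH1
import Cfsg.Agent.Lib.Helper29.SQDOM1
import Cfsg.Agent.Lib.Helper21.SQDH4
import Cfsg.Agent.Lib.Helper13.SQDOM2

/-!
Project SQD = S4625 (designer helper14, part O by helper24): core of row OM10a (`hs_col_mem_comm`), by helper29.
The statements of OM8 (`hs_mem_iso_minus`) and OM9a (`emb_lev_mem_iso_minus`) are hypotheses; everything else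
(H1, H4, OM1, OM2, OM3 landed; own copies of OM4a, OM6a, OG1b) is proved.
-/

set_option autoImplicit false

namespace Cfsg.Agent.Lib.helper14.SQD

open Cfsg Cfsg.Lie Matrix
open scoped commutatorElement

universe u v

section OM
variable {k : ℕ} {F : Type u} [Field F] (a b : F)

/-- `tadj id A = Aᵀ` -/
theorem sqdom10a_tadj_id {m n : Type*} (A : Matrix m n F) : tadj (RingHom.id F) A = Aᵀ := by
  ext i j
  simp [tadj]

/-- own copy of the statement of OM4a -/
theorem sqdom10a_omC_std (R : Matrix (Fin 2) (Fin k) F) : omC a b R (Rᵀ * omN a b * R) := by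
  intro y
  rw [← omN_quad a b (R *ᵥ y), ← Matrix.mulVec_mulVec, ← Matrix.mulVec_mulVec,
    Matrix.dotProduct_mulVec, Matrix.vecMul_transpose]

/-- `tadj τ (-R) = - tadj τ R` -/
theorem sqdom10a_tadj_neg {m n : Type*} (τ : F →+* F) (A : Matrix m n F) :
    tadj τ (-A) = - tadj τ A := by
  ext i j
  simp [tadj]

/-- own copy of the statement of OM6a -/
theorem sqdom10a_exists_hs_unit {d : ℕ} (τ : F →+* F) (G₀ : Matrix (Fin d) (Fin d) F)
    (R : Matrix (Fin d) (Fin k) F) (C : Matrix (Fin k) (Fin k) F) :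
    ∃ w : GL ((Fin k ⊕ Fin k) ⊕ Fin d) F,
      (w : Matrix ((Fin k ⊕ Fin k) ⊕ Fin d) ((Fin k ⊕ Fin k) ⊕ Fin d) F) = hsM τ G₀ R C := by
  refine ⟨⟨hsM τ G₀ R C, hsM τ G₀ (-R) (-C + tadj τ R * G₀ * R), ?_, ?_⟩, rfl⟩
  · rw [hsM_mul, ← hsM_zero τ G₀]
    congr 1
    · simp
    · simp
  · rw [hsM_mul, ← hsM_zero τ G₀]
    congr 1
    · simp
    · rw [sqdom10a_tadj_neg]
      simp

/-- the inverse of a Heisenberg unit -/
theorem sqdom10a_hs_inv {d : ℕ} (τ : F →+* F) (G₀ : Matrix (Fin d) (Fin d) F)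
    (R : Matrix (Fin d) (Fin k) F) (C : Matrix (Fin k) (Fin k) F)
    (w : GL ((Fin k ⊕ Fin k) ⊕ Fin d) F)
    (hw : (w : Matrix ((Fin k ⊕ Fin k) ⊕ Fin d) ((Fin k ⊕ Fin k) ⊕ Fin d) F) = hsM τ G₀ R C) :
    ((w⁻¹ : GL ((Fin k ⊕ Fin k) ⊕ Fin d) F) :
      Matrix ((Fin k ⊕ Fin k) ⊕ Fin d) ((Fin k ⊕ Fin k) ⊕ Fin d) F) =
      hsM τ G₀ (-R) (-C + tadj τ R * G₀ * R) := by
  have h1 : (w : Matrix ((Fin k ⊕ Fin k) ⊕ Fin d) ((Fin k ⊕ Fin k) ⊕ Fin d) F) *
      hsM τ G₀ (-R) (-C + tadj τ R * G₀ * R) = 1 := by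
    rw [hw, hsM_mul, ← hsM_zero τ G₀]
    congr 1
    · simp
    · simp
  calc ((w⁻¹ : GL ((Fin k ⊕ Fin k) ⊕ Fin d) F) :
      Matrix ((Fin k ⊕ Fin k) ⊕ Fin d) ((Fin k ⊕ Fin k) ⊕ Fin d) F)
      = ((w⁻¹ : GL ((Fin k ⊕ Fin k) ⊕ Fin d) F) :
          Matrix ((Fin k ⊕ Fin k) ⊕ Fin d) ((Fin k ⊕ Fin k) ⊕ Fin d) F) *
          ((w : Matrix ((Fin k ⊕ Fin k) ⊕ Fin d) ((Fin k ⊕ Fin k) ⊕ Fin d) F) *
            hsM τ G₀ (-R) (-C + tadj τ R * G₀ * R)) := by rw [h1, Matrix.mul_one]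
    _ = hsM τ G₀ (-R) (-C + tadj τ R * G₀ * R) := by
        rw [← Matrix.mul_assoc, ← Units.val_mul, inv_mul_cancel, Units.val_one, Matrix.one_mul]

/-- own copy of the statement of OG1b -/
theorem sqdom10a_exists_transvection_unit {n : Type v} [Fintype n] [DecidableEq n] {R : Type u}
    [CommRing R] (i j : n) (hij : i ≠ j) (t : R) :
    ∃ x : GL n R, (x : Matrix n n R) = Matrix.transvection i j t := by
  refine ⟨⟨Matrix.transvection i j t, Matrix.transvection i j (-t), ?_, ?_⟩, rfl⟩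
  · rw [Matrix.transvection_mul_transvection_same _ _ hij, add_neg_cancel, Matrix.transvection_zero]
  · rw [Matrix.transvection_mul_transvection_same _ _ hij, neg_add_cancel, Matrix.transvection_zero]

/-- the column computation: `vecMulVec w e_j * (1 + E_ij)ᵀ + -vecMulVec w e_j = vecMulVec w e_i` -/
theorem sqdom10a_col (i j : Fin k) (hji : j ≠ i) (w : Fin 2 → F) :
    Matrix.vecMulVec w (Pi.single j 1) * (Matrix.transvection i j (1 : F))ᵀ +
      -Matrix.vecMulVec w (Pi.single j (1 : F)) = Matrix.vecMulVec w (Pi.single i 1) := by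
  ext l c
  simp only [Matrix.add_apply, Matrix.neg_apply, Matrix.mul_apply, Matrix.vecMulVec_apply,
    Matrix.transpose_apply, Matrix.transvection, Matrix.one_apply, Matrix.single_apply]
  rw [Finset.sum_eq_single j]
  · simp only [Pi.single_apply]
    by_cases hci : c = i
    · subst hci
      have hcj : ¬ c = j := fun h => hji h.symm
      simp [hcj]
    · have hic : ¬ i = c := fun h => hci h.symm
      by_cases hcj : c = j
      · subst hcj
        simp [hci, hic]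
      · simp [hci, hcj, hic]
  · intro x _ hx
    simp [hx]
  · intro h
    exact absurd (Finset.mem_univ j) h

/-- OM10a on the statements of OM8 and OM9a. -/
theorem sqdom10a_core [CharP F 2]
    (h8 : ∀ (R : Matrix (Fin 2) (Fin k) F) (C : Matrix (Fin k) (Fin k) F), omC a b R C →
      ∀ w : GL ((Fin k ⊕ Fin k) ⊕ Fin 2) F,
        (w : Matrix ((Fin k ⊕ Fin k) ⊕ Fin 2) ((Fin k ⊕ Fin k) ⊕ Fin 2) F) =
          hsM (RingHom.id F) (omG0 a) R C → w ∈ isometryGroup F (quadFormMinus k F a b))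
    (h9 : ∀ g : GL (Fin k) F,
      embGL 2 (levHom (RingHom.id F) g) ∈ isometryGroup F (quadFormMinus k F a b))
    (hk : 2 ≤ k) (i : Fin k) (w : Fin 2 → F) :
    ∃ C : Matrix (Fin k) (Fin k) F, omC a b (Matrix.vecMulVec w (Pi.single i 1)) C ∧
      ∀ u : GL ((Fin k ⊕ Fin k) ⊕ Fin 2) F,
        (u : Matrix ((Fin k ⊕ Fin k) ⊕ Fin 2) ((Fin k ⊕ Fin k) ⊕ Fin 2) F) =
          hsM (RingHom.id F) (omG0 a) (Matrix.vecMulVec w (Pi.single i 1)) C →
        u ∈ ⁅isometryGroup F (quadFormMinus k F a b), isometryGroup F (quadFormMinus k F a b)⁆ := by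
  classical
  -- choose `j ≠ i`
  obtain ⟨j, hji⟩ : ∃ j : Fin k, j ≠ i := by
    by_cases h0 : (i : ℕ) = 0
    · exact ⟨⟨1, by omega⟩, fun h => by
        have := congrArg Fin.val h
        simp only at this
        omega⟩
    · exact ⟨⟨0, by omega⟩, fun h => by
        have := congrArg Fin.val h
        simp only at this
        omega⟩
  obtain ⟨g, hg⟩ := sqdom10a_exists_transvection_unit (R := F) i j (Ne.symm hji) (1 : F)
  set R' : Matrix (Fin 2) (Fin k) F := Matrix.vecMulVec w (Pi.single j 1) with hR'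
  set C' : Matrix (Fin k) (Fin k) F := R'ᵀ * omN a b * R' with hC'
  have hc' : omC a b R' C' := sqdom10a_omC_std a b R'
  obtain ⟨h, hh⟩ := sqdom10a_exists_hs_unit (RingHom.id F) (omG0 a) R' C'
  have hhO : h ∈ isometryGroup F (quadFormMinus k F a b) := h8 R' C' hc' h hh
  have hxO := h9 g
  -- the conjugate
  obtain ⟨h', hh'⟩ := sqdom10a_exists_hs_unit (RingHom.id F) (omG0 a)
    (R' * tadj (RingHom.id F) (g : Matrix (Fin k) (Fin k) F))
    ((g : Matrix (Fin k) (Fin k) F) * C' * tadj (RingHom.id F) (g : Matrix (Fin k) (Fin k) F))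
  have hconj : embGL 2 (levHom (RingHom.id F) g) * h * (embGL 2 (levHom (RingHom.id F) g))⁻¹ = h' :=
    lev_conj_hs (RingHom.id F) (omG0 a) (fun x => rfl) g R' C' h h' hh hh'
  have hinv := sqdom10a_hs_inv (RingHom.id F) (omG0 a) R' C' h hh
  obtain ⟨hP0, hPmul, hPinv⟩ := omC_props (k := k) a b
  have hc1 : omC a b (R' * tadj (RingHom.id F) (g : Matrix (Fin k) (Fin k) F))
      ((g : Matrix (Fin k) (Fin k) F) * C' * tadj (RingHom.id F) (g : Matrix (Fin k) (Fin k) F)) :=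
    omC_lev a b _ R' C' hc'
  have hc2 : omC a b (-R') (-C' + tadj (RingHom.id F) R' * omG0 a * R') := hPinv R' C' hc'
  have hc3 := hPmul _ _ _ _ hc1 hc2
  have hRi : R' * tadj (RingHom.id F) (g : Matrix (Fin k) (Fin k) F) + -R' =
      Matrix.vecMulVec w (Pi.single i 1) := by
    rw [sqdom10a_tadj_id, hg, hR']
    exact sqdom10a_col i j hji w
  rw [hRi] at hc3
  refine ⟨_, hc3, ?_⟩
  intro u hu
  have hu2 : u = ⁅embGL 2 (levHom (RingHom.id F) g), h⁆ := by
    rw [commutatorElement_def, hconj]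
    apply Units.ext
    rw [hu, Units.val_mul, hh', hinv, hsM_mul, hRi]
  rw [hu2]
  exact Subgroup.commutator_mem_commutator hxO hhO

end OM

end Cfsg.Agent.Lib.helper14.SQD
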