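import Mathlib
import Cfsg.Prelude.Def_LieTypeChar
import Cfsg.Agent.Lib.helper14.SQD.Defs
import Cfsg.Agent.Lib.helper14.SQD.DefsU
import Cfsg.Agent.Lib.Helper24.SQD.DefsO
import Cfsg.Agent.Lib.Helper29.SQDOM10Acore
import Cfsg.Agent.Lib.Helper10.SQDOM8
import Cfsg.Agent.Lib.Helper16.SQDOM9

/-!
Project SQD = S4625 (designer helper14, part O by helper24): row OM10a (`hs_col_mem_comm`), verbatim, by helper29:
`sqdom10a_core` on the landed OM8 (`hs_mem_iso_minus`) and OM9a (`emb_lev_mem_iso_minus`).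
-/

set_option autoImplicit false

namespace Cfsg.Agent.Lib.helper14.SQD

open Cfsg Cfsg.Lie Matrix

universe u v

section OM
variable {k : ℕ} {F : Type u} [Field F] (a b : F)

/-- OM10a [M-H]. The one-column elements. -/
theorem hs_col_mem_comm [CharP F 2] (hk : 2 ≤ k) (i : Fin k) (w : Fin 2 → F) :
    ∃ C : Matrix (Fin k) (Fin k) F, omC a b (Matrix.vecMulVec w (Pi.single i 1)) C ∧
      ∀ u : GL ((Fin k ⊕ Fin k) ⊕ Fin 2) F,
        (u : Matrix ((Fin k ⊕ Fin k) ⊕ Fin 2) ((Fin k ⊕ Fin k) ⊕ Fin 2) F) =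
          hsM (RingHom.id F) (omG0 a) (Matrix.vecMulVec w (Pi.single i 1)) C →
        u ∈ ⁅isometryGroup F (quadFormMinus k F a b), isometryGroup F (quadFormMinus k F a b)⁆ :=
  sqdom10a_core a b (fun R C h w hw => hs_mem_iso_minus a b R C h w hw)
    (fun g => emb_lev_mem_iso_minus a b g) hk i w

end OM

end Cfsg.Agent.Lib.helper14.SQD
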