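import Mathlib
import Cfsg.Agent.Lib.helper7.CEU.Defs
import Cfsg.Agent.Lib.Helper27.STU.Defs3
import Cfsg.Prelude.Def_Classical
import Cfsg.Prelude.Def_KGroupFacts

/-!
# Project CEU (designer helper7; S2089), row E4 `exists_st_of_lam`, VERBATIM (helper29).
The rank one Steinberg system over the fixed field `F0 F` of a pair `X Y : Lam F od → Δ` (even case): `T.X true r = X (sk (γ r))`, `T.X false r = Y (sk (γ⁻¹ r))`.
-/

set_option autoImplicit false

namespace Cfsg.Agent.Lib.helper7.CEU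

open Cfsg.Agent.Lib.helper15.St2 Cfsg.Agent.Lib.helper7.Ce Cfsg.Agent.Lib.helper3.STC Cfsg.Agent.Lib.Helper27.STU

open Cfsg.Agent.Lib.helper7.CEC (I2 I3 I4 U2 U3)

section E

open Matrix

variable {F : Type*} [Field F] [StarRing F] {od : Prop}

/-- in the even case an element of `Lam F od` is determined by its `c` -/
theorem ceue4_ext (hev : ¬ od) {ξ η : Lam F od} (h : ξ.c = η.c) : ξ = η :=
  Lam.ext (by rw [ξ.hv hev, η.hv hev]) h

/-- E4 [M]  `T.X true r := X (Lam.sk (γ * r) _)`, `T.X false r := Y (Lam.sk (γ⁻¹ * r) _)` (`r : F0 F`, so `star (γ * r) = -(γ * r)`).  `add`: `hX`, `hY` (`Lam.ext`).  `rel true t u`: `hWX` with `ξ := sk (γ t)`: `Lam.mu ξ = sk (γ⁻¹ * (-t⁻¹))`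
(`(star (γ t))⁻¹ = -(γ t)⁻¹`), `Lam.nu ξ = ξ`, `Lam.act (star ξ.c)⁻¹ (sk (γ u)) = sk (γ⁻¹ * (-(t⁻¹ ^ 2 * u)))` (`(star c)⁻¹ * star ((star c)⁻¹) = -(c⁻¹ ^ 2)` for skew `c`); `rel false`: `hWY` in the same way. -/
theorem exists_st_of_lam (hev : ¬ od) {γ : F} (hγ : γ ≠ 0) (hγs : star γ = -γ) {Δ : Type*} [Group Δ] (X Y : Lam F od → Δ)
    (hX : ∀ ξ η, X (ξ * η) = X ξ * X η) (hY : ∀ ξ η, Y (ξ * η) = Y ξ * Y η)
    (hWX : ∀ ξ η : Lam F od, ξ.c ≠ 0 → cj (X ξ * Y (Lam.mu ξ) * X (Lam.nu ξ)) (X η) = Y (Lam.act (star ξ.c)⁻¹ η))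
    (hWY : ∀ ξ η : Lam F od, ξ.c ≠ 0 → cj (Y ξ * X (Lam.mu ξ) * Y (Lam.nu ξ)) (Y η) = X (Lam.act (star ξ.c)⁻¹ η)) :
    ∃ T : St ↥(F0 F) Δ, ∀ (ξ : Lam F od) (r : ↥(F0 F)), (ξ.c = γ * r → T.x r = X ξ) ∧ (ξ.c = γ⁻¹ * r → T.y r = Y ξ) := by
  have hr : ∀ r : ↥(F0 F), star (r : F) = (r : F) := fun r => mem_F0.1 r.2
  have hsk : ∀ r : ↥(F0 F), star (γ * (r : F)) = -(γ * (r : F)) := by
    intro r
    rw [star_mul', hγs, hr r]
    ring
  have hsk' : ∀ r : ↥(F0 F), star (γ⁻¹ * (r : F)) = -(γ⁻¹ * (r : F)) := by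
    intro r
    rw [star_mul', star_inv₀, hγs, hr r, inv_neg]
    ring
  -- the two families
  let A : ↥(F0 F) → Lam F od := fun r => Lam.sk (γ * (r : F)) (hsk r)
  let B : ↥(F0 F) → Lam F od := fun r => Lam.sk (γ⁻¹ * (r : F)) (hsk' r)
  have hAc : ∀ r, (A r).c = γ * (r : F) := fun _ => rfl
  have hBc : ∀ r, (B r).c = γ⁻¹ * (r : F) := fun _ => rfl
  have hAadd : ∀ t u, A t * A u = A (t + u) := by
    intro t u
    apply ceue4_ext hev
    rw [Lam.mul_c, hAc, hAc, hAc, (A t).hv hev]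
    push_cast
    ring
  have hBadd : ∀ t u, B t * B u = B (t + u) := by
    intro t u
    apply ceue4_ext hev
    rw [Lam.mul_c, hBc, hBc, hBc, (B t).hv hev]
    push_cast
    ring
  have hcoe0 : ∀ t : ↥(F0 F), t ≠ 0 → (t : F) ≠ 0 := by
    intro t ht h
    exact ht (Subtype.ext h)
  -- the Weyl relations
  have hrelA : ∀ t u : ↥(F0 F), t ≠ 0 →
      cj (X (A t) * Y (B (-t⁻¹)) * X (A t)) (X (A u)) = Y (B (-(t⁻¹ ^ 2 * u))) := by
    intro t u ht
    have ht' := hcoe0 t ht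
    have hc : (A t).c ≠ 0 := by rw [hAc]; exact mul_ne_zero hγ ht'
    have h := hWX (A t) (A u) hc
    have e1 : Lam.mu (A t) = B (-t⁻¹) := by
      apply ceue4_ext hev
      rw [Lam.mu_c, hAc, hBc, hsk]
      push_cast
      field_simp
    have e2 : Lam.nu (A t) = A t := ceue4_ext hev rfl
    have e3 : Lam.act (star (A t).c)⁻¹ (A u) = B (-(t⁻¹ ^ 2 * u)) := by
      apply ceue4_ext hev
      rw [Lam.act_c, hAc, hAc, hBc, star_inv₀, star_star, hsk]
      push_cast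
      field_simp
    rw [e1, e2, e3] at h
    exact h
  have hrelB : ∀ t u : ↥(F0 F), t ≠ 0 →
      cj (Y (B t) * X (A (-t⁻¹)) * Y (B t)) (Y (B u)) = X (A (-(t⁻¹ ^ 2 * u))) := by
    intro t u ht
    have ht' := hcoe0 t ht
    have hc : (B t).c ≠ 0 := by rw [hBc]; exact mul_ne_zero (inv_ne_zero hγ) ht'
    have h := hWY (B t) (B u) hc
    have e1 : Lam.mu (B t) = A (-t⁻¹) := by
      apply ceue4_ext hev
      rw [Lam.mu_c, hBc, hAc, hsk']
      push_cast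
      field_simp
    have e2 : Lam.nu (B t) = B t := ceue4_ext hev rfl
    have e3 : Lam.act (star (B t).c)⁻¹ (B u) = A (-(t⁻¹ ^ 2 * u)) := by
      apply ceue4_ext hev
      rw [Lam.act_c, hBc, hBc, hAc, star_inv₀, star_star, hsk']
      push_cast
      field_simp
    rw [e1, e2, e3] at h
    exact h
  refine ⟨{ X := fun b r => if b then X (A r) else Y (B r)
            add := ?_
            rel := ?_ }, ?_⟩
  · intro b t u
    cases b
    · show Y (B t) * Y (B u) = Y (B (t + u))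
      rw [← hY, hBadd]
    · show X (A t) * X (A u) = X (A (t + u))
      rw [← hX, hAadd]
  · intro b t u ht
    cases b
    · exact hrelB t u ht
    · exact hrelA t u ht
  · intro ξ r
    refine ⟨fun h => ?_, fun h => ?_⟩
    · show X (A r) = X ξ
      rw [ceue4_ext hev (ξ := A r) (η := ξ) (by rw [hAc, h])]
    · show Y (B r) = Y ξ
      rw [ceue4_ext hev (ξ := B r) (η := ξ) (by rw [hBc, h])]

end E

end Cfsg.Agent.Lib.helper7.CEU
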