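import Mathlib
import Cfsg.Agent.Lib.helper7.CEU.Defs
import Cfsg.Agent.Lib.Helper27.STU.Defs3
import Cfsg.Agent.Lib.Helper5.STULA5
import Cfsg.Agent.Lib.Helper29.CEUE4
import Cfsg.Prelude.Def_Classical
import Cfsg.Prelude.Def_KGroupFacts

/-!
# Project CEU (designer helper7; S2089), row E5 `lift_even`: the CORE (helper29).
`ceue5_core`: `lift_even` from the STATEMENTS of E1 `lift_sl2_of_st` (at `K = F0 F`, the given `Δ`) and E3 `exists_psi`, on E4 `exists_st_of_lam` (`Helper29.CEUE4`).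
-/

set_option autoImplicit false

namespace Cfsg.Agent.Lib.helper7.CEU

open Cfsg.Agent.Lib.helper15.St2 Cfsg.Agent.Lib.helper7.Ce Cfsg.Agent.Lib.helper3.STC Cfsg.Agent.Lib.Helper27.STU

open Cfsg.Agent.Lib.helper7.CEC (I2 I3 I4 U2 U3)

section E

open Matrix

variable {F : Type*} [Field F] [StarRing F] {od : Prop}

theorem ceue5_core (hF : Hyp F) (hev : ¬ od) {Δ : Type*} [Group Δ]
    (hE1 : ∀ T : St ↥(F0 F) Δ, ∃ ρ : SpecialLinearGroup (Fin 2) ↥(F0 F) →* Δ, ∀ t : ↥(F0 F), ρ (xm t) = T.x t ∧ ρ (ym t) = T.y t)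
    (hE3 : ∀ {γ : F}, γ ≠ 0 → star γ = -γ →
      ∃ ψ : ↥(SUm F od) →* SpecialLinearGroup (Fin 2) ↥(F0 F), ∀ (ξ : Lam F od) (r : ↥(F0 F)),
        ((r : F) = ξ.c / γ → ψ (XpU ξ) = xm r) ∧ ((r : F) = γ * ξ.c → ψ (XmU ξ) = ym r))
    (X Y : Lam F od → Δ)
    (hX : ∀ ξ η, X (ξ * η) = X ξ * X η) (hY : ∀ ξ η, Y (ξ * η) = Y ξ * Y η)
    (hWX : ∀ ξ η : Lam F od, ξ.c ≠ 0 → cj (X ξ * Y (Lam.mu ξ) * X (Lam.nu ξ)) (X η) = Y (Lam.act (star ξ.c)⁻¹ η))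
    (hWY : ∀ ξ η : Lam F od, ξ.c ≠ 0 → cj (Y ξ * X (Lam.mu ξ) * Y (Lam.nu ξ)) (Y η) = X (Lam.act (star ξ.c)⁻¹ η)) :
    ∃ ρ : ↥(SUm F od) →* Δ, ∀ ξ, ρ (XpU ξ) = X ξ ∧ ρ (XmU ξ) = Y ξ := by
  obtain ⟨γ, hγ, hγs⟩ := hF.ex_skew
  obtain ⟨T, hT⟩ := exists_st_of_lam hev hγ hγs X Y hX hY hWX hWY
  obtain ⟨ρ₀, hρ₀⟩ := hE1 T
  obtain ⟨ψ, hψ⟩ := hE3 hγ hγs
  refine ⟨ρ₀.comp ψ, fun ξ => ?_⟩
  have hc : star ξ.c = -ξ.c := Lam.c_skew_of_even hev ξ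
  have h1 : ξ.c / γ ∈ F0 F := by
    rw [mem_F0, star_div₀, hc, hγs, neg_div_neg_eq]
  have h2 : γ * ξ.c ∈ F0 F := by
    rw [mem_F0, star_mul', hc, hγs]
    ring
  refine ⟨?_, ?_⟩
  · rw [MonoidHom.comp_apply, ((hψ ξ ⟨ξ.c / γ, h1⟩).1 rfl), (hρ₀ _).1]
    refine (hT ξ ⟨ξ.c / γ, h1⟩).1 ?_
    show ξ.c = γ * (ξ.c / γ)
    field_simp
  · rw [MonoidHom.comp_apply, ((hψ ξ ⟨γ * ξ.c, h2⟩).2 rfl), (hρ₀ _).2]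
    refine (hT ξ ⟨γ * ξ.c, h2⟩).2 ?_
    show ξ.c = γ⁻¹ * (γ * ξ.c)
    field_simp

end E

end Cfsg.Agent.Lib.helper7.CEU
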