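import Mathlib
import Cfsg.Agent.Lib.helper7.CEU.Defs
import Cfsg.Agent.Lib.Helper27.STU.Defs3
import Cfsg.Agent.Lib.helper23.CEUE1
import Cfsg.Agent.Lib.helper23.CEUE3
import Cfsg.Agent.Lib.Helper29.CEUE5core

/-!
# CEU E5 (helper29): `lift_even`, verbatim from helper7's `CEU/Skel1`

`ceue5_core` (`Helper29.CEUE5core`) at E1 `lift_sl2_of_st` (`helper23.CEUE1`) and E3 `exists_psi` (`helper23.CEUE3`).
-/

set_option autoImplicit false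

namespace Cfsg.Agent.Lib.helper7.CEU

open Cfsg.Agent.Lib.helper15.St2 Cfsg.Agent.Lib.helper7.Ce Cfsg.Agent.Lib.helper3.STC Cfsg.Agent.Lib.Helper27.STU

open Cfsg.Agent.Lib.helper7.CEC (I2 I3 I4 U2 U3)

section E

open Matrix

variable {F : Type*} [Field F] [StarRing F] {od : Prop}

/-- E5 [S-M]  (even case) the rank one lifting property of `SUm F od`: a pair of homomorphisms `X Y : Lam F od → Δ` with the two Weyl relations extends to `SUm F od`. -/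
theorem lift_even [Finite F] (hF : Hyp F) (hev : ¬ od) {Δ : Type*} [Group Δ] (X Y : Lam F od → Δ)
    (hX : ∀ ξ η, X (ξ * η) = X ξ * X η) (hY : ∀ ξ η, Y (ξ * η) = Y ξ * Y η)
    (hWX : ∀ ξ η : Lam F od, ξ.c ≠ 0 → cj (X ξ * Y (Lam.mu ξ) * X (Lam.nu ξ)) (X η) = Y (Lam.act (star ξ.c)⁻¹ η))
    (hWY : ∀ ξ η : Lam F od, ξ.c ≠ 0 → cj (Y ξ * X (Lam.mu ξ) * Y (Lam.nu ξ)) (Y η) = X (Lam.act (star ξ.c)⁻¹ η)) :
    ∃ ρ : ↥(SUm F od) →* Δ, ∀ ξ, ρ (XpU ξ) = X ξ ∧ ρ (XmU ξ) = Y ξ :=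
  ceue5_core hF hev (fun T => lift_sl2_of_st T) (fun hγ hγs => exists_psi hev hγ hγs) X Y hX hY hWX hWY

end E

end Cfsg.Agent.Lib.helper7.CEU
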