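import Mathlib
import Cfsg.Agent.Lib.helper8.RSM.Defs

/-!
# Project RSM (helper8), row A4 (`nrm_sq`): second copy under the name `rsma4_h29`
(same statement).
-/

set_option autoImplicit false

namespace Cfsg.Agent.Lib.helper8.RSM

universe u v w

variable {K : Type v} [Field K] [Fintype K] {m : ℕ}

omit [Fintype K] in
/-- `N a = a ^ (1 + 3 ^ (m + 1))` (any field) -/
theorem rsma4_nrm (a : K) : nrm m a = a ^ (1 + 3 ^ (m + 1)) := by
  unfold nrm
  rw [← pow_mul, pow_add, pow_succ 3 m]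
  ring

/-- A4 (second copy, helper29). Every non-zero square is a value of `N`. -/
theorem rsma4_h29 (hK : Fintype.card K = 3 ^ (2 * m + 1)) (s : K) (hs : s ≠ 0) :
    nrm m (s ^ (3 ^ (m + 1) - 1)) = s ^ 2 := by
  have he3 : 3 ≤ 3 ^ (m + 1) := by
    calc 3 = 3 ^ 1 := by norm_num
      _ ≤ 3 ^ (m + 1) := Nat.pow_le_pow_right (by norm_num) (by omega)
  obtain ⟨d, hd⟩ : ∃ d, 3 ^ (m + 1) = d + 1 := ⟨3 ^ (m + 1) - 1, by omega⟩
  rw [rsma4_nrm, ← pow_mul, hd, Nat.add_sub_cancel]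
  -- `d * (1 + (d + 1)) + 1 = 3 * q`
  have hq : d * (1 + (d + 1)) + 1 = 3 ^ (2 * m + 1) * 3 := by
    have h1 : (d + 1) * (d + 1) = 3 ^ (2 * m + 1) * 3 := by
      rw [← hd, ← pow_add, ← pow_succ]
      congr 1
      ring
    nlinarith [h1]
  have hcard : s ^ (3 ^ (2 * m + 1)) = s := by
    rw [← hK]; exact FiniteField.pow_card s
  have h2 : s ^ (d * (1 + (d + 1))) * s = s ^ 3 := by
    rw [← pow_succ, hq, pow_mul, hcard]
  have h4 : s ^ (d * (1 + (d + 1))) * s = s ^ 2 * s := by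
    rw [h2]; ring
  exact mul_right_cancel₀ hs h4

end Cfsg.Agent.Lib.helper8.RSM
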