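import Mathlib
import Cfsg.Agent.Lib.helper8.RSM.Defs
import Cfsg.Agent.Lib.Helper29.RSMA6

/-!
# Project RSM (helper8), row B1 (`conic_kill`): second copy under the name `rsmb1_h29`
(same statement), on the landed row A6 `conic`.
-/

set_option autoImplicit false

namespace Cfsg.Agent.Lib.helper8.RSM

universe u v w

variable {K : Type v} [Field K] [Fintype K] {m : ℕ}

/-- B1 (second copy, helper29): a bi-additive map `K × K → A` invariant under
`(u, w) ↦ (s² u, s² w)` is trivial. -/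
theorem rsmb1_h29 (hm : 1 ≤ m) (hK : Fintype.card K = 3 ^ (2 * m + 1)) {A : Type*} [Group A]
    (B : K → K → A) (hl : ∀ u u' w, B (u + u') w = B u w * B u' w)
    (hr : ∀ u w w', B u (w + w') = B u w * B u w')
    (hinv : ∀ s : K, s ≠ 0 → ∀ u w, B (s ^ 2 * u) (s ^ 2 * w) = B u w) :
    ∀ u w, B u w = 1 := by
  obtain ⟨c, c', ⟨s, hs, hc⟩, ⟨s', hs', hc'⟩, hsum, hprod⟩ := conic (K := K) hm hK
  have hc0 : c ≠ 0 := by rw [hc]; exact pow_ne_zero 2 hs
  have hc'0 : c' ≠ 0 := by rw [hc']; exact pow_ne_zero 2 hs'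
  -- `B u 0 = 1` and `B u (-w) = (B u w)⁻¹`
  have hz : ∀ u, B u 0 = 1 := by
    intro u
    have h := hr u 0 0
    rw [add_zero] at h
    exact left_eq_mul.mp h |> fun h' => h'
  have hneg : ∀ u w, B u (-w) = (B u w)⁻¹ := by
    intro u w
    have h := hr u w (-w)
    rw [add_neg_cancel, hz] at h
    exact eq_inv_of_mul_eq_one_right h.symm
  -- `B (c u) w = B u (c⁻¹ w)`
  have h1 : ∀ u w, B (c * u) w = B u (c⁻¹ * w) := by
    intro u w
    have h := hinv s hs u (c⁻¹ * w)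
    rw [← hc, ← mul_assoc, mul_inv_cancel₀ hc0, one_mul] at h
    exact h
  have h2 : ∀ u w, B (c' * u) w = B u (c'⁻¹ * w) := by
    intro u w
    have h := hinv s' hs' u (c'⁻¹ * w)
    rw [← hc', ← mul_assoc, mul_inv_cancel₀ hc'0, one_mul] at h
    exact h
  -- `B u w = B u (d w)` with `d = (c c')⁻¹`
  have hd : ∀ u w, B u w = B u ((c * c')⁻¹ * w) := by
    intro u w
    have e1 : u = c * u + c' * u := by rw [← add_mul, hsum, one_mul]
    have e2 : c⁻¹ * w + c'⁻¹ * w = (c * c')⁻¹ * w := by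
      have : c⁻¹ + c'⁻¹ = (c * c')⁻¹ := by
        field_simp
        rw [add_comm]; exact hsum
      rw [← add_mul, this]
    calc B u w = B (c * u + c' * u) w := by rw [← e1]
      _ = B (c * u) w * B (c' * u) w := hl _ _ _
      _ = B u (c⁻¹ * w) * B u (c'⁻¹ * w) := by rw [h1, h2]
      _ = B u (c⁻¹ * w + c'⁻¹ * w) := (hr _ _ _).symm
      _ = B u ((c * c')⁻¹ * w) := by rw [e2]
  have hd1 : (c * c')⁻¹ - 1 ≠ 0 := by
    intro h
    have h' : (c * c')⁻¹ = 1 := by linear_combination h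
    exact hprod (inv_eq_one.mp h')
  have hkill : ∀ u w, B u (((c * c')⁻¹ - 1) * w) = 1 := by
    intro u w
    have e : ((c * c')⁻¹ - 1) * w = (c * c')⁻¹ * w + -w := by ring
    rw [e, hr, ← hd, hneg, mul_inv_cancel]
  intro u w
  have e : w = ((c * c')⁻¹ - 1) * (((c * c')⁻¹ - 1)⁻¹ * w) := by
    rw [← mul_assoc, mul_inv_cancel₀ hd1, one_mul]
  rw [e]
  exact hkill u _

end Cfsg.Agent.Lib.helper8.RSM
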