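import Mathlib
import Cfsg.Agent.Lib.helper8.RSM.Defs
import Cfsg.Agent.Lib.Helper5.StemQ
import Cfsg.Agent.Lib.helper4.RSMC1

/-!
# Project RSM (helper8), rows D4 (`U2_abelian`) and D6 (`bet_sym`): cores on the statements of the
cited rows D1 D2 D3 (for D4) and C3 D5 (for D6); C1 `x_basic` (landed) is cited by name.
-/

set_option autoImplicit false

namespace Cfsg.Agent.Lib.helper8.RSM

open Cfsg.Agent.Lib.Helper5.Stem
open scoped commutatorElement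

universe u v w

variable {G : Type u} [Group G] {K : Type v} [Field K] [Fintype K] {m : ℕ}
variable {Γ : Type w} [Group Γ] {σ : Γ →* G}

/-- D4, core: the preimage of `U₂` is abelian, from D1 D2 D3. -/
theorem rsmd4_core (RU : ReeU G K m) (hs : Function.Surjective σ)
    (hcen : σ.ker ≤ Subgroup.center Γ)
    (h1 : ∀ u u' : K, bet hs (RU.x 0 u 0) (RU.x 0 u' 0) = 1)
    (h2 : ∀ u v : K, bet hs (RU.x 0 u 0) (RU.x 0 0 v) = 1)
    (h3 : ∀ v v' : K, bet hs (RU.x 0 0 v) (RU.x 0 0 v') = 1)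
    (g g' : Γ) (hg : RU.InU2 (σ g)) (hg' : RU.InU2 (σ g')) :
    g * g' = g' * g := by
  obtain ⟨-, -, -, -, hsplit, hcomm, -⟩ := x_basic RU
  obtain ⟨u, v, hguv⟩ := hg
  obtain ⟨u', v', hguv'⟩ := hg'
  have hbet : ⁅g, g'⁆ = 1 := by
    rw [← bet_eq hs hcen g g', hguv, hguv', hsplit u v, hsplit u' v']
    rw [bet_mul_left hs hcen, bet_mul_right hs hcen (hcomm _ _ _ _) (hcomm _ _ _ _),
      bet_mul_right hs hcen (hcomm _ _ _ _) (hcomm _ _ _ _), h1, h2, h3,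
      bet_swap hs (RU.x 0 u' 0) (RU.x 0 0 v), h2]
    · simp
    · rw [← hsplit u' v']; exact hcomm _ _ _ _
    · rw [← hsplit u' v']; exact hcomm _ _ _ _
  exact commutatorElement_eq_one_iff_mul_comm.mp hbet

/-- D6, core: the symmetry of `bet (x t 0 0) (x 0 0 c)`, from C3 and D5. -/
theorem rsmd6_core (RU : ReeU G K m) (hs : Function.Surjective σ)
    (hcen : σ.ker ≤ Subgroup.center Γ)
    (hC3 : ∀ t u v u' v' : K, ⁅RU.x t u v, RU.x 0 u' v'⁆ = RU.x 0 0 (t * u'))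
    (hHW : ∀ g y w : Γ, RU.InU (σ g) → RU.InU (σ y) → RU.InU2 (σ w) →
      ⁅g, ⁅y, w⁆⁆ = ⁅y, ⁅g, w⁆⁆)
    (s t u : K) :
    bet hs (RU.x t 0 0) (RU.x 0 0 (s * u)) = bet hs (RU.x s 0 0) (RU.x 0 0 (t * u)) := by
  obtain ⟨T, hT⟩ := hs (RU.x t 0 0)
  obtain ⟨S, hS⟩ := hs (RU.x s 0 0)
  obtain ⟨W, hW⟩ := hs (RU.x 0 u 0)
  have hSW : σ ⁅S, W⁆ = RU.x 0 0 (s * u) := by
    rw [map_commutatorElement, hS, hW, hC3]
  have hTW : σ ⁅T, W⁆ = RU.x 0 0 (t * u) := by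
    rw [map_commutatorElement, hT, hW, hC3]
  have hhw := hHW T S W ⟨t, 0, 0, hT⟩ ⟨s, 0, 0, hS⟩ ⟨u, 0, hW⟩
  rw [← hT, ← hSW, bet_eq hs hcen, ← hS, ← hTW, bet_eq hs hcen]
  exact hhw

end Cfsg.Agent.Lib.helper8.RSM
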