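import Mathlib
import Cfsg.Agent.Lib.helper8.RSM.Defs

/-!
# Project RSM (helper8), row A5 (`anrm_surj`), verbatim.
-/

set_option autoImplicit false

namespace Cfsg.Agent.Lib.helper8.RSM

universe u v w

variable {K : Type v} [Field K] [Fintype K] {m : ℕ}

omit [Fintype K] in
/-- `a * N a = a ^ (2 + 3 ^ (m + 1))` (any field) -/
theorem rsma5_anrm (a : K) : a * nrm m a = a ^ (2 + 3 ^ (m + 1)) := by
  unfold nrm
  rw [← pow_mul, pow_add, pow_succ 3 m]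
  ring

/-- A5 [M]. `a ↦ a * N a = a ^ (2 + 3^(m+1))` is onto `Kˣ`:
`(3^(m+1) + 2) (3^(m+1) - 2) = 3 q - 4`, so `a = (s⁻¹) ^ (3^(m+1) - 2)` gives
`a * N a = (s⁻¹) ^ (3 q - 4) = (s⁻¹)^3 / (s⁻¹)^4 = s`. -/
theorem anrm_surj (hK : Fintype.card K = 3 ^ (2 * m + 1)) (s : K) (hs : s ≠ 0) :
    ∃ a : K, a ≠ 0 ∧ a * nrm m a = s := by
  have hr : s⁻¹ ≠ 0 := inv_ne_zero hs
  set r : K := s⁻¹ with hrdef
  have he3 : 3 ≤ 3 ^ (m + 1) := by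
    calc 3 = 3 ^ 1 := by norm_num
      _ ≤ 3 ^ (m + 1) := Nat.pow_le_pow_right (by norm_num) (by omega)
  obtain ⟨d, hd⟩ : ∃ d, 3 ^ (m + 1) = d + 2 := ⟨3 ^ (m + 1) - 2, by omega⟩
  refine ⟨r ^ d, pow_ne_zero _ hr, ?_⟩
  rw [rsma5_anrm, ← pow_mul, hd]
  -- `d * (2 + (d + 2)) + 4 = 3 * q`
  have hq : d * (2 + (d + 2)) + 4 = 3 ^ (2 * m + 1) * 3 := by
    have h1 : (d + 2) * (d + 2) = 3 ^ (2 * m + 1) * 3 := by
      rw [← hd, ← pow_add, ← pow_succ]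
      congr 1
      ring
    nlinarith [h1]
  have hcard : r ^ (3 ^ (2 * m + 1)) = r := by
    rw [← hK]; exact FiniteField.pow_card r
  have h2 : r ^ (d * (2 + (d + 2))) * r ^ 4 = r ^ 3 := by
    rw [← pow_add, hq, pow_mul, hcard]
  have h3 : r ^ (d * (2 + (d + 2))) * r = 1 := by
    have h4 : (r ^ (d * (2 + (d + 2))) * r) * r ^ 3 = 1 * r ^ 3 := by
      rw [one_mul]
      calc (r ^ (d * (2 + (d + 2))) * r) * r ^ 3 = r ^ (d * (2 + (d + 2))) * r ^ 4 := by ring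
        _ = r ^ 3 := h2
    exact mul_right_cancel₀ (pow_ne_zero 3 hr) h4
  have h5 : r ^ (d * (2 + (d + 2))) = r⁻¹ := eq_inv_of_mul_eq_one_left h3
  rw [h5, hrdef, inv_inv]

end Cfsg.Agent.Lib.helper8.RSM
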