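import Mathlib
import Cfsg.Agent.Lib.helper8.RSM.Defs
import Cfsg.Agent.Lib.Helper5.StemQ
import Cfsg.Agent.Lib.helper4.RSMC1
import Cfsg.Agent.Lib.helper2.RSMC7
import Cfsg.Agent.Lib.helper15.RSMD1core
import Cfsg.Agent.Lib.helper14.RSMD2
import Cfsg.Agent.Lib.helper8.RSMD3core
import Cfsg.Agent.Lib.Helper29.RSMA4h29
import Cfsg.Agent.Lib.Helper29.RSMB1h29
import Cfsg.Agent.Lib.Helper29.RSMD46core

/-!
# Project RSM (helper8), row D4 (`U2_abelian`), verbatim.

It does not wait for the verbatim D1 `bet_uu` / D3 `bet_vv` / C8 `torus_act`: own-name copies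
`rsmd4_bet_uu`, `rsmd4_bet_vv`, `rsmd4_torus_act` are obtained here from the landed cores
(helper15 `rsmd1_core`, helper8 `rsmd3_core`) and my copies `rsma4_h29`, `rsmb1_h29`.
-/

set_option autoImplicit false

namespace Cfsg.Agent.Lib.helper8.RSM

open Cfsg.Agent.Lib.Helper5.Stem
open scoped commutatorElement

universe u v w

variable {G : Type u} [Group G] {K : Type v} [Field K] [Fintype K] {m : ℕ}
variable {Γ : Type w} [Group Γ] {σ : Γ →* G}

/-- the statement of C8 `torus_act` (own-name copy, from C7 `h0_pow_conj`) -/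
theorem rsmd4_torus_act (RU : ReeU G K m) (a : K) (ha : a ≠ 0) :
    ∃ i : ℕ, a = RU.a0 ^ i ∧ ∀ t u v : K, RU.h0 ^ i * RU.x t u v * (RU.h0 ^ i)⁻¹ =
      RU.x (a * t) (nrm m a * u) (a * nrm m a * v) := by
  obtain ⟨i, hi⟩ := RU.a0_gen a ha
  refine ⟨i, hi, fun t u v => ?_⟩
  rw [hi]
  exact h0_pow_conj RU i t u v

/-- the statement of D1 `bet_uu` (own-name copy) -/
theorem rsmd4_bet_uu (RU : ReeU G K m) (hs : Function.Surjective σ)
    (hcen : σ.ker ≤ Subgroup.center Γ) (u u' : K) :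
    bet hs (RU.x 0 u 0) (RU.x 0 u' 0) = 1 :=
  rsmd1_core RU hs hcen (fun s hs0 => rsma4_h29 RU.hK s hs0)
    (fun B hl hr hinv => rsmb1_h29 RU.hm RU.hK B hl hr hinv)
    (x_basic RU).2.1 (x_basic RU).2.2.2.2.2.1 (fun a ha => rsmd4_torus_act RU a ha) u u'

/-- the statement of D3 `bet_vv` (own-name copy) -/
theorem rsmd4_bet_vv (RU : ReeU G K m) (hs : Function.Surjective σ)
    (hcen : σ.ker ≤ Subgroup.center Γ) (v v' : K) :
    bet hs (RU.x 0 0 v) (RU.x 0 0 v') = 1 :=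
  rsmd3_core RU hs hcen (fun B hl hr hinv => rsmb1_h29 RU.hm RU.hK B hl hr hinv)
    (fun a ha => rsmd4_torus_act RU a ha) v v'

/-- D4 [S-M]. The preimage of `U₂` is abelian: `x 0 u v = x 0 u 0 * x 0 0 v` (C1), bi-multiplicativity
of `bet` on the abelian group `U₂`, D1 D2 D3 (`bet_swap` for the fourth term), `bet_eq`. -/
theorem U2_abelian (RU : ReeU G K m) (hs : Function.Surjective σ)
    (hcen : σ.ker ≤ Subgroup.center Γ) (g g' : Γ) (hg : RU.InU2 (σ g)) (hg' : RU.InU2 (σ g')) :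
    g * g' = g' * g :=
  rsmd4_core RU hs hcen (rsmd4_bet_uu RU hs hcen) (bet_uv RU hs hcen) (rsmd4_bet_vv RU hs hcen)
    g g' hg hg'

end Cfsg.Agent.Lib.helper8.RSM
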