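import Mathlib
import Cfsg.Agent.Lib.Helper18.SDM.Defs3
import Cfsg.Agent.Lib.Helper10.SDMB3

/-!
# Project SDM (S2549, designer helper18), row D4: `TQ_pelement_two` (helper29).
Characteristic 2, `dim W = 2`: a 2-element of the torus is trivial or the reflection along some `(0,z)`.
-/

set_option autoImplicit false
set_option linter.unusedSectionVars false
set_option linter.unusedVariables false

namespace Cfsg.Agent.Lib.Helper18.QBN

open Cfsg.Agent.Lib.helper14.UBN QuadraticMap

universe u v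

variable {F : Type u} [Field F] {W : Type v} [AddCommGroup W] [Module F W] {n : ℕ}

/-- the endomorphism of `W` induced by `t`: `w ↦ (t (0,w)).2` -/
noncomputable def sdmd4_beta {Q₀ : QuadraticForm F W} (t : GQ n Q₀) : W →ₗ[F] W :=
  (LinearMap.snd F (Fin n → F) W).comp ((le t).toLinearMap.comp (LinearMap.inr F (Fin n → F) W))

theorem sdmd4_beta_apply {Q₀ : QuadraticForm F W} (t : GQ n Q₀) (w : W) :
    sdmd4_beta t w = (le t (wv F n w)).2 := rfl

theorem sdmd4_pow_xv {Q₀ : QuadraticForm F W} (t : GQ n Q₀) (j : Fin n) (c : F)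
    (h : le t (xv W j) = c • xv W j) (m : ℕ) : le (t ^ m) (xv W j) = c ^ m • xv W j := by
  induction m with
  | zero => rw [pow_zero, pow_zero, one_smul]; rfl
  | succ m ih => rw [pow_succ, le_mul, h, map_smul, ih, smul_smul, pow_succ, mul_comm]

theorem sdmd4_eq_one_of_pow [CharP F 2] (c : F) (k : ℕ) (h : c ^ (2 ^ k) = 1) : c = 1 := by
  have h1 : (c - 1) ^ (2 ^ k) = 0 := by rw [sub_pow_char_pow, h, one_pow, sub_self]
  exact sub_eq_zero.mp ((pow_eq_zero_iff (pow_pos two_pos k).ne').mp h1)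

/-- a diagonal element of 2-power order fixes the frame in characteristic 2 -/
theorem sdmd4_fix_xv [CharP F 2] {Q₀ : QuadraticForm F W} (t : GQ n Q₀) (ht : IsPermOf t 1)
    (k : ℕ) (htk : t ^ (2 ^ k) = 1) (j : Fin n) : le t (xv W j) = xv W j := by
  obtain ⟨c, hc⟩ := ht j
  rw [Equiv.Perm.one_apply] at hc
  have h1 := sdmd4_pow_xv t j c hc (2 ^ k)
  rw [htk, le_one] at h1
  have h2 : c ^ (2 ^ k) = 1 := by
    have h3 := congrArg (fun v : QV F n W => v.1 j) h1
    simp only [Prod.smul_fst, Pi.smul_apply, xv_fst, if_true, smul_eq_mul, mul_one] at h3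
    exact h3.symm
  rw [hc, sdmd4_eq_one_of_pow c k h2, one_smul]

theorem sdmd4_wv_fst (hn : Even n) {Q₀ : QuadraticForm F W} (t : GQ n Q₀)
    (hfix : ∀ j, le t (xv W j) = xv W j) (w : W) (i : Fin n) : (le t (wv F n w)).1 i = 0 := by
  have h := le_polar t (wv F n w) (xv W (rv i))
  rw [hfix, polar_xv hn, polar_xv hn, rv_rv, wv_fst] at h
  exact h

theorem sdmd4_wv (hn : Even n) {Q₀ : QuadraticForm F W} (t : GQ n Q₀)
    (hfix : ∀ j, le t (xv W j) = xv W j) (w : W) :
    le t (wv F n w) = wv F n (sdmd4_beta t w) := by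
  apply Prod.ext
  · funext i
    rw [sdmd4_wv_fst hn t hfix w i]
    rfl
  · rfl

theorem sdmd4_beta_Q (hn : Even n) {Q₀ : QuadraticForm F W} (t : GQ n Q₀)
    (hfix : ∀ j, le t (xv W j) = xv W j) (w : W) : Q₀ (sdmd4_beta t w) = Q₀ w := by
  have h := le_Q t (wv F n w)
  rw [sdmd4_wv hn t hfix w, frQ_wv, frQ_wv] at h
  exact h

theorem sdmd4_pow_wv (hn : Even n) {Q₀ : QuadraticForm F W} (t : GQ n Q₀)
    (hfix : ∀ j, le t (xv W j) = xv W j) (m : ℕ) (w : W) :
    le (t ^ m) (wv F n w) = wv F n ((sdmd4_beta t ^ m) w) := by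
  induction m generalizing w with
  | zero => rw [pow_zero, pow_zero]; rfl
  | succ m ih =>
    rw [pow_succ, le_mul, sdmd4_wv hn t hfix, ih, pow_succ]
    rfl

/-- an element of `GQ` is determined by its values on the frame and on `W` -/
theorem sdmd4_ext {Q₀ : QuadraticForm F W} (t s : GQ n Q₀)
    (hx : ∀ j, le t (xv W j) = le s (xv W j))
    (hw : ∀ w, le t (wv F n w) = le s (wv F n w)) : t = s := by
  apply GQ_ext
  intro v
  have key : ∀ (f : QV F n W ≃ₗ[F] QV F n W),
      f v = ∑ j, v.1 j • f (xv W j) + f (wv F n v.2) := by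
    intro f
    conv_lhs => rw [decomp v]
    rw [map_add, map_sum]
    simp only [map_smul]
  rw [key (le t), key (le s)]
  simp only [hx, hw]

/-- in characteristic 2 the `2^k`-th power of `β - 1` is `β^(2^k) - 1` -/
theorem sdmd4_sub_one_pow [CharP F 2] (β : Module.End F W) (k : ℕ) :
    (β - 1) ^ (2 ^ k) = β ^ (2 ^ k) - 1 := by
  have hX : ((Polynomial.X : Polynomial F) - 1) ^ (2 ^ k) = Polynomial.X ^ (2 ^ k) - 1 := by
    rw [sub_pow_char_pow, one_pow]
  have h := congrArg (Polynomial.aeval β) hX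
  simpa using h

/-- [ROW D4] characteristic 2, `dim W = 2`: a 2-element of the torus is trivial or the reflection along some `(0,z)`
(`N = β - 1` nilpotent on the plane `W`, so `N² = 0`; `z = N w ≠ 0`: `β z = z`, `β w = w + z`, `f₀(w,z) = Q₀ z ≠ 0`, `β = r_z`) -/
theorem TQ_pelement_two (hn : Even n) (Q₀ : QuadraticForm F W) (hQ₀ : ∀ w : W, Q₀ w = 0 → w = 0)
    [CharP F 2] (hW2 : Module.finrank F W = 2) (t : GQ n Q₀) (ht : t ∈ TQ n Q₀) (k : ℕ)
    (htk : t ^ (2 ^ k) = 1) :
    t = 1 ∨ ∃ (z : W) (hz : frQ n Q₀ (wv F n z) ≠ 0), t = reflG (frQ n Q₀) (wv F n z) hz := by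
  have hperm : IsPermOf t 1 := (mem_TQ_iff hn t).mp ht
  have hfix := sdmd4_fix_xv t hperm k htk
  have h2F : (2 : F) = 0 := CharTwo.two_eq_zero
  obtain ⟨β, hβ⟩ : ∃ β : Module.End F W, β = sdmd4_beta t := ⟨_, rfl⟩
  have hwv : ∀ w, le t (wv F n w) = wv F n (β w) := by
    intro w
    rw [hβ]
    exact sdmd4_wv hn t hfix w
  have hβQ : ∀ w, Q₀ (β w) = Q₀ w := by
    intro w
    rw [hβ]
    exact sdmd4_beta_Q hn t hfix w
  have hβk : β ^ (2 ^ k) = 1 := by
    apply LinearMap.ext
    intro w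
    have h := sdmd4_pow_wv hn t hfix (2 ^ k) w
    rw [htk, le_one, ← hβ] at h
    exact (congrArg Prod.snd h).symm
  have hN : (β - 1) ^ (2 ^ k) = 0 := by rw [sdmd4_sub_one_pow, hβk, sub_self]
  have hfd : FiniteDimensional F W := Module.finite_of_finrank_pos (by omega)
  have hN2 : (β - 1) ^ 2 = 0 := by
    have h1 := Module.End.ker_pow_le_ker_pow_finrank (β - 1) (2 ^ k)
    rw [hN, hW2, LinearMap.ker_zero] at h1
    exact LinearMap.ker_eq_top.mp (top_le_iff.mp h1)
  by_cases h0 : β - 1 = 0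
  · left
    have hβ1 : β = 1 := sub_eq_zero.mp h0
    apply sdmd4_ext
    · intro j
      rw [hfix, le_one]
    · intro w
      rw [hwv, hβ1, le_one]
      rfl
  · right
    obtain ⟨w, hw⟩ : ∃ w, (β - 1) w ≠ 0 := by
      by_contra hcon
      push Not at hcon
      exact h0 (LinearMap.ext hcon)
    obtain ⟨z, hz⟩ : ∃ z : W, z = (β - 1) w := ⟨_, rfl⟩
    have hz0 : z ≠ 0 := by rw [hz]; exact hw
    have hβw : β w = w + z := by
      rw [hz, LinearMap.sub_apply, Module.End.one_apply]
      abel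
    have hβz : β z = z := by
      have h1 : ((β - 1) ^ 2 : Module.End F W) w = 0 := by rw [hN2]; rfl
      rw [pow_two, Module.End.mul_apply, ← hz, LinearMap.sub_apply, Module.End.one_apply] at h1
      exact sub_eq_zero.mp h1
    have hQz : Q₀ z ≠ 0 := fun h => hz0 (hQ₀ z h)
    have hpol : polar Q₀ w z = Q₀ z := by
      have h1 := hβQ w
      rw [hβw, QuadraticMap.map_add (⇑Q₀) w z] at h1
      have h3 : Q₀ z + Q₀ z = 0 := by rw [← two_mul, h2F, zero_mul]
      linear_combination h1 - h3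
    have hzz : polar Q₀ z z = 0 := by
      rw [polar_self, two_nsmul, ← two_mul, h2F, zero_mul]
    have hli : LinearIndependent F ![w, z] := by
      rw [LinearIndependent.pair_iff]
      intro s r hsr
      have h1 : polar Q₀ (s • w + r • z) z = 0 := by rw [hsr, polar_zero_left]
      rw [polar_add_left, polar_smul_left, polar_smul_left, hpol, hzz, smul_eq_mul, smul_eq_mul,
        mul_zero, add_zero] at h1
      have hs : s = 0 := (mul_eq_zero.mp h1).resolve_right hQz
      rw [hs, zero_smul, zero_add] at hsr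
      exact ⟨hs, (smul_eq_zero.mp hsr).resolve_right hz0⟩
    have hspan : Submodule.span F {w, z} = ⊤ := by
      have h1 := hli.span_eq_top_of_card_eq_finrank' (by rw [hW2]; rfl)
      rwa [Matrix.range_cons_cons_empty] at h1
    have hfrz : frQ n Q₀ (wv F n z) ≠ 0 := by rw [frQ_wv]; exact hQz
    refine ⟨z, hfrz, ?_⟩
    apply sdmd4_ext
    · intro j
      rw [hfix]
      show _ = le (reflG (frQ n Q₀) (wv F n z) hfrz) (xv W j)
      rw [le, reflG_apply, polar_wv hn, xv_snd, polar_zero_left, mul_zero, zero_smul, sub_zero]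
    · intro u
      rw [hwv]
      show _ = le (reflG (frQ n Q₀) (wv F n z) hfrz) (wv F n u)
      rw [le, reflG_apply, polar_wv hn, wv_snd, frQ_wv]
      have hu : u ∈ Submodule.span F {w, z} := by rw [hspan]; trivial
      obtain ⟨s, r, rfl⟩ := Submodule.mem_span_pair.mp hu
      rw [map_add, map_smul, map_smul, hβw, hβz, polar_add_left, polar_smul_left,
        polar_smul_left, hpol, hzz, smul_eq_mul, smul_eq_mul, mul_zero, add_zero]
      have e1 : (Q₀ z)⁻¹ * (s * Q₀ z) = s := by field_simp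
      rw [e1]
      apply Prod.ext
      · show (0 : Fin n → F) = 0 - s • (0 : Fin n → F)
        rw [smul_zero, sub_zero]
      · show s • (w + z) + r • z = (s • w + r • z) - s • z
        have h3 : s • z + s • z = 0 := by rw [← two_smul F, h2F, zero_smul]
        rw [smul_add]
        rw [sub_eq_add_neg, ← sub_eq_zero]
        have : s • w + s • z + r • z - (s • w + r • z + -(s • z)) = s • z + s • z := by abel
        rw [this, h3]

end Cfsg.Agent.Lib.Helper18.QBN
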