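import Mathlib
import Cfsg.Prelude.Def_LieTypeChar
import Cfsg.Agent.Lib.helper14.SQD.Defs
import Cfsg.Agent.Lib.helper14.SQD.DefsU

/-!
Project SQD = S4625 (designer helper14), row H3 (`hsM_inj`).
-/

set_option autoImplicit false

namespace Cfsg.Agent.Lib.helper14.SQD

open Cfsg Cfsg.Lie Matrix

universe u v

section H
variable {k d : ℕ} {F : Type u} [Field F] (τ : F →+* F) (G₀ : Matrix (Fin d) (Fin d) F)

/-- H3 [E-M]. `Matrix.fromBlocks_inj`, `Matrix.fromCols` injective. -/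
theorem hsM_inj (R R' : Matrix (Fin d) (Fin k) F) (C C' : Matrix (Fin k) (Fin k) F)
    (h : hsM τ G₀ R C = hsM τ G₀ R' C') : R = R' ∧ C = C' := by
  unfold hsM at h
  rw [Matrix.fromBlocks_inj] at h
  obtain ⟨h1, -, h3, -⟩ := h
  rw [Matrix.fromBlocks_inj] at h1
  rw [Matrix.fromCols_ext_iff] at h3
  exact ⟨h3.2, h1.2.1⟩

end H

end Cfsg.Agent.Lib.helper14.SQD
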