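import Mathlib
import Cfsg.Agent.Lib.Helper19.AMO.Defs

/-!
# Project AMO (helper19), piece SP34 : `3 × 3` matrices over `F_4` whose eigenvalues (over the algebraic
closure, with multiplicities) are closed under `x ↦ x⁻²` have a scalar power `A ^ j`, `j ∈ {3, 4, 6}`
-/

set_option autoImplicit false
set_option linter.unusedVariables false
set_option linter.unusedSectionVars false
set_option linter.style.haveILetI false

namespace Cfsg.Agent.Lib.Helper19.AMO

open Matrix Cfsg.Agent.Lib.Helper16.PG Cfsg.Agent.Lib.Helper16.AP Cfsg.Agent.Lib.Helper16.PU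

universe u

theorem amoSP34_sq_eq_one {K : Type*} [Field K] [CharP K 2] (y : K) (h : y ^ 2 = 1) : y = 1 := by
  have h1 : (y + 1) ^ 2 = 0 := by
    rw [CharTwo.add_sq, h, one_pow, CharTwo.add_self_eq_zero]
  have h2 : y + 1 = 0 := by
    exact pow_eq_zero_iff (two_ne_zero) |>.mp h1
  have h3 : y = -1 := eq_neg_of_add_eq_zero_left h2
  rw [h3, CharTwo.neg_eq]

/-- the abstract combinatorial core -/
theorem amoSP34_core {K : Type*} [Field K] [CharP K 2] (m : K → ℕ)
    (hsum : ∀ S : Finset K, ∑ a ∈ S, m a ≤ 3)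
    (h0 : m 0 = 0)
    (hφ : ∀ ν : K, ν ≠ 0 → m ((ν ^ 2)⁻¹) = m ν) :
    (∃ c : K, (∀ μ, 0 < m μ → μ ^ 3 = c) ∧ ∀ μ, m μ ≤ 1) ∨
    (∃ c : K, (∀ μ, 0 < m μ → μ ^ 1 = c) ∧ ∀ μ, m μ ≤ 4) ∨
    ((∀ μ, 0 < m μ → μ ^ 3 = 1) ∧ ∀ μ, m μ ≤ 2) := by
  classical
  by_cases h : ∃ x, 0 < m x ∧ x ^ 3 ≠ 1
  · left
    obtain ⟨x, hx, hx3⟩ := h
    have hx0 : x ≠ 0 := by
      rintro rfl
      rw [h0] at hx
      exact lt_irrefl _ hx
    set b : K := (x ^ 2)⁻¹ with hb
    have hb0 : b ≠ 0 := inv_ne_zero (pow_ne_zero _ hx0)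
    set c : K := (b ^ 2)⁻¹ with hc
    have hc0 : c ≠ 0 := inv_ne_zero (pow_ne_zero _ hb0)
    set d : K := (c ^ 2)⁻¹ with hd
    have hmb : m b = m x := hφ x hx0
    have hmc : m c = m x := (hφ b hb0).trans hmb
    have hmd : m d = m x := (hφ c hc0).trans hmc
    have hbx : b * x ^ 2 = 1 := inv_mul_cancel₀ (pow_ne_zero _ hx0)
    have hcx : c = x ^ 4 := by
      rw [hc, hb, inv_pow, inv_inv, ← pow_mul]
    have hdx : d * x ^ 8 = 1 := by
      rw [hd, hcx, ← pow_mul]
      exact inv_mul_cancel₀ (pow_ne_zero _ hx0)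
    have hx6 : x ^ 6 ≠ 1 := by
      intro h6
      apply hx3
      apply amoSP34_sq_eq_one
      rw [← pow_mul]
      exact h6
    have hxb : x ≠ b := by
      intro hh
      apply hx3
      rw [← hh] at hbx
      rw [← hbx]
      ring
    have hxc : x ≠ c := by
      intro hh
      apply hx3
      rw [hcx] at hh
      have : x * x ^ 3 = x * 1 := by rw [mul_one]; rw [← pow_succ']; exact hh.symm
      exact mul_left_cancel₀ hx0 this
    have hbc : b ≠ c := by
      intro hh
      apply hx6
      rw [hh, hcx] at hbx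
      rw [← hbx]
      ring
    have h3 := hsum {x, b, c}
    rw [Finset.sum_insert (by simp [hxb, hxc]), Finset.sum_insert (by simp [hbc]), Finset.sum_singleton,
      hmb, hmc] at h3
    have hmx : m x = 1 := by omega
    have hall : ∀ μ, 0 < m μ → μ = x ∨ μ = b ∨ μ = c := by
      intro μ hμ
      by_contra hcon
      push Not at hcon
      have h4 := hsum {μ, x, b, c}
      rw [Finset.sum_insert (by simp [hcon.1, hcon.2.1, hcon.2.2]), Finset.sum_insert (by simp [hxb, hxc]),
        Finset.sum_insert (by simp [hbc]), Finset.sum_singleton, hmb, hmc] at h4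
      omega
    have hdmem := hall d (by rw [hmd]; exact hx)
    have hx9 : x ^ 9 = 1 := by
      rcases hdmem with hh | hh | hh
      · rw [hh] at hdx
        rw [← hdx]
        ring
      · exfalso
        apply hx6
        rw [hh] at hdx
        have h1 : b * x ^ 2 * x ^ 6 = b * x ^ 2 * 1 := by
          have e : b * x ^ 2 * x ^ 6 = b * x ^ 8 := by ring
          rw [e, hdx, mul_one, hbx]
        exact mul_left_cancel₀ (mul_ne_zero hb0 (pow_ne_zero _ hx0)) h1
      · exfalso
        apply hx3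
        rw [hh, hcx] at hdx
        have h12 : (x ^ 3) ^ 4 = 1 := by
          rw [← hdx]
          ring
        have h2 : ((x ^ 3) ^ 2) ^ 2 = 1 := by rw [← pow_mul]; exact h12
        exact amoSP34_sq_eq_one _ (amoSP34_sq_eq_one _ h2)
    refine ⟨x ^ 3, ?_, ?_⟩
    · intro μ hμ
      rcases hall μ hμ with rfl | rfl | rfl
      · rfl
      · have h1 : b ^ 3 * x ^ 6 = x ^ 3 * x ^ 6 := by
          have e1 : b ^ 3 * x ^ 6 = (b * x ^ 2) ^ 3 := by ring
          have e2 : x ^ 3 * x ^ 6 = x ^ 9 := by ring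
          rw [e1, e2, hbx, hx9, one_pow]
        exact mul_right_cancel₀ (pow_ne_zero _ hx0) h1
      · rw [hcx]
        have e1 : (x ^ 4) ^ 3 = x ^ 3 * x ^ 9 := by ring
        rw [e1, hx9, mul_one]
    · intro μ
      by_cases hμ : 0 < m μ
      · rcases hall μ hμ with rfl | rfl | rfl
        · omega
        · omega
        · omega
      · omega
  · push Not at h
    right
    by_cases h3 : ∃ x, 3 ≤ m x
    · left
      obtain ⟨x, hx⟩ := h3
      refine ⟨x, ?_, ?_⟩
      · intro μ hμ
        rw [pow_one]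
        by_contra hne
        have h4 := hsum {μ, x}
        rw [Finset.sum_insert (by simp [hne]), Finset.sum_singleton] at h4
        omega
      · intro μ
        have h4 := hsum {μ}
        rw [Finset.sum_singleton] at h4
        omega
    · right
      push Not at h3
      refine ⟨h, fun μ => ?_⟩
      have := h3 μ
      omega

section
variable {F : Type u} [Field F] [Fintype F]

/-- AMO-SP34 -/
theorem graph_field_special (hF : Fintype.card F = 4) (A B : Matrix (Fin 3) (Fin 3) F)
    (hAB : A * B = 1)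
    (hmult : ∀ ν : AlgebraicClosure F, ν ≠ 0 →
      (A.map (algebraMap F (AlgebraicClosure F))).charpoly.rootMultiplicity (ν ^ 2)⁻¹ =
        (A.map (algebraMap F (AlgebraicClosure F))).charpoly.rootMultiplicity ν) :
    ∃ j : ℕ, 0 < j ∧ (∃ c : F, c ≠ 0 ∧ A ^ j = c • (1 : Matrix (Fin 3) (Fin 3) F)) ∧ j ≤ 10 := by
  classical
  -- characteristic two
  obtain ⟨p, hpc⟩ := CharP.exists F
  haveI : CharP F p := hpc
  obtain ⟨n, hpp, hcard⟩ := FiniteField.card F p
  have hp2 : p = 2 := by
    have h1 : p ∣ 2 ^ 2 := by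
      have : p ∣ Fintype.card F := by rw [hcard]; exact dvd_pow_self p n.ne_zero
      rw [hF] at this
      exact this
    exact (Nat.prime_dvd_prime_iff_eq hpp Nat.prime_two).mp (hpp.dvd_of_dvd_pow h1)
  subst hp2
  haveI : Fact (Nat.Prime 2) := ⟨Nat.prime_two⟩
  set K := AlgebraicClosure F with hK
  haveI : CharP K 2 := charP_of_injective_algebraMap (algebraMap F K).injective 2
  set AK := A.map (algebraMap F K) with hAK
  set BK := B.map (algebraMap F K) with hBK
  have hABK : AK * BK = 1 := by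
    rw [hAK, hBK, ← Matrix.map_mul, hAB, Matrix.map_one _ (map_zero _) (map_one _)]
  have hχ0 : AK.charpoly ≠ 0 := (Matrix.charpoly_monic AK).ne_zero
  have hdeg : AK.charpoly.natDegree = 3 := by
    rw [Matrix.charpoly_natDegree_eq_dim, Fintype.card_fin]
  have hdet : AK.det ≠ 0 := by
    intro h0
    have := congrArg Matrix.det hABK
    rw [Matrix.det_mul, h0, zero_mul, Matrix.det_one] at this
    exact zero_ne_one this
  have hroot0 : ¬ AK.charpoly.IsRoot 0 := by
    intro h0
    apply hdet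
    rw [Matrix.det_eq_sign_charpoly_coeff, Polynomial.coeff_zero_eq_eval_zero]
    rw [Polynomial.IsRoot.def] at h0
    rw [h0, mul_zero]
  set m : K → ℕ := fun ν => AK.charpoly.rootMultiplicity ν with hm
  have hsum : ∀ S : Finset K, ∑ a ∈ S, m a ≤ 3 := by
    intro S
    have h1 : ∑ a ∈ S, m a = ∑ a ∈ S.filter (fun a => a ∈ AK.charpoly.roots.toFinset), m a := by
      symm
      refine Finset.sum_filter_of_ne fun a _ ha => ?_
      rw [Multiset.mem_toFinset, Polynomial.mem_roots hχ0]
      by_contra hcon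
      exact ha (Polynomial.rootMultiplicity_eq_zero hcon)
    rw [h1]
    calc ∑ a ∈ S.filter (fun a => a ∈ AK.charpoly.roots.toFinset), m a
        ≤ ∑ a ∈ AK.charpoly.roots.toFinset, m a :=
          Finset.sum_le_sum_of_subset (fun a ha => (Finset.mem_filter.mp ha).2)
      _ = ∑ a ∈ AK.charpoly.roots.toFinset, AK.charpoly.roots.count a :=
          Finset.sum_congr rfl fun a _ => (Polynomial.count_roots _).symm
      _ = Multiset.card AK.charpoly.roots := Multiset.toFinset_sum_count_eq _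
      _ ≤ 3 := (Polynomial.card_roots' _).trans hdeg.le
  have h0 : m 0 = 0 := Polynomial.rootMultiplicity_eq_zero hroot0
  have hpos : ∀ μ : K, AK.charpoly.IsRoot μ → 0 < m μ := fun μ hμ =>
    (Polynomial.rootMultiplicity_pos hχ0).mpr hμ
  -- descent to `F`
  have hinjM : Function.Injective (fun M : Matrix (Fin 3) (Fin 3) F => M.map (algebraMap F K)) :=
    Matrix.map_injective (algebraMap F K).injective
  have hdesc : ∀ (j : ℕ) (c' : K), AK ^ j = c' • (1 : Matrix (Fin 3) (Fin 3) K) →
      ∃ c : F, c ≠ 0 ∧ A ^ j = c • (1 : Matrix (Fin 3) (Fin 3) F) := by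
    intro j c' hj
    have hpow : (A ^ j).map (algebraMap F K) = AK ^ j := Matrix.map_pow A (algebraMap F K) j
    have hc'0 : c' ≠ 0 := by
      rintro rfl
      rw [zero_smul] at hj
      have h1 : (AK ^ j).det = 0 := by rw [hj, Matrix.det_zero]
      rw [Matrix.det_pow] at h1
      exact hdet (eq_zero_of_pow_eq_zero h1)
    have hentry : ∀ i k : Fin 3, algebraMap F K ((A ^ j) i k) = if i = k then c' else 0 := by
      intro i k
      have := congrFun (congrFun (hpow.trans hj) i) k
      rw [Matrix.map_apply, Matrix.smul_apply, Matrix.one_apply, smul_eq_mul] at this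
      rw [this]
      split_ifs <;> simp
    refine ⟨(A ^ j) 0 0, ?_, ?_⟩
    · intro h00
      have := hentry 0 0
      rw [h00, map_zero, if_pos rfl] at this
      exact hc'0 this.symm
    · apply hinjM
      ext i k
      show algebraMap F K ((A ^ j) i k) = algebraMap F K (((A ^ j) 0 0 • (1 : Matrix (Fin 3) (Fin 3) F)) i k)
      rw [hentry i k, Matrix.smul_apply, Matrix.one_apply, smul_eq_mul]
      split_ifs
      · rw [mul_one, hentry 0 0, if_pos rfl]
      · rw [mul_zero, map_zero]
  rcases amoSP34_core m hsum h0 hmult with ⟨c, hc1, hc2⟩ | ⟨c, hc1, hc2⟩ | ⟨hc1, hc2⟩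
  · have hE := Cfsg.Agent.Lib.Helper1.MEO.pow_eq_of_roots_mult 2 AK 3 0 (by norm_num) c
      (fun μ hμ => hc1 μ (hpos μ hμ)) (fun μ => by simpa using hc2 μ)
    exact ⟨3 * 2 ^ 0, by norm_num, hdesc _ _ hE, by norm_num⟩
  · have hE := Cfsg.Agent.Lib.Helper1.MEO.pow_eq_of_roots_mult 2 AK 1 2 (by norm_num) c
      (fun μ hμ => hc1 μ (hpos μ hμ)) (fun μ => by simpa using hc2 μ)
    exact ⟨1 * 2 ^ 2, by norm_num, hdesc _ _ hE, by norm_num⟩
  · have hE := Cfsg.Agent.Lib.Helper1.MEO.pow_eq_of_roots_mult 2 AK 3 1 (by norm_num) 1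
      (fun μ hμ => hc1 μ (hpos μ hμ)) (fun μ => by simpa using hc2 μ)
    exact ⟨3 * 2 ^ 1, by norm_num, hdesc _ _ hE, by norm_num⟩

end

end Cfsg.Agent.Lib.Helper19.AMO
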