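import Mathlib
import Cfsg.Prelude.Def_GeometricClasses
import Cfsg.Agent.Lib.Helper27.ASC.Defs
import Cfsg.Agent.Lib.Helper19.ASG.Defs
import Cfsg.Agent.Lib.Helper26.ASGD1.Defs
import Cfsg.Agent.Lib.Helper19.ASU.Defs
import Cfsg.Agent.Lib.Helper19.ASUADJ
import Cfsg.Agent.Lib.Helper26.ASUC.Defs
import Cfsg.Agent.Lib.Helper19.ASU33Defs

/-!
# Project ASU, block C-33, piece HEIS (parallel backup, own names) : the Heisenberg set `{ω^c X^i Y^j}` is closed under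
products and contains the diagonal matrices of determinant one with entries cube roots of unity.
-/

set_option autoImplicit false
set_option linter.unusedVariables false
set_option linter.unusedSectionVars false

namespace Cfsg.Agent.Lib.Helper19.ASU

open Cfsg Cfsg.Geo Cfsg.Agent.Lib.Helper27.ASC Cfsg.Agent.Lib.Helper19.ASG
open scoped MatrixGroups Matrix Kronecker

variable {n : ℕ} {F : Type*} [Field F]

theorem asuc33heisb_omega3 (ω : F) (hω : ω ^ 2 + ω + 1 = 0) : ω ^ 3 = 1 := by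
  linear_combination (ω - 1) * hω

/-- `Y X = ω² X Y` -/
theorem asuc33heisb_YX (ω : F) (hω : ω ^ 2 + ω + 1 = 0) :
    (u33Y : Matrix (Fin 3) (Fin 3) F) * u33X ω = ω ^ 2 • (u33X ω * u33Y) := by
  have h3 := asuc33heisb_omega3 ω hω
  have h4 : ω ^ 2 * ω ^ 2 = ω := by linear_combination ω * h3
  have h3' : ω ^ 2 * ω = 1 := by linear_combination h3
  ext i j
  fin_cases i <;> fin_cases j <;>
    simp [u33X, u33Y, Matrix.mul_apply, Fin.sum_univ_three, h4, h3']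

theorem asuc33heisb_YXi (ω : F) (hω : ω ^ 2 + ω + 1 = 0) (i : ℕ) :
    (u33Y : Matrix (Fin 3) (Fin 3) F) * u33X ω ^ i = ω ^ (2 * i) • (u33X ω ^ i * u33Y) := by
  induction i with
  | zero => simp
  | succ i ih =>
    rw [pow_succ, ← mul_assoc, ih, smul_mul_assoc, mul_assoc, asuc33heisb_YX ω hω, mul_smul_comm, smul_smul,
      ← mul_assoc]
    congr 1
    ring

theorem asuc33heisb_YjXi (ω : F) (hω : ω ^ 2 + ω + 1 = 0) (j i : ℕ) :
    (u33Y : Matrix (Fin 3) (Fin 3) F) ^ j * u33X ω ^ i = ω ^ (2 * i * j) • (u33X ω ^ i * u33Y ^ j) := by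
  induction j with
  | zero => simp
  | succ j ih =>
    calc (u33Y : Matrix (Fin 3) (Fin 3) F) ^ (j + 1) * u33X ω ^ i
        = u33Y ^ j * (u33Y * u33X ω ^ i) := by rw [pow_succ, mul_assoc]
      _ = u33Y ^ j * (ω ^ (2 * i) • (u33X ω ^ i * u33Y)) := by rw [asuc33heisb_YXi ω hω]
      _ = ω ^ (2 * i) • ((u33Y ^ j * u33X ω ^ i) * u33Y) := by rw [mul_smul_comm, mul_assoc]
      _ = ω ^ (2 * i) • ((ω ^ (2 * i * j) • (u33X ω ^ i * u33Y ^ j)) * u33Y) := by rw [ih]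
      _ = (ω ^ (2 * i) * ω ^ (2 * i * j)) • (u33X ω ^ i * (u33Y ^ j * u33Y)) := by
          rw [smul_mul_assoc, smul_smul, mul_assoc (u33X ω ^ i)]
      _ = ω ^ (2 * i * (j + 1)) • (u33X ω ^ i * u33Y ^ (j + 1)) := by
          rw [← pow_add, ← pow_succ]
          congr 2
          ring

/-- cube roots of unity are powers of `ω` -/
theorem asuc33heisb_root (ω : F) (hω : ω ^ 2 + ω + 1 = 0) (x : F) (hx : x ^ 3 = 1) : ∃ a : ℕ, x = ω ^ a := by
  have h : (x - 1) * ((x - ω) * (x - ω ^ 2)) = 0 := by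
    linear_combination (x - 1) * (ω - 1 - x) * hω + hx
  rcases mul_eq_zero.mp h with h | h
  · exact ⟨0, by rw [pow_zero]; exact sub_eq_zero.mp h⟩
  · rcases mul_eq_zero.mp h with h | h
    · exact ⟨1, by rw [pow_one]; exact sub_eq_zero.mp h⟩
    · exact ⟨2, sub_eq_zero.mp h⟩

theorem asuc33heisb_X (ω : F) : u33X ω = Matrix.diagonal ![1, ω, ω ^ 2] := by
  ext i j
  fin_cases i <;> fin_cases j <;> simp [u33X]

/-- 33-HEIS, backup copy with the statement of the skeleton -/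
theorem asuc33heisb_heis (h2 : (2 : F) = 0) (ω : F) (hω : ω ^ 2 + ω + 1 = 0) :
    (∀ r ∈ u33Heis ω, ∀ s ∈ u33Heis ω, r * s ∈ u33Heis ω) ∧
    (∀ d : Fin 3 → F, (∀ i, d i ^ 3 = 1) → d 0 * d 1 * d 2 = 1 → Matrix.diagonal d ∈ u33Heis ω) := by
  have h3 := asuc33heisb_omega3 ω hω
  refine ⟨?_, ?_⟩
  · rintro r ⟨c, i, j, rfl⟩ s ⟨c', i', j', rfl⟩
    refine ⟨c + c' + 2 * i' * j, i + i', j + j', ?_⟩
    calc ω ^ c • (u33X ω ^ i * (u33Y : Matrix (Fin 3) (Fin 3) F) ^ j) * ω ^ c' • (u33X ω ^ i' * u33Y ^ j')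
        = (ω ^ c * ω ^ c') • (u33X ω ^ i * (u33Y ^ j * u33X ω ^ i') * u33Y ^ j') := by
          rw [smul_mul_smul_comm]
          simp only [mul_assoc]
      _ = (ω ^ c * ω ^ c') • (u33X ω ^ i * (ω ^ (2 * i' * j) • (u33X ω ^ i' * u33Y ^ j)) * u33Y ^ j') := by
          rw [asuc33heisb_YjXi ω hω]
      _ = (ω ^ c * ω ^ c' * ω ^ (2 * i' * j)) • ((u33X ω ^ i * u33X ω ^ i') * (u33Y ^ j * u33Y ^ j')) := by
          rw [mul_smul_comm, smul_mul_assoc, smul_smul]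
          simp only [mul_assoc]
      _ = ω ^ (c + c' + 2 * i' * j) • (u33X ω ^ (i + i') * u33Y ^ (j + j')) := by
          rw [← pow_add, ← pow_add, ← pow_add, ← pow_add]
  · intro d hd hprod
    obtain ⟨a, ha⟩ := asuc33heisb_root ω hω (d 0) (hd 0)
    obtain ⟨b, hb⟩ := asuc33heisb_root ω hω (d 1) (hd 1)
    have hd2 : d 2 = (d 0 * d 1) ^ 2 := by
      have h01 : (d 0 * d 1) ^ 3 = 1 := by rw [mul_pow, hd 0, hd 1, one_mul]
      calc d 2 = (d 0 * d 1) ^ 3 * d 2 := by rw [h01, one_mul]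
        _ = (d 0 * d 1) ^ 2 * (d 0 * d 1 * d 2) := by ring
        _ = (d 0 * d 1) ^ 2 := by rw [hprod, mul_one]
    refine ⟨a, b + 2 * a, 0, ?_⟩
    rw [pow_zero, mul_one, asuc33heisb_X, Matrix.diagonal_pow]
    ext k l
    have e1 : ω ^ a * ω ^ (b + 2 * a) = ω ^ b := by
      have : ω ^ a * ω ^ (b + 2 * a) = ω ^ b * (ω ^ 3) ^ a := by ring
      rw [this, h3, one_pow, mul_one]
    have e2 : ω ^ a * (ω ^ 2) ^ (b + 2 * a) = (ω ^ a * ω ^ b) ^ 2 := by
      have : ω ^ a * (ω ^ 2) ^ (b + 2 * a) = (ω ^ a * ω ^ b) ^ 2 * (ω ^ 3) ^ a := by ring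
      rw [this, h3, one_pow, mul_one]
    fin_cases k <;> fin_cases l <;> simp [ha, hb, hd2, e1, e2]

end Cfsg.Agent.Lib.Helper19.ASU
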