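import Mathlib
import Cfsg.Agent.Lib.Helper19.SU5.Defs
import Cfsg.Agent.Lib.Helper19.SU5.Defs2
import Cfsg.Agent.Lib.Helper27.STU.Frob
import Cfsg.Agent.Lib.helper2.STUV1
import Cfsg.Agent.Lib.helper4.SU4F1
import Cfsg.Agent.Lib.Helper5.SU4F2
import Cfsg.Agent.Lib.Helper22.SU4F3

/-!
# Project SU5 (designer helper19; S2291 odd case), row E3 `exists_ROU`: the CORE (helper29).
`su5e3_core`: the rank one data `RO D` exist, from the STATEMENTS of E1 `exists_iotaLU` and E2 `exists_HUU` (as hypotheses `hE1`, `hE2`) and the landed SU4 rows F1 `exists_twT`, F2 `exists_gensT`,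
F4 `gen_not_memT`.  For any `StarRing F` with `star x = x ^ q` and `Hyp F` (the verbatim row is the instance `frobStar hF`).
-/

set_option autoImplicit false

namespace Cfsg.Agent.Lib.Helper19.SU5

open Cfsg.Agent.Lib.helper17.SLP Cfsg.Agent.Lib.helper3.SP4 Cfsg.Agent.Lib.Helper22.SU4
open Cfsg.Agent.Lib.Helper27.STU (Lam XpM XmM XpS XmS SUm XpU XmU SysU)
open Cfsg.Agent.Lib.helper3.STC (ng sws)

universe u v w

theorem su5e3_core {F : Type u} [Field F] [Fintype F] [StarRing F] {q : ℕ} (hF : Fintype.card F = q ^ 2)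
    (hs : ∀ x : F, star x = x ^ q) (hH : Cfsg.Agent.Lib.Helper27.STU.Hyp F)
    (hE1 : ∀ (K : Type u) [Field K] [Fintype K] (D : Tw F K), (∀ x, D.σ x = star x) → ∀ κ : F, κ ≠ 0 → star κ = -κ →
      ∃ ιL : Matrix.SpecialLinearGroup (Fin 2) K →* ↥(SUm F True),
        ∀ M : Matrix.SpecialLinearGroup (Fin 2) K, Cfsg.Agent.Lib.Helper27.STU.SUm.mat (ιL M) =
          !![D.ι (M.1 0 0), 0, κ * D.ι (M.1 0 1); 0, 1, 0; κ⁻¹ * D.ι (M.1 1 0), 0, D.ι (M.1 1 1)])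
    (hE2 : ∀ κ : F, κ ≠ 0 → star κ = -κ → ∃ HU : Fˣ →* ↥(SUm F True), ∀ r : Fˣ,
      Cfsg.Agent.Lib.Helper27.STU.SUm.mat (HU r) =
        !![(r : F), 0, 0; 0, star (r : F) / (r : F), 0; 0, 0, (star (r : F))⁻¹]) :
    ∃ (K : Type u) (_ : Field K) (_ : Fintype K) (D : Tw F K) (_ : RO D), Fintype.card F = Fintype.card K ^ 2 := by
  obtain ⟨K, iK, fK, D, hK, hσq⟩ := exists_twT q hF
  obtain ⟨ζ, ζ₀, hζ, hζ₀, hn, -⟩ := exists_gensT q hF hK D hσq
  have hFK : Fintype.card F = Fintype.card K ^ 2 := by rw [hK]; exact hF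
  have hσ : ∀ x, D.σ x = star x := fun x => by rw [hσq, hs]
  have hnot := gen_not_memT D hFK ζ hζ
  have hκ : (ζ : F) - star (ζ : F) ≠ 0 := by
    intro h
    have h1 : D.σ (ζ : F) = (ζ : F) := by rw [hσ]; exact (sub_eq_zero.1 h).symm
    obtain ⟨y, hy⟩ := (D.fix _).1 h1
    exact hnot ⟨y, hy⟩
  have hκ' : star ((ζ : F) - star (ζ : F)) = -((ζ : F) - star (ζ : F)) := by
    rw [star_sub, star_star]; ring
  obtain ⟨ιL, hιL⟩ := hE1 K D hσ _ hκ hκ'
  obtain ⟨HU, hHU⟩ := hE2 _ hκ hκ'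
  have hstarι : ∀ u : K, star (D.ι u) = D.ι u := fun u => by
    rw [← hσ]; exact (D.fix _).2 ⟨u, rfl⟩
  obtain ⟨c₁, hc₁⟩ := hH.trace_surj (-1) (by simp)
  obtain ⟨c₂, hc₂⟩ := hH.trace_surj (-((ζ : F) * star (ζ : F))) (by
    rw [star_neg, star_mul', star_star, mul_comm])
  have hξ₁ : c₁ + star c₁ + (1 : F) * star (1 : F) = 0 := by
    rw [hc₁, star_one, mul_one]; ring
  have hξ₂ : c₂ + star c₂ + (ζ : F) * star (ζ : F) = 0 := by
    rw [hc₂]; ring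
  refine ⟨K, iK, fK, D,
    { ζ := ζ
      ζ₀ := ζ₀
      ιL := ιL
      HU := HU
      ξ₁ := ⟨1, c₁, hξ₁, fun h => absurd trivial h⟩
      ξ₂ := ⟨(ζ : F), c₂, hξ₂, fun h => absurd trivial h⟩
      hσ := hσ
      hζ := hζ
      hζ₀ := hζ₀
      hn := hn
      ιL_x := ?_
      ιL_w := ?_
      ιL_h := ?_
      HU_mat := hHU
      hv₁ := rfl
      hv₂ := rfl }, hFK⟩
  · intro u
    apply Cfsg.Agent.Lib.Helper27.STU.SUm.mat_injective
    rw [hιL, Cfsg.Agent.Lib.Helper27.STU.SUm.mat_XpU]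
    ext i j
    fin_cases i <;> fin_cases j <;> simp [XpM, xM, hstarι] <;> try ring
  · apply Cfsg.Agent.Lib.Helper27.STU.SUm.mat_injective
    rw [hιL]
    have hc : (Lam.tr (ζ : F) : Lam F True).c = (ζ : F) - star (ζ : F) := rfl
    have hc0 : (Lam.tr (ζ : F) : Lam F True).c ≠ 0 := by rw [hc]; exact hκ
    show _ = XpM (Lam.tr (ζ : F) : Lam F True) * XmM (Lam.mu (Lam.tr (ζ : F))) * XpM (Lam.nu (Lam.tr (ζ : F)))
    rw [Cfsg.Agent.Lib.Helper27.STU.SysU.WM_eq hc0, hc, hκ']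
    have e1 : -(-((ζ : F) - star (ζ : F)) / ((ζ : F) - star (ζ : F))) = 1 := by
      rw [neg_div, neg_neg, div_self hκ]
    have e2 : (-((ζ : F) - star (ζ : F)))⁻¹ = -((ζ : F) - star (ζ : F))⁻¹ := by rw [inv_neg]
    rw [e1, e2]
    ext i j
    fin_cases i <;> fin_cases j <;> simp [wM]
  · intro r
    apply Cfsg.Agent.Lib.Helper27.STU.SUm.mat_injective
    rw [hιL, hHU]
    have hr : D.ι (r : K) ≠ 0 := by
      rw [Ne, map_eq_zero]; exact r.ne_zero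
    have e1 : ((D.ιu r : Fˣ) : F) = D.ι (r : K) := rfl
    rw [e1, hstarι, div_self hr]
    ext i j
    fin_cases i <;> fin_cases j <;> simp [hM]

end Cfsg.Agent.Lib.Helper19.SU5
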