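import Mathlib
import Cfsg.Agent.Lib.Helper19.SU5.Defs
import Cfsg.Agent.Lib.Helper19.SU5.Defs2
import Cfsg.Agent.Lib.Helper27.STU.Frob
import Cfsg.Agent.Lib.Helper18.SU5E1
import Cfsg.Agent.Lib.Helper18.SU5E2
import Cfsg.Agent.Lib.Helper29.SU5E3core

/-!
# Project SU5 (designer helper19; S2291 odd case), row E3 `exists_ROU`, VERBATIM (helper29).
The rank one data `RO D` exist: `su5e3_core` (`Helper29.SU5E3core`) at the Frobenius involution `frobStar hF`, on helper18's E1 `exists_iotaLU` and E2 `exists_HUU`.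
-/

set_option autoImplicit false

namespace Cfsg.Agent.Lib.Helper19.SU5

open Cfsg.Agent.Lib.helper17.SLP Cfsg.Agent.Lib.helper3.SP4 Cfsg.Agent.Lib.Helper22.SU4
open Cfsg.Agent.Lib.Helper27.STU (Lam XpM XmM XpS XmS SUm XpU XmU SysU)
open Cfsg.Agent.Lib.helper3.STC (ng sws)

universe u v w

/-- E3 [M]  deps E1 E2 + SU4 F1 `exists_twT`, F2 `exists_gensT`, F4 `gen_not_memT` (`κ = ζ - star ζ ≠ 0`).  `letI := frobStar hF`, `frobStar_hyp hF`; `D.σ x = x ^ q = star x`; `ξ₁ ξ₂`: `hF.trace_surj` (`c + star c = -(v star v)`).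
`ιL_x ιL_w ιL_h`: `SUm.mat_injective` and the matrices (`su5f8_mat_WU`-like: `WM_eq`). -/
theorem exists_ROU {F : Type u} [Field F] [Fintype F] {q : ℕ} (hF : Fintype.card F = q ^ 2) :
    letI := Cfsg.Agent.Lib.Helper27.STU.frobStar hF
    ∃ (K : Type u) (_ : Field K) (_ : Fintype K) (D : Tw F K) (_ : RO D), Fintype.card F = Fintype.card K ^ 2 := by
  letI := Cfsg.Agent.Lib.Helper27.STU.frobStar hF
  exact su5e3_core hF (fun _ => rfl) (Cfsg.Agent.Lib.Helper27.STU.frobStar_hyp hF)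
    (fun K _ _ D hσ κ hκ hκ' => exists_iotaLU D hσ κ hκ hκ')
    (fun κ hκ hκ' => exists_HUU (Cfsg.Agent.Lib.Helper27.STU.frobStar_hyp hF) κ hκ hκ')

end Cfsg.Agent.Lib.Helper19.SU5
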