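import Mathlib
import Cfsg.Agent.Lib.helper3.SU5.Defs
import Cfsg.Agent.Lib.helper8.STULA1
import Cfsg.Agent.Lib.Helper24.STUM0
import Cfsg.Agent.Lib.Helper24.STCI1

/-!
# Project SU5 (designer helper3), row G4 (helper29): `Pre.Mon.ls` (verbatim): `ls` transports along a monomial element.

Extras: `su5g4_cj_cm` (= statement of G0 `cj_cm`), `su5g4_xs_eq`, `su5g4_xl_eq` (= statements of G0 `Mon.xs_eq`, `Mon.xl_eq`), own names.
-/

set_option autoImplicit false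

namespace Cfsg.Agent.Lib.helper3.SU5

open Cfsg.Agent.Lib.helper15.St2 Cfsg.Agent.Lib.Helper27.STU
open Cfsg.Agent.Lib.helper3.STC (ng sws)

universe u v w w₀

namespace Pre

section G

variable {F : Type u} [Field F] [StarRing F] {od : Prop} {ι : Type v} {G : Type w} [Group G] (P : Pre F od ι G)
  {g : G} {π : Equiv.Perm (ι ⊕ ι)} {d : ι ⊕ ι → F} {d0 : F}

theorem su5g4_cj_cm (g x y : G) : cj g (cm x y) = cm (cj g x) (cj g y) := by
  unfold cj cm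
  group

theorem su5g4_xs_eq (hg : P.Mon g π d d0) {a b : ι ⊕ ι} (hab : a ≠ b) (hab' : a ≠ ng b) (t : F) :
    P.xs (π a) (π b) t = cj g (P.xs a b ((d a * (d b)⁻¹)⁻¹ * t)) := by
  obtain ⟨hM, hs, hl⟩ := hg
  rw [hs a b hab hab', mul_inv_cancel_left₀ (mul_ne_zero (hM.d_ne a) (inv_ne_zero (hM.d_ne b)))]

theorem su5g4_xl_eq (hg : P.Mon g π d d0) (a : ι ⊕ ι) (ξ : Lam F od) :
    P.xl (π a) ξ = cj g (P.xl a (Lam.act (d a * d0⁻¹)⁻¹ ξ)) := by
  obtain ⟨hM, hs, hl⟩ := hg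
  rw [hl a, Lam.act_act, mul_inv_cancel₀ (mul_ne_zero (hM.d_ne a) (inv_ne_zero hM.d0_ne)), Lam.act_one]

/-- G4 [M]  `ls` transports. -/
theorem Mon.ls (hg : P.Mon g π d d0) {a b : ι ⊕ ι} (hab : a ≠ b) (hab' : a ≠ ng b) (h : P.Ls a b) : P.Ls (π a) (π b) := by
  have hg' := hg
  obtain ⟨hM, hs, hl⟩ := hg
  intro ξ u
  have hnab : ng a ≠ b := fun e => hab' (by rw [← e, Cfsg.Agent.Lib.helper3.STC.ng_ng])
  have hnab' : ng a ≠ ng b := fun e => hab (Cfsg.Agent.Lib.helper3.STC.ng_inj.mp e)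
  have hda : d a ≠ 0 := hM.d_ne a
  have hdb : d b ≠ 0 := hM.d_ne b
  have hd0 : d0 ≠ 0 := hM.d0_ne
  have hda' : star (d a) ≠ 0 := fun e => hda (by simpa using congrArg star e)
  have hdb' : star (d b) ≠ 0 := fun e => hdb (by simpa using congrArg star e)
  have hs0 : star d0 = d0⁻¹ := hM.d0_inv.symm
  have e1 : d a * (d b)⁻¹ * ((Lam.act (d a * d0⁻¹)⁻¹ ξ).c * ((d (ng a) * (d b)⁻¹)⁻¹ * u)) = ξ.c * u := by
    rw [hM.d_ng_eq a]
    simp only [Lam.act_c, star_mul', star_inv₀, hs0]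
    field_simp
  have e2 : Lam.act (d (ng b) * d0⁻¹) (Lam.act (star ((d (ng a) * (d b)⁻¹)⁻¹ * u)) (Lam.bar (Lam.act (d a * d0⁻¹)⁻¹ ξ))) =
      Lam.act (star u) (Lam.bar ξ) := by
    rw [hM.d_ng_eq a, hM.d_ng_eq b]
    apply Lam.ext
    · simp only [Lam.act_v, Lam.bar_v, star_mul', star_inv₀, star_star]
      field_simp
    · simp only [Lam.act_c, Lam.bar_c, star_mul', star_inv₀, star_star, hs0]
      field_simp
  rw [su5g4_xl_eq P hg' a ξ, ← hM.pi_ng a, su5g4_xs_eq P hg' hnab hnab' u, ← su5g4_cj_cm, h, cj_mul,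
    hs a b hab hab', hl (ng b), hM.pi_ng b, e1, e2]

end G

end Pre

end Cfsg.Agent.Lib.helper3.SU5
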