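import Mathlib
import Cfsg.Agent.Lib.helper3.SU5.Defs
import Cfsg.Agent.Lib.helper8.STULA1
import Cfsg.Agent.Lib.Helper24.STUM0
import Cfsg.Agent.Lib.Helper24.STCI1
import Cfsg.Agent.Lib.Helper29.SU5G4

/-!
# Project SU5 (designer helper3), row G5 (helper29): `Pre.Mon.hh` (verbatim): `hh` transports along a monomial element.
-/

set_option autoImplicit false

namespace Cfsg.Agent.Lib.helper3.SU5

open Cfsg.Agent.Lib.helper15.St2 Cfsg.Agent.Lib.Helper27.STU
open Cfsg.Agent.Lib.helper3.STC (ng sws)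

universe u v w w₀

namespace Pre

section G

variable {F : Type u} [Field F] [StarRing F] {od : Prop} {ι : Type v} {G : Type w} [Group G] (P : Pre F od ι G)
  {g : G} {π : Equiv.Perm (ι ⊕ ι)} {d : ι ⊕ ι → F} {d0 : F}

/-- G5 [M]  `hh` transports (`d a / d (ng b) = (d a / d0) * star (d b / d0)`). -/
theorem Mon.hh (hg : P.Mon g π d d0) {a b : ι ⊕ ι} (hab : a ≠ b) (hab' : a ≠ ng b) (h : P.Hh a b) : P.Hh (π a) (π b) := by
  have hg' := hg
  obtain ⟨hM, hs, hl⟩ := hg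
  intro ξ η
  have hanb : a ≠ ng (ng b) := by rw [Cfsg.Agent.Lib.helper3.STC.ng_ng]; exact hab
  have hda : d a ≠ 0 := hM.d_ne a
  have hdb : d b ≠ 0 := hM.d_ne b
  have hd0 : d0 ≠ 0 := hM.d0_ne
  have hda' : star (d a) ≠ 0 := fun e => hda (by simpa using congrArg star e)
  have hdb' : star (d b) ≠ 0 := fun e => hdb (by simpa using congrArg star e)
  have hs0 : star d0 = d0⁻¹ := hM.d0_inv.symm
  have e1 : d a * (d (ng b))⁻¹ * -((Lam.act (d a * d0⁻¹)⁻¹ ξ).v * star (Lam.act (d b * d0⁻¹)⁻¹ η).v) =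
      -(ξ.v * star η.v) := by
    rw [hM.d_ng_eq b]
    simp only [Lam.act_v, star_mul', star_inv₀, hs0]
    field_simp
  rw [su5g4_xl_eq P hg' a ξ, su5g4_xl_eq P hg' b η, ← su5g4_cj_cm, h, hs a (ng b) hab' hanb, hM.pi_ng b, e1]

end G

end Pre

end Cfsg.Agent.Lib.helper3.SU5
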