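import Mathlib
import Cfsg.Agent.Lib.Helper20.Marg.Defs

/-!
# S3620 (Marggraf), helper20's project, piece (A): `StabPrimProp`.

Point stabilizers of a 2-transitive group with a Jordan set of size `2 ≤ m ≤ n/2` are primitive on
the remaining points (counting proof from `Lib/Helper20/Marg/PLAN.md`).
-/

set_option autoImplicit false

namespace Cfsg.Agent.Lib.Helper29.MargA
open MulAction
open scoped Pointwise
open Cfsg.Agent.Lib.Helper20.Marg

universe u v

section Count
variable {G : Type v} [Group G] {α : Type u} [MulAction G α]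

/-- translates of Jordan sets are Jordan sets -/
theorem isJordanSet_smul {Δ : Set α} (hΔ : IsJordanSet G Δ) (g : G) : IsJordanSet G (g • Δ) := by
  intro x hx y hy
  rw [Set.mem_smul_set_iff_inv_smul_mem] at hx hy
  obtain ⟨k, hk1, hk2⟩ := hΔ _ hx _ hy
  refine ⟨g * k * g⁻¹, ?_, ?_⟩
  · intro z hz
    have hz' : g⁻¹ • z ∉ Δ := by
      rwa [Set.mem_smul_set_iff_inv_smul_mem] at hz
    rw [mul_smul, mul_smul, hk1 _ hz', smul_inv_smul]
  · rw [mul_smul, mul_smul, hk2, smul_inv_smul]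

variable [Fintype α]

open Classical in
/-- the finite set of translates of `Δ` -/
noncomputable def trans (G : Type v) [Group G] [MulAction G α] (Δ : Set α) : Finset (Set α) :=
  Finset.univ.filter (fun T => ∃ g : G, g • Δ = T)

open Classical in
/-- the number of translates with a given property -/
noncomputable def cnt (G : Type v) [Group G] [MulAction G α] (Δ : Set α) (p : Set α → Prop) : ℕ :=
  ((trans G Δ).filter p).card


theorem mem_trans {Δ T : Set α} : T ∈ trans G Δ ↔ ∃ g : G, g • Δ = T := by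
  classical
  simp [trans]


theorem smul_mem_trans {Δ T : Set α} (hT : T ∈ trans G Δ) (h : G) : h • T ∈ trans G Δ := by
  obtain ⟨g, rfl⟩ := mem_trans.mp hT
  exact mem_trans.mpr ⟨h * g, by rw [mul_smul]⟩


theorem ncard_of_mem_trans {Δ T : Set α} (hT : T ∈ trans G Δ) : T.ncard = Δ.ncard := by
  obtain ⟨g, rfl⟩ := mem_trans.mp hT
  rw [← Set.image_smul]
  exact Set.ncard_image_of_injective _ (MulAction.injective g)


theorem cnt_smul (Δ : Set α) (p : Set α → Prop) (h : G) :
    cnt G Δ (fun T => p (h • T)) = cnt G Δ p := by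
  classical
  unfold cnt
  refine Finset.card_nbij' (fun T => h • T) (fun T => h⁻¹ • T) ?_ ?_ ?_ ?_
  · intro T hT
    simp only [Finset.coe_filter, Set.mem_ofPred_eq] at hT ⊢
    exact ⟨smul_mem_trans hT.1 h, hT.2⟩
  · intro T hT
    simp only [Finset.coe_filter, Set.mem_ofPred_eq] at hT ⊢
    refine ⟨smul_mem_trans hT.1 h⁻¹, ?_⟩
    rw [smul_inv_smul]; exact hT.2
  · intro T _
    simp only [inv_smul_smul]
  · intro T _
    simp only [smul_inv_smul]

/-- number of translates through two points -/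
noncomputable def lam (G : Type v) [Group G] [MulAction G α] (Δ : Set α) (x y : α) : ℕ :=
  cnt G Δ (fun T => x ∈ T ∧ y ∈ T)


theorem lam_smul (Δ : Set α) (x y : α) (h : G) : lam G Δ (h • x) (h • y) = lam G Δ x y := by
  unfold lam
  rw [← cnt_smul Δ (fun T => x ∈ T ∧ y ∈ T) h⁻¹]
  congr 1
  funext T
  rw [Set.mem_smul_set_iff_inv_smul_mem, Set.mem_smul_set_iff_inv_smul_mem, inv_inv]


theorem lam_const (h2 : IsMultiplyPretransitive G α 2) (Δ : Set α) {x y x' y' : α} (hxy : x ≠ y)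
    (hxy' : x' ≠ y') : lam G Δ x y = lam G Δ x' y' := by
  obtain ⟨g, hg1, hg2⟩ := (is_two_pretransitive_iff.mp h2) hxy hxy'
  rw [← hg1, ← hg2, lam_smul]


theorem double_count (h2 : IsMultiplyPretransitive G α 2) (Δ : Set α) (x y0 : α) (hxy0 : x ≠ y0) :
    cnt G Δ (fun T => x ∈ T) * (Δ.ncard - 1) = (Fintype.card α - 1) * lam G Δ x y0 := by
  classical
  have key := Finset.sum_card_bipartiteAbove_eq_sum_card_bipartiteBelow
    (fun (T : Set α) (y : α) => y ∈ T) (s := (trans G Δ).filter (fun T => x ∈ T))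
    (t := Finset.univ.erase x)
  have hL : ∀ T ∈ (trans G Δ).filter (fun T => x ∈ T),
      (Finset.bipartiteAbove (fun (T : Set α) (y : α) => y ∈ T) (Finset.univ.erase x) T).card
        = Δ.ncard - 1 := by
    intro T hT
    rw [Finset.mem_filter] at hT
    have h1 : Finset.bipartiteAbove (fun (T : Set α) (y : α) => y ∈ T) (Finset.univ.erase x) T
        = T.toFinset.erase x := by
      ext y
      simp only [Finset.bipartiteAbove, Finset.mem_filter, Finset.mem_erase, Finset.mem_univ,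
        and_true, Set.mem_toFinset]
    rw [h1, Finset.card_erase_of_mem (by rw [Set.mem_toFinset]; exact hT.2),
      ← Set.ncard_eq_toFinset_card', ncard_of_mem_trans hT.1]
  have hR : ∀ y ∈ Finset.univ.erase x,
      (Finset.bipartiteBelow (fun (T : Set α) (y : α) => y ∈ T)
        ((trans G Δ).filter (fun T => x ∈ T)) y).card = lam G Δ x y0 := by
    intro y hy
    rw [Finset.mem_erase] at hy
    have h1 : Finset.bipartiteBelow (fun (T : Set α) (y : α) => y ∈ T)
        ((trans G Δ).filter (fun T => x ∈ T)) y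
        = (trans G Δ).filter (fun T => x ∈ T ∧ y ∈ T) := by
      ext T
      simp only [Finset.bipartiteBelow, Finset.mem_filter]
      tauto
    rw [h1, ← lam_const h2 Δ (Ne.symm hy.1) hxy0]
    unfold lam cnt
    congr
  rw [Finset.sum_const_nat hL, Finset.sum_const_nat hR, Finset.card_erase_of_mem (Finset.mem_univ x),
    Finset.card_univ] at key
  exact key


theorem cnt_le_cnt (Δ : Set α) {p q : Set α → Prop} (h : ∀ T ∈ trans G Δ, p T → q T) :
    cnt G Δ p ≤ cnt G Δ q := by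
  classical
  unfold cnt
  apply Finset.card_le_card
  intro T hT
  rw [Finset.mem_filter] at hT ⊢
  exact ⟨hT.1, h T hT.1 hT.2⟩


theorem cnt_split (Δ : Set α) (p q : Set α → Prop) :
    cnt G Δ p = cnt G Δ (fun T => p T ∧ q T) + cnt G Δ (fun T => p T ∧ ¬ q T) := by
  classical
  unfold cnt
  rw [← Finset.card_filter_add_card_filter_not (s := (trans G Δ).filter p) q]
  congr 2
  · ext T; simp only [Finset.mem_filter]; tauto
  · ext T; simp only [Finset.mem_filter]; tauto


theorem cnt_pos (Δ : Set α) {p : Set α → Prop} (h : 0 < cnt G Δ p) : ∃ T ∈ trans G Δ, p T := by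
  classical
  unfold cnt at h
  obtain ⟨T, hT⟩ := Finset.card_pos.mp h
  rw [Finset.mem_filter] at hT
  exact ⟨T, hT.1, hT.2⟩


theorem cnt_pos_of (Δ : Set α) {p : Set α → Prop} {T : Set α} (hT : T ∈ trans G Δ) (hp : p T) :
    0 < cnt G Δ p := by
  classical
  unfold cnt
  exact Finset.card_pos.mpr ⟨T, by rw [Finset.mem_filter]; exact ⟨hT, hp⟩⟩

/-- if `q ⇒ p` on translates and `#p ≤ #q` then `p ⇒ q` on translates -/
theorem cnt_imp_of_le (Δ : Set α) {p q : Set α → Prop} (h : ∀ T ∈ trans G Δ, q T → p T)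
    (hle : cnt G Δ p ≤ cnt G Δ q) : ∀ T ∈ trans G Δ, p T → q T := by
  classical
  unfold cnt at hle
  have hsub : (trans G Δ).filter q ⊆ (trans G Δ).filter p := by
    intro T hT
    rw [Finset.mem_filter] at hT ⊢
    exact ⟨hT.1, h T hT.1 hT.2⟩
  have heq := Finset.eq_of_subset_of_card_le hsub hle
  intro T hT hpT
  have : T ∈ (trans G Δ).filter p := by rw [Finset.mem_filter]; exact ⟨hT, hpT⟩
  rw [← heq, Finset.mem_filter] at this
  exact this.2

/-- a block (for the stabilizer of `ω`) meeting a translate `T ∌ ω` contains it or is contained in it -/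
theorem dich {Δ : Set α} (hΔ : IsJordanSet G Δ) (ω : α) (C : Set α)
    (hblock : ∀ g : G, g • ω = ω → ∀ x ∈ C, g • x ∈ C → ∀ y ∈ C, g • y ∈ C)
    {T : Set α} (hT : T ∈ trans G Δ) (hωT : ω ∉ T) {x : α} (hxC : x ∈ C) (hxT : x ∈ T) :
    C ⊆ T ∨ T ⊆ C := by
  by_cases hCT : C ⊆ T
  · exact Or.inl hCT
  · right
    obtain ⟨c, hcC, hcT⟩ := Set.not_subset.mp hCT
    obtain ⟨g, rfl⟩ := mem_trans.mp hT
    intro y hy
    obtain ⟨k, hk1, hk2⟩ := isJordanSet_smul hΔ g x hxT y hy
    have := hblock k (hk1 ω hωT) c hcC (by rw [hk1 c hcT]; exact hcC) x hxC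
    rwa [hk2] at this


theorem lam_pos (h2 : IsMultiplyPretransitive G α 2) {Δ : Set α} (hm : 2 ≤ Δ.ncard) {x y : α}
    (hxy : x ≠ y) : 0 < lam G Δ x y := by
  obtain ⟨d, d', hd, hd', hdd'⟩ := (Set.one_lt_ncard_iff (Set.toFinite Δ)).mp (by omega)
  rw [lam_const h2 Δ hxy hdd']
  exact cnt_pos_of Δ (mem_trans.mpr ⟨1, one_smul _ _⟩) ⟨hd, hd'⟩

/-- the combinatorial core -/
theorem core (h2 : IsMultiplyPretransitive G α 2) {Δ : Set α} (hΔ : IsJordanSet G Δ)
    (hm : 2 ≤ Δ.ncard) (hn : 2 * Δ.ncard ≤ Fintype.card α) (ω : α) (C : Set α) (hωC : ω ∉ C)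
    (hblock : ∀ g : G, g • ω = ω → ∀ x ∈ C, g • x ∈ C → ∀ y ∈ C, g • y ∈ C)
    (b b' : α) (hb : b ∈ C) (hb' : b' ∈ C) (hbb' : b ≠ b')
    (hsize : 2 * C.ncard + 1 ≤ Fintype.card α) : False := by
  have hbω : b ≠ ω := fun h => hωC (h ▸ hb)
  obtain ⟨L, hL⟩ : ∃ L, L = lam G Δ b ω := ⟨_, rfl⟩
  have hLpos : 0 < L := hL ▸ lam_pos h2 hm hbω
  have hLc : ∀ {x y : α}, x ≠ y → lam G Δ x y = L := fun hxy => hL ▸ lam_const h2 Δ hxy hbω
  rcases le_or_gt C.ncard Δ.ncard with hs | hs
  · -- case (ii)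
    have hdc := double_count h2 Δ b ω hbω
    rw [← hL] at hdc
    have hsplit := cnt_split (G := G) Δ (fun T => b ∈ T) (fun T => ω ∈ T)
    have hle : cnt G Δ (fun T => b ∈ T ∧ ω ∉ T) ≤ lam G Δ b b' := by
      apply cnt_le_cnt
      intro T hT hp
      refine ⟨hp.1, ?_⟩
      rcases dich hΔ ω C hblock hT hp.2 hb hp.1 with h | h
      · exact h hb'
      · have hTC : T = C := by
          apply Set.eq_of_subset_of_ncard_le h _ (Set.toFinite C)
          rw [ncard_of_mem_trans hT]; exact hs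
        rw [hTC]; exact hb'
    rw [hLc hbb'] at hle
    have hsplit' : cnt G Δ (fun T => b ∈ T) = L + cnt G Δ (fun T => b ∈ T ∧ ω ∉ T) := by
      rw [hsplit]; congr 1; exact hLc hbω
    have h1 : (Fintype.card α - 1) * L ≤ (2 * L) * (Δ.ncard - 1) := by
      rw [← hdc]
      apply Nat.mul_le_mul_right
      omega
    have h2' : (Fintype.card α - 1) * L ≤ (2 * (Δ.ncard - 1)) * L := by
      calc (Fintype.card α - 1) * L ≤ (2 * L) * (Δ.ncard - 1) := h1
        _ = (2 * (Δ.ncard - 1)) * L := by ring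
    have h3 := Nat.le_of_mul_le_mul_right h2' hLpos
    omega
  · -- case (i)
    have hall : ∀ y : α, y ∉ C → ∀ T ∈ trans G Δ, b ∈ T → ω ∈ T → y ∈ T := by
      intro y hyC T hT hbT hωT
      by_cases hyω : y = ω
      · rw [hyω]; exact hωT
      have hby : b ≠ y := fun h => hyC (h ▸ hb)
      -- every translate through b, y contains ω
      have h1 : cnt G Δ (fun T => b ∈ T ∧ y ∈ T) ≤ cnt G Δ (fun T => (b ∈ T ∧ ω ∈ T) ∧ y ∈ T) := by
        apply cnt_le_cnt
        intro T' hT' hp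
        refine ⟨⟨hp.1, ?_⟩, hp.2⟩
        by_contra hωT'
        rcases dich hΔ ω C hblock hT' hωT' hb hp.1 with h | h
        · have := Set.ncard_le_ncard h (Set.toFinite T')
          rw [ncard_of_mem_trans hT'] at this
          omega
        · exact hyC (h hp.2)
      have h2' : cnt G Δ (fun T => b ∈ T ∧ ω ∈ T) ≤ cnt G Δ (fun T => (b ∈ T ∧ ω ∈ T) ∧ y ∈ T) := by
        have e1 : cnt G Δ (fun T => b ∈ T ∧ ω ∈ T) = L := hLc hbω
        have e2 : cnt G Δ (fun T => b ∈ T ∧ y ∈ T) = L := hLc hby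
        rw [e1, ← e2]; exact h1
      have h3 := cnt_imp_of_le (G := G) Δ (p := fun T => b ∈ T ∧ ω ∈ T)
        (q := fun T => (b ∈ T ∧ ω ∈ T) ∧ y ∈ T) (fun T _ hq => hq.1) h2'
      exact (h3 T hT ⟨hbT, hωT⟩).2
    have hpos : 0 < cnt G Δ (fun T => b ∈ T ∧ ω ∈ T) := by
      have : cnt G Δ (fun T => b ∈ T ∧ ω ∈ T) = L := hLc hbω
      omega
    obtain ⟨T0, hT0, hT0p⟩ := cnt_pos Δ hpos
    have hsub : Cᶜ ⊆ T0 := fun y hy => hall y hy T0 hT0 hT0p.1 hT0p.2
    have h1 := Set.ncard_le_ncard hsub (Set.toFinite T0)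
    rw [ncard_of_mem_trans hT0] at h1
    have h2' : C.ncard + Cᶜ.ncard = Fintype.card α := by
      rw [Set.ncard_add_ncard_compl, Nat.card_eq_fintype_card]
    omega

end Count


theorem stabPrim : StabPrimProp.{u, v} := by
  intro G _ α _ _ h2 Δ hΔ hm hn ω
  have : IsPretransitive G α := isPretransitive_of_is_two_pretransitive (h2 := h2)
  have h1 : IsMultiplyPretransitive (stabilizer G ω) (SubMulAction.ofStabilizer G ω) 1 :=
    (SubMulAction.ofStabilizer.isMultiplyPretransitive (n := 1)).mp h2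
  have hpt : IsPretransitive (stabilizer G ω) (SubMulAction.ofStabilizer G ω) :=
    is_one_pretransitive_iff.mp h1
  refine IsPreprimitive.mk ?_
  intro B hB
  by_contra hnt
  rw [IsTrivialBlock, not_or] at hnt
  obtain ⟨hns, hnu⟩ := hnt
  obtain ⟨b, hb, b', hb', hbb'⟩ : ∃ b ∈ B, ∃ b' ∈ B, b ≠ b' := by
    rw [Set.not_subsingleton_iff] at hns
    exact hns
  obtain ⟨z, hz⟩ : ∃ z, z ∉ B := by
    by_contra h
    push Not at h
    exact hnu (Set.eq_univ_of_forall h)
  obtain ⟨C, hC⟩ : ∃ C : Set α, C = Subtype.val '' B := ⟨_, rfl⟩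
  have hmemC : ∀ y : SubMulAction.ofStabilizer G ω, (y : α) ∈ C ↔ y ∈ B := by
    intro y
    rw [hC]
    constructor
    · rintro ⟨y', hy', hyy'⟩
      rwa [Subtype.val_injective hyy'] at hy'
    · intro hy
      exact ⟨y, hy, rfl⟩
  have hCne : ∀ x ∈ C, x ≠ ω := by
    intro x hx
    rw [hC] at hx
    obtain ⟨y, _, rfl⟩ := hx
    exact SubMulAction.neq_of_mem_ofStabilizer G ω
  have hωC : ω ∉ C := fun h => hCne ω h rfl
  have hblock : ∀ g : G, g • ω = ω → ∀ x ∈ C, g • x ∈ C → ∀ y ∈ C, g • y ∈ C := by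
    intro g hg x hx hgx y hy
    obtain ⟨x', hx', rfl⟩ : ∃ x' ∈ B, (x' : α) = x := by rw [hC] at hx; exact hx
    obtain ⟨y', hy', rfl⟩ : ∃ y' ∈ B, (y' : α) = y := by rw [hC] at hy; exact hy
    obtain ⟨γ, hγ⟩ : ∃ γ : stabilizer G ω, (γ : G) = g := ⟨⟨g, mem_stabilizer_iff.mpr hg⟩, rfl⟩
    have hval : ∀ w : SubMulAction.ofStabilizer G ω, ((γ • w : SubMulAction.ofStabilizer G ω) : α)
        = g • (w : α) := by
      intro w
      rw [← hγ]
      rfl
    have h1 : γ • x' ∈ B := by
      rw [← hmemC, hval]; exact hgx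
    have h2 : γ • B = B := hB.smul_eq_of_mem hx' h1
    have h3 : γ • y' ∈ B := by
      rw [← h2]; exact Set.smul_mem_smul_set hy'
    rw [← hval, hmemC]
    exact h3
  have hsize : 2 * C.ncard + 1 ≤ Fintype.card α := by
    have hCB : C.ncard = B.ncard := by
      rw [hC]; exact Set.ncard_image_of_injective _ Subtype.val_injective
    obtain ⟨γ, hγ⟩ := exists_smul_eq (stabilizer G ω) b z
    have hne : γ • B ≠ B := by
      intro h
      apply hz
      rw [← h, ← hγ]
      exact Set.smul_mem_smul_set hb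
    have hdisj : Disjoint (γ • B) B := hB.disjoint_smul_of_ne hne
    have hcard : (γ • B).ncard = B.ncard := by
      rw [← Set.image_smul]
      exact Set.ncard_image_of_injective _ (MulAction.injective γ)
    have hunion : (γ • B ∪ B).ncard = 2 * B.ncard := by
      rw [Set.ncard_union_eq hdisj (Set.toFinite _) (Set.toFinite _), hcard]; ring
    have hle : (γ • B ∪ B).ncard ≤ Nat.card (SubMulAction.ofStabilizer G ω) := by
      rw [← Set.ncard_univ]
      exact Set.ncard_le_ncard (Set.subset_univ _) (Set.toFinite _)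
    have hcardX := SubMulAction.nat_card_ofStabilizer_add_one_eq G ω
    rw [Nat.card_eq_fintype_card (α := α)] at hcardX
    omega
  exact core h2 hΔ hm hn ω C hωC hblock b.1 b'.1 ((hmemC b).mpr hb) ((hmemC b').mpr hb')
    (fun h => hbb' (Subtype.ext h)) hsize

end Cfsg.Agent.Lib.Helper29.MargA
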