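import Mathlib
import Cfsg.Agent.Lib.Helper18.OCT.Defs

/-!
# OCG row D1 (helper29): `TorSet_props`
-/

set_option autoImplicit false

namespace Cfsg.Agent.Lib.Helper18.OCT

open Cfsg.Lie Matrix
open scoped MatrixGroups

section D

variable {F : Type*} [Field F]

theorem ocgd1_kmat_mul (δ x y x' y' : F) :
    kmat δ x y * kmat δ x' y' = kmat δ (x * x' + δ * y * y') (x * y' + y * x') := by
  ext i j
  fin_cases i <;> fin_cases j <;> (simp [kmat, Matrix.mul_apply, Fin.sum_univ_two]; try ring)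

theorem ocgd1_kmat_one (δ : F) : kmat δ 1 0 = 1 := by
  ext i j
  fin_cases i <;> fin_cases j <;> simp [kmat]

theorem ocgd1_kmat_det (δ x y : F) : (kmat δ x y).det = x ^ 2 - δ * y ^ 2 := by
  rw [kmat, Matrix.det_fin_two_of]
  ring

theorem ocgd1_kmat_comm (δ x y x' y' : F) :
    kmat δ x y * kmat δ x' y' = kmat δ x' y' * kmat δ x y := by
  rw [ocgd1_kmat_mul, ocgd1_kmat_mul]
  congr 1 <;> ring

/-- the inverse of `k(x,y)` (`d = x² - δy² ≠ 0`) is `k(x/d, -y/d)` -/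
theorem ocgd1_kmat_inv (δ x y : F) (hd : x ^ 2 - δ * y ^ 2 ≠ 0) :
    kmat δ x y * kmat δ (x / (x ^ 2 - δ * y ^ 2)) (-y / (x ^ 2 - δ * y ^ 2)) = 1 := by
  rw [ocgd1_kmat_mul, ← ocgd1_kmat_one δ]
  congr 1
  · field_simp
    ring
  · field_simp
    ring

theorem ocgd1_det_ne (δ x y : F) (g : GL (Fin 2) F)
    (hg : (g : Matrix (Fin 2) (Fin 2) F) = kmat δ x y) : x ^ 2 - δ * y ^ 2 ≠ 0 := by
  have h1 : IsUnit (g : Matrix (Fin 2) (Fin 2) F).det := (Matrix.isUnit_iff_isUnit_det _).1 g.isUnit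
  rw [hg, ocgd1_kmat_det] at h1
  exact h1.ne_zero

theorem ocgd1_mul (δ : F) (g h : GL (Fin 2) F) (hg : g ∈ TorSet δ) (hh : h ∈ TorSet δ) :
    g * h ∈ TorSet δ := by
  obtain ⟨x, y, hxy⟩ := hg
  obtain ⟨x', y', hxy'⟩ := hh
  exact ⟨_, _, by rw [Units.val_mul, hxy, hxy', ocgd1_kmat_mul]⟩

theorem ocgd1_inv (δ : F) (g : GL (Fin 2) F) (hg : g ∈ TorSet δ) : g⁻¹ ∈ TorSet δ := by
  obtain ⟨x, y, hxy⟩ := hg
  have hd := ocgd1_det_ne δ x y g hxy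
  refine ⟨x / (x ^ 2 - δ * y ^ 2), -y / (x ^ 2 - δ * y ^ 2), ?_⟩
  rw [Matrix.coe_units_inv, hxy]
  exact Matrix.inv_eq_right_inv (ocgd1_kmat_inv δ x y hd)

theorem ocgd1_one (δ : F) : (1 : GL (Fin 2) F) ∈ TorSet δ :=
  ⟨1, 0, by rw [Units.val_one, ocgd1_kmat_one]⟩

theorem ocgd1_comm (δ : F) (g h : GL (Fin 2) F) (hg : g ∈ TorSet δ) (hh : h ∈ TorSet δ) :
    g * h = h * g := by
  obtain ⟨x, y, hxy⟩ := hg
  obtain ⟨x', y', hxy'⟩ := hh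
  apply Units.ext
  rw [Units.val_mul, Units.val_mul, hxy, hxy', ocgd1_kmat_comm]

/-- D1 [S-M]. -/
theorem TorSet_props (δ : F) (g h : GL (Fin 2) F) (hg : g ∈ TorSet δ) (hh : h ∈ TorSet δ) :
    g * h ∈ TorSet δ ∧ g⁻¹ ∈ TorSet δ ∧ (1 : GL (Fin 2) F) ∈ TorSet δ ∧ g * h = h * g :=
  ⟨ocgd1_mul δ g h hg hh, ocgd1_inv δ g hg, ocgd1_one δ, ocgd1_comm δ g h hg hh⟩

end D

end Cfsg.Agent.Lib.Helper18.OCT
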