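import Mathlib
import Cfsg.Agent.Lib.Helper18.OCT.Defs
import Cfsg.Agent.Lib.Helper29.OCGD1

/-!
# OCG row D2 (helper29): `phi_props`
-/

set_option autoImplicit false

namespace Cfsg.Agent.Lib.Helper18.OCT

open Cfsg.Lie Matrix
open scoped MatrixGroups

section D

variable {F : Type*} [Field F]

theorem ocgd2_phi_coe : ((phiGL : GL (Fin 2) F) : Matrix (Fin 2) (Fin 2) F) = !![1, 0; 0, -1] := rfl

theorem ocgd2_phi_sq : (phiGL : GL (Fin 2) F) * phiGL = 1 := by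
  apply Units.ext
  rw [Units.val_mul, ocgd2_phi_coe, Units.val_one]
  ext i j
  fin_cases i <;> fin_cases j <;> simp [Matrix.mul_apply, Fin.sum_univ_two]

theorem ocgd2_phi_inv : (phiGL : GL (Fin 2) F)⁻¹ = phiGL :=
  inv_eq_of_mul_eq_one_left ocgd2_phi_sq

theorem ocgd2_phi_det : ((phiGL : GL (Fin 2) F) : Matrix (Fin 2) (Fin 2) F).det = -1 := by
  rw [ocgd2_phi_coe, Matrix.det_fin_two_of]
  ring

/-- `φ k(x,y) φ = k(x,-y)` -/
theorem ocgd2_conj_kmat (δ x y : F) :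
    (!![1, 0; 0, -1] : Matrix (Fin 2) (Fin 2) F) * kmat δ x y * !![1, 0; 0, -1] = kmat δ x (-y) := by
  ext i j
  fin_cases i <;> fin_cases j <;> simp [kmat, Matrix.mul_apply, Fin.sum_univ_two]

theorem ocgd2_conj_coe (δ x y : F) (g : GL (Fin 2) F)
    (hg : (g : Matrix (Fin 2) (Fin 2) F) = kmat δ x y) :
    ((phiGL * g * phiGL⁻¹ : GL (Fin 2) F) : Matrix (Fin 2) (Fin 2) F) = kmat δ x (-y) := by
  rw [ocgd2_phi_inv, Units.val_mul, Units.val_mul, ocgd2_phi_coe, hg, ocgd2_conj_kmat]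

theorem ocgd2_conj_mem (δ : F) (g : GL (Fin 2) F) (hg : g ∈ TorSet δ) :
    phiGL * g * phiGL⁻¹ ∈ TorSet δ := by
  obtain ⟨x, y, hxy⟩ := hg
  exact ⟨x, -y, ocgd2_conj_coe δ x y g hxy⟩

theorem ocgd2_norm (δ : F) (g : GL (Fin 2) F) (hg : g ∈ TorSet δ) :
    ((g * (phiGL * g * phiGL⁻¹) : GL (Fin 2) F) : Matrix (Fin 2) (Fin 2) F) =
      (g : Matrix (Fin 2) (Fin 2) F).det • (1 : Matrix (Fin 2) (Fin 2) F) := by
  obtain ⟨x, y, hxy⟩ := hg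
  rw [Units.val_mul, ocgd2_conj_coe δ x y g hxy, hxy, ocgd1_kmat_mul, ocgd1_kmat_det]
  have e1 : x * -y + y * x = 0 := by ring
  have e2 : x * x + δ * y * -y = x ^ 2 - δ * y ^ 2 := by ring
  rw [e1, e2]
  ext i j
  fin_cases i <;> fin_cases j <;> simp [kmat]

theorem ocgd2_not_mem (δ : F) (h2 : (2 : F) ≠ 0) : (phiGL : GL (Fin 2) F) ∉ TorSet δ := by
  rintro ⟨x, y, hxy⟩
  rw [ocgd2_phi_coe] at hxy
  have h00 := congrFun (congrFun hxy 0) 0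
  have h11 := congrFun (congrFun hxy 1) 1
  simp [kmat] at h00 h11
  apply h2
  have : (1 : F) = -1 := h00.trans h11.symm
  calc (2 : F) = 1 + 1 := by norm_num
    _ = 1 + -1 := by rw [← this]
    _ = 0 := by ring

/-- D2 [S-M]. -/
theorem phi_props (δ : F) (g : GL (Fin 2) F) (hg : g ∈ TorSet δ) :
    phiGL * g * phiGL⁻¹ ∈ TorSet δ ∧
      ((g * (phiGL * g * phiGL⁻¹) : GL (Fin 2) F) : Matrix (Fin 2) (Fin 2) F) =
        (g : Matrix (Fin 2) (Fin 2) F).det • (1 : Matrix (Fin 2) (Fin 2) F) ∧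
      (phiGL : GL (Fin 2) F) * phiGL = 1 ∧
      ((phiGL : GL (Fin 2) F) : Matrix (Fin 2) (Fin 2) F).det = -1 ∧
      ((2 : F) ≠ 0 → (phiGL : GL (Fin 2) F) ∉ TorSet δ) :=
  ⟨ocgd2_conj_mem δ g hg, ocgd2_norm δ g hg, ocgd2_phi_sq, ocgd2_phi_det, ocgd2_not_mem δ⟩

end D

end Cfsg.Agent.Lib.Helper18.OCT
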