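import Mathlib
import Cfsg.Agent.Lib.Helper18.OCT.Defs
import Cfsg.Agent.Lib.Helper29.OCGD1
import Cfsg.Agent.Lib.Helper29.OCGD2

/-!
# OCG row D3 (helper29): `mem_DGrp_iff`
-/

set_option autoImplicit false

namespace Cfsg.Agent.Lib.Helper18.OCT

open Cfsg.Lie Matrix
open scoped MatrixGroups

section D

variable {F : Type*} [Field F]

theorem ocgd3_A_one (δ : F) : (1 : GL (Fin 2) F) ∈ ASet δ :=
  ⟨ocgd1_one δ, 0, by simp⟩

theorem ocgd3_A_mul (δ : F) {g h : GL (Fin 2) F} (hg : g ∈ ASet δ) (hh : h ∈ ASet δ) :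
    g * h ∈ ASet δ := by
  obtain ⟨hgT, k, hk⟩ := hg
  obtain ⟨hhT, l, hl⟩ := hh
  refine ⟨ocgd1_mul δ g h hgT hhT, k + l, ?_⟩
  have hc : Commute g h := ocgd1_comm δ g h hgT hhT
  rw [hc.mul_pow, pow_add, pow_mul, hk, one_pow, mul_comm (2 ^ k) (2 ^ l), pow_mul, hl, one_pow,
    one_mul]

theorem ocgd3_A_inv (δ : F) {g : GL (Fin 2) F} (hg : g ∈ ASet δ) : g⁻¹ ∈ ASet δ := by
  obtain ⟨hgT, k, hk⟩ := hg
  exact ⟨ocgd1_inv δ g hgT, k, by rw [inv_pow, hk, inv_one]⟩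

theorem ocgd3_A_conj (δ : F) {g : GL (Fin 2) F} (hg : g ∈ ASet δ) :
    phiGL * g * phiGL⁻¹ ∈ ASet δ := by
  obtain ⟨hgT, k, hk⟩ := hg
  exact ⟨ocgd2_conj_mem δ g hgT, k, by rw [conj_pow, hk, mul_one, mul_inv_cancel]⟩

/-- `φ a = (φ a φ⁻¹) φ` -/
theorem ocgd3_phi_mul (a : GL (Fin 2) F) : phiGL * a = (phiGL * a * phiGL⁻¹) * phiGL := by
  rw [inv_mul_cancel_right]

/-- the subgroup with carrier `A ∪ Aφ` -/
def ocgd3_sub (δ : F) : Subgroup (GL (Fin 2) F) where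
  carrier := {g | g ∈ ASet δ ∨ ∃ a ∈ ASet δ, g = a * phiGL}
  one_mem' := Or.inl (ocgd3_A_one δ)
  mul_mem' := by
    rintro g h (hg | ⟨a, ha, rfl⟩) (hh | ⟨b, hb, rfl⟩)
    · exact Or.inl (ocgd3_A_mul δ hg hh)
    · exact Or.inr ⟨g * b, ocgd3_A_mul δ hg hb, by rw [mul_assoc]⟩
    · refine Or.inr ⟨a * (phiGL * h * phiGL⁻¹), ocgd3_A_mul δ ha (ocgd3_A_conj δ hh), ?_⟩
      group
    · refine Or.inl ?_
      have : a * phiGL * (b * phiGL) = a * (phiGL * b * phiGL⁻¹) := by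
        rw [ocgd2_phi_inv]
        simp only [mul_assoc]
      rw [this]
      exact ocgd3_A_mul δ ha (ocgd3_A_conj δ hb)
  inv_mem' := by
    rintro g (hg | ⟨a, ha, rfl⟩)
    · exact Or.inl (ocgd3_A_inv δ hg)
    · refine Or.inr ⟨phiGL * a⁻¹ * phiGL⁻¹, ocgd3_A_conj δ (ocgd3_A_inv δ ha), ?_⟩
      rw [_root_.mul_inv_rev, inv_mul_cancel_right, ocgd2_phi_inv]

theorem ocgd3_mem_sub (δ : F) (g : GL (Fin 2) F) :
    g ∈ ocgd3_sub δ ↔ g ∈ ASet δ ∨ ∃ a ∈ ASet δ, g = a * phiGL := Iff.rfl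

/-- D3 [M]. -/
theorem mem_DGrp_iff (δ : F) (g : GL (Fin 2) F) :
    g ∈ DGrp δ ↔ g ∈ ASet δ ∨ ∃ a ∈ ASet δ, g = a * phiGL := by
  constructor
  · intro hg
    have hle : DGrp δ ≤ ocgd3_sub δ := by
      unfold DGrp
      rw [Subgroup.closure_le]
      rintro x (hx | hx)
      · exact Or.inl hx
      · rw [Set.mem_singleton_iff] at hx
        exact Or.inr ⟨1, ocgd3_A_one δ, by rw [hx, one_mul]⟩
    exact hle hg
  · rintro (hg | ⟨a, ha, rfl⟩)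
    · exact Subgroup.subset_closure (Or.inl hg)
    · exact mul_mem (Subgroup.subset_closure (Or.inl ha))
        (Subgroup.subset_closure (Or.inr rfl))

end D

end Cfsg.Agent.Lib.Helper18.OCT
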