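import Mathlib
import Cfsg.Agent.Lib.Helper18.OCT.Defs

/-!
# OCG row C0 (helper29): `cd_join`
-/

set_option autoImplicit false

namespace Cfsg.Agent.Lib.Helper18.OCT

open Cfsg.Lie Matrix
open scoped MatrixGroups

section C

variable {F : Type*} [Field F]

theorem ocgc0_join (x : Oct F) : cdJoin (cdA x) (cdB x) = x := by
  ext i
  fin_cases i <;> simp [cdJoin, cdA, cdB]

theorem ocgc0_cdA (A B : Matrix (Fin 2) (Fin 2) F) : cdA (cdJoin A B) = A := by
  ext i j
  fin_cases i <;> fin_cases j <;> simp [cdJoin, cdA]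

theorem ocgc0_cdB (A B : Matrix (Fin 2) (Fin 2) F) : cdB (cdJoin A B) = B := by
  ext i j
  fin_cases i <;> fin_cases j <;> simp [cdJoin, cdB]

/-- C0 [S]. -/
theorem cd_join (x : Oct F) (A B : Matrix (Fin 2) (Fin 2) F) :
    cdJoin (cdA x) (cdB x) = x ∧ cdA (cdJoin A B) = A ∧ cdB (cdJoin A B) = B :=
  ⟨ocgc0_join x, ocgc0_cdA A B, ocgc0_cdB A B⟩

end C

end Cfsg.Agent.Lib.Helper18.OCT
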