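import Mathlib
import Cfsg.Agent.Lib.Helper18.OCT.Defs
import Cfsg.Agent.Lib.Helper18.OCTC1
import Cfsg.Agent.Lib.Helper29.OCGC0

/-!
# OCG row C2 (helper29): `LFun_props`
-/

set_option autoImplicit false

namespace Cfsg.Agent.Lib.Helper18.OCT

open Cfsg.Lie Matrix
open scoped MatrixGroups

section C

variable {F : Type*} [Field F]

theorem ocgc2_cdA_add (x y : Oct F) : cdA (x + y) = cdA x + cdA y := by
  ext i j
  fin_cases i <;> fin_cases j <;> simp [cdA]

theorem ocgc2_cdB_add (x y : Oct F) : cdB (x + y) = cdB x + cdB y := by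
  ext i j
  fin_cases i <;> fin_cases j <;> simp [cdB, add_comm]

theorem ocgc2_cdA_smul (c : F) (x : Oct F) : cdA (c • x) = c • cdA x := by
  ext i j
  fin_cases i <;> fin_cases j <;> simp [cdA]

theorem ocgc2_cdB_smul (c : F) (x : Oct F) : cdB (c • x) = c • cdB x := by
  ext i j
  fin_cases i <;> fin_cases j <;> simp [cdB]

theorem ocgc2_join_add (A A' B B' : Matrix (Fin 2) (Fin 2) F) :
    cdJoin (A + A') (B + B') = cdJoin A B + cdJoin A' B' := by
  ext i
  fin_cases i <;> simp [cdJoin, add_comm]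

theorem ocgc2_join_smul (c : F) (A B : Matrix (Fin 2) (Fin 2) F) :
    cdJoin (c • A) (c • B) = c • cdJoin A B := by
  ext i
  fin_cases i <;> simp [cdJoin]

/-- two octonions with the same Cayley–Dickson coordinates are equal -/
theorem ocgc2_ext (x y : Oct F) (hA : cdA x = cdA y) (hB : cdB x = cdB y) : x = y := by
  rw [← ocgc0_join x, ← ocgc0_join y, hA, hB]

theorem ocgc2_linear (p : Matrix (Fin 2) (Fin 2) F) : IsLinearMap F (LFun p : Oct F → Oct F) := by
  constructor
  · intro x y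
    simp only [LFun, ocgc2_cdA_add, ocgc2_cdB_add, Matrix.mul_add, ocgc2_join_add]
  · intro c x
    simp only [LFun, ocgc2_cdA_smul, ocgc2_cdB_smul, Matrix.mul_smul, ocgc2_join_smul]

theorem ocgc2_comp (p p' : Matrix (Fin 2) (Fin 2) F) (x : Oct F) :
    LFun p (LFun p' x) = LFun (p * p') x := by
  simp only [LFun, ocgc0_cdA, ocgc0_cdB, Matrix.mul_assoc]

theorem ocgc2_one (x : Oct F) : LFun (1 : Matrix (Fin 2) (Fin 2) F) x = x := by
  simp only [LFun, Matrix.one_mul, ocgc0_join]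

theorem ocgc2_mul (p : Matrix (Fin 2) (Fin 2) F) (hp : p.det = 1) (x y : Oct F) :
    LFun p (zornMul x y) = zornMul (LFun p x) (LFun p y) := by
  apply ocgc2_ext
  · rw [(cd_mul (LFun p x) (LFun p y)).1]
    simp only [LFun, ocgc0_cdA, ocgc0_cdB]
    rw [(cd_mul x y).1, Matrix.adjugate_mul_distrib, Matrix.mul_assoc (adjugate (cdB y)),
      ← Matrix.mul_assoc (adjugate p), Matrix.adjugate_mul, hp, one_smul, Matrix.one_mul]
  · rw [(cd_mul (LFun p x) (LFun p y)).2]
    simp only [LFun, ocgc0_cdA, ocgc0_cdB]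
    rw [(cd_mul x y).2, Matrix.mul_add, Matrix.mul_assoc, Matrix.mul_assoc]

/-- C2 [M]. -/
theorem LFun_props (p p' : Matrix (Fin 2) (Fin 2) F) :
    IsLinearMap F (LFun p : Oct F → Oct F) ∧ (∀ x : Oct F, LFun p (LFun p' x) = LFun (p * p') x) ∧
      (∀ x : Oct F, LFun 1 x = x) ∧
      (p.det = 1 → ∀ x y : Oct F, LFun p (zornMul x y) = zornMul (LFun p x) (LFun p y)) :=
  ⟨ocgc2_linear p, ocgc2_comp p p', ocgc2_one, fun hp x y => ocgc2_mul p hp x y⟩

end C

end Cfsg.Agent.Lib.Helper18.OCT
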