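import Mathlib
import Cfsg.Agent.Lib.Helper18.OCT.Defs
import Cfsg.Agent.Lib.Helper18.OCTC1
import Cfsg.Agent.Lib.Helper29.OCGC0
import Cfsg.Agent.Lib.Helper29.OCGC2

/-!
# OCG row C3 (helper29): `MFun_props`
-/

set_option autoImplicit false

namespace Cfsg.Agent.Lib.Helper18.OCT

open Cfsg.Lie Matrix
open scoped MatrixGroups

section C

variable {F : Type*} [Field F]

/-- `adjugate M = det M • M⁻¹` for invertible `M`. -/
theorem ocgc3_adj_eq {n : Type*} [Fintype n] [DecidableEq n] (M : Matrix n n F)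
    (hM : IsUnit M.det) : adjugate M = M.det • M⁻¹ := by
  calc adjugate M = (M⁻¹ * M) * adjugate M := by rw [Matrix.nonsing_inv_mul M hM, Matrix.one_mul]
    _ = M⁻¹ * (M * adjugate M) := Matrix.mul_assoc _ _ _
    _ = M.det • M⁻¹ := by rw [Matrix.mul_adjugate, Matrix.mul_smul, Matrix.mul_one]

/-- `adjugate (h B h⁻¹) = h (adjugate B) h⁻¹`. -/
theorem ocgc3_adj_conj {n : Type*} [Fintype n] [DecidableEq n] (h B : Matrix n n F)
    (hh : IsUnit h.det) : adjugate (h * B * h⁻¹) = h * adjugate B * h⁻¹ := by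
  have hi : IsUnit (h⁻¹).det := Matrix.isUnit_nonsing_inv_det h hh
  rw [Matrix.adjugate_mul_distrib, Matrix.adjugate_mul_distrib, ocgc3_adj_eq h hh,
    ocgc3_adj_eq h⁻¹ hi, Matrix.nonsing_inv_nonsing_inv h hh]
  rw [Matrix.smul_mul, Matrix.mul_smul, Matrix.mul_smul, smul_smul,
    Matrix.det_nonsing_inv_mul_det h hh, one_smul, Matrix.mul_assoc]

theorem ocgc3_conj_mul {n : Type*} [Fintype n] [DecidableEq n] (h X Y : Matrix n n F)
    (hh : IsUnit h.det) : (h * X * h⁻¹) * (h * Y * h⁻¹) = h * (X * Y) * h⁻¹ := by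
  calc (h * X * h⁻¹) * (h * Y * h⁻¹) = h * X * (h⁻¹ * h) * Y * h⁻¹ := by
        simp only [Matrix.mul_assoc]
    _ = h * (X * Y) * h⁻¹ := by
        rw [Matrix.nonsing_inv_mul h hh, Matrix.mul_one]
        simp only [Matrix.mul_assoc]

theorem ocgc3_linear (h : Matrix (Fin 2) (Fin 2) F) : IsLinearMap F (MFun h : Oct F → Oct F) := by
  constructor
  · intro x y
    simp only [MFun, ocgc2_cdA_add, ocgc2_cdB_add, Matrix.mul_add, Matrix.add_mul, ocgc2_join_add]
  · intro c x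
    simp only [MFun, ocgc2_cdA_smul, ocgc2_cdB_smul, Matrix.mul_smul, Matrix.smul_mul,
      ocgc2_join_smul]

theorem ocgc3_comp (h h' : Matrix (Fin 2) (Fin 2) F) (x : Oct F) :
    MFun h (MFun h' x) = MFun (h * h') x := by
  simp only [MFun, ocgc0_cdA, ocgc0_cdB, Matrix.mul_inv_rev, Matrix.mul_assoc]

theorem ocgc3_one (x : Oct F) : MFun (1 : Matrix (Fin 2) (Fin 2) F) x = x := by
  simp only [MFun, inv_one, Matrix.one_mul, Matrix.mul_one, ocgc0_join]

theorem ocgc3_mul (h : Matrix (Fin 2) (Fin 2) F) (hh : IsUnit h.det) (x y : Oct F) :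
    MFun h (zornMul x y) = zornMul (MFun h x) (MFun h y) := by
  apply ocgc2_ext
  · rw [(cd_mul (MFun h x) (MFun h y)).1]
    simp only [MFun, ocgc0_cdA, ocgc0_cdB]
    rw [(cd_mul x y).1, ocgc3_adj_conj h _ hh, ocgc3_conj_mul h _ _ hh, ocgc3_conj_mul h _ _ hh,
      Matrix.mul_sub, Matrix.sub_mul]
  · rw [(cd_mul (MFun h x) (MFun h y)).2]
    simp only [MFun, ocgc0_cdA, ocgc0_cdB]
    rw [(cd_mul x y).2, ocgc3_adj_conj h _ hh, ocgc3_conj_mul h _ _ hh, ocgc3_conj_mul h _ _ hh,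
      Matrix.mul_add, Matrix.add_mul]

/-- C3 [M]. -/
theorem MFun_props (h h' : Matrix (Fin 2) (Fin 2) F) (hh : IsUnit h.det) (hh' : IsUnit h'.det) :
    IsLinearMap F (MFun h : Oct F → Oct F) ∧ (∀ x : Oct F, MFun h (MFun h' x) = MFun (h * h') x) ∧
      (∀ x : Oct F, MFun 1 x = x) ∧
      (∀ x y : Oct F, MFun h (zornMul x y) = zornMul (MFun h x) (MFun h y)) :=
  ⟨ocgc3_linear h, ocgc3_comp h h', ocgc3_one, ocgc3_mul h hh⟩

end C

end Cfsg.Agent.Lib.Helper18.OCT
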