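import Mathlib
import Cfsg.Agent.Lib.Helper18.OCT.Defs
import Cfsg.Agent.Lib.Helper18.OCGG
import Cfsg.Agent.Lib.Helper29.OCGC0
import Cfsg.Agent.Lib.Helper29.OCGC2

/-!
# OCG row C4 (helper29): `LGL_props`
-/

set_option autoImplicit false

namespace Cfsg.Agent.Lib.Helper18.OCT

open Cfsg.Lie Matrix
open scoped MatrixGroups

section C

variable {F : Type*} [Field F]

/-- `LFun ↑p⁻¹` inverts `LFun ↑p`. -/
theorem ocgc4_inv (p : GL (Fin 2) F) (x : Oct F) :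
    LFun (p : Matrix (Fin 2) (Fin 2) F) (LFun ((p⁻¹ : GL (Fin 2) F) : Matrix (Fin 2) (Fin 2) F) x)
      = x := by
  rw [ocgc2_comp, Units.mul_inv, ocgc2_one]

theorem ocgc4_act (p : GL (Fin 2) F) (x : Oct F) :
    act (LGL p) x = LFun (p : Matrix (Fin 2) (Fin 2) F) x :=
  act_glOf _ _ (ocgc2_linear _) (ocgc2_linear _) (ocgc4_inv p) x

theorem ocgc4_mul (p p' : GL (Fin 2) F) : LGL (p * p') = LGL p * LGL p' := by
  unfold LGL
  rw [glOf_mul _ _ _ _ (ocgc2_linear _) (ocgc2_linear _) (ocgc2_linear _) (ocgc2_linear _)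
    (ocgc4_inv p) (ocgc4_inv p')]
  congr 1
  funext x
  simp only [Function.comp_apply, ocgc2_comp, Units.val_mul]

theorem ocgc4_inj (p : GL (Fin 2) F) (h : LGL p = 1) : p = 1 := by
  have h1 : act (LGL p) (cdJoin 0 1) = cdJoin (0 : Matrix (Fin 2) (Fin 2) F) 1 := by
    rw [h]
    exact (act_mul 1 1 _).2
  rw [ocgc4_act] at h1
  have h2 := congrArg cdB h1
  simp only [LFun, ocgc0_cdB, Matrix.mul_one] at h2
  apply Units.ext
  rw [h2, Units.val_one]

theorem ocgc4_mem (p : GL (Fin 2) F) (hp : p ∈ SLker F) : LGL p ∈ G2 F := by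
  have hdet : (p : Matrix (Fin 2) (Fin 2) F).det = 1 := by
    have h1 : Matrix.GeneralLinearGroup.det p = 1 := hp
    have h2 := congrArg Units.val h1
    simpa using h2
  exact glOf_mem_G2 _ _ (ocgc2_linear _) (ocgc2_linear _) (ocgc4_inv p)
    (fun x y => ocgc2_mul _ hdet x y)

/-- C4 [M]. -/
theorem LGL_props (p p' : GL (Fin 2) F) :
    (∀ x : Oct F, act (LGL p) x = LFun (p : Matrix (Fin 2) (Fin 2) F) x) ∧ LGL (p * p') = LGL p * LGL p' ∧
      (LGL p = 1 → p = 1) ∧ (p ∈ SLker F → LGL p ∈ G2 F) :=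
  ⟨ocgc4_act p, ocgc4_mul p p', ocgc4_inj p, ocgc4_mem p⟩

end C

end Cfsg.Agent.Lib.Helper18.OCT
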