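import Mathlib
import Cfsg.Agent.Lib.Helper18.OCT.Defs
import Cfsg.Agent.Lib.Helper18.OCGG
import Cfsg.Agent.Lib.Helper29.OCGC3
import Cfsg.Agent.Lib.Helper29.OCGC4

/-!
# OCG row P3 (helper29): `P0_le`
-/

set_option autoImplicit false

namespace Cfsg.Agent.Lib.Helper18.OCT

open Cfsg.Lie Matrix
open scoped MatrixGroups

section P

variable {F : Type*} [Field F]

theorem ocgp3_isUnit (h : GL (Fin 2) F) : IsUnit (h : Matrix (Fin 2) (Fin 2) F).det :=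
  (Matrix.isUnit_iff_isUnit_det _).1 h.isUnit

/-- `MFun ↑h⁻¹` inverts `MFun ↑h`. -/
theorem ocgp3_inv (h : GL (Fin 2) F) (x : Oct F) :
    MFun (h : Matrix (Fin 2) (Fin 2) F) (MFun ((h⁻¹ : GL (Fin 2) F) : Matrix (Fin 2) (Fin 2) F) x)
      = x := by
  rw [ocgc3_comp, Units.mul_inv, ocgc3_one]

/-- the last conjunct of C5 under an own name -/
theorem ocgp3_MGL_mem (h : GL (Fin 2) F) : MGL h ∈ G2 F :=
  glOf_mem_G2 _ _ (ocgc3_linear _) (ocgc3_linear _) (ocgp3_inv h)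
    (fun x y => ocgc3_mul _ (ocgp3_isUnit h) x y)

/-- the first conjunct of C5 under an own name -/
theorem ocgp3_MGL_act (h : GL (Fin 2) F) (x : Oct F) :
    act (MGL h) x = MFun (h : Matrix (Fin 2) (Fin 2) F) x :=
  act_glOf _ _ (ocgc3_linear _) (ocgc3_linear _) (ocgp3_inv h) x

/-- P3 [S]. -/
theorem P0_le (δ : F) : P0 δ ≤ G2 F := by
  unfold P0
  rw [Subgroup.closure_le]
  rintro g (⟨p, hp, rfl⟩ | ⟨h, -, rfl⟩)
  · exact ocgc4_mem p hp.2
  · exact ocgp3_MGL_mem h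

end P

end Cfsg.Agent.Lib.Helper18.OCT
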