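import Mathlib
import Cfsg.Agent.Lib.Helper19.S5954.Defs
import Cfsg.Agent.Lib.Helper11.S5956USMALL
import Cfsg.Agent.Lib.Helper13.S5956UFREEKER
import Cfsg.Agent.Lib.Helper13.S5956UFREERDK

/-!
# S5954 row USPLIT (helper29): core.  One nondegenerate Jordan block of size `s` splits off, given a vector `v ∈ N` with
`β(v, v) = B v (M^(s-1) v) ≠ 0` (row UANISO) and the radical test (row URADND, as a hypothesis).
-/

set_option autoImplicit false

namespace Cfsg.Agent.Lib.Helper19.S5954

open Polynomial Module Cfsg.Agent.Lib.Helper13.S5955 Cfsg.Agent.Lib.helper14.JTa Cfsg.Agent.Lib.Helper11.S5956U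

variable {F : Type*} [Field F] {V : Type*} [AddCommGroup V] [Module F V]

/-- an `x`-invariant subspace is invariant under the powers of `x - 1` -/
theorem s5954usplit_pow_mem {x : Module.End F V} (N : Submodule F V) (hN : SInv x N) (k : ℕ) :
    ∀ v ∈ N, ((x - 1) ^ k) v ∈ N := by
  induction k with
  | zero => intro v hv; simpa using hv
  | succ k ih =>
    intro v hv
    rw [pow_succ', Module.End.mul_apply, LinearMap.sub_apply, Module.End.one_apply]
    exact N.sub_mem (hN _ (ih v hv)) (ih v hv)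

/-- USPLIT core: the radical test `hRAD` (= the conclusion of URADND for this `x`, `B`) and a non-isotropic `v` for `β`. -/
theorem s5954usplit_core [FiniteDimensional F V] {σ : F →+* F} {B : V →ₛₗ[σ] V →ₗ[F] F}
    {x : Module.End F V} (hsymm : ∀ u v, σ (B u v) = B v u)
    (hRAD : ∀ U : Submodule F V, SInv x U →
      (∀ w ∈ U, (x - 1) w = 0 → (∀ u ∈ U, B w u = 0) → w = 0) → HND B U)
    (N : Submodule F V) (hN : SInv x N) (s : ℕ) (hs1 : 1 ≤ s)
    (hnil : ∀ v ∈ N, ((x - 1) ^ s) v = 0) (v : V) (hv : v ∈ N)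
    (hvv : B v (((x - 1) ^ (s - 1)) v) ≠ 0) :
    ∃ U : Submodule F V, U ≤ N ∧ SInv x U ∧ HND B U ∧ ∀ j, rdk x U j = tyf {s} j := by
  let u : Fin 1 → V := fun _ => v
  have hnilu : ∀ i, ((x - 1) ^ s) (u i) = 0 := fun _ => hnil v hv
  have htop : ((x - 1) ^ (s - 1)) v ≠ 0 := by
    intro h0
    rw [h0, map_zero] at hvv
    exact hvv rfl
  have hli : LinearIndependent F (fun i => ((x - 1) ^ (s - 1)) (u i)) :=
    LinearIndependent.of_subsingleton (R := F) (v := fun i => ((x - 1) ^ (s - 1)) (u i)) 0 htop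
  obtain ⟨hUinv, hUmem⟩ := free_inv x s hs1 u hnilu
  have hvv' : B (((x - 1) ^ (s - 1)) v) v ≠ 0 := by
    rw [← hsymm]
    intro h0
    exact hvv ((map_eq_zero σ).mp h0)
  refine ⟨cycU x s u, ?_, hUinv, ?_, ?_⟩
  · unfold cycU
    rw [Submodule.span_le]
    rintro _ ⟨ia, rfl⟩
    exact s5954usplit_pow_mem N hN _ v hv
  · apply hRAD _ hUinv
    intro w hw hfix hrad
    obtain ⟨c, hc⟩ := free_ker x s hs1 u hnilu hli w hw hfix
    rw [Fin.sum_univ_one] at hc
    have h1 := hrad v (hUmem 0)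
    rw [hc] at h1
    have hu0 : u 0 = v := rfl
    rw [hu0, LinearMap.map_smulₛₗ, LinearMap.smul_apply, smul_eq_mul] at h1
    have hc0 : c 0 = 0 := by
      rcases mul_eq_zero.mp h1 with h3 | h3
      · exact (map_eq_zero σ).mp h3
      · exact absurd h3 hvv'
    rw [hc, hc0, zero_smul]
  · intro j
    rw [free_rdk x s hs1 u hnilu hli j, one_mul]
    unfold tyf
    simp

end Cfsg.Agent.Lib.Helper19.S5954
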