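import Mathlib
import Cfsg.Agent.Lib.Helper19.S5954.Defs
import Cfsg.Agent.Lib.helper8.S5954UANISO
import Cfsg.Agent.Lib.Helper25.S5954URADND
import Cfsg.Agent.Lib.Helper29.S5954USPLITcore

/-!
# S5954 row USPLIT (helper29): verbatim `h_split` = `s5954usplit_core` + UANISO (helper8) + URADND (helper25).
-/

set_option autoImplicit false
set_option linter.unusedVariables false
set_option linter.unusedSectionVars false

namespace Cfsg.Agent.Lib.Helper19.S5954

open Polynomial Module Cfsg.Agent.Lib.Helper13.S5955 Cfsg.Agent.Lib.helper14.JTa Cfsg.Agent.Lib.Helper11.S5956U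

variable {F : Type*} [Field F] {V : Type*} [AddCommGroup V] [Module F V]

/-- USPLIT -/
theorem h_split [FiniteDimensional F V] {r : ℕ} (hr : 0 < r) {σ : F →+* F} {B : V →ₛₗ[σ] V →ₗ[F] F}
    {x : Module.End F V} (h : HCtx r σ B x) (p : ℕ) (hM : (x - 1) ^ p = 0)
    (N : Submodule F V) (hN : SInv x N) (hNnd : HND B N) (s : ℕ) (hs1 : 1 ≤ s)
    (hnil : ∀ v ∈ N, ((x - 1) ^ s) v = 0) (hne : ∃ v ∈ N, ((x - 1) ^ (s - 1)) v ≠ 0) :
    ∃ U : Submodule F V, U ≤ N ∧ SInv x U ∧ HND B U ∧ ∀ j, rdk x U j = tyf {s} j := by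
  obtain ⟨v, hv, hvv⟩ := h_aniso hr h N hN hNnd s hs1 hnil hne
  exact s5954usplit_core h.symm (fun U hU hfix => h_rad_nd hr h p hM U hU hfix) N hN s hs1 hnil v hv hvv

end Cfsg.Agent.Lib.Helper19.S5954
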