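import Mathlib
import Cfsg.Agent.Lib.Helper19.S5954.Defs
import Cfsg.Agent.Lib.Helper11.S5956USMALL
import Cfsg.Agent.Lib.Helper20.S5956URDKADD

/-!
# S5954 row USTRUCT (helper29): core.  The structure theorem for unipotent isometries of a hermitian space, with the rows
USPLIT, UPEEL, USUPND as hypotheses (their conclusions for this `x`, `B`).
-/

set_option autoImplicit false

namespace Cfsg.Agent.Lib.Helper19.S5954

open Polynomial Module Cfsg.Agent.Lib.Helper13.S5955 Cfsg.Agent.Lib.helper14.JTa Cfsg.Agent.Lib.Helper11.S5956U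

variable {F : Type*} [Field F] {V : Type*} [AddCommGroup V] [Module F V]

/-- `tyf` of a cons -/
theorem s5954ustruct_tyf_cons (s : ℕ) (μ : Multiset ℕ) (j : ℕ) :
    tyf (s ::ₘ μ) j = tyf {s} j + tyf μ j := by
  unfold tyf
  simp

/-- picking a sub-multiset of `s ::ₘ μ'` -/
theorem s5954ustruct_pick (s : ℕ) (μ' ν : Multiset ℕ) (hν : ν ≤ s ::ₘ μ') :
    ν ≤ μ' ∨ (s ∈ ν ∧ ν.erase s ≤ μ') := by
  by_cases hs : s ∈ ν
  · right
    refine ⟨hs, ?_⟩
    have := Multiset.erase_le_erase s hν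
    rwa [Multiset.erase_cons_head] at this
  · left
    exact (Multiset.le_cons_of_notMem hs).mp hν

/-- USTRUCT core -/
theorem s5954ustruct_core [FiniteDimensional F V] {σ : F →+* F} {B : V →ₛₗ[σ] V →ₗ[F] F}
    {x : Module.End F V} (p : ℕ) (hM : (x - 1) ^ p = 0)
    (hSPLIT : ∀ (N : Submodule F V), SInv x N → HND B N → ∀ s : ℕ, 1 ≤ s →
      (∀ v ∈ N, ((x - 1) ^ s) v = 0) → (∃ v ∈ N, ((x - 1) ^ (s - 1)) v ≠ 0) →
      ∃ U : Submodule F V, U ≤ N ∧ SInv x U ∧ HND B U ∧ ∀ j, rdk x U j = tyf {s} j)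
    (hPEEL : ∀ (N U : Submodule F V), SInv x N → HND B N → U ≤ N → SInv x U → HND B U →
      ∃ N' : Submodule F V, N' ≤ N ∧ SInv x N' ∧ HND B N' ∧ HOrth B U N' ∧ Disjoint U N' ∧
        finrank F N' + finrank F U = finrank F N)
    (hSUP : ∀ (U W : Submodule F V), SInv x U → SInv x W → HND B U → HND B W → HOrth B U W →
      SInv x (U ⊔ W) ∧ HND B (U ⊔ W) ∧ finrank F ↥(U ⊔ W) = finrank F U + finrank F W)
    (N : Submodule F V) (hN : SInv x N) (hNnd : HND B N) :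
    ∃ μ : Multiset ℕ, (∀ a ∈ μ, 0 < a ∧ a ≤ p) ∧ μ.sum = finrank F N ∧ (∀ j, rdk x N j = tyf μ j) ∧
      ∀ ν : Multiset ℕ, ν ≤ μ →
        ∃ W : Submodule F V, W ≤ N ∧ SInv x W ∧ HND B W ∧ finrank F W = ν.sum := by
  suffices H : ∀ n : ℕ, ∀ N : Submodule F V, finrank F N = n → SInv x N → HND B N →
      ∃ μ : Multiset ℕ, (∀ a ∈ μ, 0 < a ∧ a ≤ p) ∧ μ.sum = finrank F N ∧
        (∀ j, rdk x N j = tyf μ j) ∧
        ∀ ν : Multiset ℕ, ν ≤ μ →
          ∃ W : Submodule F V, W ≤ N ∧ SInv x W ∧ HND B W ∧ finrank F W = ν.sum from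
    H _ N rfl hN hNnd
  intro n
  induction n using Nat.strong_induction_on with
  | _ n ih =>
  intro N hn hN hNnd
  by_cases hN0 : N = ⊥
  · subst hN0
    refine ⟨0, by simp, by simp, ?_, ?_⟩
    · intro j
      unfold rdk tyf
      rw [inf_bot_eq, finrank_bot, Multiset.map_zero, Multiset.sum_zero]
    · intro ν hν
      have hν0 : ν = 0 := Multiset.le_zero.mp hν
      subst hν0
      refine ⟨⊥, le_refl _, ?_, ?_, by simp⟩
      · intro w hw
        rw [Submodule.mem_bot] at hw ⊢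
        rw [hw, map_zero]
      · intro u hu _
        exact (Submodule.mem_bot F).mp hu
  · obtain ⟨s, hs1, hsp, hnil, hne⟩ := exists_index (x - 1) p hM N hN0
    obtain ⟨U, hUN, hU, hUnd, hτr⟩ := hSPLIT N hN hNnd s hs1 hnil hne
    obtain ⟨N', hN'N, hN', hN'nd, horth, hdis, hdim⟩ := hPEEL N U hN hNnd hUN hU hUnd
    have hUdim : finrank F U = s := by
      rw [← rdk_top x p hM U, hτr p, tyf_top {s} p (fun a ha => by
        rw [Multiset.mem_singleton] at ha; subst ha; exact hsp)]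
      simp
    have hlt : finrank F N' < n := by omega
    obtain ⟨μ', hμ'ty, hμ'sum, hμ'r, hμ'W⟩ := ih _ hlt N' rfl hN' hN'nd
    refine ⟨s ::ₘ μ', ?_, ?_, ?_, ?_⟩
    · intro a ha
      rcases Multiset.mem_cons.mp ha with ha | ha
      · subst ha
        exact ⟨hs1, hsp⟩
      · exact hμ'ty a ha
    · rw [Multiset.sum_cons, hμ'sum]
      omega
    · intro j
      rw [rdk_add x N U N' hU hN' hUN hN'N hdis hdim j, hτr, hμ'r, s5954ustruct_tyf_cons]
    · intro ν hν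
      rcases s5954ustruct_pick s μ' ν hν with h1 | ⟨h1, h2⟩
      · obtain ⟨W, hW, hWi, hWnd, hWd⟩ := hμ'W ν h1
        exact ⟨W, hW.trans hN'N, hWi, hWnd, hWd⟩
      · obtain ⟨W', hW'N', hW', hW'nd, hW'dim⟩ := hμ'W (ν.erase s) h2
        have horth' : HOrth B U W' := fun u hu w hw => horth u hu w (hW'N' hw)
        obtain ⟨hinv, hnd, hdim'⟩ := hSUP U W' hU hW' hUnd hW'nd horth'
        refine ⟨U ⊔ W', sup_le hUN (hW'N'.trans hN'N), hinv, hnd, ?_⟩
        rw [hdim', hUdim, hW'dim]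
        have := Multiset.sum_erase h1
        omega

end Cfsg.Agent.Lib.Helper19.S5954
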