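import Mathlib
import Cfsg.Agent.Lib.Helper19.S5954.Defs
import Cfsg.Agent.Lib.Helper10.S5954UPEEL
import Cfsg.Agent.Lib.Helper20.S5954USUPND
import Cfsg.Agent.Lib.Helper29.S5954USPLIT
import Cfsg.Agent.Lib.Helper29.S5954USTRUCTcore

/-!
# S5954 row USTRUCT (helper29): verbatim `h_struct` = `s5954ustruct_core` + USPLIT + UPEEL (helper10) + USUPND (helper20).
-/

set_option autoImplicit false
set_option linter.unusedVariables false
set_option linter.unusedSectionVars false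

namespace Cfsg.Agent.Lib.Helper19.S5954

open Polynomial Module Cfsg.Agent.Lib.Helper13.S5955 Cfsg.Agent.Lib.helper14.JTa Cfsg.Agent.Lib.Helper11.S5956U

variable {F : Type*} [Field F] {V : Type*} [AddCommGroup V] [Module F V]

/-- USTRUCT -/
theorem h_struct [FiniteDimensional F V] {r : ℕ} (hr : 0 < r) {σ : F →+* F} {B : V →ₛₗ[σ] V →ₗ[F] F}
    {x : Module.End F V} (h : HCtx r σ B x) (p : ℕ) (hM : (x - 1) ^ p = 0)
    (N : Submodule F V) (hN : SInv x N) (hNnd : HND B N) :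
    ∃ μ : Multiset ℕ, (∀ a ∈ μ, 0 < a ∧ a ≤ p) ∧ μ.sum = finrank F N ∧ (∀ j, rdk x N j = tyf μ j) ∧
      ∀ ν : Multiset ℕ, ν ≤ μ →
        ∃ W : Submodule F V, W ≤ N ∧ SInv x W ∧ HND B W ∧ finrank F W = ν.sum :=
  s5954ustruct_core p hM
    (fun N hN hNnd s hs1 hnil hne => h_split hr h p hM N hN hNnd s hs1 hnil hne)
    (fun N U hN hNnd hUN hU hUnd => h_peel hr h N U hN hNnd hUN hU hUnd)
    (fun U W hU hW hUnd hWnd horth => h_sup_nd h U W hU hW hUnd hWnd horth)
    N hN hNnd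

end Cfsg.Agent.Lib.Helper19.S5954
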