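import Mathlib
import Cfsg.Agent.Lib.helper3.T2E.Defs2

/-!
# T2E row C1, core (helper29): commuting twisted root elements with a separating torus element have commuting lifts

`t2ec1h29_core`: the statement of `CLm_of_sep` with the statements of D1 `XT_mem`, D2 `XT_add`, D6 `T1_act` as
hypotheses.  helper7's torus trick `IsCE.torus` with the root group of `b` as an additive map from the field `K`
(`σ b ≠ b`) resp. from the field `↥(kF f)` (`σ b = b`).
-/

set_option autoImplicit false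

namespace Cfsg.Agent.Lib.helper3.T2E

open Cfsg.Lie Cfsg.Lie.ChevalleyDatum Matrix
open Cfsg.Agent.Lib.helper8 Cfsg.Agent.Lib.Helper10.TEM Cfsg.Agent.Lib.helper7.Ce
  Cfsg.Agent.Lib.helper15.St2

universe u

variable {K : Type u} [Field K] {q : ℕ} {f : K ≃+* K} {Γ : Type u} [Group Γ]
  {π : Γ →* ↥(twistedE6 K q)}

/-- `CLm` from `CL` for two elements of `G¹` -/
theorem t2ec1h29_CLm_of_CL {x y : GG K} (hx : x ∈ twistedE6 K q) (hy : y ∈ twistedE6 K q)
    (h : CL π (⟨y, hy⟩ : ↥(twistedE6 K q)) ⟨x, hx⟩) : CLm π x y := by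
  intro α β hα hβ
  have e1 : π α = ⟨x, hx⟩ := Subtype.ext hα
  have e2 : π β = ⟨y, hy⟩ := Subtype.ext hβ
  exact (h β α e2 e1).symm

theorem t2ec1h29_core (hF : Frob q f) (hπ : IsCE π)
    (hmem : ∀ r < 72, ∀ t : K, Adm q r t → XT q r t ∈ twistedE6 K q)
    (hXadd : ∀ r < 72, ∀ s t : K, XT q r (s + t) = XT q r s * XT q r t)
    (hact : ∀ h : GG K, h ∈ T1 K q → ∀ r < 72, ∀ t : K, Adm q r t →
      Adm q r (h8chi chevE6 hB h r * t) ∧
        h * XT q r t * h⁻¹ = XT q r (h8chi chevE6 hB h r * t))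
    (a b : ℕ) (ha : a < 72) (hb : b < 72)
    (hcomm : ∀ t u : K, XT q a t * XT q b u = XT q b u * XT q a t) (h : GG K) (hh : h ∈ T1 K q)
    (h1 : h8chi chevE6 hB h a = 1) (h2 : h8chi chevE6 hB h b ≠ 1) :
    ∀ t u, Adm q a t → Adm q b u → CLm π (XT q a t) (XT q b u) := by
  intro t u hta hub
  have hwm : XT q a t ∈ twistedE6 K q := hmem a ha t hta
  have hgm : h ∈ twistedE6 K q := hh.2
  apply t2ec1h29_CLm_of_CL hwm (hmem b hb u hub)
  have hgw : cj (⟨h, hgm⟩ : ↥(twistedE6 K q)) ⟨XT q a t, hwm⟩ = ⟨XT q a t, hwm⟩ := by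
    apply Subtype.ext
    show h * XT q a t * h⁻¹ = XT q a t
    rw [(hact h hh a ha t hta).2, h1, one_mul]
  by_cases hσ : h8sE6 b = b
  · -- the root group of `b` is parametrized by the fixed field
    have hk : ∀ v : ↥(kF f), Adm q b (v : K) := by
      intro v _
      rw [← hF.pow]
      exact v.2
    have hcm : h8chi chevE6 hB h b ∈ kF f := by
      have e := (hact h hh b hb 1 (fun _ => one_pow q)).1 hσ
      rw [mul_one] at e
      show f (h8chi chevE6 hB h b) = h8chi chevE6 hB h b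
      rw [hF.pow]
      exact e
    have hum : u ∈ kF f := by
      show f u = u
      rw [hF.pow]
      exact hub hσ
    have key := hπ.torus (K := ↥(kF f))
      (fun v : ↥(kF f) => (⟨XT q b (v : K), hmem b hb v (hk v)⟩ : ↥(twistedE6 K q)))
      (fun s t' => Subtype.ext (hXadd b hb (s : K) (t' : K)))
      ⟨XT q a t, hwm⟩ ⟨h, hgm⟩ ⟨h8chi chevE6 hB h b, hcm⟩
      (fun e => h2 (congrArg Subtype.val e))
      (fun v => Subtype.ext (hcomm t (v : K)).symm)
      (fun v => Subtype.ext (hact h hh b hb (v : K) (hk v)).2)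
      hgw ⟨u, hum⟩
    exact key
  · -- the root group of `b` is parametrized by `K`
    have hk : ∀ v : K, Adm q b v := fun v e => absurd e hσ
    have key := hπ.torus (K := K)
      (fun v : K => (⟨XT q b v, hmem b hb v (hk v)⟩ : ↥(twistedE6 K q)))
      (fun s t' => Subtype.ext (hXadd b hb s t'))
      ⟨XT q a t, hwm⟩ ⟨h, hgm⟩ (h8chi chevE6 hB h b) h2
      (fun v => Subtype.ext (hcomm t v).symm)
      (fun v => Subtype.ext (hact h hh b hb v (hk v)).2)
      hgw u
    exact key

end Cfsg.Agent.Lib.helper3.T2E
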