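import Mathlib
import Cfsg.Agent.Lib.Helper29.T2EC1core
import Cfsg.Agent.Lib.Helper22.T2ED1
import Cfsg.Agent.Lib.Helper28.T2ED2
import Cfsg.Agent.Lib.helper4.T2ED4
import Cfsg.Agent.Lib.Helper25.T2ED6core

/-!
# T2E row C1 (helper29): `CLm_of_sep`, verbatim from `Cfsg/Agent/Lib/helper3/T2E/SkelA.lean.txt`

`t2ec1h29_core` at the landed rows D1 `XT_mem` (helper22), D2 `XT_add` (helper28), and D6 `T1_act` in the form
`t2ed6h25_core` (helper25) at D4 `XT_conj` (helper4).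
-/

set_option autoImplicit false

namespace Cfsg.Agent.Lib.helper3.T2E

open Cfsg.Lie Cfsg.Lie.ChevalleyDatum Matrix
open Cfsg.Agent.Lib.helper8 Cfsg.Agent.Lib.Helper10.TEM Cfsg.Agent.Lib.helper7.Ce
  Cfsg.Agent.Lib.helper15.St2

universe u

variable {K : Type u} [Field K] {q : ℕ} {f : K ≃+* K} {Γ : Type u} [Group Γ]
  {π : Γ →* ↥(twistedE6 K q)}

-- ROW C1 [M]  helper7's `IsCE.torus` (through `CLm ↔ CL` for elements of `G¹`), `w := XT q a t`, `g := h`, the root group of `b` as an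
-- additive map from the FIELD `K` (`σ b ≠ b`) resp. from the field `↥(kF f)` (`σ b = b`; then `h8chi … h b ∈ kF f` by D6), `c := h8chi … h b`.
theorem CLm_of_sep (hF : Frob q f) (hπ : IsCE π) (a b : ℕ) (ha : a < 72) (hb : b < 72)
    (hcomm : ∀ t u : K, XT q a t * XT q b u = XT q b u * XT q a t) (h : GG K) (hh : h ∈ T1 K q)
    (h1 : h8chi chevE6 hB h a = 1) (h2 : h8chi chevE6 hB h b ≠ 1) :
    ∀ t u, Adm q a t → Adm q b u → CLm π (XT q a t) (XT q b u) :=
  t2ec1h29_core hF hπ (XT_mem hF) (fun r hr s t => XT_add hF r hr s t)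
    (fun h hh r hr t ht => t2ed6h25_core h hh r hr t ht
      (fun hx => XT_conj hF h hh.2 r r hr hr (h8chi chevE6 hB h r) hx t ht)) a b ha hb hcomm h hh h1 h2

end Cfsg.Agent.Lib.helper3.T2E
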