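import Mathlib
import Cfsg.Agent.Lib.Helper21.BSQ.Defs

/-! Project BSQ (designer helper21), row E1 `quat_gen_four` (helper29): the generalized quaternion group
`QuaternionGroup (2 ^ k)` is generated by its elements of order 4 (`xa i` has order 4 and
`a i = xa 0 * xa (i - n)`). -/

set_option autoImplicit false

namespace Cfsg.Agent.Lib.Helper21.BSQ

universe u

variable {G : Type u} [Group G]

/-- for any `n ≠ 0`: `QuaternionGroup n` is generated by its elements of order 4 -/
theorem bsqe1_gen (n : ℕ) [NeZero n] :
    Subgroup.closure {x : QuaternionGroup n | orderOf x = 4} = ⊤ := by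
  rw [eq_top_iff]
  intro x _
  have hxa : ∀ i : ZMod (2 * n), (QuaternionGroup.xa i : QuaternionGroup n) ∈
      Subgroup.closure {x : QuaternionGroup n | orderOf x = 4} := fun i =>
    Subgroup.subset_closure (QuaternionGroup.orderOf_xa i)
  cases x with
  | a i =>
    have e : (QuaternionGroup.a i : QuaternionGroup n) =
        QuaternionGroup.xa 0 * QuaternionGroup.xa (i - (n : ZMod (2 * n))) := by
      rw [QuaternionGroup.xa_mul_xa]
      congr 1
      ring
    rw [e]
    exact Subgroup.mul_mem _ (hxa _) (hxa _)
  | xa i => exact hxa i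

/-- E1 [S-M]. `orderOf (xa i) = 4` (`QuaternionGroup.orderOf_xa`); `xa n * xa 1 = a 1`... : `a 1` and `xa 0` are in the closure, and
every element is `a 1 ^ j` or `xa 0 * a 1 ^ j`. -/
theorem quat_gen_four (k : ℕ) :
    Subgroup.closure {x : QuaternionGroup (2 ^ k) | orderOf x = 4} = ⊤ :=
  bsqe1_gen (2 ^ k)

end Cfsg.Agent.Lib.Helper21.BSQ
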