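import Mathlib
import Cfsg.Agent.Lib.helper23.P4S.DefsC

set_option autoImplicit false

/-!
# Project P4C (S3466, designer helper23), row SL4: `wt2_order` (helper29).
-/

namespace Cfsg.Agent.Lib.helper23.P4S

open Matrix
open scoped Kronecker

/-- the four weights -/
theorem p4csl4_wt2 {K : Type} [Field K] (b : K) (hb : b ≠ 0) (q : ℕ) (hq : 1 ≤ q) :
    wt2 b q (0, 0) = b ^ (q + 1) ∧ wt2 b q (0, 1) = (b ^ (q - 1))⁻¹ ∧ wt2 b q (1, 0) = b ^ (q - 1) ∧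
      wt2 b q (1, 1) = (b ^ (q + 1))⁻¹ := by
  have hq' : b ^ q = b ^ (q - 1) * b := by rw [← pow_succ, Nat.sub_add_cancel hq]
  refine ⟨?_, ?_, ?_, ?_⟩
  · show b * b ^ q = _
    rw [pow_succ, mul_comm]
  · show b * (b⁻¹) ^ q = _
    rw [inv_pow, hq', mul_inv, mul_comm (b ^ (q - 1))⁻¹, ← mul_assoc, mul_inv_cancel₀ hb, one_mul]
  · show b⁻¹ * b ^ q = _
    rw [hq', mul_comm, mul_assoc, mul_inv_cancel₀ hb, mul_one]
  · show b⁻¹ * (b⁻¹) ^ q = _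
    rw [inv_pow, ← mul_inv, pow_succ, mul_comm]

/-- a statement about all four indices -/
theorem p4csl4_forall (P : Fin 2 × Fin 2 → Prop) :
    (∀ j, P j) ↔ P (0, 0) ∧ P (0, 1) ∧ P (1, 0) ∧ P (1, 1) := by
  constructor
  · intro h; exact ⟨h _, h _, h _, h _⟩
  · rintro ⟨h1, h2, h3, h4⟩ ⟨i, j⟩
    fin_cases i <;> fin_cases j <;> assumption

/-- a statement about some index -/
theorem p4csl4_exists (P : Fin 2 × Fin 2 → Prop) :
    (∃ j, P j) ↔ P (0, 0) ∨ P (0, 1) ∨ P (1, 0) ∨ P (1, 1) := by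
  constructor
  · rintro ⟨⟨i, j⟩, h⟩
    fin_cases i <;> fin_cases j
    · exact Or.inl h
    · exact Or.inr (Or.inl h)
    · exact Or.inr (Or.inr (Or.inl h))
    · exact Or.inr (Or.inr (Or.inr h))
  · rintro (h | h | h | h) <;> exact ⟨_, h⟩

/-- `gcd (q+1) (q-1) = gcd 2 (q-1)` -/
theorem p4csl4_gcd (q : ℕ) (hq : 1 ≤ q) : Nat.gcd (q + 1) (q - 1) = Nat.gcd 2 (q - 1) := by
  have : q + 1 = 2 + (q - 1) := by omega
  rw [this, Nat.gcd_add_self_left]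

/-- SL4 [M]: the arithmetic of the four weights. -/
theorem wt2_order {K : Type} [Field K] (b : K) (hb : b ≠ 0) (q : ℕ) (hq : 2 ≤ q) :
    (∀ k : ℕ, (∀ j, wt2 b q j ^ k = 1) ↔ orderOf b ∣ Nat.gcd 2 (q - 1) * k) ∧
      ((∃ j, wt2 b q j = 1) ↔ (orderOf b ∣ q + 1 ∨ orderOf b ∣ q - 1)) := by
  obtain ⟨w00, w01, w10, w11⟩ := p4csl4_wt2 b hb q (by omega)
  constructor
  · intro k
    rw [p4csl4_forall, w00, w01, w10, w11, inv_pow, inv_pow, inv_eq_one, inv_eq_one,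
      ← pow_mul, ← pow_mul, ← orderOf_dvd_iff_pow_eq_one, ← orderOf_dvd_iff_pow_eq_one,
      ← p4csl4_gcd q (by omega), ← Nat.gcd_mul_right, Nat.dvd_gcd_iff]
    tauto
  · rw [p4csl4_exists, w00, w01, w10, w11, inv_eq_one, inv_eq_one,
      ← orderOf_dvd_iff_pow_eq_one, ← orderOf_dvd_iff_pow_eq_one]
    tauto

end Cfsg.Agent.Lib.helper23.P4S
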