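import Mathlib
import Cfsg.Agent.Lib.helper3.SPM.Defs
import Cfsg.Agent.Lib.helper3.SPM.Defs2
import Cfsg.Agent.Lib.Helper20.SPMA1
import Cfsg.Agent.Lib.helper23.SPMC1
import Cfsg.Agent.Lib.Helper29.SPMA3
import Cfsg.Agent.Lib.Helper29.SPMA4

/-!
# SPM row C3 (helper29), core: the commutator families for all indices and signs, assuming the statements of
E9 (`pmon_nu`), T8 (`pmon_wl`) and C2 (`p1_base p2_base p4_base`).
-/

set_option autoImplicit false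

namespace Cfsg.Agent.Lib.helper3.SPM

open Cfsg.Agent.Lib.helper3.STC Cfsg.Agent.Lib.helper3.STC.Mat Cfsg.Agent.Lib.helper17.SLP

universe u v w v'

section idx
variable {ι : Type w} [DecidableEq ι]

/-- different absolute values give different signed indices. -/
theorem spmc3_ne_of_ab {x y : ι ⊕ ι} (h : ab x ≠ ab y) : x ≠ y := fun e => h (e ▸ rfl)

/-- flipping the sign at `k` fixes the signed indices of the other absolute values. -/
theorem spmc3_flip_of_ne {k : ι} {x : ι ⊕ ι} (h : ab x ≠ k) :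
    Equiv.swap (Sum.inl k) (Sum.inr k) x = x := by
  apply Equiv.swap_apply_of_ne_of_ne
  · rintro rfl; exact h rfl
  · rintro rfl; exact h rfl

theorem spmc3_flip_inl (k : ι) :
    Equiv.swap (Sum.inl k) (Sum.inr k : ι ⊕ ι) (Sum.inl k) = Sum.inr k :=
  Equiv.swap_apply_left _ _

end idx

section main
variable {F : Type u} [Field F] {ι : Type w} [Fintype ι] [DecidableEq ι] {G : Type v} [Group G]
  {p : Pts ι} {ν : Equiv.Perm ι →* G} {lam : Sp4 F →* G}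

/-! ### the family `P1` -/

theorem spmc3_p1_s1
    (hwl : ∀ (k : ι) {u : F} (_ : u ≠ 0), PMon p ν lam (wr p ν lam (Sum.inl k) (Sum.inr k) u)
      (Equiv.swap (Sum.inl k) (Sum.inr k)) (dwl (Sum.inl k) u))
    {a b c : ι ⊕ ι} (hab : ab a ≠ ab b) (hbc : ab b ≠ ab c) (hac : ab a ≠ ab c)
    (h : P1 p ν lam (Sum.inl (ab a)) b c) : P1 p ν lam a b c := by
  rcases a with i | i
  · exact h
  · have hab' : i ≠ ab b := hab
    have hac' : i ≠ ab c := hac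
    have := PMon.p1 p ν lam (hwl i (one_ne_zero (α := F))) (a := Sum.inl i) (b := b) (c := c)
      (spmc3_ne_of_ab hab') (spmc3_ne_of_ab hbc) (spmc3_ne_of_ab hac') h
    rwa [spmc3_flip_inl, spmc3_flip_of_ne hab'.symm, spmc3_flip_of_ne hac'.symm] at this

theorem spmc3_p1_s2
    (hwl : ∀ (k : ι) {u : F} (_ : u ≠ 0), PMon p ν lam (wr p ν lam (Sum.inl k) (Sum.inr k) u)
      (Equiv.swap (Sum.inl k) (Sum.inr k)) (dwl (Sum.inl k) u))
    {a b c : ι ⊕ ι} (hab : ab a ≠ ab b) (hbc : ab b ≠ ab c) (hac : ab a ≠ ab c)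
    (h : P1 p ν lam a (Sum.inl (ab b)) c) : P1 p ν lam a b c := by
  rcases b with i | i
  · exact h
  · have hab' : ab a ≠ i := hab
    have hbc' : i ≠ ab c := hbc
    have := PMon.p1 p ν lam (hwl i (one_ne_zero (α := F))) (a := a) (b := Sum.inl i) (c := c)
      (spmc3_ne_of_ab hab') (spmc3_ne_of_ab hbc') (spmc3_ne_of_ab hac) h
    rwa [spmc3_flip_inl, spmc3_flip_of_ne hab', spmc3_flip_of_ne hbc'.symm] at this

theorem spmc3_p1_s3
    (hwl : ∀ (k : ι) {u : F} (_ : u ≠ 0), PMon p ν lam (wr p ν lam (Sum.inl k) (Sum.inr k) u)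
      (Equiv.swap (Sum.inl k) (Sum.inr k)) (dwl (Sum.inl k) u))
    {a b c : ι ⊕ ι} (hab : ab a ≠ ab b) (hbc : ab b ≠ ab c) (hac : ab a ≠ ab c)
    (h : P1 p ν lam a b (Sum.inl (ab c))) : P1 p ν lam a b c := by
  rcases c with i | i
  · exact h
  · have hbc' : ab b ≠ i := hbc
    have hac' : ab a ≠ i := hac
    have := PMon.p1 p ν lam (hwl i (one_ne_zero (α := F))) (a := a) (b := b) (c := Sum.inl i)
      (spmc3_ne_of_ab hab) (spmc3_ne_of_ab hbc') (spmc3_ne_of_ab hac') h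
    rwa [spmc3_flip_inl, spmc3_flip_of_ne hac', spmc3_flip_of_ne hbc'] at this

theorem spmc3_p1_pos
    (hnu : ∀ σ : Equiv.Perm ι, PMon p ν lam (ν σ) (sgm σ) (fun _ => 1))
    (hb1 : P1 p ν lam (Sum.inl p.o0) (Sum.inl p.o1) (Sum.inl p.o2))
    {i j k : ι} (hij : i ≠ j) (hjk : j ≠ k) (hik : i ≠ k) :
    P1 p ν lam (Sum.inl i) (Sum.inl j) (Sum.inl k) := by
  obtain ⟨σ, h0, h1, h2⟩ := exists_perm3 p hij hik hjk
  have := PMon.p1 p ν lam (hnu σ) (a := Sum.inl p.o0) (b := Sum.inl p.o1) (c := Sum.inl p.o2)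
    (spmc3_ne_of_ab p.h01) (spmc3_ne_of_ab p.h12) (spmc3_ne_of_ab p.h02) hb1
  rwa [sgm_inl, sgm_inl, sgm_inl, h0, h1, h2] at this

/-- C3 `p1_gen`, on the statements of E9 `pmon_nu`, T8 `pmon_wl`, C2 `p1_base`. -/
theorem spmc3_p1_gen_core
    (hnu : ∀ σ : Equiv.Perm ι, PMon p ν lam (ν σ) (sgm σ) (fun _ => 1))
    (hwl : ∀ (k : ι) {u : F} (_ : u ≠ 0), PMon p ν lam (wr p ν lam (Sum.inl k) (Sum.inr k) u)
      (Equiv.swap (Sum.inl k) (Sum.inr k)) (dwl (Sum.inl k) u))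
    (hb1 : P1 p ν lam (Sum.inl p.o0) (Sum.inl p.o1) (Sum.inl p.o2))
    {a b c : ι ⊕ ι} (hab : ab a ≠ ab b) (hbc : ab b ≠ ab c) (hac : ab a ≠ ab c) :
    P1 p ν lam a b c := by
  apply spmc3_p1_s1 hwl hab hbc hac
  apply spmc3_p1_s2 hwl (a := Sum.inl (ab a)) hab hbc hac
  apply spmc3_p1_s3 hwl (a := Sum.inl (ab a)) (b := Sum.inl (ab b)) hab hbc hac
  exact spmc3_p1_pos hnu hb1 hab hbc hac

/-! ### the family `P2` -/

theorem spmc3_p2_s1
    (hwl : ∀ (k : ι) {u : F} (_ : u ≠ 0), PMon p ν lam (wr p ν lam (Sum.inl k) (Sum.inr k) u)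
      (Equiv.swap (Sum.inl k) (Sum.inr k)) (dwl (Sum.inl k) u))
    {a b c : ι ⊕ ι} (hab : ab a ≠ ab b) (hac : ab a ≠ ab c)
    (h : P2 p ν lam (Sum.inl (ab a)) b c) : P2 p ν lam a b c := by
  rcases a with i | i
  · exact h
  · have hab' : i ≠ ab b := hab
    have hac' : i ≠ ab c := hac
    have := PMon.p2 p ν lam (hwl i (one_ne_zero (α := F))) (a := Sum.inl i) (b := b) (c := c)
      (spmc3_ne_of_ab hab') (spmc3_ne_of_ab hac') h
    rwa [spmc3_flip_inl, spmc3_flip_of_ne hab'.symm, spmc3_flip_of_ne hac'.symm] at this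

theorem spmc3_p2_s2
    (hwl : ∀ (k : ι) {u : F} (_ : u ≠ 0), PMon p ν lam (wr p ν lam (Sum.inl k) (Sum.inr k) u)
      (Equiv.swap (Sum.inl k) (Sum.inr k)) (dwl (Sum.inl k) u))
    {a b c : ι ⊕ ι} (hab : ab a ≠ ab b) (hbc : ab b ≠ ab c) (hac : ab a ≠ ab c)
    (h : P2 p ν lam a (Sum.inl (ab b)) c) : P2 p ν lam a b c := by
  rcases b with i | i
  · exact h
  · have hab' : ab a ≠ i := hab
    have hbc' : i ≠ ab c := hbc
    have := PMon.p2 p ν lam (hwl i (one_ne_zero (α := F))) (a := a) (b := Sum.inl i) (c := c)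
      (spmc3_ne_of_ab hab') (spmc3_ne_of_ab hac) h
    rwa [spmc3_flip_inl, spmc3_flip_of_ne hab', spmc3_flip_of_ne hbc'.symm] at this

theorem spmc3_p2_s3
    (hwl : ∀ (k : ι) {u : F} (_ : u ≠ 0), PMon p ν lam (wr p ν lam (Sum.inl k) (Sum.inr k) u)
      (Equiv.swap (Sum.inl k) (Sum.inr k)) (dwl (Sum.inl k) u))
    {a b c : ι ⊕ ι} (hab : ab a ≠ ab b) (hbc : ab b ≠ ab c) (hac : ab a ≠ ab c)
    (h : P2 p ν lam a b (Sum.inl (ab c))) : P2 p ν lam a b c := by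
  rcases c with i | i
  · exact h
  · have hbc' : ab b ≠ i := hbc
    have hac' : ab a ≠ i := hac
    have := PMon.p2 p ν lam (hwl i (one_ne_zero (α := F))) (a := a) (b := b) (c := Sum.inl i)
      (spmc3_ne_of_ab hab) (spmc3_ne_of_ab hac') h
    rwa [spmc3_flip_inl, spmc3_flip_of_ne hac', spmc3_flip_of_ne hbc'] at this

theorem spmc3_p2_pos
    (hnu : ∀ σ : Equiv.Perm ι, PMon p ν lam (ν σ) (sgm σ) (fun _ => 1))
    (hb2 : P2 p ν lam (Sum.inl p.o0) (Sum.inl p.o1) (Sum.inl p.o2))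
    {i j k : ι} (hij : i ≠ j) (hjk : j ≠ k) (hik : i ≠ k) :
    P2 p ν lam (Sum.inl i) (Sum.inl j) (Sum.inl k) := by
  obtain ⟨σ, h0, h1, h2⟩ := exists_perm3 p hij hik hjk
  have := PMon.p2 p ν lam (hnu σ) (a := Sum.inl p.o0) (b := Sum.inl p.o1) (c := Sum.inl p.o2)
    (spmc3_ne_of_ab p.h01) (spmc3_ne_of_ab p.h02) hb2
  rwa [sgm_inl, sgm_inl, sgm_inl, h0, h1, h2] at this

/-- C3 `p2_gen`, on the statements of E9 `pmon_nu`, T8 `pmon_wl`, C2 `p2_base`. -/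
theorem spmc3_p2_gen_core
    (hnu : ∀ σ : Equiv.Perm ι, PMon p ν lam (ν σ) (sgm σ) (fun _ => 1))
    (hwl : ∀ (k : ι) {u : F} (_ : u ≠ 0), PMon p ν lam (wr p ν lam (Sum.inl k) (Sum.inr k) u)
      (Equiv.swap (Sum.inl k) (Sum.inr k)) (dwl (Sum.inl k) u))
    (hb2 : P2 p ν lam (Sum.inl p.o0) (Sum.inl p.o1) (Sum.inl p.o2))
    {a b c : ι ⊕ ι} (hab : ab a ≠ ab b) (hbc : ab b ≠ ab c) (hac : ab a ≠ ab c) :
    P2 p ν lam a b c := by
  apply spmc3_p2_s1 hwl hab hac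
  apply spmc3_p2_s2 hwl (a := Sum.inl (ab a)) hab hbc hac
  apply spmc3_p2_s3 hwl (a := Sum.inl (ab a)) (b := Sum.inl (ab b)) hab hbc hac
  exact spmc3_p2_pos hnu hb2 hab hbc hac

/-! ### the family `P4` -/

theorem spmc3_p4_s1
    (hwl : ∀ (k : ι) {u : F} (_ : u ≠ 0), PMon p ν lam (wr p ν lam (Sum.inl k) (Sum.inr k) u)
      (Equiv.swap (Sum.inl k) (Sum.inr k)) (dwl (Sum.inl k) u))
    {a b c e : ι ⊕ ι} (hab : ab a ≠ ab b) (hac : ab a ≠ ab c) (hae : ab a ≠ ab e) (hce : ab c ≠ ab e)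
    (h : P4 p ν lam (Sum.inl (ab a)) b c e) : P4 p ν lam a b c e := by
  rcases a with i | i
  · exact h
  · have hab' : i ≠ ab b := hab
    have hac' : i ≠ ab c := hac
    have hae' : i ≠ ab e := hae
    have := PMon.p4 p ν lam (hwl i (one_ne_zero (α := F))) (a := Sum.inl i) (b := b) (c := c) (e := e)
      (spmc3_ne_of_ab hab') (spmc3_ne_of_ab hce) h
    rwa [spmc3_flip_inl, spmc3_flip_of_ne hab'.symm, spmc3_flip_of_ne hac'.symm,
      spmc3_flip_of_ne hae'.symm] at this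

theorem spmc3_p4_s2
    (hwl : ∀ (k : ι) {u : F} (_ : u ≠ 0), PMon p ν lam (wr p ν lam (Sum.inl k) (Sum.inr k) u)
      (Equiv.swap (Sum.inl k) (Sum.inr k)) (dwl (Sum.inl k) u))
    {a b c e : ι ⊕ ι} (hab : ab a ≠ ab b) (hbc : ab b ≠ ab c) (hbe : ab b ≠ ab e) (hce : ab c ≠ ab e)
    (h : P4 p ν lam a (Sum.inl (ab b)) c e) : P4 p ν lam a b c e := by
  rcases b with i | i
  · exact h
  · have hab' : ab a ≠ i := hab
    have hbc' : i ≠ ab c := hbc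
    have hbe' : i ≠ ab e := hbe
    have := PMon.p4 p ν lam (hwl i (one_ne_zero (α := F))) (a := a) (b := Sum.inl i) (c := c) (e := e)
      (spmc3_ne_of_ab hab') (spmc3_ne_of_ab hce) h
    rwa [spmc3_flip_inl, spmc3_flip_of_ne hab', spmc3_flip_of_ne hbc'.symm,
      spmc3_flip_of_ne hbe'.symm] at this

theorem spmc3_p4_s3
    (hwl : ∀ (k : ι) {u : F} (_ : u ≠ 0), PMon p ν lam (wr p ν lam (Sum.inl k) (Sum.inr k) u)
      (Equiv.swap (Sum.inl k) (Sum.inr k)) (dwl (Sum.inl k) u))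
    {a b c e : ι ⊕ ι} (hab : ab a ≠ ab b) (hac : ab a ≠ ab c) (hbc : ab b ≠ ab c) (hce : ab c ≠ ab e)
    (h : P4 p ν lam a b (Sum.inl (ab c)) e) : P4 p ν lam a b c e := by
  rcases c with i | i
  · exact h
  · have hac' : ab a ≠ i := hac
    have hbc' : ab b ≠ i := hbc
    have hce' : i ≠ ab e := hce
    have := PMon.p4 p ν lam (hwl i (one_ne_zero (α := F))) (a := a) (b := b) (c := Sum.inl i) (e := e)
      (spmc3_ne_of_ab hab) (spmc3_ne_of_ab hce') h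
    rwa [spmc3_flip_inl, spmc3_flip_of_ne hac', spmc3_flip_of_ne hbc',
      spmc3_flip_of_ne hce'.symm] at this

theorem spmc3_p4_s4
    (hwl : ∀ (k : ι) {u : F} (_ : u ≠ 0), PMon p ν lam (wr p ν lam (Sum.inl k) (Sum.inr k) u)
      (Equiv.swap (Sum.inl k) (Sum.inr k)) (dwl (Sum.inl k) u))
    {a b c e : ι ⊕ ι} (hab : ab a ≠ ab b) (hae : ab a ≠ ab e) (hbe : ab b ≠ ab e) (hce : ab c ≠ ab e)
    (h : P4 p ν lam a b c (Sum.inl (ab e))) : P4 p ν lam a b c e := by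
  rcases e with i | i
  · exact h
  · have hae' : ab a ≠ i := hae
    have hbe' : ab b ≠ i := hbe
    have hce' : ab c ≠ i := hce
    have := PMon.p4 p ν lam (hwl i (one_ne_zero (α := F))) (a := a) (b := b) (c := c) (e := Sum.inl i)
      (spmc3_ne_of_ab hab) (spmc3_ne_of_ab hce') h
    rwa [spmc3_flip_inl, spmc3_flip_of_ne hae', spmc3_flip_of_ne hbe',
      spmc3_flip_of_ne hce'] at this

theorem spmc3_p4_pos
    (hnu : ∀ σ : Equiv.Perm ι, PMon p ν lam (ν σ) (sgm σ) (fun _ => 1))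
    (hb4 : ∀ {x : ι} (_ : x ∈ p.o3), P4 p ν lam (Sum.inl p.o0) (Sum.inl p.o1) (Sum.inl p.o2) (Sum.inl x))
    {i j k l : ι} (hij : i ≠ j) (hik : i ≠ k) (hil : i ≠ l) (hjk : j ≠ k) (hjl : j ≠ l) (hkl : k ≠ l) :
    P4 p ν lam (Sum.inl i) (Sum.inl j) (Sum.inl k) (Sum.inl l) := by
  obtain ⟨x, hx⟩ := exists_o3 p hij hik hil hjk hjl hkl
  obtain ⟨σ, h0, h1, h2, h3⟩ := exists_perm4 p hx hij hik hil hjk hjl hkl
  have hx2 : p.o2 ≠ x := fun e => (p.h3 x hx).2.2 e.symm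
  have := PMon.p4 p ν lam (hnu σ) (a := Sum.inl p.o0) (b := Sum.inl p.o1) (c := Sum.inl p.o2) (e := Sum.inl x)
    (spmc3_ne_of_ab p.h01) (spmc3_ne_of_ab hx2) (hb4 hx)
  rwa [sgm_inl, sgm_inl, sgm_inl, sgm_inl, h0, h1, h2, h3] at this

/-- C3 `p4_gen`, on the statements of E9 `pmon_nu`, T8 `pmon_wl`, C2 `p4_base`. -/
theorem spmc3_p4_gen_core
    (hnu : ∀ σ : Equiv.Perm ι, PMon p ν lam (ν σ) (sgm σ) (fun _ => 1))
    (hwl : ∀ (k : ι) {u : F} (_ : u ≠ 0), PMon p ν lam (wr p ν lam (Sum.inl k) (Sum.inr k) u)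
      (Equiv.swap (Sum.inl k) (Sum.inr k)) (dwl (Sum.inl k) u))
    (hb4 : ∀ {x : ι} (_ : x ∈ p.o3), P4 p ν lam (Sum.inl p.o0) (Sum.inl p.o1) (Sum.inl p.o2) (Sum.inl x))
    {a b c e : ι ⊕ ι} (hab : ab a ≠ ab b) (hac : ab a ≠ ab c) (hae : ab a ≠ ab e)
    (hbc : ab b ≠ ab c) (hbe : ab b ≠ ab e) (hce : ab c ≠ ab e) : P4 p ν lam a b c e := by
  apply spmc3_p4_s1 hwl hab hac hae hce
  apply spmc3_p4_s2 hwl (a := Sum.inl (ab a)) hab hbc hbe hce
  apply spmc3_p4_s3 hwl (a := Sum.inl (ab a)) (b := Sum.inl (ab b)) hab hac hbc hce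
  apply spmc3_p4_s4 hwl (a := Sum.inl (ab a)) (b := Sum.inl (ab b)) (c := Sum.inl (ab c)) hab hae hbe hce
  exact spmc3_p4_pos hnu hb4 hab hac hae hbc hbe hce

end main

end Cfsg.Agent.Lib.helper3.SPM
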