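import Mathlib
import Cfsg.Agent.Lib.helper3.SPM.Defs
import Cfsg.Agent.Lib.helper3.SPM.Defs2
import Cfsg.Agent.Lib.Helper20.SPMA1
import Cfsg.Agent.Lib.helper14.SPME1
import Cfsg.Agent.Lib.Helper25.SPME3
import Cfsg.Agent.Lib.Helper29.SPMA3
import Cfsg.Agent.Lib.Helper29.SPMA4

/-!
# SPM row E9 (helper29), core: `ν σ` permutes the root elements, assuming the statement of E7 (`xr_pair`).
-/

set_option autoImplicit false

namespace Cfsg.Agent.Lib.helper3.SPM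

open Cfsg.Agent.Lib.helper3.STC Cfsg.Agent.Lib.helper3.STC.Mat Cfsg.Agent.Lib.helper17.SLP

universe u v w v'

section main
variable {F : Type u} [Field F] {ι : Type w} [Fintype ι] [DecidableEq ι] {G : Type v} [Group G]
  {p : Pts ι} {ν : Equiv.Perm ι →* G} {lam : Sp4 F →* G}

/-- E9 `xr_conj`, on the statement of E7 (`xr_pair`). -/
theorem spme9_xr_conj_core (H : Glue p ν lam) (hS : SpFacts F)
    (hE7 : ∀ {i j : ι} (_ : i ≠ j) {a' b' : Fin 2 ⊕ Fin 2} (_ : a' ≠ b') (t : F),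
      lamP p ν lam i j (tm a' b' t) = xr p ν lam (pe2 i j a') (pe2 i j b') t)
    (σ : Equiv.Perm ι) {a b : ι ⊕ ι} (hab : a ≠ b) (t : F) :
    ν σ * xr p ν lam a b t * (ν σ)⁻¹ = xr p ν lam (sgm σ a) (sgm σ b) t := by
  obtain ⟨i, j, hij, a', b', ha', hb'⟩ := pair_cover p a b
  have hab' : a' ≠ b' := by
    intro h
    apply hab
    rw [← ha', ← hb', h]
  have hσ : σ i ≠ σ j := fun h => hij (σ.injective h)
  rw [← ha', ← hb', ← hE7 hij hab' t, sgm_pe2, sgm_pe2, ← hE7 hσ hab' t]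
  show ν σ * lamC ν lam (sig2 p i j) (tm a' b' t) * (ν σ)⁻¹ = lamC ν lam (sig2 p (σ i) (σ j)) (tm a' b' t)
  rw [← lamC_mul]
  apply lamC_congr p ν lam H hS
  · rw [Equiv.Perm.mul_apply, sig2_o0 p hij, sig2_o0 p hσ]
  · rw [Equiv.Perm.mul_apply, sig2_o1 p hij, sig2_o1 p hσ]

/-- E9 `pmon_nu`, on the statement of E7 (`xr_pair`). -/
theorem spme9_pmon_nu_core (H : Glue p ν lam) (hS : SpFacts F)
    (hE7 : ∀ {i j : ι} (_ : i ≠ j) {a' b' : Fin 2 ⊕ Fin 2} (_ : a' ≠ b') (t : F),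
      lamP p ν lam i j (tm a' b' t) = xr p ν lam (pe2 i j a') (pe2 i j b') t)
    (σ : Equiv.Perm ι) : PMon p ν lam (ν σ) (sgm σ) (fun _ => 1) := by
  refine ⟨fun _ => one_ne_zero, fun a b hab t => ?_⟩
  rw [spme9_xr_conj_core H hS hE7 σ hab t, inv_one, one_mul, one_mul]

end main

end Cfsg.Agent.Lib.helper3.SPM
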