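import Cfsg.Agent.Lib.helper6.TS4.Defs

/-!
# TS4 / GEN : `genA_of_meetA` (statement verbatim from `helper6/TS4/Skel.lean.txt`)

Suppose `0 ≠ s = g(u₀⊗y) ⊥ L_u`.  MEET(u): `s = u'⊗z`, `z ≠ 0`.  For `u'' ≠ 0`, `u'' ⊥ u'`: `s ⊥ L_{u''}`, MEET(u'') gives
`u''' = k u'`, so (A) `S ∩ L_{u''}^⊥ ⊆ L_{u'}`, (B) `L_{u'} ⊆ L_{u''} + S` (`ts4gen_AB`).  Choose `u₁, u₂ ∈ u'^⊥` with
`f₁(u₂,u₁) ≠ 0` (`ts4gen_pair`, `3 ≤ a`).  `u'⊗y₁ = u₁⊗ya + g(u₀⊗yb) = u₂⊗yc + g(u₀⊗yd)`, so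
`g(u₀⊗(yb-yd)) = u₂⊗yc - u₁⊗ya ∈ S ∩ L_{u'}^⊥ ⊆ L_{u'}` ((A) at `u'' = u'`), hence `ya = 0` (`ts4gen_sep`): `L_{u'} ⊆ S`,
`g⁻¹ L_{u'} ⊆ L_{u₀}`, `StabA`: `g⁻¹ ∈ K0`.
-/

set_option autoImplicit false
set_option linter.unusedSectionVars false
set_option linter.unusedVariables false

namespace Cfsg.Agent.Lib.Helper21.TS

open Matrix
open scoped Kronecker
open Cfsg.Agent.Lib.helper7.TP

variable {a b : ℕ} {F : Type*} [Field F]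
variable {J1 : Matrix (Fin a) (Fin a) F} {J2 : Matrix (Fin b) (Fin b) F}

/-- `ten u 0 = 0`. -/
theorem ts4gen_ten_zero (u : Fin a → F) : ten u (0 : Fin b → F) = 0 := by
  funext p
  simp [ten]

/-- `ten u (y - y') = ten u y - ten u y'`. -/
theorem ts4gen_ten_sub (u : Fin a → F) (y y' : Fin b → F) :
    ten u (y - y') = ten u y - ten u y' := by
  funext p
  simp only [ten, Pi.sub_apply]
  ring

/-- `ten u y = 0`, `u ≠ 0` ⇒ `y = 0`. -/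
theorem ts4gen_ten_eq_zero {u : Fin a → F} (hu : u ≠ 0) {y : Fin b → F} (h : ten u y = 0) :
    y = 0 := by
  obtain ⟨i, hi⟩ := Function.ne_iff.mp hu
  funext j
  have h1 := congrFun h (i, j)
  simp only [ten, Pi.zero_apply, mul_eq_zero] at h1
  rcases h1 with h1 | h1
  · exact absurd h1 hi
  · exact h1

/-- proportionality: `ten u z = ten u' z'`, `u ≠ 0`, `z ≠ 0` ⇒ `u' = k • u` with `k ≠ 0`. -/
theorem ts4gen_prop {u u' : Fin a → F} {z z' : Fin b → F} (hu : u ≠ 0) (hz : z ≠ 0)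
    (h : ten u z = ten u' z') : ∃ k : F, k ≠ 0 ∧ u' = k • u := by
  obtain ⟨i₀, hi₀⟩ := Function.ne_iff.mp hu
  obtain ⟨j₀, hj₀⟩ := Function.ne_iff.mp hz
  simp only [Pi.zero_apply] at hi₀ hj₀
  have h0 := congrFun h (i₀, j₀)
  simp only [ten] at h0
  have hz' : z' j₀ ≠ 0 := by
    intro hz0
    rw [hz0, mul_zero] at h0
    exact (mul_ne_zero hi₀ hj₀) h0
  refine ⟨z j₀ / z' j₀, div_ne_zero hj₀ hz', ?_⟩
  funext i
  have hi := congrFun h (i, j₀)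
  simp only [ten] at hi
  rw [Pi.smul_apply, smul_eq_mul]
  field_simp
  linear_combination -hi

/-- a pair `u₁, u₂ ∈ u'^⊥` with `f₁(u₂,u₁) ≠ 0` (`3 ≤ a`). -/
theorem ts4gen_pair (C : Ctx J1 J2) (ha : 3 ≤ a) {u' : Fin a → F} (hu' : u' ≠ 0) :
    ∃ u₁ u₂ : Fin a → F, bf J1 u' u₁ = 0 ∧ bf J1 u' u₂ = 0 ∧ bf J1 u₂ u₁ ≠ 0 := by
  obtain ⟨x, hx⟩ := bf_nondeg C.det1 hu'
  let φ : (Fin a → F) →ₗ[F] (F × F) :=
    { toFun := fun v => (bf J1 u' v, bf J1 x v)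
      map_add' := fun v w => by
        simp only [bf_add_right, Prod.mk_add_mk]
      map_smul' := fun c v => by
        simp only [bf_smul_right, Prod.smul_mk, smul_eq_mul, RingHom.id_apply] }
  have hker : LinearMap.ker φ ≠ ⊥ := by
    apply LinearMap.ker_ne_bot_of_finrank_lt
    rw [Module.finrank_prod, Module.finrank_self, Module.finrank_fin_fun]
    omega
  obtain ⟨u₁, hu₁mem, hu₁⟩ := (Submodule.ne_bot_iff _).mp hker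
  have h1 : bf J1 u' u₁ = 0 ∧ bf J1 x u₁ = 0 := by
    have h := LinearMap.mem_ker.mp hu₁mem
    exact ⟨congrArg Prod.fst h, congrArg Prod.snd h⟩
  obtain ⟨w, hw⟩ := bf_nondeg' C.det1 hu₁
  refine ⟨u₁, w + (-(bf J1 u' w) / bf J1 u' x) • x, h1.1, ?_, ?_⟩
  · rw [bf_add_right, bf_smul_right]
    field_simp
    ring
  · rw [bf_add_left, bf_smul_left, h1.2, mul_zero, add_zero]
    exact hw

/-- separation: `u₂⊗y₂ - u₁⊗y₁ = u'⊗y₃` with `u₁, u₂ ⊥ u'`, `f₁(u₂,u₁) ≠ 0` ⇒ `y₁ = 0`. -/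
theorem ts4gen_sep (C : Ctx J1 J2) {u' u₁ u₂ : Fin a → F} (h1 : bf J1 u' u₁ = 0)
    (h2 : bf J1 u' u₂ = 0) (h12 : bf J1 u₂ u₁ ≠ 0) {y₁ y₂ y₃ : Fin b → F}
    (h : ten u₂ y₂ - ten u₁ y₁ = ten u' y₃) : y₁ = 0 := by
  by_contra hne
  obtain ⟨y, hy⟩ := bf_nondeg' C.det2 hne
  have e := congrArg (bf (JV J1 J2) (ten u₂ y)) h
  rw [bf_sub_right, bf_JV_ten, bf_JV_ten, bf_JV_ten, bf_self_alt C.alt C.two u₂, zero_mul, zero_sub,
    bf_alt C.alt u₂ u', h2, neg_zero, zero_mul] at e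
  exact (mul_ne_zero h12 hy) (neg_eq_zero.mp e)

/-- (A) and (B) of the plan: for `u'' ≠ 0`, `u'' ⊥ u'`: `S ∩ L_{u''}^⊥ ⊆ L_{u'} ⊆ L_{u''} + S`. -/
theorem ts4gen_AB (g : Matrix.GeneralLinearGroup (Fin a × Fin b) F) (u₀ : Fin a → F)
    (hME : ∀ u : Fin a → F, u ≠ 0 → ∃ u' : Fin a → F, u' ≠ 0 ∧ MeetAt J1 J2 g u₀ u u')
    {y₀ : Fin b → F} {u' : Fin a → F} {z : Fin b → F} (hu' : u' ≠ 0) (hz : z ≠ 0)
    (hs : (g : Matrix (Fin a × Fin b) (Fin a × Fin b) F) *ᵥ ten u₀ y₀ = ten u' z)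
    {u'' : Fin a → F} (hu'' : u'' ≠ 0) (hperp : bf J1 u' u'' = 0) :
    (∀ y₁ : Fin b → F,
      (∀ y' : Fin b → F, bf (JV J1 J2)
        ((g : Matrix (Fin a × Fin b) (Fin a × Fin b) F) *ᵥ ten u₀ y₁) (ten u'' y') = 0) →
      ∃ y₂ : Fin b → F,
        (g : Matrix (Fin a × Fin b) (Fin a × Fin b) F) *ᵥ ten u₀ y₁ = ten u' y₂) ∧
    (∀ y₁ : Fin b → F, ∃ y₂ y₃ : Fin b → F,
      ten u' y₁ = ten u'' y₂ + (g : Matrix (Fin a × Fin b) (Fin a × Fin b) F) *ᵥ ten u₀ y₃) := by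
  obtain ⟨u''', hu''', hM1, hM2⟩ := hME u'' hu''
  have hsperp : ∀ y' : Fin b → F, bf (JV J1 J2)
      ((g : Matrix (Fin a × Fin b) (Fin a × Fin b) F) *ᵥ ten u₀ y₀) (ten u'' y') = 0 := by
    intro y'
    rw [hs, bf_JV_ten, hperp, zero_mul]
  obtain ⟨z'', hz''⟩ := hM1 y₀ hsperp
  rw [hs] at hz''
  obtain ⟨k, hk, rfl⟩ := ts4gen_prop hu' hz hz''
  constructor
  · intro y₁ hy₁
    obtain ⟨y₂, hy₂⟩ := hM1 y₁ hy₁
    refine ⟨k • y₂, ?_⟩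
    rw [hy₂, ten_smul_left, ten_smul_right]
  · intro y₁
    obtain ⟨y₂, y₃, h23⟩ := hM2 (k⁻¹ • y₁)
    refine ⟨y₂, y₃, ?_⟩
    rw [← h23, ten_smul_left, ten_smul_right, smul_smul, mul_inv_cancel₀ hk, one_smul]

/-- GEN: a non-standard `S = g L_{u₀}` (`g ∉ K0`) is generic (`4 ≤ a`). -/
theorem genA_of_meetA (C : Ctx J1 J2) (ha : 4 ≤ a)
    (M : Subgroup (Matrix.GeneralLinearGroup (Fin a × Fin b) F)) (hS : StabA M)
    (g : Matrix.GeneralLinearGroup (Fin a × Fin b) F) (hg : g ∈ M) (hgK : g ∉ K0 a b F)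
    (u₀ : Fin a → F) (hu₀ : u₀ ≠ 0)
    (hME : ∀ u : Fin a → F, u ≠ 0 → ∃ u' : Fin a → F, u' ≠ 0 ∧ MeetAt J1 J2 g u₀ u u') :
    GenA J1 J2 g u₀ := by
  intro u hu y hy
  by_contra hyne
  apply hgK
  have hginv : ∀ v : Fin a × Fin b → F,
      ((g⁻¹ : Matrix.GeneralLinearGroup (Fin a × Fin b) F) :
        Matrix (Fin a × Fin b) (Fin a × Fin b) F) *ᵥ
        ((g : Matrix (Fin a × Fin b) (Fin a × Fin b) F) *ᵥ v) = v := by
    intro v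
    rw [Matrix.mulVec_mulVec, ← Units.val_mul, inv_mul_cancel, Units.val_one, Matrix.one_mulVec]
  obtain ⟨u', hu', hM1, hM2⟩ := hME u hu
  obtain ⟨z, hz⟩ := hM1 y hy
  have hzne : z ≠ 0 := by
    rintro rfl
    rw [ts4gen_ten_zero] at hz
    have h0 : ten u₀ y = 0 := by
      have h1 := hginv (ten u₀ y)
      rw [hz, Matrix.mulVec_zero] at h1
      exact h1.symm
    exact hyne (ts4gen_ten_eq_zero hu₀ h0)
  have hAB := fun (u'' : Fin a → F) (hu'' : u'' ≠ 0) (hperp : bf J1 u' u'' = 0) =>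
    ts4gen_AB g u₀ hME hu' hzne hz hu'' hperp
  obtain ⟨u₁, u₂, h1, h2, h12⟩ := ts4gen_pair C (by omega) hu'
  have hu₁ : u₁ ≠ 0 := by
    rintro rfl
    exact h12 (bf_zero_right _ _)
  have hu₂ : u₂ ≠ 0 := by
    rintro rfl
    exact h12 (bf_zero_left _ _)
  have hA' := (hAB u' hu' (bf_self_alt C.alt C.two u')).1
  have hB1 := (hAB u₁ hu₁ h1).2
  have hB2 := (hAB u₂ hu₂ h2).2
  have hsub : ∀ y₁ : Fin b → F, ∃ y₃ : Fin b → F,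
      ten u' y₁ = (g : Matrix (Fin a × Fin b) (Fin a × Fin b) F) *ᵥ ten u₀ y₃ := by
    intro y₁
    obtain ⟨ya, yb, hab⟩ := hB1 y₁
    obtain ⟨yc, yd, hcd⟩ := hB2 y₁
    have hdiff : (g : Matrix (Fin a × Fin b) (Fin a × Fin b) F) *ᵥ ten u₀ (yb - yd) =
        ten u₂ yc - ten u₁ ya := by
      rw [ts4gen_ten_sub, Matrix.mulVec_sub]
      have e1 : (g : Matrix (Fin a × Fin b) (Fin a × Fin b) F) *ᵥ ten u₀ yb =
          ten u' y₁ - ten u₁ ya := by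
        rw [hab]; abel
      have e2 : (g : Matrix (Fin a × Fin b) (Fin a × Fin b) F) *ᵥ ten u₀ yd =
          ten u' y₁ - ten u₂ yc := by
        rw [hcd]; abel
      rw [e1, e2]; abel
    have hperp : ∀ y' : Fin b → F, bf (JV J1 J2)
        ((g : Matrix (Fin a × Fin b) (Fin a × Fin b) F) *ᵥ ten u₀ (yb - yd)) (ten u' y') = 0 := by
      intro y'
      rw [hdiff, bf_sub_left, bf_JV_ten, bf_JV_ten, bf_alt C.alt u₂ u', h2, bf_alt C.alt u₁ u', h1]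
      simp
    obtain ⟨y₄, hy₄⟩ := hA' (yb - yd) hperp
    rw [hdiff] at hy₄
    have hya : ya = 0 := ts4gen_sep C h1 h2 h12 hy₄
    refine ⟨yb, ?_⟩
    rw [hab, hya, ts4gen_ten_zero, zero_add]
  have hinv : g⁻¹ ∈ K0 a b F := by
    apply hS g⁻¹ (M.inv_mem hg) u' u₀ hu' hu₀
    intro y₁
    obtain ⟨y₃, hy₃⟩ := hsub y₁
    refine ⟨y₃, ?_⟩
    rw [hy₃, hginv]
  have h := (K0 a b F).inv_mem hinv
  rwa [inv_inv] at h

end Cfsg.Agent.Lib.Helper21.TS
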