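import Mathlib
import Cfsg.Agent.Lib.Helper24.APF.Defs

/-!
# Project APF (helper24), piece LOCa : `Good` survives `sumCongr` with anything
-/

set_option autoImplicit false
set_option linter.unusedVariables false
set_option linter.unusedSectionVars false
set_option linter.style.haveILetI false

namespace Cfsg.Agent.Lib.Helper24.APF

open Equiv

theorem good_sumCongr (p : ℕ) (hp : p.Prime) {β γ : Type*} [Fintype β] [DecidableEq β]
    [Fintype γ] [DecidableEq γ] (u w : Perm β) (u₂ w₂ : Perm γ) (h : Good p u w) :
    Good p (Equiv.Perm.sumCongr u u₂) (Equiv.Perm.sumCongr w w₂) := by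
  obtain ⟨h1, h2⟩ := h
  refine ⟨?_, ?_⟩
  · rintro ⟨k, hk⟩
    apply h1
    rw [Equiv.Perm.sumCongr_mul] at hk
    have hpow : (Equiv.Perm.sumCongrHom β γ (u * w, u₂ * w₂)) ^ (p ^ k) = 1 := by
      have : Equiv.Perm.sumCongrHom β γ (u * w, u₂ * w₂) = Equiv.Perm.sumCongr (u * w) (u₂ * w₂) := rfl
      rw [this, ← hk]
      exact pow_orderOf_eq_one _
    rw [← map_pow] at hpow
    have h3 : (u * w, u₂ * w₂) ^ (p ^ k) = 1 :=
      Equiv.Perm.sumCongrHom_injective (by rw [hpow, map_one])
    have h4 : (u * w) ^ (p ^ k) = 1 := by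
      have := congrArg Prod.fst h3
      simpa using this
    obtain ⟨j, -, hj⟩ := (Nat.dvd_prime_pow hp).mp (orderOf_dvd_of_pow_eq_one h4)
    exact ⟨j, hj⟩
  · intro hsol
    apply h2
    -- the closure inside the product
    set K' : Subgroup (Perm β × Perm γ) := Subgroup.closure {(u, u₂), (w, w₂)} with hK'
    have himg : K'.map (Equiv.Perm.sumCongrHom β γ) =
        Subgroup.closure ({Equiv.Perm.sumCongr u u₂, Equiv.Perm.sumCongr w w₂} :
          Set (Perm (β ⊕ γ))) := by
      rw [hK', MonoidHom.map_closure, Set.image_pair]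
      rfl
    have hsol1 : Group.IsSolvable ↥(K'.map (Equiv.Perm.sumCongrHom β γ)) := by
      rw [himg]
      exact hsol
    haveI := hsol1
    have hsol2 : Group.IsSolvable ↥K' := by
      refine solvable_of_solvable_injective
        (f := (Equiv.Perm.sumCongrHom β γ).subgroupMap K') ?_
      intro a b hab
      have h5 := congrArg Subtype.val hab
      exact Subtype.ext (Equiv.Perm.sumCongrHom_injective h5)
    haveI := hsol2
    have himg2 : K'.map (MonoidHom.fst (Perm β) (Perm γ)) =
        Subgroup.closure ({u, w} : Set (Perm β)) := by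
      rw [hK', MonoidHom.map_closure, Set.image_pair]
      rfl
    have hsol3 : Group.IsSolvable ↥(K'.map (MonoidHom.fst (Perm β) (Perm γ))) :=
      solvable_of_surjective (MonoidHom.subgroupMap_surjective (MonoidHom.fst (Perm β) (Perm γ)) K')
    rw [himg2] at hsol3
    exact hsol3

end Cfsg.Agent.Lib.Helper24.APF
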