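import Mathlib
import Cfsg.Agent.Lib.helper7.CEC.Defs
import Cfsg.Agent.Lib.helper7.CEC.Defs2
import Cfsg.Agent.Lib.Helper21.STCM.GenTop

/-!
# CEC rows Z7 (`matSys_x_inj`) and Z8 (`field_three`) (helper29).
Statements verbatim from `helper7/CEC/Skel2.lean.txt`, section ZM.
-/

set_option autoImplicit false

namespace Cfsg.Agent.Lib.helper7.CEC

open Cfsg.Agent.Lib.helper15.St2 Cfsg.Agent.Lib.helper7.Ce Cfsg.Agent.Lib.helper3.STC

section ZM

open Cfsg.Agent.Lib.helper3.STC.Mat Matrix

universe u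

variable {F : Type u} [Field F] [Fintype F]

/-- the `(a, b)` entry of `Tm a b t` is `t` (own-name helper, any index type). -/
theorem cecz7_Tm_apply {l : Type*} [DecidableEq l] {K : Type*} [Field K] {a b : l ⊕ l} (hab : a ≠ b) (t : K) :
    Tm a b t a b = t := by
  unfold Tm
  by_cases h : b = ng a
  · rw [if_pos h, Matrix.add_apply, Matrix.one_apply_ne hab, Matrix.single_apply_same, zero_add]
  · rw [if_neg h, Matrix.sub_apply, Matrix.add_apply, Matrix.one_apply_ne hab, Matrix.single_apply_same,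
      zero_add, Matrix.single_apply_of_ne, sub_zero]
    rintro ⟨h1, h2⟩
    exact h h2.symm

/-- Z7 -/
theorem matSys_x_inj (m : ℕ) (a b : Fin m ⊕ Fin m) (hab : a ≠ b) : Function.Injective ((matSys (Fin m) F).x a b) := by
  intro t u htu
  have h1 : ((tm a b t : symplecticGroup (Fin m) F) : Matrix (Fin m ⊕ Fin m) (Fin m ⊕ Fin m) F) =
      ((tm a b u : symplecticGroup (Fin m) F) : Matrix (Fin m ⊕ Fin m) (Fin m ⊕ Fin m) F) :=
    congrArg Subtype.val htu
  rw [tm_coe hab, tm_coe hab] at h1
  have h2 := congrFun (congrFun h1 a) b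
  rwa [cecz7_Tm_apply hab, cecz7_Tm_apply hab] at h2

/-- Z8 -/
theorem field_three (hq : Fintype.card F = 3) : (3 : F) = 0 ∧ ∀ t : F, t = 0 ∨ t = 1 ∨ t = -1 := by
  classical
  have h3 : (3 : F) = 0 := by
    have := Nat.cast_card_eq_zero F
    rw [hq] at this
    exact_mod_cast this
  refine ⟨h3, ?_⟩
  have h10 : (1 : F) ≠ 0 := one_ne_zero
  have hm10 : (-1 : F) ≠ 0 := neg_ne_zero.mpr h10
  have h1m1 : (1 : F) ≠ -1 := by
    intro h
    apply h10
    have h2 : (2 : F) = 0 := by linear_combination h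
    linear_combination h3 - h2
  have hcard : ({0, 1, -1} : Finset F).card = 3 := by
    rw [Finset.card_insert_of_notMem, Finset.card_insert_of_notMem, Finset.card_singleton]
    · simpa using h1m1
    · simp only [Finset.mem_insert, Finset.mem_singleton, not_or]
      exact ⟨h10.symm, hm10.symm⟩
  have huniv : ({0, 1, -1} : Finset F) = Finset.univ := by
    apply Finset.eq_univ_of_card
    rw [hcard, hq]
  intro t
  have ht : t ∈ ({0, 1, -1} : Finset F) := by rw [huniv]; exact Finset.mem_univ t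
  simpa using ht

end ZM

end Cfsg.Agent.Lib.helper7.CEC
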