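import Mathlib
import Cfsg.Agent.Lib.Helper18.OPE.Defs2

set_option autoImplicit false
set_option linter.unusedVariables false
set_option linter.unusedSectionVars false

/-!
# Project OPE (S5974 + S5988; designer helper18), row CHI (`ch_of_dvd`) (helper29).  With the extra hypothesis `1 ≤ q`
(the statement without it fails for `q = 0`).
-/

namespace Cfsg.Agent.Lib.Helper18.OPE

/-- CHI -/
theorem ch_of_dvd (q r : ℕ) [Fact r.Prime] (hr2 : r ≠ 2) (hq : 1 ≤ q) (i : ℕ) (hi : i = orderOf (q : ZMod r))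
    (e : ℕ) (he : 1 ≤ e) :
    (r ∣ q ^ e - 1 → i ∣ e) ∧ (r ∣ q ^ e + 1 → Even i ∧ e % i = i / 2) := by
  have hr : r.Prime := Fact.out
  have hqe : 1 ≤ q ^ e := Nat.one_le_pow _ _ hq
  constructor
  · intro h
    rw [hi]
    apply orderOf_dvd_of_pow_eq_one
    have h1 : ((q ^ e - 1 : ℕ) : ZMod r) = 0 := (ZMod.natCast_eq_zero_iff _ _).mpr h
    rw [Nat.cast_sub hqe, Nat.cast_pow, Nat.cast_one, sub_eq_zero] at h1
    exact h1
  · intro h
    have h1 : ((q ^ e + 1 : ℕ) : ZMod r) = 0 := (ZMod.natCast_eq_zero_iff _ _).mpr h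
    rw [Nat.cast_add, Nat.cast_pow, Nat.cast_one] at h1
    have hm1 : (q : ZMod r) ^ e = -1 := eq_neg_of_add_eq_zero_left h1
    have h2e : (q : ZMod r) ^ (2 * e) = 1 := by
      rw [mul_comm, pow_mul, hm1]; ring
    have hne : (q : ZMod r) ^ e ≠ 1 := by
      rw [hm1]
      intro h3
      have h4 : (2 : ZMod r) = 0 := by
        have : (2 : ZMod r) = 1 - (-1) := by ring
        rw [this, h3]; ring
      have h5 : ((2 : ℕ) : ZMod r) = 0 := by exact_mod_cast h4
      have h6 := (ZMod.natCast_eq_zero_iff _ _).mp h5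
      have h7 := (Nat.prime_dvd_prime_iff_eq hr Nat.prime_two).mp h6
      exact hr2 h7
    have hd2 : i ∣ 2 * e := by
      rw [hi]; exact orderOf_dvd_of_pow_eq_one h2e
    have hnd : ¬ i ∣ e := by
      rw [hi]
      intro h3
      exact hne (orderOf_dvd_iff_pow_eq_one.mp h3)
    obtain ⟨t, ht⟩ := hd2
    have hi0 : i ≠ 0 := by
      rintro rfl
      rw [zero_mul] at ht
      omega
    have htodd : Odd t := by
      by_contra hte
      rw [Nat.not_odd_iff_even] at hte
      obtain ⟨u, hu⟩ := hte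
      apply hnd
      refine ⟨u, ?_⟩
      rw [hu] at ht
      have : 2 * e = 2 * (i * u) := by rw [ht]; ring
      omega
    obtain ⟨u, hu⟩ := htodd
    have hieven : Even i := by
      by_contra hio
      rw [Nat.not_even_iff_odd] at hio
      have : Odd (i * t) := hio.mul ⟨u, hu⟩
      rw [← ht] at this
      exact (Nat.not_even_iff_odd.mpr this) (even_two_mul e)
    refine ⟨hieven, ?_⟩
    obtain ⟨v, hv⟩ := hieven
    have hv0 : 0 < v := by omega
    have he' : e = i * u + v := by
      rw [hu, hv] at ht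
      have h8 : 2 * e = 2 * ((v + v) * u + v) := by rw [ht]; ring
      rw [hv]
      omega
    have hhalf : i / 2 = v := by omega
    rw [hhalf, he', Nat.mul_add_mod]
    exact Nat.mod_eq_of_lt (by omega)

end Cfsg.Agent.Lib.Helper18.OPE
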