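import Mathlib
import Cfsg.Agent.Lib.Helper22.PG.Defs

/-!
# Project PG (helper22, S2490): piece BURN (Burnside's normal complement theorem, wrapper)
-/

set_option autoImplicit false

namespace Cfsg.Agent.Lib.Helper22.PG

open Subgroup

/-- PG-BURN : Burnside's normal complement theorem (wrapper of Mathlib's transfer theorem) -/
theorem exists_normal_complement {H : Type*} [Group H] [Finite H] (P : Sylow 11 H)
    (h : normalizer ((P : Subgroup H) : Set H) ≤ centralizer ((P : Subgroup H) : Set H)) :
    ∃ M : Subgroup H, M.Normal ∧ Nat.card M * Nat.card (P : Subgroup H) = Nat.card H := by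
  refine ⟨(MonoidHom.transferSylow P h).ker, inferInstance, ?_⟩
  exact (MonoidHom.ker_transferSylow_isComplement' P h).card_mul_card

end Cfsg.Agent.Lib.Helper22.PG
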