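import Mathlib
import Cfsg.Agent.Lib.Helper22.PG.Defs

/-!
# Project PG (helper22, S2490): pieces SG, IV, O4, PAR (parity arguments)
-/

set_option autoImplicit false

namespace Cfsg.Agent.Lib.Helper22.PG

open Subgroup

/-- PG-SG : without a subgroup of index `2` every element acts as an even permutation -/
theorem sign_eq_one_of_noIdx2 {H : Type*} [Group H] (hno : NoIdx2 H) {X : Type*} [Fintype X]
    [DecidableEq X] [MulAction H X] (g : H) :
    Equiv.Perm.sign (MulAction.toPerm g : Equiv.Perm X) = 1 := by
  by_contra hne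
  let φ : H →* ℤˣ := Equiv.Perm.sign.comp (MulAction.toPermHom H X)
  have hg : φ g = -1 := (Int.units_eq_one_or _).resolve_left hne
  have hsurj : Function.Surjective φ := by
    intro u
    rcases Int.units_eq_one_or u with h | h
    · exact ⟨1, by rw [map_one, h]⟩
    · exact ⟨g, by rw [hg, h]⟩
  apply hno φ.ker
  rw [Subgroup.index_ker, MonoidHom.range_eq_top.mpr hsurj, Nat.card_congr Subgroup.topEquiv.toEquiv,
    Nat.card_eq_fintype_card, Fintype.card_units_int]

/-- PG-IV : an even involution has `|X| ≡ |Fix| mod 4` -/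
theorem card_modEq_of_even_involution {X : Type*} [Fintype X] [DecidableEq X] (σ : Equiv.Perm X)
    (h2 : σ * σ = 1) (hs : Equiv.Perm.sign σ = 1) :
    Nat.card X % 4 = Nat.card {x : X // σ x = x} % 4 := by
  have : Fact (Nat.Prime 2) := ⟨Nat.prime_two⟩
  have hσ2 : σ ^ 2 = 1 := by rw [pow_two]; exact h2
  have hrep := Equiv.Perm.cycleType_of_pow_prime_eq_one hσ2
  set c := Multiset.card σ.cycleType with hc
  have hsum : σ.cycleType.sum = 2 * c := by
    rw [hrep, Multiset.sum_replicate, smul_eq_mul, mul_comm]
  have hfix := σ.card_fixedPoints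
  have hle := σ.sum_cycleType_le
  have hsign := Equiv.Perm.sign_of_pow_two_eq_one hσ2
  rw [hfix, hsum, Nat.sub_sub_self (hsum ▸ hle), Nat.mul_div_cancel_left _ (by norm_num : 0 < 2),
    hs] at hsign
  have heven : Even c := by
    rw [← neg_one_pow_eq_one_iff_even (R := ℤˣ) (by decide)]
    exact hsign.symm
  obtain ⟨c', hc'⟩ := heven
  have h1 : Nat.card {x : X // σ x = x} = Fintype.card (Function.fixedPoints σ) := by
    rw [Nat.card_eq_fintype_card]
    exact Fintype.card_congr (Equiv.refl _)
  rw [h1, hfix, hsum, Nat.card_eq_fintype_card]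
  rw [hsum] at hle
  omega

/-- PG-O4 : a permutation of order dividing `4` whose square has no more fixed points than itself,
on `4k + (number of fixed points)` points with `k` odd, is odd -/
theorem sign_of_order_four {X : Type*} [Fintype X] [DecidableEq X] (σ : Equiv.Perm X)
    (h4 : σ ^ 4 = 1) (hfix : ∀ x, σ (σ x) = x → σ x = x) (k : ℕ) (hk : Odd k)
    (hcard : Nat.card X = 4 * k + Nat.card {x : X // σ x = x}) :
    Equiv.Perm.sign σ = -1 := by
  have hall : ∀ n ∈ σ.cycleType, n = 4 := by
    intro n hn
    have h2 := Equiv.Perm.two_le_of_mem_cycleType hn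
    have hdvd : n ∣ 4 := (Equiv.Perm.dvd_of_mem_cycleType hn).trans (orderOf_dvd_of_pow_eq_one h4)
    have hle : n ≤ 4 := Nat.le_of_dvd (by norm_num) hdvd
    interval_cases n
    · -- n = 2 is impossible
      exfalso
      obtain ⟨c, τ, hστ, hdisj, hcyc, hc2⟩ := Equiv.Perm.mem_cycleType_iff.mp hn
      have hne : c.support.Nonempty := by
        rw [← Finset.card_pos, hc2]; norm_num
      obtain ⟨a, ha⟩ := hne
      have hca : c a ≠ a := Equiv.Perm.mem_support.mp ha
      have hτa : τ a = a := (hdisj a).resolve_left hca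
      have hcca : c (c a) ≠ c a := fun h => hca (c.injective h)
      have hτca : τ (c a) = c a := (hdisj (c a)).resolve_left hcca
      have hc2' : c (c a) = a := by
        have ho : orderOf c = 2 := by rw [hcyc.orderOf, hc2]
        have : c ^ 2 = 1 := by rw [← ho]; exact pow_orderOf_eq_one c
        calc c (c a) = (c ^ 2) a := by rw [pow_two]; rfl
          _ = a := by rw [this]; rfl
      have hσa : σ a = c a := by rw [hστ]; simp [hτa]
      have hσσa : σ (σ a) = a := by
        rw [hσa, hστ]; simp [hτca, hc2']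
      exact hca (hσa ▸ hfix a hσσa)
    · exfalso; omega
    · rfl
  set c := Multiset.card σ.cycleType with hc
  have hrep : σ.cycleType = Multiset.replicate c 4 := Multiset.eq_replicate.mpr ⟨rfl, hall⟩
  have hsum : σ.cycleType.sum = 4 * c := by
    rw [hrep, Multiset.sum_replicate, smul_eq_mul, mul_comm]
  have hfixc := σ.card_fixedPoints
  have hle := σ.sum_cycleType_le
  have h1 : Nat.card {x : X // σ x = x} = Fintype.card (Function.fixedPoints σ) := by
    rw [Nat.card_eq_fintype_card]
    exact Fintype.card_congr (Equiv.refl _)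
  rw [h1, hfixc, hsum, Nat.card_eq_fintype_card] at hcard
  rw [hsum] at hle
  have hck : c = k := by omega
  rw [Equiv.Perm.sign_of_cycleType', hrep, Multiset.map_replicate, Multiset.prod_replicate, hck]
  have : (-(-1 : ℤˣ) ^ 4) = -1 := by decide
  rw [this]
  exact hk.neg_one_pow

/-- PG-PARa : involutions normalise `≡ 45 mod 4` Sylow 11-subgroups -/
theorem fx_involution_mod_four {H : Type*} [Group H] [Finite H] (hno : NoIdx2 H)
    (hn : Nat.card (Sylow 11 H) = 45) (t : H) (ht : orderOf t = 2) : fx t % 4 = 1 := by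
  classical
  have : Fintype (Sylow 11 H) := Fintype.ofFinite _
  have hs := sign_eq_one_of_noIdx2 hno (X := Sylow 11 H) t
  have h2 : (MulAction.toPerm t : Equiv.Perm (Sylow 11 H)) * MulAction.toPerm t = 1 := by
    have : t * t = 1 := by
      rw [← pow_two, ← ht]; exact pow_orderOf_eq_one t
    rw [← MulAction.toPermHom_apply, ← map_mul, this, map_one]
  have h := card_modEq_of_even_involution _ h2 hs
  rw [hn] at h
  have h3 : fx t = Nat.card {x : Sylow 11 H // (MulAction.toPerm t : Equiv.Perm _) x = x} :=
    Nat.card_congr (Equiv.refl _)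
  rw [h3, ← h]

/-- PG-PARb : no element of order `4` normalising a Sylow 11-subgroup has a square with `fx = 1` -/
theorem no_order_four {H : Type*} [Group H] [Finite H] (hno : NoIdx2 H)
    (hn : Nat.card (Sylow 11 H) = 45) (u : H) (hu : orderOf u = 4) (Q : Sylow 11 H)
    (hQ : u • Q = Q) (h1 : fx (u * u) = 1) : False := by
  classical
  have : Fintype (Sylow 11 H) := Fintype.ofFinite _
  have hs := sign_eq_one_of_noIdx2 hno (X := Sylow 11 H) u
  set σ : Equiv.Perm (Sylow 11 H) := MulAction.toPerm u with hσ
  have h4 : σ ^ 4 = 1 := by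
    have : u ^ 4 = 1 := by rw [← hu]; exact pow_orderOf_eq_one u
    rw [hσ, ← MulAction.toPermHom_apply, ← map_pow, this, map_one]
  -- the unique fixed point of `u * u`
  have hQ2 : Q ∈ MulAction.fixedBy (Sylow 11 H) (u * u) := by
    rw [MulAction.mem_fixedBy, mul_smul, hQ, hQ]
  have huniq : ∀ x : Sylow 11 H, (u * u) • x = x → x = Q := by
    intro x hx
    have hx' : x ∈ MulAction.fixedBy (Sylow 11 H) (u * u) := hx
    have hsub : Subsingleton (MulAction.fixedBy (Sylow 11 H) (u * u)) := by
      have : Nat.card (MulAction.fixedBy (Sylow 11 H) (u * u)) = 1 := h1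
      exact (Nat.card_eq_one_iff_unique.mp this).1
    have := hsub.elim ⟨x, hx'⟩ ⟨Q, hQ2⟩
    exact congrArg Subtype.val this
  have hfix : ∀ x, σ (σ x) = x → σ x = x := by
    intro x hx
    have hx2 : (u * u) • x = x := by rw [mul_smul]; exact hx
    rw [huniq x hx2]
    exact hQ
  have hfixcard : Nat.card {x : Sylow 11 H // σ x = x} = 1 := by
    rw [Nat.card_eq_one_iff_unique]
    refine ⟨⟨fun a b => ?_⟩, ⟨⟨Q, hQ⟩⟩⟩
    apply Subtype.ext
    have ha : (u * u) • a.1 = a.1 := by
      rw [mul_smul]
      have := a.2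
      change u • (u • a.1) = a.1
      rw [show u • a.1 = a.1 from this, show u • a.1 = a.1 from this]
    have hb : (u * u) • b.1 = b.1 := by
      rw [mul_smul]
      have := b.2
      change u • (u • b.1) = b.1
      rw [show u • b.1 = b.1 from this, show u • b.1 = b.1 from this]
    rw [huniq a.1 ha, huniq b.1 hb]
  have hsign := sign_of_order_four σ h4 hfix 11 (by decide) (by rw [hn, hfixcard])
  rw [hsign] at hs
  exact absurd hs (by decide)

end Cfsg.Agent.Lib.Helper22.PG
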