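import Mathlib
import Cfsg.Agent.Lib.Helper22.PG.Defs
import Cfsg.Agent.Lib.Helper29.PGPAR
import Cfsg.Agent.Lib.Helper10.PGFXb
import Cfsg.Agent.Lib.Helper10.PGKER

set_option autoImplicit false

namespace Cfsg.Agent.Lib.Helper22.PG

open Subgroup

/-- PG-F1 : an involution commuting with an element of order `11` normalises exactly one
Sylow 11-subgroup -/
theorem fx_involution_eq_one {H : Type*} [Group H] [Finite H] (h121 : ¬ 121 ∣ Nat.card H)
    (hno : NoIdx2 H) (hn : Nat.card (Sylow 11 H) = 45) (hcore : Cfsg.pPrimeCore 11 H = ⊥)
    (t y : H) (ht : orderOf t = 2) (hy : orderOf y = 11) (hc : t * y = y * t) : fx t = 1 := by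
  have h4 := fx_involution_mod_four hno hn t ht
  have h11 := fx_modEq_one h121 t y hy hc
  have hle : fx t ≤ 45 := by
    rw [← hn]
    exact Nat.card_le_card_of_injective (fun x : MulAction.fixedBy (Sylow 11 H) t => x.1)
      Subtype.val_injective
  have hcases : fx t = 1 ∨ fx t = 45 := by omega
  rcases hcases with h | h
  · exact h
  · exfalso
    have hall : ∀ Q : Sylow 11 H, t • Q = Q := by
      intro Q
      by_contra hQ
      -- the fixed set is a proper subset
      have hlt : fx t < Nat.card (Sylow 11 H) := by
        classical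
        have : Fintype (Sylow 11 H) := Fintype.ofFinite _
        unfold fx
        rw [Nat.card_eq_fintype_card, Nat.card_eq_fintype_card]
        exact Fintype.card_subtype_lt (p := fun x => x ∈ MulAction.fixedBy (Sylow 11 H) t) hQ
      omega
    have ht1 := eq_one_of_smul_all h121 (by omega) hcore t hall
    rw [ht1, orderOf_one] at ht
    omega

end Cfsg.Agent.Lib.Helper22.PG
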