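import Mathlib
import Cfsg.Prelude.Def_Classical
import Cfsg.Prelude.Def_KGroupFacts
import Cfsg.Agent.Lib.helper3.SPB.Defs
import Cfsg.Agent.Lib.Helper26.SPBT2
import Cfsg.Agent.Lib.Helper11.SPBT5
import Cfsg.Agent.Lib.Helper18.SPBT9
import Cfsg.Agent.Lib.Helper11.SPBT7
import Cfsg.Agent.Lib.Helper29.SPBT10core

/-!
# Project SPB (designer helper3; S2094), row T10 `CovB.stem`, VERBATIM (helper29).
`sig` is a stem extension: `spbt10_core` on T2 `zel_central` (helper26), T5 `ker_pi` + T7 `perfect` (helper11), T6 `pi_surj` (helper18).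
-/

set_option autoImplicit false

namespace Cfsg.Agent.Lib.helper3.SPB

open Cfsg.Agent.Lib.helper15.St2 Cfsg.Agent.Lib.helper3.STC Cfsg.Agent.Lib.Lead.STD Cfsg.Agent.Lib.Lead.STB
  Cfsg.Agent.Lib.Lead.SPN Cfsg.Agent.Lib.Helper16 Cfsg.Agent.Lib.Helper12.OMB

universe u v w

namespace CovB

variable {l : ℕ} {F : Type u} [Field F] [Fintype F] {G : Type v} [Group G] (C : CovB l F G)

/-- T10 [M]  **`sig` is a stem extension.**  Onto: T6.  `ker sig ≤ commutator G`: T7.  Central: `ker sig = ker π ⊆ {1, zel}` (T9, T5) and `zel` is central (T2). -/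
theorem stem (hstb : ∀ (H : Type v) [Group H], StbInjAt l F H) (homb : OmbSys l F) (hcen : OmbCenter l F) : Cfsg.IsStemExtension C.sig :=
  C.spbt10_core C.zel_central (C.ker_pi hstb) (C.pi_surj homb) (CovB.perfect C) hcen

end CovB

end Cfsg.Agent.Lib.helper3.SPB
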