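import Mathlib
import Cfsg.Agent.Lib.Helper24.APF.Defs

/-!
# Project APF (helper24), piece C6b : the cycle type of `c6V ℓ e k` is `k` threes
-/

set_option autoImplicit false
set_option linter.unusedVariables false
set_option linter.unusedSectionVars false
set_option linter.style.haveILetI false

namespace Cfsg.Agent.Lib.Helper24.APF

open Equiv

/-- casts of naturals below `ℓ` are distinct in `ZMod ℓ` -/
theorem h29_cast_inj (ℓ : ℕ) {a b : ℕ} (ha : a < ℓ) (hb : b < ℓ)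
    (h : (a : ZMod ℓ) = (b : ZMod ℓ)) : a = b := by
  have := (ZMod.natCast_eq_natCast_iff' a b ℓ).mp h
  rwa [Nat.mod_eq_of_lt ha, Nat.mod_eq_of_lt hb] at this

/-- the `r`-th factor of `c6V` -/
def h29_cyc (ℓ e r : ℕ) : Perm (ZMod ℓ) :=
  swap (r : ZMod ℓ) ((r : ZMod ℓ) + (e : ZMod ℓ)) *
    swap ((r : ZMod ℓ) + (e : ZMod ℓ)) ((r : ZMod ℓ) + 2 * (e : ZMod ℓ))

theorem h29_c6V_succ (ℓ e k : ℕ) : c6V ℓ e (k + 1) = c6V ℓ e k * h29_cyc ℓ e k := by
  unfold c6V h29_cyc
  rw [List.range_succ, List.map_append, List.prod_append, List.map_singleton, List.prod_singleton]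

/-- the points `r + i e`, as casts -/
theorem h29_pt (ℓ e r i : ℕ) : ((r + i * e : ℕ) : ZMod ℓ) = (r : ZMod ℓ) + (i : ZMod ℓ) * (e : ZMod ℓ) := by
  push_cast
  ring

theorem h29_pt_ne (ℓ e : ℕ) (hℓ : ℓ = 3 * e) {r r' i i' : ℕ} (hr : r < e) (hr' : r' < e) (hi : i < 3)
    (hi' : i' < 3) (hne : r ≠ r' ∨ i ≠ i') :
    (r : ZMod ℓ) + (i : ZMod ℓ) * (e : ZMod ℓ) ≠ (r' : ZMod ℓ) + (i' : ZMod ℓ) * (e : ZMod ℓ) := by
  rw [← h29_pt, ← h29_pt]
  intro h
  have h1 : r + i * e < ℓ := by rw [hℓ]; nlinarith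
  have h2 : r' + i' * e < ℓ := by rw [hℓ]; nlinarith
  have h3 := h29_cast_inj ℓ h1 h2 h
  have h4 : r = r' := by
    have := congrArg (· % e) h3
    simp only [Nat.add_mul_mod_self_right, Nat.mod_eq_of_lt hr, Nat.mod_eq_of_lt hr'] at this
    exact this
  subst h4
  have h5 : i * e = i' * e := by omega
  have he : 0 < e := by omega
  have h6 : i = i' := Nat.eq_of_mul_eq_mul_right he h5
  rcases hne with h | h
  · exact h rfl
  · exact h h6

/-- `c6V ℓ e k` fixes every point which is not of the form `r + i e`, `r < k` -/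
theorem h29_c6V_fix (ℓ e : ℕ) (k : ℕ) (x : ZMod ℓ)
    (hx : ∀ r : ℕ, r < k → ∀ i : ℕ, i < 3 → x ≠ (r : ZMod ℓ) + (i : ZMod ℓ) * (e : ZMod ℓ)) :
    c6V ℓ e k x = x := by
  induction k with
  | zero => simp [c6V]
  | succ k ih =>
    rw [h29_c6V_succ, Perm.mul_apply]
    have h0 := hx k (Nat.lt_succ_self k) 0 (by norm_num)
    have h1 := hx k (Nat.lt_succ_self k) 1 (by norm_num)
    have h2 := hx k (Nat.lt_succ_self k) 2 (by norm_num)
    simp only [Nat.cast_zero, zero_mul, add_zero, Nat.cast_one, one_mul, Nat.cast_ofNat] at h0 h1 h2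
    have hfix : h29_cyc ℓ e k x = x := by
      unfold h29_cyc
      rw [Perm.mul_apply, swap_apply_of_ne_of_ne h1 h2, swap_apply_of_ne_of_ne h0 h1]
    rw [hfix]
    exact ih (fun r hr i hi => hx r (Nat.lt_succ_of_lt hr) i hi)

theorem c6V_cycleType (ℓ e k : ℕ) [NeZero ℓ] (hℓ : ℓ = 3 * e) (hke : k ≤ e) :
    (c6V ℓ e k).cycleType = Multiset.replicate k 3 := by
  induction k with
  | zero => simp [c6V]
  | succ k ih =>
    have hk : k < e := hke
    rw [h29_c6V_succ]
    -- the three points of the new cycle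
    have p01 := h29_pt_ne ℓ e hℓ hk hk (by norm_num : 0 < 3) (by norm_num : 1 < 3) (Or.inr (by norm_num))
    have p02 := h29_pt_ne ℓ e hℓ hk hk (by norm_num : 0 < 3) (by norm_num : 2 < 3) (Or.inr (by norm_num))
    have p12 := h29_pt_ne ℓ e hℓ hk hk (by norm_num : 1 < 3) (by norm_num : 2 < 3) (Or.inr (by norm_num))
    simp only [Nat.cast_zero, zero_mul, add_zero, Nat.cast_one, one_mul, Nat.cast_ofNat] at p01 p02 p12
    have h3 : (h29_cyc ℓ e k).cycleType = {3} := by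
      unfold h29_cyc
      rw [swap_comm (k : ZMod ℓ)]
      exact (Equiv.Perm.isThreeCycle_swap_mul_swap_same p01.symm p12 p02).cycleType
    have hdisj : Perm.Disjoint (c6V ℓ e k) (h29_cyc ℓ e k) := by
      intro x
      by_cases hx : ∀ r : ℕ, r < k → ∀ i : ℕ, i < 3 →
          x ≠ (r : ZMod ℓ) + (i : ZMod ℓ) * (e : ZMod ℓ)
      · left
        exact h29_c6V_fix ℓ e k x hx
      · right
        push Not at hx
        obtain ⟨r, hr, i, hi, rfl⟩ := hx
        have hre : r < e := lt_trans hr hk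
        have q0 := h29_pt_ne ℓ e hℓ hre hk hi (by norm_num : 0 < 3) (Or.inl (Nat.ne_of_lt hr))
        have q1 := h29_pt_ne ℓ e hℓ hre hk hi (by norm_num : 1 < 3) (Or.inl (Nat.ne_of_lt hr))
        have q2 := h29_pt_ne ℓ e hℓ hre hk hi (by norm_num : 2 < 3) (Or.inl (Nat.ne_of_lt hr))
        simp only [Nat.cast_zero, zero_mul, add_zero, Nat.cast_one, one_mul, Nat.cast_ofNat] at q0 q1 q2
        unfold h29_cyc
        rw [Perm.mul_apply, swap_apply_of_ne_of_ne q1 q2, swap_apply_of_ne_of_ne q0 q1]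
    rw [hdisj.cycleType_mul, ih (Nat.le_of_lt hk), h3, Multiset.replicate_succ]
    rw [← Multiset.singleton_add, add_comm]

end Cfsg.Agent.Lib.Helper24.APF
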