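import Mathlib
import Cfsg.Agent.Lib.Helper24.APF.Defs
import Cfsg.Agent.Lib.Helper11.APFC6a
import Cfsg.Agent.Lib.Helper25.APFNPP
import Cfsg.Agent.Lib.Helper29.APFC6b

/-!
# Project APF (helper24), piece C6c : `σ * c6W` has exactly the two fixed points `1`, `1 + e`,
hence is not of `3`-power order.
-/

set_option autoImplicit false
set_option linter.unusedVariables false
set_option linter.unusedSectionVars false

namespace Cfsg.Agent.Lib.Helper24.APF

open Equiv

/-- casts of distinct naturals below `ℓ` are distinct in `ZMod ℓ` -/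
theorem h29c_ne (ℓ : ℕ) {a b : ℕ} (ha : a < ℓ) (hb : b < ℓ) (hab : a ≠ b) :
    (a : ZMod ℓ) ≠ (b : ZMod ℓ) :=
  fun h => hab (h29_cast_inj ℓ ha hb h)

/-- the value of `σ * c6W` -/
theorem h29c_apply (ℓ e k : ℕ) (x : ZMod ℓ) :
    (Equiv.addRight (1 : ZMod ℓ) * c6W ℓ e k) x =
      swap (0 : ZMod ℓ) (1 + (e : ZMod ℓ))
        (c6V ℓ e k (swap (0 : ZMod ℓ) (1 + (e : ZMod ℓ)) x)) + 1 := by
  simp [c6W, Equiv.Perm.mul_apply, Equiv.swap_inv]

/-- `c6V` moves the points of rows `< k` by `e` -/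
theorem h29c_V_cast (ℓ e k : ℕ) [NeZero ℓ] (hℓ : ℓ = 3 * e) (hke : k ≤ e) (a : ℕ) (ha : a < ℓ)
    (hak : a % e < k) : c6V ℓ e k (a : ZMod ℓ) = (a : ZMod ℓ) + (e : ZMod ℓ) := by
  rw [c6V_apply ℓ e k hℓ hke, ZMod.val_natCast_of_lt ha, if_pos hak]

theorem h29c_V_cast_not (ℓ e k : ℕ) [NeZero ℓ] (hℓ : ℓ = 3 * e) (hke : k ≤ e) (x : ZMod ℓ)
    (hak : ¬ x.val % e < k) : c6V ℓ e k x = x := by
  rw [c6V_apply ℓ e k hℓ hke, if_neg hak]

theorem h29c_fixed_iff (ℓ e k : ℕ) [NeZero ℓ] (hℓ : ℓ = 3 * e) (he : 3 ≤ e) (hk2 : 2 ≤ k)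
    (hke : k ≤ e) (x : ZMod ℓ) :
    (Equiv.addRight (1 : ZMod ℓ) * c6W ℓ e k) x = x ↔ x = 1 ∨ x = 1 + (e : ZMod ℓ) := by
  -- basic inequalities between the special points
  have L0 : (0 : ℕ) < ℓ := by omega
  have L1 : (1 : ℕ) < ℓ := by omega
  have Le : e < ℓ := by omega
  have L1e : 1 + e < ℓ := by omega
  have L2e : 2 * e < ℓ := by omega
  have L12e : 1 + e + e < ℓ := by omega
  have c0 : ((0 : ℕ) : ZMod ℓ) = 0 := Nat.cast_zero
  have c1 : ((1 : ℕ) : ZMod ℓ) = 1 := Nat.cast_one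
  have c1e : ((1 + e : ℕ) : ZMod ℓ) = 1 + (e : ZMod ℓ) := by push_cast; ring
  have c2e : ((2 * e : ℕ) : ZMod ℓ) = 2 * (e : ZMod ℓ) := by push_cast; ring
  have c12e : ((1 + e + e : ℕ) : ZMod ℓ) = 1 + (e : ZMod ℓ) + (e : ZMod ℓ) := by push_cast; ring
  have c3e : (2 * (e : ZMod ℓ) + (e : ZMod ℓ)) = 0 := by
    have : ((3 * e : ℕ) : ZMod ℓ) = 0 := by rw [← hℓ]; exact ZMod.natCast_self ℓ
    rw [← this]; push_cast; ring
  have n10 : (1 : ZMod ℓ) ≠ 0 := by
    rw [← c1, ← c0]; exact h29c_ne ℓ L1 L0 (by omega)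
  have ne0 : (e : ZMod ℓ) ≠ 0 := by
    rw [← c0]; exact h29c_ne ℓ Le L0 (by omega)
  have n1e0 : 1 + (e : ZMod ℓ) ≠ 0 := by
    rw [← c1e, ← c0]; exact h29c_ne ℓ L1e L0 (by omega)
  rw [h29c_apply]
  by_cases hx0 : x = 0
  · -- x = 0 : not fixed
    subst hx0
    rw [swap_apply_left, ← c1e, h29c_V_cast ℓ e k hℓ hke (1 + e) L1e (by
      rw [Nat.add_mod_right, Nat.mod_eq_of_lt (by omega)]; omega)]
    have hne1 : ((1 + e : ℕ) : ZMod ℓ) + (e : ZMod ℓ) ≠ 0 := by
      have : ((1 + e : ℕ) : ZMod ℓ) + (e : ZMod ℓ) = ((1 + e + e : ℕ) : ZMod ℓ) := by push_cast; ring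
      rw [this, ← c0]; exact h29c_ne ℓ L12e L0 (by omega)
    have hne2 : ((1 + e : ℕ) : ZMod ℓ) + (e : ZMod ℓ) ≠ ((1 + e : ℕ) : ZMod ℓ) := by
      intro h; exact ne0 (by simpa using h)
    rw [swap_apply_of_ne_of_ne hne1 hne2]
    constructor
    · intro h
      exfalso
      have h2 : ((2 + 2 * e : ℕ) : ZMod ℓ) = ((0 : ℕ) : ZMod ℓ) := by
        rw [c0, ← h]; push_cast; ring
      have := h29_cast_inj ℓ (by omega) L0 h2
      omega
    · rintro (h | h)
      · exact absurd h.symm n10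
      · exact absurd h.symm (by rw [c1e]; exact n1e0)
  by_cases hx1e : x = 1 + (e : ZMod ℓ)
  · -- x = 1 + e : fixed
    subst hx1e
    rw [swap_apply_right]
    have hV0 : c6V ℓ e k (0 : ZMod ℓ) = (e : ZMod ℓ) := by
      have := h29c_V_cast ℓ e k hℓ hke 0 L0 (by rw [Nat.zero_mod]; omega)
      rw [c0, zero_add] at this
      exact this
    rw [hV0, swap_apply_of_ne_of_ne ne0 (by intro h; exact n10 (by
      have : (e : ZMod ℓ) = 1 + (e : ZMod ℓ) := h
      have h2 : (0 : ZMod ℓ) + (e : ZMod ℓ) = 1 + (e : ZMod ℓ) := by rw [zero_add]; exact this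
      exact (add_right_cancel h2).symm))]
    constructor
    · intro _; right; rfl
    · intro _; ring
  have hsw : swap (0 : ZMod ℓ) (1 + (e : ZMod ℓ)) x = x := swap_apply_of_ne_of_ne hx0 hx1e
  rw [hsw]
  by_cases hx1 : x = 1
  · -- x = 1 : fixed
    subst hx1
    have hV1 : c6V ℓ e k (1 : ZMod ℓ) = 1 + (e : ZMod ℓ) := by
      have := h29c_V_cast ℓ e k hℓ hke 1 L1 (by rw [Nat.mod_eq_of_lt (by omega)]; omega)
      rw [c1] at this
      exact this
    rw [hV1, swap_apply_right]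
    constructor
    · intro _; left; rfl
    · intro _; ring
  by_cases hx2e : x = 2 * (e : ZMod ℓ)
  · -- x = 2e : not fixed
    subst hx2e
    have hV2 : c6V ℓ e k (2 * (e : ZMod ℓ)) = 0 := by
      have := h29c_V_cast ℓ e k hℓ hke (2 * e) L2e (by rw [Nat.mul_mod_left]; omega)
      rw [c2e, c3e] at this
      exact this
    rw [hV2, swap_apply_left]
    constructor
    · intro h
      exfalso
      have h2 : ((2 + e : ℕ) : ZMod ℓ) = ((2 * e : ℕ) : ZMod ℓ) := by
        rw [c2e, ← h]; push_cast; ring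
      have := h29_cast_inj ℓ (by omega) L2e h2
      omega
    · rintro (h | h)
      · exact absurd h hx1
      · exact absurd h hx1e
  -- generic point
  by_cases hc : x.val % e < k
  · have hV : c6V ℓ e k x = x + (e : ZMod ℓ) := by
      rw [c6V_apply ℓ e k hℓ hke, if_pos hc]
    rw [hV]
    have hn1 : x + (e : ZMod ℓ) ≠ 0 := by
      intro h
      apply hx2e
      rw [← c3e] at h
      exact add_right_cancel h
    have hn2 : x + (e : ZMod ℓ) ≠ 1 + (e : ZMod ℓ) := by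
      intro h
      exact hx1 (add_right_cancel h)
    rw [swap_apply_of_ne_of_ne hn1 hn2]
    constructor
    · intro h
      exfalso
      have h2 : (e : ZMod ℓ) + 1 = 0 := by
        have : x + ((e : ZMod ℓ) + 1) = x + 0 := by rw [add_zero, ← add_assoc]; exact h
        exact add_left_cancel this
      apply n1e0
      rw [add_comm]; exact h2
    · rintro (h | h)
      · exact absurd h hx1
      · exact absurd h hx1e
  · rw [h29c_V_cast_not ℓ e k hℓ hke x hc, hsw]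
    constructor
    · intro h
      exfalso
      apply n10
      have : x + 1 = x + 0 := by rw [add_zero]; exact h
      exact add_left_cancel this
    · rintro (h | h)
      · exact absurd h hx1
      · exact absurd h hx1e

theorem c6_not_ppow (ℓ e k : ℕ) [NeZero ℓ] (hℓ : ℓ = 3 * e) (he : 3 ≤ e) (hk2 : 2 ≤ k)
    (hke : k ≤ e) :
    ¬ ∃ j : ℕ, orderOf (Equiv.addRight (1 : ZMod ℓ) * c6W ℓ e k) = 3 ^ j := by
  apply not_ppow_of_fixed 3 Nat.prime_three
  have hfilter : (Finset.univ.filter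
      (fun x : ZMod ℓ => (Equiv.addRight (1 : ZMod ℓ) * c6W ℓ e k) x = x)) =
      {1, 1 + (e : ZMod ℓ)} := by
    ext x
    simp only [Finset.mem_filter, Finset.mem_univ, true_and, Finset.mem_insert,
      Finset.mem_singleton]
    exact h29c_fixed_iff ℓ e k hℓ he hk2 hke x
  have hne : (1 : ZMod ℓ) ≠ 1 + (e : ZMod ℓ) := by
    intro h
    have h0 : ((e : ℕ) : ZMod ℓ) = ((0 : ℕ) : ZMod ℓ) := by
      rw [Nat.cast_zero]
      have : (1 : ZMod ℓ) + 0 = 1 + (e : ZMod ℓ) := by rw [add_zero]; exact h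
      exact (add_left_cancel this).symm
    have := h29_cast_inj ℓ (by omega) (by omega) h0
    omega
  rw [hfilter, Finset.card_pair hne, ZMod.card, hℓ]
  intro h
  have := h
  unfold Nat.ModEq at this
  omega

end Cfsg.Agent.Lib.Helper24.APF
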