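import Mathlib
import Cfsg.Agent.Lib.Helper24.APF.Defs
import Cfsg.Agent.Lib.Helper11.APFC6a
import Cfsg.Agent.Lib.Helper29.APFC6b
import Cfsg.Agent.Lib.Helper29.APFC6c

/-!
# Project APF (helper24), piece C6d : the cube of `σ^{-e} * c6W` is `(2e 1)(0 1+e)`.
-/

set_option autoImplicit false
set_option linter.unusedVariables false
set_option linter.unusedSectionVars false

namespace Cfsg.Agent.Lib.Helper24.APF

open Equiv

/-- `σ^e` is translation by `e` -/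
theorem h29d_pow (ℓ e : ℕ) : (Equiv.addRight (1 : ZMod ℓ)) ^ e = Equiv.addRight (e : ZMod ℓ) := by
  ext x; simp

theorem h29d_inv_apply (ℓ e : ℕ) (x : ZMod ℓ) :
    ((Equiv.addRight (1 : ZMod ℓ)) ^ e)⁻¹ x = x - (e : ZMod ℓ) := by
  simp [sub_eq_add_neg]

/-- translation by `e` preserves the row `x.val % e` -/
theorem h29d_val_add (ℓ e : ℕ) [NeZero ℓ] (hℓ : ℓ = 3 * e) (x : ZMod ℓ) :
    (x + (e : ZMod ℓ)).val % e = x.val % e := by
  rw [ZMod.val_add, ZMod.val_natCast, Nat.mod_mod_of_dvd _ (Dvd.intro_left 3 hℓ.symm),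
    Nat.add_mod, Nat.mod_mod_of_dvd _ (Dvd.intro_left 3 hℓ.symm), Nat.mod_self, add_zero,
    Nat.mod_mod]

theorem h29d_val_sub (ℓ e : ℕ) [NeZero ℓ] (hℓ : ℓ = 3 * e) (x : ZMod ℓ) :
    (x - (e : ZMod ℓ)).val % e = x.val % e := by
  have := h29d_val_add ℓ e hℓ (x - (e : ZMod ℓ))
  rw [sub_add_cancel] at this
  exact this.symm

/-- the permutation `D = σ^{-e} * c6V` -/
theorem h29d_D_apply (ℓ e k : ℕ) [NeZero ℓ] (hℓ : ℓ = 3 * e) (hke : k ≤ e) (x : ZMod ℓ) :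
    (((Equiv.addRight (1 : ZMod ℓ)) ^ e)⁻¹ * c6V ℓ e k) x =
      if x.val % e < k then x else x - (e : ZMod ℓ) := by
  rw [Perm.mul_apply, h29d_inv_apply, c6V_apply ℓ e k hℓ hke]
  split_ifs
  · ring
  · rfl

theorem h29d_D_cube (ℓ e k : ℕ) [NeZero ℓ] (hℓ : ℓ = 3 * e) (hke : k ≤ e) :
    (((Equiv.addRight (1 : ZMod ℓ)) ^ e)⁻¹ * c6V ℓ e k) ^ 3 = 1 := by
  ext x
  rw [pow_succ, pow_succ, pow_one, Perm.mul_apply, Perm.mul_apply, Perm.one_apply]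
  by_cases hc : x.val % e < k
  · have h1 : (((Equiv.addRight (1 : ZMod ℓ)) ^ e)⁻¹ * c6V ℓ e k) x = x := by
      rw [h29d_D_apply ℓ e k hℓ hke, if_pos hc]
    rw [h1, h1, h1]
  · have h1 : (((Equiv.addRight (1 : ZMod ℓ)) ^ e)⁻¹ * c6V ℓ e k) x = x - (e : ZMod ℓ) := by
      rw [h29d_D_apply ℓ e k hℓ hke, if_neg hc]
    have hc2 : ¬ (x - (e : ZMod ℓ)).val % e < k := by rw [h29d_val_sub ℓ e hℓ]; exact hc
    have h2 : (((Equiv.addRight (1 : ZMod ℓ)) ^ e)⁻¹ * c6V ℓ e k) (x - (e : ZMod ℓ)) =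
        x - (e : ZMod ℓ) - (e : ZMod ℓ) := by
      rw [h29d_D_apply ℓ e k hℓ hke, if_neg hc2]
    have hc3 : ¬ (x - (e : ZMod ℓ) - (e : ZMod ℓ)).val % e < k := by
      rw [h29d_val_sub ℓ e hℓ]; exact hc2
    have h3 : (((Equiv.addRight (1 : ZMod ℓ)) ^ e)⁻¹ * c6V ℓ e k)
        (x - (e : ZMod ℓ) - (e : ZMod ℓ)) = x - (e : ZMod ℓ) - (e : ZMod ℓ) - (e : ZMod ℓ) := by
      rw [h29d_D_apply ℓ e k hℓ hke, if_neg hc3]
    rw [h1, h2, h3]
    have h3e : (3 : ZMod ℓ) * (e : ZMod ℓ) = 0 := by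
      have : ((3 * e : ℕ) : ZMod ℓ) = 0 := by rw [← hℓ]; exact ZMod.natCast_self ℓ
      rw [← this]; push_cast; ring
    have : x - (e : ZMod ℓ) - (e : ZMod ℓ) - (e : ZMod ℓ) = x - 3 * (e : ZMod ℓ) := by ring
    rw [this, h3e, sub_zero]

/-- `D` fixes the cast points in rows `< k` -/
theorem h29d_D_cast (ℓ e k : ℕ) [NeZero ℓ] (hℓ : ℓ = 3 * e) (hke : k ≤ e) (a : ℕ) (ha : a < ℓ)
    (hak : a % e < k) :
    (((Equiv.addRight (1 : ZMod ℓ)) ^ e)⁻¹ * c6V ℓ e k) (a : ZMod ℓ) = (a : ZMod ℓ) := by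
  rw [h29d_D_apply ℓ e k hℓ hke, ZMod.val_natCast_of_lt ha, if_pos hak]

theorem h29d_swap_cube {α : Type*} [DecidableEq α] (a b : α) : (swap a b) ^ 3 = swap a b := by
  rw [pow_succ, pow_succ, pow_one, swap_mul_self, one_mul]

theorem c6_cube (ℓ e k : ℕ) [NeZero ℓ] (hℓ : ℓ = 3 * e) (he : 3 ≤ e) (hk2 : 2 ≤ k)
    (hke : k ≤ e) :
    (((Equiv.addRight (1 : ZMod ℓ)) ^ e)⁻¹ * c6W ℓ e k) ^ 3 =
      swap (2 * (e : ZMod ℓ)) 1 * swap (0 : ZMod ℓ) (1 + (e : ZMod ℓ)) := by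
  have L0 : (0 : ℕ) < ℓ := by omega
  have L1 : (1 : ℕ) < ℓ := by omega
  have L1e : 1 + e < ℓ := by omega
  have L2e : 2 * e < ℓ := by omega
  have c0 : ((0 : ℕ) : ZMod ℓ) = 0 := Nat.cast_zero
  have c1 : ((1 : ℕ) : ZMod ℓ) = 1 := Nat.cast_one
  have c1e : ((1 + e : ℕ) : ZMod ℓ) = 1 + (e : ZMod ℓ) := by push_cast; ring
  have c2e : ((2 * e : ℕ) : ZMod ℓ) = 2 * (e : ZMod ℓ) := by push_cast; ring
  have h3e : (3 : ZMod ℓ) * (e : ZMod ℓ) = 0 := by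
    have : ((3 * e : ℕ) : ZMod ℓ) = 0 := by rw [← hℓ]; exact ZMod.natCast_self ℓ
    rw [← this]; push_cast; ring
  set S' : Perm (ZMod ℓ) := ((Equiv.addRight (1 : ZMod ℓ)) ^ e)⁻¹ with hS'
  set h : Perm (ZMod ℓ) := swap (0 : ZMod ℓ) (1 + (e : ZMod ℓ)) with hh
  set h' : Perm (ZMod ℓ) := swap (2 * (e : ZMod ℓ)) 1 with hh'
  set V : Perm (ZMod ℓ) := c6V ℓ e k with hV
  set D : Perm (ZMod ℓ) := S' * V with hD
  -- D fixes the four special points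
  have D0 : D 0 = 0 := by
    have := h29d_D_cast ℓ e k hℓ hke 0 L0 (by rw [Nat.zero_mod]; omega)
    rwa [c0] at this
  have D1 : D 1 = 1 := by
    have := h29d_D_cast ℓ e k hℓ hke 1 L1 (by rw [Nat.mod_eq_of_lt (by omega)]; omega)
    rwa [c1] at this
  have D1e : D (1 + (e : ZMod ℓ)) = 1 + (e : ZMod ℓ) := by
    have := h29d_D_cast ℓ e k hℓ hke (1 + e) L1e (by
      rw [Nat.add_mod_right, Nat.mod_eq_of_lt (by omega)]; omega)
    rwa [c1e] at this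
  have D2e : D (2 * (e : ZMod ℓ)) = 2 * (e : ZMod ℓ) := by
    have := h29d_D_cast ℓ e k hℓ hke (2 * e) L2e (by rw [Nat.mul_mod_left]; omega)
    rwa [c2e] at this
  -- S' * h = h' * S'
  have e1 : S' * h = h' * S' := by
    rw [hh, mul_swap_eq_swap_mul, hh']
    congr 2
    · rw [hS', h29d_inv_apply, zero_sub]
      have : (2 : ZMod ℓ) * (e : ZMod ℓ) + (e : ZMod ℓ) = 0 := by rw [← h3e]; ring
      exact (eq_neg_of_add_eq_zero_left this).symm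
    · rw [hS', h29d_inv_apply]; ring
  -- commutation relations
  have cDh : Commute D h := by
    show D * h = h * D
    rw [hh, mul_swap_eq_swap_mul, D0, D1e]
  have cDh' : Commute D h' := by
    show D * h' = h' * D
    rw [hh', mul_swap_eq_swap_mul, D2e, D1]
  have chh' : Commute h' h := by
    show h' * h = h * h'
    rw [hh, mul_swap_eq_swap_mul]
    have n1 : (0 : ZMod ℓ) ≠ 2 * (e : ZMod ℓ) := by
      rw [← c0, ← c2e]; exact h29c_ne ℓ L0 L2e (by omega)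
    have n2 : (0 : ZMod ℓ) ≠ 1 := by
      rw [← c0, ← c1]; exact h29c_ne ℓ L0 L1 (by omega)
    have n3 : (1 + (e : ZMod ℓ)) ≠ 2 * (e : ZMod ℓ) := by
      rw [← c1e, ← c2e]; exact h29c_ne ℓ L1e L2e (by omega)
    have n4 : (1 + (e : ZMod ℓ)) ≠ 1 := by
      rw [← c1e, ← c1]; exact h29c_ne ℓ L1e L1 (by omega)
    rw [hh', swap_apply_of_ne_of_ne n1 n2, swap_apply_of_ne_of_ne n3 n4]
  have hT : S' * c6W ℓ e k = h' * D * h := by
    unfold c6W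
    rw [← hh, ← hV, hh, swap_inv, ← hh, hD, ← mul_assoc, ← mul_assoc, e1, mul_assoc h' S' V]
  rw [hT]
  have c1' : Commute (h' * D) h := Commute.mul_left chh' cDh
  rw [c1'.mul_pow, cDh'.symm.mul_pow, hD, hS', hV, h29d_D_cube ℓ e k hℓ hke, mul_one, hh', hh,
    h29d_swap_cube, h29d_swap_cube]

end Cfsg.Agent.Lib.Helper24.APF
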