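import Mathlib
import Cfsg.Agent.Lib.Helper24.APF.Defs
import Cfsg.Agent.Lib.Helper13.APFCERT1
import Cfsg.Agent.Lib.Helper13.APFCERT3

/-!
APF piece CONC (project of helper24, S2276): the three concrete configurations
`cfg_3_3`, `cfg_33_33`, `cfg_33_3` on `Fin 5` / `Fin 6`.
-/

set_option autoImplicit false

namespace Cfsg.Agent.Lib.Helper24.APF
open Equiv
open scoped commutatorElement

/-- `5` is not a power of `3`. -/
theorem h29_five_ne_three_pow (k : ℕ) : (5 : ℕ) ≠ 3 ^ k := by
  intro h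
  rcases k with _ | _ | k
  · norm_num at h
  · norm_num at h
  · have : 9 ≤ 3 ^ (k + 1 + 1) := by
      calc 9 = 3 ^ 2 := by norm_num
        _ ≤ 3 ^ (k + 1 + 1) := Nat.pow_le_pow_right (by norm_num) (by omega)
    omega

/-- `4` is not a power of `3`. -/
theorem h29_four_ne_three_pow (k : ℕ) : (4 : ℕ) ≠ 3 ^ k := by
  intro h
  rcases k with _ | _ | k
  · norm_num at h
  · norm_num at h
  · have : 9 ≤ 3 ^ (k + 1 + 1) := by
      calc 9 = 3 ^ 2 := by norm_num
        _ ≤ 3 ^ (k + 1 + 1) := Nat.pow_le_pow_right (by norm_num) (by omega)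
    omega

theorem cfg_3_3 : Cfg 3 {3} {3} 5 := by
  refine ⟨swap 2 0 * swap 0 1, swap 2 3 * swap 3 4, by decide +kernel, by decide +kernel, ?_, ?_⟩
  · rintro ⟨k, hk⟩
    have h5 : orderOf ((swap (2 : Fin 5) 0 * swap 0 1) * (swap 2 3 * swap 3 4)) = 5 := by
      have hp5 : Fact (Nat.Prime 5) := ⟨by norm_num⟩
      exact orderOf_eq_prime (by decide +kernel) (by decide +kernel)
    rw [h5] at hk
    exact h29_five_ne_three_pow k hk
  · exact not_solvable_of_threeCycles _ 2 0 1 3 4 (by decide)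
      (Subgroup.subset_closure (by simp)) (Subgroup.subset_closure (by simp))

theorem cfg_33_3 : Cfg 3 {3, 3} {3} 6 := by
  refine ⟨(swap 0 1 * swap 1 2) * (swap 3 4 * swap 4 5), swap 1 3 * swap 3 0,
    by decide +kernel, by decide +kernel, ?_, ?_⟩
  · rintro ⟨k, hk⟩
    have h4 : orderOf (((swap (0 : Fin 6) 1 * swap 1 2) * (swap 3 4 * swap 4 5)) *
        (swap 1 3 * swap 3 0)) = 4 := by
      have hp2 : Fact (Nat.Prime 2) := ⟨Nat.prime_two⟩
      have h := orderOf_eq_prime_pow (x := ((swap (0 : Fin 6) 1 * swap 1 2) * (swap 3 4 * swap 4 5)) *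
        (swap 1 3 * swap 3 0)) (p := 2) (n := 1)
        (by decide +kernel) (by decide +kernel)
      simpa using h
    rw [h4] at hk
    exact h29_four_ne_three_pow k hk
  · set u : Perm (Fin 6) := (swap 0 1 * swap 1 2) * (swap 3 4 * swap 4 5) with hu
    set w : Perm (Fin 6) := swap 1 3 * swap 3 0 with hw
    have huK : u ∈ Subgroup.closure ({u, w} : Set (Perm (Fin 6))) :=
      Subgroup.subset_closure (by simp)
    have hwK : w ∈ Subgroup.closure ({u, w} : Set (Perm (Fin 6))) :=
      Subgroup.subset_closure (by simp)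
    have hconj : u * w * u⁻¹ = swap 1 2 * swap 2 4 := by
      rw [hu, hw]; decide +kernel
    refine not_solvable_of_threeCycles _ 1 3 0 2 4 (by decide) hwK ?_
    rw [← hconj]
    exact Subgroup.mul_mem _ (Subgroup.mul_mem _ huK hwK) (Subgroup.inv_mem _ huK)

theorem cfg_33_33 : Cfg 3 {3, 3} {3, 3} 6 := by
  refine ⟨(swap 0 1 * swap 1 2) * (swap 3 4 * swap 4 5), (swap 0 3 * swap 3 1) * (swap 2 4 * swap 4 5),
    by decide +kernel, by decide +kernel, ?_, ?_⟩
  · rintro ⟨k, hk⟩
    have h5 : orderOf (((swap (0 : Fin 6) 1 * swap 1 2) * (swap 3 4 * swap 4 5)) *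
        ((swap 0 3 * swap 3 1) * (swap 2 4 * swap 4 5))) = 5 := by
      have hp5 : Fact (Nat.Prime 5) := ⟨by norm_num⟩
      exact orderOf_eq_prime (by decide +kernel) (by decide +kernel)
    rw [h5] at hk
    exact h29_five_ne_three_pow k hk
  · set u : Perm (Fin 6) := (swap 0 1 * swap 1 2) * (swap 3 4 * swap 4 5) with hu
    set w : Perm (Fin 6) := (swap 0 3 * swap 3 1) * (swap 2 4 * swap 4 5) with hw
    have huK : u ∈ Subgroup.closure ({u, w} : Set (Perm (Fin 6))) :=
      Subgroup.subset_closure (by simp)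
    have hwK : w ∈ Subgroup.closure ({u, w} : Set (Perm (Fin 6))) :=
      Subgroup.subset_closure (by simp)
    have e1 : u = ⁅u⁻¹, w * u⁻¹ * w⁻¹ * u * w⁆ := by
      rw [hu, hw]; decide +kernel
    have e2 : w = ⁅w⁻¹, u * w⁻¹ * u⁻¹ * w * u⁆ := by
      rw [hu, hw]; decide +kernel
    have m1 : u ∈ ⁅Subgroup.closure ({u, w} : Set (Perm (Fin 6))),
        Subgroup.closure ({u, w} : Set (Perm (Fin 6)))⁆ := by
      have h := Subgroup.commutator_mem_commutator (Subgroup.inv_mem _ huK)
        (Subgroup.mul_mem _ (Subgroup.mul_mem _ (Subgroup.mul_mem _ (Subgroup.mul_mem _ hwK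
          (Subgroup.inv_mem _ huK)) (Subgroup.inv_mem _ hwK)) huK) hwK)
      rw [← e1] at h
      exact h
    have m2 : w ∈ ⁅Subgroup.closure ({u, w} : Set (Perm (Fin 6))),
        Subgroup.closure ({u, w} : Set (Perm (Fin 6)))⁆ := by
      have h := Subgroup.commutator_mem_commutator (Subgroup.inv_mem _ hwK)
        (Subgroup.mul_mem _ (Subgroup.mul_mem _ (Subgroup.mul_mem _ (Subgroup.mul_mem _ huK
          (Subgroup.inv_mem _ hwK)) (Subgroup.inv_mem _ huK)) hwK) huK)
      rw [← e2] at h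
      exact h
    apply not_solvable_of_perfect_gens
    · intro s hs
      have hs' : s = u ∨ s = w := by simpa using hs
      rcases hs' with h | h
      · rw [h]; exact m1
      · rw [h]; exact m2
    · refine ⟨u, by simp, ?_⟩
      rw [hu]; decide +kernel

end Cfsg.Agent.Lib.Helper24.APF
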