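import Mathlib
import Cfsg.Prelude.Def_GeometricClasses
import Cfsg.Agent.Lib.Helper29.C6P.DefsS

set_option autoImplicit false
set_option linter.unusedVariables false
set_option linter.unusedSectionVars false
set_option linter.style.haveILetI false

/-!
# Project C6P (S6000), PART S, row S9 (helper29): CORE of `c6p_std`, with the conclusions of rows S3, S4, S6, S7, S8 as hypotheses.
-/

namespace Cfsg.Agent.Lib.Helper10.C6P

open Cfsg Cfsg.Geo
open scoped MatrixGroups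

variable {F : Type*} [Field F]

local notation "M4" => Matrix (Fin 4) (Fin 4) F

/-- conjugation of a power -/
theorem c6ps9_conj_pow (P : GL (Fin 4) F) (A : M4) (k : ℕ) :
    ((P : M4) * A * ((P⁻¹ : GL (Fin 4) F) : M4)) ^ k = (P : M4) * A ^ k * ((P⁻¹ : GL (Fin 4) F) : M4) := by
  have hPP : ((P⁻¹ : GL (Fin 4) F) : M4) * (P : M4) = 1 := by
    rw [← Matrix.GeneralLinearGroup.coe_mul, inv_mul_cancel]; rfl
  induction k with
  | zero =>
    rw [pow_zero, pow_zero, Matrix.mul_one, ← Matrix.GeneralLinearGroup.coe_mul, mul_inv_cancel]; rfl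
  | succ k ih =>
    rw [pow_succ, ih, pow_succ]
    calc (P : M4) * A ^ k * ((P⁻¹ : GL (Fin 4) F) : M4) * ((P : M4) * A * ((P⁻¹ : GL (Fin 4) F) : M4))
        = (P : M4) * A ^ k * (((P⁻¹ : GL (Fin 4) F) : M4) * (P : M4)) * A * ((P⁻¹ : GL (Fin 4) F) : M4) := by
          simp only [Matrix.mul_assoc]
      _ = (P : M4) * (A ^ k * A) * ((P⁻¹ : GL (Fin 4) F) : M4) := by
          rw [hPP, Matrix.mul_one]; simp only [Matrix.mul_assoc]

/-- conjugation of a product -/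
theorem c6ps9_conj_mul (P : GL (Fin 4) F) (A B : M4) :
    ((P : M4) * A * ((P⁻¹ : GL (Fin 4) F) : M4)) * ((P : M4) * B * ((P⁻¹ : GL (Fin 4) F) : M4))
      = (P : M4) * (A * B) * ((P⁻¹ : GL (Fin 4) F) : M4) := by
  have hPP : ((P⁻¹ : GL (Fin 4) F) : M4) * (P : M4) = 1 := by
    rw [← Matrix.GeneralLinearGroup.coe_mul, inv_mul_cancel]; rfl
  calc ((P : M4) * A * ((P⁻¹ : GL (Fin 4) F) : M4)) * ((P : M4) * B * ((P⁻¹ : GL (Fin 4) F) : M4))
      = (P : M4) * A * (((P⁻¹ : GL (Fin 4) F) : M4) * (P : M4)) * B * ((P⁻¹ : GL (Fin 4) F) : M4) := by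
        simp only [Matrix.mul_assoc]
    _ = (P : M4) * (A * B) * ((P⁻¹ : GL (Fin 4) F) : M4) := by
        rw [hPP, Matrix.mul_one]; simp only [Matrix.mul_assoc]

/-- a fourth root of unity is a power of `i` -/
theorem c6ps9_root (i c : F) (hi : i * i = -1) (hc : c ^ 4 = 1) : ∃ a : ℕ, c = i ^ a := by
  have h : (c - 1) * (c + 1) * (c - i) * (c + i) = 0 := by
    have : (c - 1) * (c + 1) * (c - i) * (c + i) = c ^ 4 - 1 - (c ^ 2 - 1) * (i * i + 1) := by ring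
    rw [this, hi, hc]; ring
  rcases mul_eq_zero.mp h with h | h
  · rcases mul_eq_zero.mp h with h | h
    · rcases mul_eq_zero.mp h with h | h
      · exact ⟨0, by rw [pow_zero]; exact sub_eq_zero.mp h⟩
      · refine ⟨2, ?_⟩
        rw [pow_two, hi]
        exact eq_neg_of_add_eq_zero_left h
    · exact ⟨1, by rw [pow_one]; exact sub_eq_zero.mp h⟩
  · refine ⟨3, ?_⟩
    have : i ^ 3 = -i := by
      rw [show (3 : ℕ) = 2 + 1 from rfl, pow_succ, pow_two, hi]; ring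
    rw [this]
    exact eq_neg_of_add_eq_zero_left h

/-- one correction step: an involution `u` anticommuting with `t`; `x` commutes or anticommutes with `t`; then `x * u^k` commutes with `t`
for `k = 0` or `1` -/
theorem c6ps9_step (x u t : M4) (hut : u * t = -(t * u)) (hx : x * t = t * x ∨ x * t = -(t * x)) :
    ∃ k : ℕ, (x * u ^ k) * t = t * (x * u ^ k) := by
  rcases hx with hx | hx
  · exact ⟨0, by rw [pow_zero, Matrix.mul_one]; exact hx⟩
  · refine ⟨1, ?_⟩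
    rw [pow_one, Matrix.mul_assoc, hut, Matrix.mul_neg, ← Matrix.mul_assoc, hx, Matrix.neg_mul, neg_neg,
      Matrix.mul_assoc]

/-- commuting is preserved by multiplying with a power of a commuting matrix -/
theorem c6ps9_keep (x u t : M4) (hut : u * t = t * u) (hx : x * t = t * x) (k : ℕ) :
    (x * u ^ k) * t = t * (x * u ^ k) := by
  have hk : u ^ k * t = t * u ^ k := by
    induction k with
    | zero => simp
    | succ k ih =>
      rw [pow_succ, Matrix.mul_assoc, hut, ← Matrix.mul_assoc, ih, Matrix.mul_assoc]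
  rw [Matrix.mul_assoc, hk, ← Matrix.mul_assoc, hx, Matrix.mul_assoc]

/-- S9 core -/
theorem c6ps9_core [Fintype F] {p : ℕ} [Fact p.Prime] [CharP F p] (hF : Fintype.card F = p) (hp4 : p % 4 = 1)
    (R : Subgroup (GL (Fin 4) F)) (hR : IsLinearSymplecticTypeData 2 R) (hR6 : Nat.card R = 2 ^ 6)
    (hS3 : Nat.card (Subgroup.center R) = 4 →
      (∀ g ∈ R, (∀ h ∈ R, g * h = h * g) ↔ ∃ c : F, (g : M4) = c • (1 : M4)) ∧
      (∀ c : F, c ^ 4 = 1 → ∃ g ∈ R, (g : M4) = c • (1 : M4)) ∧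
      (∀ g ∈ R, ∀ c : F, (g : M4) = c • (1 : M4) → c ^ 4 = 1))
    (hS4 : Nat.card (Subgroup.center R) = 4 →
      (∀ g ∈ R, (g : M4) * (g : M4) = 1 ∨ (g : M4) * (g : M4) = -1) ∧
      (∀ g ∈ R, ∀ h ∈ R, (g : M4) * (h : M4) = (h : M4) * g ∨ (g : M4) * (h : M4) = -((h : M4) * g)))
    (hS6 : Nat.card (Subgroup.center R) = 4 →
      ∃ g1 ∈ R, ∃ h1 ∈ R, ∃ g2 ∈ R, ∃ h2 ∈ R, PauliRel (g1 : M4) (h1 : M4) (g2 : M4) (h2 : M4))
    (hS7 : (2 : F) ≠ 0 → ∀ G1 H1 G2 H2 : M4, PauliRel G1 H1 G2 H2 →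
      ∃ P : GL (Fin 4) F,
        G1 = (P : M4) * pD1 * ((P⁻¹ : GL (Fin 4) F) : M4) ∧ H1 = (P : M4) * pX1 * ((P⁻¹ : GL (Fin 4) F) : M4) ∧
        G2 = (P : M4) * pD2 * ((P⁻¹ : GL (Fin 4) F) : M4) ∧ H2 = (P : M4) * pX2 * ((P⁻¹ : GL (Fin 4) F) : M4))
    (hS8 : (2 : F) ≠ 0 → ∀ M : M4, M * pD1 = pD1 * M → M * pX1 = pX1 * M → M * pD2 = pD2 * M → M * pX2 = pX2 * M →
      ∃ c : F, M = c • (1 : M4)) :
    ∃ (i : F) (P : GL (Fin 4) F), i * i = -1 ∧
      ∀ g : GL (Fin 4) F, g ∈ R ↔ ∃ a b c d e : ℕ,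
        (g : M4) = (P : M4) * pauliM i a b c d e * ((P⁻¹ : GL (Fin 4) F) : M4) := by
  classical
  -- the centre has order 4
  have hZ : Nat.card (Subgroup.center R) = 4 := by
    obtain ⟨p', e, _, _, h | h | h⟩ := hR.field
    · exact absurd h.1 (by decide)
    · exact h.2.2.1
    · have := h.2.2.2.1
      rw [hR6] at this
      norm_num at this
  -- `2 ≠ 0`
  have hp : p.Prime := Fact.out
  have h2 : (2 : F) ≠ 0 := by
    intro h0
    have h3 : ((2 : ℕ) : F) = 0 := by exact_mod_cast h0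
    have h4 := (CharP.cast_eq_zero_iff F p 2).mp h3
    have h5 := Nat.le_of_dvd (by norm_num) h4
    have h6 := hp.two_le
    have : p = 2 := by omega
    rw [this] at hp4
    norm_num at hp4
  -- `i`
  obtain ⟨i, hi⟩ : ∃ i : F, i * i = -1 := by
    have h1 : IsSquare (-1 : F) := by
      rw [FiniteField.isSquare_neg_one_iff, hF]
      omega
    obtain ⟨i, hi⟩ := h1
    exact ⟨i, hi.symm⟩
  obtain ⟨hcen, hroots, hfour⟩ := hS3 hZ
  obtain ⟨hsq, hpm⟩ := hS4 hZ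
  obtain ⟨g1, hg1, h1, hh1, g2, hg2, h2', hh2, hrel⟩ := hS6 hZ
  obtain ⟨P, hG1, hH1, hG2, hH2⟩ := hS7 h2 _ _ _ _ hrel
  have hi4 : i ^ 4 = 1 := by
    rw [show (4 : ℕ) = 2 + 2 from rfl, pow_add, pow_two, hi]; ring
  obtain ⟨ι, hιR, hι⟩ := hroots i hi4
  have hPP : ((P⁻¹ : GL (Fin 4) F) : M4) * (P : M4) = 1 := by
    rw [← Matrix.GeneralLinearGroup.coe_mul, inv_mul_cancel]; rfl
  have hPP' : (P : M4) * ((P⁻¹ : GL (Fin 4) F) : M4) = 1 := by
    rw [← Matrix.GeneralLinearGroup.coe_mul, mul_inv_cancel]; rfl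
  -- the matrix of a word
  have hword : ∀ a b c d e : ℕ,
      ((ι ^ a * g1 ^ b * h1 ^ c * g2 ^ d * h2' ^ e : GL (Fin 4) F) : M4) =
        (P : M4) * pauliM i a b c d e * ((P⁻¹ : GL (Fin 4) F) : M4) := by
    intro a b c d e
    simp only [Matrix.GeneralLinearGroup.coe_mul, Units.val_pow_eq_pow_val]
    rw [hι, hG1, hH1, hG2, hH2, c6ps9_conj_pow, c6ps9_conj_pow, c6ps9_conj_pow, c6ps9_conj_pow]
    unfold pauliM
    rw [smul_pow, one_pow, Matrix.smul_mul, Matrix.one_mul, Matrix.smul_mul, Matrix.smul_mul, Matrix.smul_mul,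
      c6ps9_conj_mul, c6ps9_conj_mul, c6ps9_conj_mul, Matrix.mul_smul, Matrix.smul_mul]
  refine ⟨i, P, hi, ?_⟩
  intro g
  constructor
  · intro hg
    -- abbreviations for the four generator matrices
    have hG1sq := hrel.g1sq
    have hH1sq := hrel.h1sq
    have hG2sq := hrel.g2sq
    have hH2sq := hrel.h2sq
    -- step 1: `x₁ = g * h₂^e` commutes with `g₂`
    have hh2g2 : (h2' : M4) * (g2 : M4) = -((g2 : M4) * (h2' : M4)) := by
      rw [hrel.a2, neg_neg]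
    obtain ⟨e, he⟩ := c6ps9_step (g : M4) (h2' : M4) (g2 : M4) hh2g2 (hpm g hg g2 hg2)
    have hx1R : g * h2' ^ e ∈ R := R.mul_mem hg (R.pow_mem hh2 e)
    have hx1 : ((g * h2' ^ e : GL (Fin 4) F) : M4) = (g : M4) * (h2' : M4) ^ e := by
      simp only [Matrix.GeneralLinearGroup.coe_mul, Units.val_pow_eq_pow_val]
    -- step 2: `x₂ = x₁ * g₂^d` commutes with `h₂` and `g₂`
    obtain ⟨d, hd⟩ := c6ps9_step ((g : M4) * (h2' : M4) ^ e) (g2 : M4) (h2' : M4) hrel.a2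
      (by rw [← hx1]; exact hpm _ hx1R h2' hh2)
    have hd' := c6ps9_keep ((g : M4) * (h2' : M4) ^ e) (g2 : M4) (g2 : M4) rfl he d
    have hx2R : g * h2' ^ e * g2 ^ d ∈ R := R.mul_mem hx1R (R.pow_mem hg2 d)
    have hx2 : ((g * h2' ^ e * g2 ^ d : GL (Fin 4) F) : M4) = (g : M4) * (h2' : M4) ^ e * (g2 : M4) ^ d := by
      simp only [Matrix.GeneralLinearGroup.coe_mul, Units.val_pow_eq_pow_val]
    -- step 3: `x₃ = x₂ * h₁^c` commutes with `g₁`, `g₂`, `h₂`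
    have hh1g1 : (h1 : M4) * (g1 : M4) = -((g1 : M4) * (h1 : M4)) := by
      rw [hrel.a1, neg_neg]
    obtain ⟨c, hc⟩ := c6ps9_step ((g : M4) * (h2' : M4) ^ e * (g2 : M4) ^ d) (h1 : M4) (g1 : M4) hh1g1
      (by rw [← hx2]; exact hpm _ hx2R g1 hg1)
    have hc2 := c6ps9_keep ((g : M4) * (h2' : M4) ^ e * (g2 : M4) ^ d) (h1 : M4) (g2 : M4) hrel.ch12 hd' c
    have hc3 := c6ps9_keep ((g : M4) * (h2' : M4) ^ e * (g2 : M4) ^ d) (h1 : M4) (h2' : M4) hrel.chh hd c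
    have hx3R : g * h2' ^ e * g2 ^ d * h1 ^ c ∈ R := R.mul_mem hx2R (R.pow_mem hh1 c)
    have hx3 : ((g * h2' ^ e * g2 ^ d * h1 ^ c : GL (Fin 4) F) : M4)
        = (g : M4) * (h2' : M4) ^ e * (g2 : M4) ^ d * (h1 : M4) ^ c := by
      simp only [Matrix.GeneralLinearGroup.coe_mul, Units.val_pow_eq_pow_val]
    -- step 4: `x₄ = x₃ * g₁^b` commutes with all four
    obtain ⟨b, hb⟩ := c6ps9_step ((g : M4) * (h2' : M4) ^ e * (g2 : M4) ^ d * (h1 : M4) ^ c) (g1 : M4) (h1 : M4)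
      hrel.a1 (by rw [← hx3]; exact hpm _ hx3R h1 hh1)
    have hb1 := c6ps9_keep ((g : M4) * (h2' : M4) ^ e * (g2 : M4) ^ d * (h1 : M4) ^ c) (g1 : M4) (g1 : M4) rfl hc b
    have hb2 := c6ps9_keep ((g : M4) * (h2' : M4) ^ e * (g2 : M4) ^ d * (h1 : M4) ^ c) (g1 : M4) (g2 : M4)
      hrel.c12 hc2 b
    have hb3 := c6ps9_keep ((g : M4) * (h2' : M4) ^ e * (g2 : M4) ^ d * (h1 : M4) ^ c) (g1 : M4) (h2' : M4)
      hrel.c1h2 hc3 b
    have hx4R : g * h2' ^ e * g2 ^ d * h1 ^ c * g1 ^ b ∈ R := R.mul_mem hx3R (R.pow_mem hg1 b)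
    have hx4 : ((g * h2' ^ e * g2 ^ d * h1 ^ c * g1 ^ b : GL (Fin 4) F) : M4)
        = (g : M4) * (h2' : M4) ^ e * (g2 : M4) ^ d * (h1 : M4) ^ c * (g1 : M4) ^ b := by
      simp only [Matrix.GeneralLinearGroup.coe_mul, Units.val_pow_eq_pow_val]
    set X : M4 := (g : M4) * (h2' : M4) ^ e * (g2 : M4) ^ d * (h1 : M4) ^ c * (g1 : M4) ^ b with hX
    -- `X` is scalar
    have hconj : ∀ (U : M4) (S : M4), U = (P : M4) * S * ((P⁻¹ : GL (Fin 4) F) : M4) → X * U = U * X →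
        (((P⁻¹ : GL (Fin 4) F) : M4) * X * (P : M4)) * S = S * (((P⁻¹ : GL (Fin 4) F) : M4) * X * (P : M4)) := by
      intro U S hU hXU
      have h3 : S = ((P⁻¹ : GL (Fin 4) F) : M4) * U * (P : M4) := by
        rw [hU]
        calc S = (((P⁻¹ : GL (Fin 4) F) : M4) * (P : M4)) * S * (((P⁻¹ : GL (Fin 4) F) : M4) * (P : M4)) := by
              rw [hPP, Matrix.one_mul, Matrix.mul_one]
          _ = _ := by simp only [Matrix.mul_assoc]
      rw [h3]
      calc ((P⁻¹ : GL (Fin 4) F) : M4) * X * (P : M4) * (((P⁻¹ : GL (Fin 4) F) : M4) * U * (P : M4))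
          = ((P⁻¹ : GL (Fin 4) F) : M4) * X * ((P : M4) * ((P⁻¹ : GL (Fin 4) F) : M4)) * U * (P : M4) := by
            simp only [Matrix.mul_assoc]
        _ = ((P⁻¹ : GL (Fin 4) F) : M4) * (X * U) * (P : M4) := by
            rw [hPP', Matrix.mul_one]; simp only [Matrix.mul_assoc]
        _ = ((P⁻¹ : GL (Fin 4) F) : M4) * (U * X) * (P : M4) := by rw [hXU]
        _ = ((P⁻¹ : GL (Fin 4) F) : M4) * U * ((P : M4) * ((P⁻¹ : GL (Fin 4) F) : M4)) * X * (P : M4) := by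
            rw [hPP', Matrix.mul_one]; simp only [Matrix.mul_assoc]
        _ = _ := by simp only [Matrix.mul_assoc]
    obtain ⟨z, hz⟩ := hS8 h2 (((P⁻¹ : GL (Fin 4) F) : M4) * X * (P : M4))
      (hconj _ _ hG1 hb1) (hconj _ _ hH1 hb) (hconj _ _ hG2 hb2) (hconj _ _ hH2 hb3)
    have hXz : X = z • (1 : M4) := by
      calc X = ((P : M4) * ((P⁻¹ : GL (Fin 4) F) : M4)) * X * ((P : M4) * ((P⁻¹ : GL (Fin 4) F) : M4)) := by
            rw [hPP', Matrix.one_mul, Matrix.mul_one]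
        _ = (P : M4) * (((P⁻¹ : GL (Fin 4) F) : M4) * X * (P : M4)) * ((P⁻¹ : GL (Fin 4) F) : M4) := by
            simp only [Matrix.mul_assoc]
        _ = z • (1 : M4) := by
            rw [hz, Matrix.mul_smul, Matrix.mul_one, Matrix.smul_mul, hPP']
    have hz4 : z ^ 4 = 1 := hfour _ hx4R z (by rw [hx4]; exact hXz)
    obtain ⟨a, ha⟩ := c6ps9_root i z hi hz4
    -- solve for `g`
    have hpow_inv : ∀ (U : M4), U * U = 1 → ∀ k : ℕ, U ^ k * U ^ k = 1 := by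
      intro U hU k
      rw [← (Commute.refl U).mul_pow k, hU, one_pow]
    have e1 : (g : M4) * (h2' : M4) ^ e * (g2 : M4) ^ d * (h1 : M4) ^ c = z • (g1 : M4) ^ b := by
      have := congrArg (fun Y : M4 => Y * (g1 : M4) ^ b) hXz
      rw [hX, Matrix.mul_assoc _ ((g1 : M4) ^ b) ((g1 : M4) ^ b), hpow_inv _ hG1sq b, Matrix.mul_one,
        Matrix.smul_mul, Matrix.one_mul] at this
      exact this
    have e2 : (g : M4) * (h2' : M4) ^ e * (g2 : M4) ^ d = z • ((g1 : M4) ^ b * (h1 : M4) ^ c) := by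
      have := congrArg (fun Y : M4 => Y * (h1 : M4) ^ c) e1
      rw [Matrix.mul_assoc _ ((h1 : M4) ^ c) ((h1 : M4) ^ c), hpow_inv _ hH1sq c, Matrix.mul_one,
        Matrix.smul_mul] at this
      exact this
    have e3 : (g : M4) * (h2' : M4) ^ e = z • ((g1 : M4) ^ b * (h1 : M4) ^ c * (g2 : M4) ^ d) := by
      have := congrArg (fun Y : M4 => Y * (g2 : M4) ^ d) e2
      rw [Matrix.mul_assoc _ ((g2 : M4) ^ d) ((g2 : M4) ^ d), hpow_inv _ hG2sq d, Matrix.mul_one,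
        Matrix.smul_mul] at this
      exact this
    have e4 : (g : M4) = z • ((g1 : M4) ^ b * (h1 : M4) ^ c * (g2 : M4) ^ d * (h2' : M4) ^ e) := by
      have := congrArg (fun Y : M4 => Y * (h2' : M4) ^ e) e3
      rw [Matrix.mul_assoc _ ((h2' : M4) ^ e) ((h2' : M4) ^ e), hpow_inv _ hH2sq e, Matrix.mul_one,
        Matrix.smul_mul] at this
      exact this
    refine ⟨a, b, c, d, e, ?_⟩
    rw [← hword a b c d e, e4, ha]
    simp only [Matrix.GeneralLinearGroup.coe_mul, Units.val_pow_eq_pow_val]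
    rw [hι, smul_pow, one_pow, Matrix.smul_mul, Matrix.one_mul, Matrix.smul_mul, Matrix.smul_mul, Matrix.smul_mul]
  · rintro ⟨a, b, c, d, e, hge⟩
    have hmem : ι ^ a * g1 ^ b * h1 ^ c * g2 ^ d * h2' ^ e ∈ R :=
      R.mul_mem (R.mul_mem (R.mul_mem (R.mul_mem (R.pow_mem hιR a) (R.pow_mem hg1 b)) (R.pow_mem hh1 c))
        (R.pow_mem hg2 d)) (R.pow_mem hh2 e)
    have : g = ι ^ a * g1 ^ b * h1 ^ c * g2 ^ d * h2' ^ e := by
      apply Units.ext
      rw [hge, ← hword]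
    rw [this]
    exact hmem

end Cfsg.Agent.Lib.Helper10.C6P
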