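import Mathlib
import Cfsg.Agent.Lib.Helper10.C6P.Defs
import Cfsg.Agent.Lib.Helper29.C6PS9core

set_option autoImplicit false
set_option linter.unusedVariables false
set_option linter.unusedSectionVars false

/-!
# Project C6P (S6000), rows NSCAL (`scal_card`) and NCTOP (`cent_top`) (helper29).
-/

namespace Cfsg.Agent.Lib.Helper10.C6P

open Polynomial Matrix

variable {F : Type*} [Field F]

/-- `i` has order 4 -/
theorem c6pnscal_order {i : F} (hi : i * i = -1) (h2 : (2 : F) ≠ 0) : orderOf i = 4 := by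
  have h1 : ¬ i ^ 2 ^ 1 = 1 := by
    rw [pow_one, pow_two, hi]
    intro h
    apply h2
    have : (2 : F) = 1 - (-1) := by ring
    rw [this, h]; ring
  have h4 : i ^ 2 ^ 2 = 1 := by
    rw [show (2 : ℕ) ^ 2 = 2 + 2 from rfl, pow_add, pow_two, hi]; ring
  have := orderOf_eq_prime_pow (p := 2) (n := 1) h1 h4
  simpa using this

/-- the scalar of a scalar matrix is unique -/
theorem c6pnscal_inj {c c' : F} (h : c • (1 : M4 F) = c' • (1 : M4 F)) : c = c' := by
  have := congrFun (congrFun h 0) 0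
  simpa using this

/-- NSCAL -/
theorem scal_card {i : F} {R : Subgroup (GL (Fin 4) F)} (h : RCtx i R) :
    Nat.card {g : R // ∃ c : F, ((g : GL (Fin 4) F) : M4 F) = c • (1 : M4 F)} = 4 := by
  classical
  obtain ⟨ι, hιR, hι⟩ := h.iR
  have hord := c6pnscal_order h.hi h.two
  have hpow : ∀ a : ℕ, ((ι ^ a : GL (Fin 4) F) : M4 F) = (i ^ a) • (1 : M4 F) := by
    intro a
    rw [Units.val_pow_eq_pow_val, hι, _root_.smul_pow, one_pow]
  let f : Fin 4 → {g : R // ∃ c : F, ((g : GL (Fin 4) F) : M4 F) = c • (1 : M4 F)} :=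
    fun a => ⟨⟨ι ^ (a : ℕ), R.pow_mem hιR _⟩, i ^ (a : ℕ), hpow _⟩
  have hinj : Function.Injective f := by
    intro a b hab
    have h1 : (ι ^ (a : ℕ) : GL (Fin 4) F) = ι ^ (b : ℕ) := by
      have := congrArg (fun s : {g : R // ∃ c : F, ((g : GL (Fin 4) F) : M4 F) = c • (1 : M4 F)} =>
        ((s : R) : GL (Fin 4) F)) hab
      exact this
    have h3 : i ^ (a : ℕ) = i ^ (b : ℕ) := by
      apply c6pnscal_inj
      rw [← hpow, ← hpow, h1]
    have h4 := pow_injOn_Iio_orderOf (x := i) (by rw [Set.mem_Iio, hord]; exact a.2)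
      (by rw [Set.mem_Iio, hord]; exact b.2) h3
    exact Fin.ext h4
  have hsurj : Function.Surjective f := by
    rintro ⟨⟨g, hg⟩, c, hc⟩
    have hc4 := h.scal g hg c hc
    obtain ⟨a, ha⟩ := c6ps9_root i c h.hi hc4
    have hi4 : i ^ 4 = 1 := by rw [← hord]; exact pow_orderOf_eq_one i
    have ha' : c = i ^ (a % 4) := by
      rw [ha]
      conv_lhs => rw [← Nat.div_add_mod a 4, pow_add, pow_mul, hi4, one_pow, one_mul]
    refine ⟨⟨a % 4, Nat.mod_lt _ (by norm_num)⟩, ?_⟩
    apply Subtype.ext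
    apply Subtype.ext
    apply Units.ext
    show ((ι ^ (a % 4) : GL (Fin 4) F) : M4 F) = (g : M4 F)
    rw [hpow, hc, ha']
  rw [← Nat.card_congr (Equiv.ofBijective f ⟨hinj, hsurj⟩), Nat.card_fin]

/-- NCTOP -/
theorem cent_top {i : F} {R : Subgroup (GL (Fin 4) F)} (h : RCtx i R) (T : GL (Fin 4) F)
    (hc : Nat.card ((Subgroup.centralizer ({T} : Set (GL (Fin 4) F))).subgroupOf R) = 64) :
    ∃ c : F, (T : M4 F) = c • (1 : M4 F) := by
  have : Finite R := Nat.finite_of_card_ne_zero (by rw [h.card]; norm_num)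
  have htop : (Subgroup.centralizer ({T} : Set (GL (Fin 4) F))).subgroupOf R = ⊤ := by
    rw [← Subgroup.card_eq_iff_eq_top, hc, h.card]
  rw [Subgroup.subgroupOf_eq_top] at htop
  apply h.comm
  intro g hg
  have h1 := htop hg
  rw [Subgroup.mem_centralizer_iff] at h1
  have h2 := h1 T (Set.mem_singleton T)
  have h3 := congrArg (fun u : GL (Fin 4) F => (u : M4 F)) h2
  simpa using h3

end Cfsg.Agent.Lib.Helper10.C6P
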