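import Cfsg.Agent.Lib.Helper28.O73C.Defs

/-!
Project O73C (S5514), piece PM : the parabolic `P3` (stabiliser of the totally singular subspace `X`).
-/

set_option autoImplicit false

namespace Cfsg.Agent.Lib.Helper28.O73C

open Cfsg.Agent.Lib.Helper12.O73 Matrix

/-- the shape of the matrices of `P3` -/
def h29pm_shape (N : Matrix I7 I7 K) : Prop :=
  ∀ j : Fin 3, N (Sum.inl ()) (Sum.inr (Sum.inl j)) = 0 ∧
    ∀ i : Fin 3, N (Sum.inr (Sum.inr i)) (Sum.inr (Sum.inl j)) = 0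

theorem h29pm_mul_colX (M N : Matrix I7 I7 K) (hN : h29pm_shape N) (r : I7) (j : Fin 3) :
    (M * N) r (Sum.inr (Sum.inl j)) =
      ∑ k : Fin 3, M r (Sum.inr (Sum.inl k)) * N (Sum.inr (Sum.inl k)) (Sum.inr (Sum.inl j)) := by
  rw [Matrix.mul_apply, Fintype.sum_sum_type, Fintype.sum_sum_type]
  simp only [Finset.univ_unique, (hN j).1, (hN j).2, mul_zero,
    Finset.sum_const_zero, zero_add, add_zero]

theorem h29pm_polar (u v : I7 → K) :
    QuadraticMap.polar (Cfsg.quadFormOdd 3 K) u v =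
      2 * u (Sum.inl ()) * v (Sum.inl ()) +
        ∑ i : Fin 3, (u (Sum.inr (Sum.inl i)) * v (Sum.inr (Sum.inr i)) +
          u (Sum.inr (Sum.inr i)) * v (Sum.inr (Sum.inl i))) := by
  unfold QuadraticMap.polar Cfsg.quadFormOdd
  simp only [Pi.add_apply, Fin.sum_univ_three]
  ring

theorem h29pm_inv_mul_mat (g : GO) : g⁻¹.mat * g.mat = 1 := by
  have h1 : (g⁻¹ * g : GO) = 1 := inv_mul_cancel g
  have h2 := congrArg (fun x : GO => x.mat) h1
  exact h2

theorem h29pm_mul_mat (g h : GO) : (g * h).mat = g.mat * h.mat := rfl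

theorem h29pm_aX_inv_mul (g : GO) (hg : InP3 g) : aX g⁻¹ * aX g = 1 := by
  ext i j
  have h1 := h29pm_mul_colX g⁻¹.mat g.mat hg (Sum.inr (Sum.inl i)) j
  rw [h29pm_inv_mul_mat] at h1
  rw [Matrix.mul_apply]
  simp only [aX, Matrix.of_apply]
  rw [← h1]
  by_cases hij : i = j
  · subst hij
    simp
  · rw [Matrix.one_apply_ne hij, Matrix.one_apply_ne]
    intro hc
    apply hij
    simpa using hc

theorem h29pm_aX_mul_inv (g : GO) (hg : InP3 g) : aX g * aX g⁻¹ = 1 :=
  mul_eq_one_comm.mp (h29pm_aX_inv_mul g hg)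

theorem h29pm_vecMul_zero (g : GO) (hg : InP3 g) (r : Fin 3 → K) (h : r ᵥ* aX g = 0) : r = 0 := by
  have h1 : (r ᵥ* aX g) ᵥ* aX g⁻¹ = r := by
    rw [Matrix.vecMul_vecMul, h29pm_aX_mul_inv g hg, Matrix.vecMul_one]
  rw [← h1, h, Matrix.zero_vecMul]

/-- an isometry stabilising `X` stabilises `X^⊥ = X + <e0>` -/
theorem h29pm_perp (g : GO) (hg : InP3 g) (i : Fin 3) :
    g.mat (Sum.inr (Sum.inr i)) (Sum.inl ()) = 0 := by
  have key : (fun k : Fin 3 => g.mat (Sum.inr (Sum.inr k)) (Sum.inl ())) ᵥ* aX g = 0 := by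
    funext j
    have h1 : QuadraticMap.polar (Cfsg.quadFormOdd 3 K) (g.mat *ᵥ Pi.single (Sum.inl ()) 1)
        (g.mat *ᵥ Pi.single (Sum.inr (Sum.inl j)) 1) =
        QuadraticMap.polar (Cfsg.quadFormOdd 3 K) (Pi.single (Sum.inl ()) 1)
          (Pi.single (Sum.inr (Sum.inl j)) 1) :=
      Cfsg.Agent.Lib.Helper16.polar_iso' Q7 g (Pi.single (Sum.inl ()) 1)
        (Pi.single (Sum.inr (Sum.inl j)) 1)
    rw [Matrix.mulVec_single_one, Matrix.mulVec_single_one, h29pm_polar, h29pm_polar] at h1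
    simp only [Matrix.col_apply, (hg j).1, (hg j).2, mul_zero, zero_mul, add_zero, zero_add,
      Pi.single_apply, reduceCtorEq, if_false, Finset.sum_const_zero, if_true] at h1
    rw [Matrix.vecMul, dotProduct]
    simp only [aX, Matrix.of_apply, Pi.zero_apply]
    rw [← h1]
  exact congrFun (h29pm_vecMul_zero g hg _ key) i

theorem p3_mul (g h : GO) (hg : InP3 g) (hh : InP3 h) :
    InP3 (g * h) ∧ aX (g * h) = aX g * aX h ∧ eps (g * h) = eps g * eps h := by
  refine ⟨?_, ?_, ?_⟩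
  · intro j
    refine ⟨?_, fun i => ?_⟩
    · rw [h29pm_mul_mat, h29pm_mul_colX _ _ hh]
      apply Finset.sum_eq_zero
      intro k _
      rw [(hg k).1, zero_mul]
    · rw [h29pm_mul_mat, h29pm_mul_colX _ _ hh]
      apply Finset.sum_eq_zero
      intro k _
      rw [(hg k).2 i, zero_mul]
  · ext i j
    rw [Matrix.mul_apply]
    simp only [aX, Matrix.of_apply]
    rw [h29pm_mul_mat, h29pm_mul_colX _ _ hh]
  · unfold eps
    rw [h29pm_mul_mat, Matrix.mul_apply, Fintype.sum_sum_type, Fintype.sum_sum_type]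
    simp only [Finset.univ_unique, Finset.sum_singleton, (hg _).1, zero_mul, h29pm_perp h hh,
      mul_zero, Finset.sum_const_zero, add_zero]

theorem p3_inv (g : GO) (hg : InP3 g) : InP3 g⁻¹ := by
  have hrow : ∀ r : I7, (∀ j : Fin 3, (1 : Matrix I7 I7 K) r (Sum.inr (Sum.inl j)) = 0) →
      ∀ j : Fin 3, g⁻¹.mat r (Sum.inr (Sum.inl j)) = 0 := by
    intro r hr
    have key : (fun k : Fin 3 => g⁻¹.mat r (Sum.inr (Sum.inl k))) ᵥ* aX g = 0 := by
      funext j
      have h1 := h29pm_mul_colX g⁻¹.mat g.mat hg r j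
      rw [h29pm_inv_mul_mat, hr j] at h1
      rw [Matrix.vecMul, dotProduct]
      simp only [aX, Matrix.of_apply, Pi.zero_apply]
      exact h1.symm
    intro j
    exact congrFun (h29pm_vecMul_zero g hg _ key) j
  intro j
  refine ⟨?_, fun i => ?_⟩
  · apply hrow
    intro j'
    exact Matrix.one_apply_ne (by simp)
  · apply hrow
    intro j'
    exact Matrix.one_apply_ne (by simp)

end Cfsg.Agent.Lib.Helper28.O73C
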