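import Cfsg.Agent.Lib.Helper28.O73C.Defs

/-!
Project O73C (S5514), piece UA : the flag-unitriangular isometries are closed under products and are
unipotent (`g ^ 9 = 1`).
-/

set_option autoImplicit false

namespace Cfsg.Agent.Lib.Helper28.O73C

open Cfsg.Agent.Lib.Helper12.O73 Matrix

theorem h29ua_rk_inj : Function.Injective rk := by
  decide

theorem h29ua_rk_le : ∀ i : I7, rk i ≤ 6 := by
  decide

theorem h29ua_mul_mat (g h : GO) : (g * h).mat = g.mat * h.mat := rfl

theorem h29ua_one_mat : (1 : GO).mat = 1 := rfl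

theorem h29ua_pow_mat (g : GO) (k : ℕ) : (g ^ k).mat = g.mat ^ k := by
  induction k with
  | zero => rfl
  | succ k ih => rw [pow_succ, pow_succ, h29ua_mul_mat, ih]

theorem fu_one : IsFU 1 := by
  refine ⟨?_, fun i => ?_⟩
  · rw [h29ua_one_mat]
    exact Matrix.blockTriangular_one
  · rw [h29ua_one_mat, Matrix.one_apply_eq]

theorem fu_mul (g h : GO) (hg : IsFU g) (hh : IsFU h) : IsFU (g * h) := by
  refine ⟨?_, fun i => ?_⟩
  · rw [h29ua_mul_mat]
    exact hg.1.mul hh.1
  · rw [h29ua_mul_mat, Matrix.mul_apply, Finset.sum_eq_single i]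
    · rw [hg.2 i, hh.2 i, mul_one]
    · intro k _ hk
      rcases Nat.lt_trichotomy (rk k) (rk i) with h1 | h1 | h1
      · rw [hg.1 h1, zero_mul]
      · exact absurd (h29ua_rk_inj h1) hk
      · rw [hh.1 h1, mul_zero]
    · intro hi
      exact absurd (Finset.mem_univ i) hi

/-- powers of a strictly triangular matrix -/
theorem h29ua_strict_pow (Nm : Matrix I7 I7 K) (hN : ∀ i j, rk j ≤ rk i → Nm i j = 0) (k : ℕ) :
    ∀ i j, rk j < rk i + k → (Nm ^ k) i j = 0 := by
  induction k with
  | zero =>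
    intro i j hij
    rw [pow_zero]
    apply Matrix.one_apply_ne
    intro hc
    rw [hc] at hij
    omega
  | succ k ih =>
    intro i j hij
    rw [pow_succ, Matrix.mul_apply]
    apply Finset.sum_eq_zero
    intro l _
    by_cases hl : rk l < rk i + k
    · rw [ih i l hl, zero_mul]
    · rw [hN l j (by omega), mul_zero]

theorem fu_pow_nine (g : GO) (hg : IsFU g) : g ^ 9 = 1 := by
  have hN : ∀ i j, rk j ≤ rk i → (g.mat - 1) i j = 0 := by
    intro i j hij
    rcases Nat.lt_or_ge (rk j) (rk i) with h1 | h1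
    · rw [Matrix.sub_apply, hg.1 h1, Matrix.one_apply_ne, sub_zero]
      intro hc
      rw [hc] at h1
      omega
    · have : i = j := h29ua_rk_inj (le_antisymm h1 hij)
      subst this
      rw [Matrix.sub_apply, hg.2 i, Matrix.one_apply_eq, sub_self]
  have h9 : (g.mat - 1) ^ 9 = 0 := by
    ext i j
    rw [Matrix.zero_apply]
    apply h29ua_strict_pow _ hN 9 i j
    have := h29ua_rk_le j
    omega
  have hfact : Fact (Nat.Prime 3) := ⟨Nat.prime_three⟩
  have hchar : (g.mat - 1) ^ 3 ^ 2 = g.mat ^ 3 ^ 2 - 1 ^ 3 ^ 2 :=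
    sub_pow_char_pow_of_commute 3 2 (Commute.one_right g.mat)
  norm_num at hchar
  rw [h9] at hchar
  apply Cfsg.Agent.Lib.Helper16.iso_ext'
  have h2 : (g ^ 9).mat = 1 := by
    rw [h29ua_pow_mat]
    exact (sub_eq_zero.mp hchar.symm)
  exact h2

end Cfsg.Agent.Lib.Helper28.O73C
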