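import Mathlib
import Cfsg.Agent.Lib.Lead.W2P.Defs

/-!
# Project W2P (S0720), piece RESTC, core : `rest_typeC` with the conclusions of PERSUM / PERSELF as hypotheses
-/

set_option autoImplicit false
set_option linter.unusedVariables false
set_option linter.unusedSectionVars false
open scoped ComplexConjugate
open Classical

namespace Cfsg.Agent.Lib.Lead.W2P

open MulAction Cfsg.Agent.Lib.helper6.PermChar Cfsg.Agent.Lib.Helper25

universe u v

/-- splitting off the term of the identity in a sum over a subgroup -/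
theorem w2prestc_split {G : Type u} [Group G] [Fintype G] (P : Subgroup G) (F : G → ℂ) :
    ∑ x : ↥P, F (x : G) = F 1 + ∑ x ∈ (Finset.univ : Finset ↥P).erase 1, F (x : G) := by
  rw [← Finset.add_sum_erase Finset.univ (fun x : ↥P => F (x : G)) (Finset.mem_univ (1 : ↥P))]
  rfl

section D

variable {G : Type u} [Group G] [Fintype G] {Ω : Type v} [Fintype Ω] [DecidableEq Ω] [MulAction G Ω]
  {p : ℕ} [Fact p.Prime] {P : Sylow p G}

/-- RESTC, core : PERSUM (`hps`) and PERSELF (`hpi`) are hypotheses -/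
theorem w2prestc_core (S : Setting G Ω p P) (χ : Cfsg.IrrCharacter G)
    (hsum : ∑ x : ↥(P : Subgroup G), (χ : G → ℂ) (x : G) = 0)
    (hle : ∀ φ : G → ℂ, IsPChar (P : Subgroup G) φ → (∃ x ∈ (P : Subgroup G), φ x ≠ 1) →
      ∑ x : ↥(P : Subgroup G), (χ : G → ℂ) (x : G) * conj (φ (x : G)) = 0 ∨
      ∑ x : ↥(P : Subgroup G), (χ : G → ℂ) (x : G) * conj (φ (x : G)) = (p : ℂ))
    (hC : TypeC p (P : Subgroup G) χ)
    (hps : ∀ φ : G → ℂ, IsPChar (P : Subgroup G) φ → (∃ x ∈ (P : Subgroup G), φ x ≠ 1) →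
      per (P : Subgroup G) φ 1 = (fIdx (P : Subgroup G) : ℂ) ∧
        ∑ x : ↥(P : Subgroup G), per (P : Subgroup G) φ (x : G) = 0)
    (hpi : ∀ φ : G → ℂ, IsPChar (P : Subgroup G) φ → (∃ x ∈ (P : Subgroup G), φ x ≠ 1) →
      ∑ x : ↥(P : Subgroup G), per (P : Subgroup G) φ (x : G) * conj (φ (x : G)) = (p : ℂ)) :
    (χ : G → ℂ) 1 = (fIdx (P : Subgroup G) : ℂ) ∧
      ∃ φ : G → ℂ, IsPChar (P : Subgroup G) φ ∧ (∃ x ∈ (P : Subgroup G), φ x ≠ 1) ∧
        ∀ x ∈ (P : Subgroup G), (χ : G → ℂ) x = per (P : Subgroup G) φ x := by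
  obtain ⟨c, φ, hc0, hφ, hnt, hval, -⟩ := hC
  obtain ⟨h1, h2⟩ := hps φ hφ hnt
  have h3 := hpi φ hφ hnt
  have hp0 : (p : ℂ) ≠ 0 := Nat.cast_ne_zero.mpr (Fact.out : p.Prime).ne_zero
  -- the values of `χ` on `P ∖ 1`
  have hval' : ∀ x ∈ (Finset.univ : Finset ↥(P : Subgroup G)).erase 1,
      (χ : G → ℂ) (x : G) = (c : ℂ) * per (P : Subgroup G) φ (x : G) := by
    intro x hx
    have hx1 : (x : G) ≠ 1 := by
      intro h
      exact (Finset.mem_erase.mp hx).1 (Subtype.ext h)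
    exact hval x x.2 hx1
  -- `A = ∑_{x ≠ 1} per φ x = - f`
  rw [w2prestc_split, h1] at h2
  -- `B = ∑_{x ≠ 1} per φ x * conj (φ x) = p - f`
  rw [w2prestc_split (P : Subgroup G) (fun x => per (P : Subgroup G) φ x * conj (φ x)), h1, hφ.one,
    map_one, mul_one] at h3
  -- the sum of `χ`
  rw [w2prestc_split, Finset.sum_congr rfl hval', ← Finset.mul_sum] at hsum
  -- the inner product with `φ`
  have hT := hle φ hφ hnt
  have hT' : ∑ x : ↥(P : Subgroup G), (χ : G → ℂ) (x : G) * conj (φ (x : G)) = (c : ℂ) * (p : ℂ) := by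
    rw [w2prestc_split (P : Subgroup G) (fun x => (χ : G → ℂ) x * conj (φ x)), hφ.one, map_one, mul_one]
    have : ∑ x ∈ (Finset.univ : Finset ↥(P : Subgroup G)).erase 1,
        (χ : G → ℂ) (x : G) * conj (φ (x : G)) =
        (c : ℂ) * ∑ x ∈ (Finset.univ : Finset ↥(P : Subgroup G)).erase 1,
          per (P : Subgroup G) φ (x : G) * conj (φ (x : G)) := by
      rw [Finset.mul_sum]
      apply Finset.sum_congr rfl
      intro x hx
      rw [hval' x hx, mul_assoc]
    rw [this]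
    linear_combination hsum + (c : ℂ) * h3 - (c : ℂ) * h2
  rw [hT'] at hT
  have hc1 : (c : ℂ) = 1 := by
    rcases hT with hT | hT
    · exfalso
      rcases mul_eq_zero.mp hT with h | h
      · exact hc0 (by exact_mod_cast h)
      · exact hp0 h
    · have : ((c : ℂ) - 1) * (p : ℂ) = 0 := by linear_combination hT
      rcases mul_eq_zero.mp this with h | h
      · linear_combination h
      · exact absurd h hp0
  have hdeg : (χ : G → ℂ) 1 = (fIdx (P : Subgroup G) : ℂ) := by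
    rw [hc1] at hsum
    linear_combination hsum - h2
  refine ⟨hdeg, φ, hφ, hnt, ?_⟩
  intro x hx
  by_cases hx1 : x = 1
  · rw [hx1, hdeg, h1]
  · rw [hval x hx hx1, hc1, one_mul]

end D

end Cfsg.Agent.Lib.Lead.W2P
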