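import Mathlib
import Cfsg.Agent.Lib.Lead.W2P.Defs
import Cfsg.Agent.Lib.Helper29.W2PRESTCcore
import Cfsg.Agent.Lib.Helper27.W2PPERSUM
import Cfsg.Agent.Lib.Helper27.W2PPERSELF

/-!
# Project W2P (S0720), piece RESTC : a type (c) constituent of the rest is an orbit sum on `P`, of degree `f`
-/

set_option autoImplicit false
set_option linter.unusedVariables false
set_option linter.unusedSectionVars false
open scoped ComplexConjugate
open Classical

namespace Cfsg.Agent.Lib.Lead.W2P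

open MulAction Cfsg.Agent.Lib.helper6.PermChar Cfsg.Agent.Lib.Helper25

universe u v

section D

variable {G : Type u} [Group G] [Fintype G] {Ω : Type v} [Fintype Ω] [DecidableEq Ω] [MulAction G Ω]
  {p : ℕ} [Fact p.Prime] {P : Sylow p G}

/-- RESTC : a type (c) constituent of the rest is an orbit sum on `P`, of degree `f` -/
theorem rest_typeC (S : Setting G Ω p P) (χ : Cfsg.IrrCharacter G)
    (hsum : ∑ x : ↥(P : Subgroup G), (χ : G → ℂ) (x : G) = 0)
    (hle : ∀ φ : G → ℂ, IsPChar (P : Subgroup G) φ → (∃ x ∈ (P : Subgroup G), φ x ≠ 1) →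
      ∑ x : ↥(P : Subgroup G), (χ : G → ℂ) (x : G) * conj (φ (x : G)) = 0 ∨
      ∑ x : ↥(P : Subgroup G), (χ : G → ℂ) (x : G) * conj (φ (x : G)) = (p : ℂ))
    (hC : TypeC p (P : Subgroup G) χ) :
    (χ : G → ℂ) 1 = (fIdx (P : Subgroup G) : ℂ) ∧
      ∃ φ : G → ℂ, IsPChar (P : Subgroup G) φ ∧ (∃ x ∈ (P : Subgroup G), φ x ≠ 1) ∧
        ∀ x ∈ (P : Subgroup G), (χ : G → ℂ) x = per (P : Subgroup G) φ x := by
  exact w2prestc_core S χ hsum hle hC
    (fun φ hφ hnt => per_one_sum (p := p) S.cardP hφ hnt)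
    (fun φ hφ hnt => per_inner_self (p := p) S.cardP hφ hnt)

end D

end Cfsg.Agent.Lib.Lead.W2P
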