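import Mathlib
import Cfsg.Agent.Lib.helper7.CEU.Defs
import Cfsg.Agent.Lib.Helper27.STU.Defs3
import Cfsg.Agent.Lib.Helper5.STULA5
import Cfsg.Prelude.Def_Classical
import Cfsg.Prelude.Def_KGroupFacts

/-!
# Project CEU (designer helper7; S2089), rows T10a (`HT_four HT_three HCe_three`) and T10b (`HT_two_even`): CORES (helper29).
The regimes, assembled from the STATEMENTS of the rows T1–T8 (with `h : IsCE σ` and the side data already applied), as hypotheses: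
`ceut10_four_core`, `ceut10_three_core`, `ceut10_HCe_core`, `ceut10_two_even_core`; index facts `ceut10_I3_of_I4`, `ceut10_I2_of_I3`.
-/

set_option autoImplicit false

namespace Cfsg.Agent.Lib.helper7.CEU

open Cfsg.Agent.Lib.helper15.St2 Cfsg.Agent.Lib.helper7.Ce Cfsg.Agent.Lib.helper3.STC Cfsg.Agent.Lib.Helper27.STU

open Cfsg.Agent.Lib.helper7.CEC (I2 I3 I4 U2 U3)

section T

variable {F : Type*} [Field F] [StarRing F] {od : Prop} {ι : Type*} {Γ G : Type*} [Group Γ] [Group G] {S : SysU F od ι G} {σ : Γ →* G}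

theorem ceut10_I3_of_I4 (h4 : I4 ι) : I3 ι := fun a b => by
  obtain ⟨e, h1, h2, -⟩ := h4 a b b
  exact ⟨e, h1, h2⟩

theorem ceut10_I2_of_I3 (h3 : I3 ι) : I2 ι := fun b => by
  obtain ⟨e, h1, -⟩ := h3 b b
  exact ⟨e, h1⟩

/-- `HT_four` from the statements of T1 `t1_milnor`, T2 `t3r_milnor t3c_milnor`, T5 `t5_milnor`, T6 `t6_milnor`, T4 `t4_of_t6` -/
theorem ceut10_four_core
    (hT1 : ∀ a b : ι ⊕ ι, ab a ≠ ab b → ∀ t u : F, CL σ (S.xs a b t) (S.xs a b u))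
    (hT2r : ∀ a b d : ι ⊕ ι, ab a ≠ ab b → ab a ≠ ab d → ab b ≠ ab d → ∀ t u : F, CL σ (S.xs a b t) (S.xs a d u))
    (hT2c : ∀ a b c : ι ⊕ ι, ab a ≠ ab b → ab c ≠ ab b → ab a ≠ ab c → ∀ t u : F, CL σ (S.xs a b t) (S.xs c b u))
    (hT5 : ∀ a d : ι ⊕ ι, ab a ≠ ab d → ∀ (ξ : Lam F od) (u : F), CL σ (S.xl a ξ) (S.xs a d u))
    (hT6 : ∀ a c d : ι ⊕ ι, ab c ≠ ab d → ab a ≠ ab c → ab a ≠ ab d → ∀ (ξ : Lam F od) (u : F), CL σ (S.xl a ξ) (S.xs c d u))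
    (hT4 : (∀ a c d : ι ⊕ ι, ab c ≠ ab d → ab a ≠ ab c → ab a ≠ ab d → ∀ (ξ : Lam F od) (u : F), CL σ (S.xl a ξ) (S.xs c d u)) →
      ∀ a b c d : ι ⊕ ι, ab a ≠ ab b → ab c ≠ ab d → ab a ≠ ab c → ab a ≠ ab d → ab b ≠ ab c → ab b ≠ ab d →
        ∀ t u : F, CL σ (S.xs a b t) (S.xs c d u)) :
    HTs S σ ∧ HTl S σ :=
  ⟨⟨hT1, hT2r, hT2c, hT4 hT6⟩, ⟨hT5, hT6⟩⟩

/-- `HT_three` from the statements of T1 `t1_milnor`, T3 `t3r_torus t3c_torus`, T5 `t5_milnor`, T6 `t6_torus` -/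
theorem ceut10_three_core (u3 : U3 ι)
    (hT1 : ∀ a b : ι ⊕ ι, ab a ≠ ab b → ∀ t u : F, CL σ (S.xs a b t) (S.xs a b u))
    (hT3r : ∀ a b d : ι ⊕ ι, ab a ≠ ab b → ab a ≠ ab d → ab b ≠ ab d → ∀ t u : F, CL σ (S.xs a b t) (S.xs a d u))
    (hT3c : ∀ a b c : ι ⊕ ι, ab a ≠ ab b → ab c ≠ ab b → ab a ≠ ab c → ∀ t u : F, CL σ (S.xs a b t) (S.xs c b u))
    (hT5 : ∀ a d : ι ⊕ ι, ab a ≠ ab d → ∀ (ξ : Lam F od) (u : F), CL σ (S.xl a ξ) (S.xs a d u))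
    (hT6 : ∀ a c d : ι ⊕ ι, ab c ≠ ab d → ab a ≠ ab c → ab a ≠ ab d → ∀ (ξ : Lam F od) (u : F), CL σ (S.xl a ξ) (S.xs c d u)) :
    HTs S σ ∧ HTl S σ := by
  refine ⟨⟨hT1, hT3r, hT3c, ?_⟩, ⟨hT5, hT6⟩⟩
  intro a b c d hab hcd hac had hbc hbd t u
  exact absurd (u3 a b c d hab hac.symm hbc.symm had.symm hbd.symm) hcd

/-- `HCe_three` from the statements of T7 `t2_ssl`, `t7_ssl` -/
theorem ceut10_HCe_core
    (hT7a : ∀ (a : ι ⊕ ι) (ξ η : Lam F od), CL σ (S.xl a ξ) (S.xl a η))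
    (hT7b : ∀ a c : ι ⊕ ι, ab a ≠ ab c → ∀ ξ η : Lam F od, CL σ (S.xl a ξ) (S.xl c η)) : HCe S σ :=
  ⟨hT7a, hT7b⟩

/-- the two side conditions of `t5_torus` from `hN` in the even case -/
theorem ceut10_ratio (hev : ¬ od) {ξ₁ ξ₂ : Lam F od} (h2' : ξ₂.c ≠ 0)
    (hN : (ξ₁.c / ξ₂.c) * star (ξ₁.c / ξ₂.c) ≠ 1) :
    ξ₁.c ≠ ξ₂.c ∧ star (ξ₁.c / ξ₂.c) = ξ₁.c / ξ₂.c := by
  refine ⟨fun e => hN ?_, ?_⟩
  · rw [e, div_self h2', star_one, mul_one]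
  · rw [star_div₀, Lam.c_skew_of_even hev ξ₁, Lam.c_skew_of_even hev ξ₂, neg_div_neg_eq]

/-- `HT_two_even` from the statements of T5 `t5_torus`, T7 `t2_ssl`, `t7_torus`, T8 `t1_of_t7` -/
theorem ceut10_two_even_core (u2 : U2 ι)
    (hT5 : ∀ a d : ι ⊕ ι, ab a ≠ ab d → ∀ (ξ : Lam F od) (u : F), CL σ (S.xl a ξ) (S.xs a d u))
    (hT7a : ∀ (a : ι ⊕ ι) (ξ η : Lam F od), CL σ (S.xl a ξ) (S.xl a η))
    (hT7b : ∀ a c : ι ⊕ ι, ab a ≠ ab c → ∀ ξ η : Lam F od, CL σ (S.xl a ξ) (S.xl c η))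
    (hT8 : (∀ a d : ι ⊕ ι, ab a ≠ ab d → ∀ (ξ : Lam F od) (u : F), CL σ (S.xl a ξ) (S.xs a d u)) →
      (∀ (a : ι ⊕ ι) (ξ η : Lam F od), CL σ (S.xl a ξ) (S.xl a η)) →
      (∀ a c : ι ⊕ ι, ab a ≠ ab c → ∀ ξ η : Lam F od, CL σ (S.xl a ξ) (S.xl c η)) →
      ∀ a b : ι ⊕ ι, ab a ≠ ab b → ∀ t u : F, CL σ (S.xs a b t) (S.xs a b u)) :
    HTs S σ ∧ HTl S σ ∧ HCe S σ := by
  refine ⟨⟨hT8 hT5 hT7a hT7b, ?_, ?_, ?_⟩, ⟨hT5, ?_⟩, ⟨hT7a, hT7b⟩⟩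
  · intro a b d hab had hbd t u
    rcases u2 a b d hab with e | e
    · exact absurd e.symm had
    · exact absurd e.symm hbd
  · intro a b c hab hcb hac t u
    rcases u2 a b c hab with e | e
    · exact absurd e.symm hac
    · exact absurd e hcb
  · intro a b c d hab hcd hac had hbc hbd t u
    rcases u2 a b c hab with e | e
    · exact absurd e.symm hac
    · exact absurd e.symm hbc
  · intro a c d hcd hac had ξ u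
    rcases u2 c d a hcd with e | e
    · exact absurd e hac
    · exact absurd e had

end T

end Cfsg.Agent.Lib.helper7.CEU
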