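import Mathlib
import Cfsg.Agent.Lib.helper7.CEU.Defs
import Cfsg.Agent.Lib.Helper27.STU.Defs3
import Cfsg.Agent.Lib.helper8.STULA1
import Cfsg.Agent.Lib.Helper24.STUM0

/-!
# CEU W10 (helper29): `longLift_of_tr`, verbatim from helper7's `CEU/Skel1`

`Z a ζ := T.Z a (Classical.choose (hex ζ))`; well defined since `tr x = tr y` gives `star (x - y) = x - y`, hence `T.Z a (x - y) = 1` (`T.ker`, `T.add`).
-/

set_option autoImplicit false

namespace Cfsg.Agent.Lib.helper7.CEU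

open Cfsg.Agent.Lib.helper15.St2 Cfsg.Agent.Lib.helper7.Ce Cfsg.Agent.Lib.helper3.STC Cfsg.Agent.Lib.Helper27.STU

open Cfsg.Agent.Lib.helper7.CEC (I2 I3 I4 U2 U3)

section W

variable {F : Type*} [Field F] [StarRing F] {od : Prop} {ι : Type*} {Γ G : Type*} [Group Γ] [Group G] {S : SysU F od ι G} {σ : Γ →* G} {h : IsCE σ}

/-- `T.Z a` only depends on `Lam.tr x` -/
theorem ceuw10_wd {L : ShortLift S h} (T : TrLift S L) (a : ι ⊕ ι) {x y : F} (hxy : (Lam.tr x : Lam F od) = Lam.tr y) :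
    T.Z a x = T.Z a y := by
  have hc := congrArg Lam.c hxy
  simp only [Lam.tr_c] at hc
  have hs : star (x - y) = x - y := by
    rw [star_sub]
    linear_combination -hc
  calc T.Z a x = T.Z a ((x - y) + y) := by rw [sub_add_cancel]
    _ = T.Z a y := by rw [T.add, T.ker a _ hs, one_mul]

/-- W10 [M]  `Z a ζ := T.Z a (Classical.choose (hex ζ))`.  Well defined: if `tr x = tr y` then `star (x - y) = x - y` (`star_eq_of_tr_eq_one`, `Lam.tr_add`, `Lam.tr_neg`), so `T.Z a x = T.Z a y` (`T.add`, `T.ker`).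
`map`: `T.map`; `mul`: `tr x * tr y = tr (x + y)`; `eqv`: `act (d a * d0⁻¹) (tr x) = tr (d a * star (d a) * x)` (`Lam.act_tr`, `hg.1.d0_norm`). -/
theorem longLift_of_tr (hex : ∀ ζ : Lam F od, ∃ x : F, ζ = Lam.tr x) (L : ShortLift S h) (T : TrLift S L) :
    ∃ Z : LongLift S h, ∀ a x, Z.Z a (Lam.tr x) = T.Z a x := by
  have hsp : ∀ ζ : Lam F od, (Lam.tr (Classical.choose (hex ζ)) : Lam F od) = ζ := fun ζ =>
    (Classical.choose_spec (hex ζ)).symm
  refine ⟨⟨fun a ζ => T.Z a (Classical.choose (hex ζ)), ?_, ?_, ?_⟩, ?_⟩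
  · intro a ξ
    show σ (T.Z a (Classical.choose (hex ξ))) = S.xl a ξ
    rw [T.map, hsp]
  · intro a ξ η
    show T.Z a (Classical.choose (hex (ξ * η))) = T.Z a (Classical.choose (hex ξ)) * T.Z a (Classical.choose (hex η))
    rw [← T.add]
    apply ceuw10_wd
    rw [Lam.tr_add, hsp, hsp, hsp]
  · intro g π d d0 hg e he a ξ
    show cj e (T.Z a (Classical.choose (hex ξ))) = T.Z (π a) (Classical.choose (hex (Lam.act (d a * d0⁻¹) ξ)))
    rw [T.eqv g π d d0 hg e he]
    apply ceuw10_wd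
    rw [hsp]
    conv_rhs => rw [← hsp ξ, Lam.act_tr]
    congr 1
    have h0 := hg.1.d0_norm
    have h0' : d0⁻¹ * (star d0)⁻¹ = 1 := by rw [← mul_inv, h0, inv_one]
    rw [star_mul', star_inv₀]
    linear_combination (-(d a * star (d a) * Classical.choose (hex ξ))) * h0'
  · intro a x
    show T.Z a (Classical.choose (hex (Lam.tr x))) = T.Z a x
    apply ceuw10_wd
    rw [hsp]

end W

end Cfsg.Agent.Lib.helper7.CEU
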