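import Mathlib
import Cfsg.Agent.Lib.helper7.SPC.Defs

set_option autoImplicit false

/-!
# Project SPC (S2676, designer helper7), rows E6 (`classify`) and M2 (`conj_iff`): cores on the cited statements (helper29).
-/

namespace Cfsg.Agent.Lib.helper7.SPC

universe u

open Module

variable {F : Type u} [Field F]

/-- a triple of dimension `0` is isomorphic to the zero triple -/
theorem spce6_zero (T : Trip F) (h0 : finrank F T.V = 0) : TIso T (TZero F) := by
  have : Subsingleton T.V := Module.finrank_zero_iff.mp h0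
  have : Subsingleton (TZero F).V := by
    show Subsingleton PUnit
    infer_instance
  refine ⟨LinearEquiv.ofSubsingleton T.V (TZero F).V, fun x y => ?_, fun x => Subsingleton.elim _ _⟩
  rw [Subsingleton.elim x 0]
  simp only [map_zero, LinearMap.zero_apply]

/-- E6 core: `classify` from the statements of E5 (`peel`) and ISO (`TIso_trans`, `TSum_congr`, `TIso_refl`) -/
theorem spce6_core
    (hpeel : ∀ T : Trip F, T.Good → 0 < finrank F T.V →
      ∃ (b : Blk F) (T' : Trip F), b.Canon ∧ T'.Good ∧ TIso T (TSum b.trip T') ∧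
        finrank F T'.V < finrank F T.V ∧ ∀ e : ℕ, T.N ^ e = 0 → b.len ≤ e ∧ T'.N ^ e = 0)
    (hrefl : ∀ T : Trip F, TIso T T)
    (htrans : ∀ {T T' T'' : Trip F}, TIso T T' → TIso T' T'' → TIso T T'')
    (hcongr : ∀ {T₁ T₁' T₂ T₂' : Trip F}, TIso T₁ T₁' → TIso T₂ T₂' →
      TIso (TSum T₁ T₂) (TSum T₁' T₂'))
    (T : Trip F) (hT : T.Good) :
    ∃ L : List (Blk F), CanonL L ∧ TIso T (sumList L) ∧
      ∀ e : ℕ, T.N ^ e = 0 → ∀ b ∈ L, b.len ≤ e := by
  induction hd : finrank F T.V using Nat.strong_induction_on generalizing T with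
  | _ d ih =>
    by_cases h0 : finrank F T.V = 0
    · refine ⟨[], ?_, spce6_zero T h0, ?_⟩
      · intro b hb
        exact absurd hb (List.not_mem_nil)
      · intro e _ b hb
        exact absurd hb (List.not_mem_nil)
    · obtain ⟨b, T', hb, hT', hiso, hlt, hnil⟩ := hpeel T hT (Nat.pos_of_ne_zero h0)
      obtain ⟨L', hL', hiso', hlen'⟩ := ih (finrank F T'.V) (by rw [← hd]; exact hlt) T' hT' rfl
      refine ⟨b :: L', ?_, ?_, ?_⟩
      · intro b' hb'
        rcases List.mem_cons.mp hb' with rfl | h
        · exact hb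
        · exact hL' b' h
      · exact htrans hiso (hcongr (hrefl b.trip) hiso')
      · intro e he b' hb'
        obtain ⟨h1, h2⟩ := hnil e he
        rcases List.mem_cons.mp hb' with rfl | h
        · exact h1
        · exact hlen' e h2 b' h

end Cfsg.Agent.Lib.helper7.SPC
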