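import Mathlib
import Cfsg.Agent.Lib.helper7.SPC.Defs

set_option autoImplicit false

/-!
# Project SPC (S2676, designer helper7), row E2A: `odd_iso_chain` (helper29).
Extras `spce2a_*`: the calculus of an alternating form with a skew nilpotent endomorphism.
-/

namespace Cfsg.Agent.Lib.helper7.SPC

universe u

open Module

variable {F : Type u} [Field F]

/-- an alternating form is antisymmetric -/
theorem spce2a_anti {V : Type u} [AddCommGroup V] [Module F V] (B : V →ₗ[F] V →ₗ[F] F)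
    (halt : ∀ x, B x x = 0) (u v : V) : B u v = - B v u := by
  have h := halt (u + v)
  simp only [map_add, LinearMap.add_apply, halt u, halt v] at h
  linear_combination h

/-- `B (N^a u, v) = (-1)^a B (u, N^a v)` -/
theorem spce2a_skew_pow {V : Type u} [AddCommGroup V] [Module F V] (B : V →ₗ[F] V →ₗ[F] F)
    (N : V →ₗ[F] V) (hskew : ∀ x y, B (N x) y = - B x (N y)) (a : ℕ) (u v : V) :
    B ((N ^ a) u) v = (-1) ^ a * B u ((N ^ a) v) := by
  induction a generalizing u v with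
  | zero => simp
  | succ a ih =>
    have e1 : (N ^ (a + 1)) u = (N ^ a) (N u) := by rw [pow_succ, Module.End.mul_apply]
    have e2 : (N ^ (a + 1)) v = N ((N ^ a) v) := by rw [pow_succ', Module.End.mul_apply]
    rw [e1, e2, ih, hskew, pow_succ]
    ring

/-- `B (N^a u, N^b v) = (-1)^a B (u, N^(a+b) v)` -/
theorem spce2a_chain {V : Type u} [AddCommGroup V] [Module F V] (B : V →ₗ[F] V →ₗ[F] F)
    (N : V →ₗ[F] V) (hskew : ∀ x y, B (N x) y = - B x (N y)) (a b : ℕ) (u v : V) :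
    B ((N ^ a) u) ((N ^ b) v) = (-1) ^ a * B u ((N ^ (a + b)) v) := by
  rw [spce2a_skew_pow B N hskew, pow_add, Module.End.mul_apply]

theorem spce2a_pow_eq_zero {V : Type u} [AddCommGroup V] [Module F V] (N : V →ₗ[F] V) (k : ℕ)
    (hNk : N ^ k = 0) (j : ℕ) (hj : k ≤ j) : N ^ j = 0 := by
  obtain ⟨i, rfl⟩ := Nat.exists_eq_add_of_le hj
  rw [pow_add, hNk, zero_mul]

/-- `λ_j (u) = B (u, N^j u)` vanishes for even `j` -/
theorem spce2a_lam_even (h2 : (2 : F) ≠ 0) {V : Type u} [AddCommGroup V] [Module F V]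
    (B : V →ₗ[F] V →ₗ[F] F) (N : V →ₗ[F] V) (halt : ∀ x, B x x = 0)
    (hskew : ∀ x y, B (N x) y = - B x (N y)) (u : V) (j : ℕ) (hj : Even j) :
    B u ((N ^ j) u) = 0 := by
  have h1 := spce2a_anti B halt u ((N ^ j) u)
  rw [spce2a_skew_pow B N hskew, hj.neg_one_pow, one_mul] at h1
  have h3 : (2 : F) * B u ((N ^ j) u) = 0 := by linear_combination h1
  exact (mul_eq_zero.mp h3).resolve_left h2

/-- the correction step: `λ_j (x + α N^t y) = λ_j (x) + 2 α ξ_(j+t) (x) - α² η_(j+2t)` for odd `t`, `j` -/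
theorem spce2a_step {V : Type u} [AddCommGroup V] [Module F V] (B : V →ₗ[F] V →ₗ[F] F)
    (N : V →ₗ[F] V) (halt : ∀ x, B x x = 0) (hskew : ∀ x y, B (N x) y = - B x (N y))
    (x y : V) (t j : ℕ) (ht : Odd t) (hj : Odd j) (α : F) :
    B (x + α • (N ^ t) y) ((N ^ j) (x + α • (N ^ t) y)) =
      B x ((N ^ j) x) + 2 * α * B x ((N ^ (j + t)) y) - α ^ 2 * B y ((N ^ (j + 2 * t)) y) := by
  have e1 : (N ^ j) (x + α • (N ^ t) y) = (N ^ j) x + α • (N ^ (j + t)) y := by
    rw [map_add, map_smul, pow_add, Module.End.mul_apply]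
  have e2 : B ((N ^ t) y) ((N ^ j) x) = B x ((N ^ (j + t)) y) := by
    rw [spce2a_chain B N hskew, spce2a_anti B halt y, spce2a_skew_pow B N hskew,
      ht.neg_one_pow, (ht.add_odd hj).neg_one_pow, add_comm t j]
    ring
  have e3 : B ((N ^ t) y) ((N ^ (j + t)) y) = - B y ((N ^ (j + 2 * t)) y) := by
    rw [spce2a_chain B N hskew, ht.neg_one_pow]
    have : t + (j + t) = j + 2 * t := by ring
    rw [this]
    ring
  rw [e1]
  simp only [map_add, map_smul, LinearMap.add_apply, LinearMap.smul_apply, smul_eq_mul, e2, e3]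
  ring

/-- the induction: all `λ_j (x)`, `j ≥ k - t`, vanish while `B (x, N^(k-1) y) = 1` -/
theorem spce2a_induct (h2 : (2 : F) ≠ 0) {V : Type u} [AddCommGroup V] [Module F V]
    (B : V →ₗ[F] V →ₗ[F] F) (N : V →ₗ[F] V) (halt : ∀ x, B x x = 0)
    (hskew : ∀ x y, B (N x) y = - B x (N y)) (k : ℕ) (hk : Odd k) (hNk : N ^ k = 0)
    (y x₀ : V) (hx₀ : B x₀ ((N ^ (k - 1)) y) = 1) (t : ℕ) :
    ∃ x : V, B x ((N ^ (k - 1)) y) = 1 ∧ ∀ j : ℕ, k ≤ j + t → B x ((N ^ j) x) = 0 := by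
  induction t with
  | zero =>
    refine ⟨x₀, hx₀, fun j hj => ?_⟩
    rw [spce2a_pow_eq_zero N k hNk j (by omega), LinearMap.zero_apply, map_zero]
  | succ t ih =>
    obtain ⟨x, hx1, hx2⟩ := ih
    by_cases hkt : k ≤ t
    · exact ⟨x, hx1, fun j _ => hx2 j (by omega)⟩
    · obtain ⟨j₀, hj₀⟩ : ∃ j₀, j₀ + t + 1 = k := ⟨k - 1 - t, by omega⟩
      rcases Nat.even_or_odd j₀ with hev | hodd
      · refine ⟨x, hx1, fun j hj => ?_⟩
        by_cases hjj : j = j₀
        · rw [hjj]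
          exact spce2a_lam_even h2 B N halt hskew x j₀ hev
        · exact hx2 j (by omega)
      · have ht : Odd t := by
          obtain ⟨a, ha⟩ := hk
          obtain ⟨b, hb⟩ := hodd
          exact ⟨a - b - 1, by omega⟩
        have ht1 : 1 ≤ t := ht.pos
        obtain ⟨α, hα⟩ : ∃ α : F, α = - B x ((N ^ j₀) x) / 2 := ⟨_, rfl⟩
        refine ⟨x + α • (N ^ t) y, ?_, fun j hj => ?_⟩
        · rw [map_add, LinearMap.add_apply, map_smul, LinearMap.smul_apply, hx1,
            spce2a_chain B N hskew, spce2a_pow_eq_zero N k hNk (t + (k - 1)) (by omega),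
            LinearMap.zero_apply, map_zero, mul_zero, smul_zero, add_zero]
        · rcases Nat.even_or_odd j with hjev | hjodd
          · exact spce2a_lam_even h2 B N halt hskew _ j hjev
          · rw [spce2a_step B N halt hskew x y t j ht hjodd α,
              spce2a_pow_eq_zero N k hNk (j + 2 * t) (by omega), LinearMap.zero_apply, map_zero,
              mul_zero, sub_zero]
            by_cases hjj : j = j₀
            · have e : j + t = k - 1 := by omega
              rw [e, hx1, hjj, hα]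
              field_simp
              ring
            · rw [hx2 j (by omega), spce2a_pow_eq_zero N k hNk (j + t) (by omega),
                LinearMap.zero_apply, map_zero, mul_zero, add_zero]

/-- E2A [M-L] -/
theorem odd_iso_chain (h2 : (2 : F) ≠ 0) {V : Type u} [AddCommGroup V] [Module F V] (B : V →ₗ[F] V →ₗ[F] F)
    (N : V →ₗ[F] V) (halt : ∀ x, B x x = 0) (hnd : ∀ x, (∀ y, B x y = 0) → x = 0)
    (hskew : ∀ x y, B (N x) y = - B x (N y)) (k : ℕ) (hk : Odd k) (hNk : N ^ k = 0)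
    (hne : N ^ (k - 1) ≠ 0) :
    ∃ x y : V, (∀ a b : ℕ, B ((N ^ a) x) ((N ^ b) x) = 0) ∧ B x ((N ^ (k - 1)) y) = 1 := by
  obtain ⟨y₀, hy₀⟩ : ∃ y₀ : V, (N ^ (k - 1)) y₀ ≠ 0 := by
    by_contra hcon
    push Not at hcon
    exact hne (LinearMap.ext hcon)
  obtain ⟨x₀, hx₀⟩ : ∃ x₀ : V, B ((N ^ (k - 1)) y₀) x₀ ≠ 0 := by
    by_contra hcon
    push Not at hcon
    exact hy₀ (hnd _ hcon)
  obtain ⟨c, hc⟩ : ∃ c : F, c = B x₀ ((N ^ (k - 1)) y₀) := ⟨_, rfl⟩
  have hc0 : c ≠ 0 := by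
    rw [hc, spce2a_anti B halt]
    exact neg_ne_zero.mpr hx₀
  have h1 : B x₀ ((N ^ (k - 1)) (c⁻¹ • y₀)) = 1 := by
    rw [map_smul, map_smul, ← hc, smul_eq_mul, inv_mul_cancel₀ hc0]
  obtain ⟨x, hx1, hx2⟩ := spce2a_induct h2 B N halt hskew k hk hNk (c⁻¹ • y₀) x₀ h1 k
  refine ⟨x, c⁻¹ • y₀, fun a b => ?_, hx1⟩
  rw [spce2a_chain B N hskew, hx2 (a + b) (by omega), mul_zero]

end Cfsg.Agent.Lib.helper7.SPC
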