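import Mathlib
import Cfsg.Agent.Lib.helper23.SmallPerm

/-!
# Project ASO, block D2T, piece 33 (core, no project definitions)

* `asod2t33_perfect_hom` : a homomorphism from a perfect group to a soluble group is trivial.
* `asod2t33_orth_trivial` : over the field with 3 elements, a perfect group of orthogonal `3 × 3` matrices
  (`bᵀ b = 1`) is trivial: the columns of such a matrix are `± e_j`, so the group is monomial, an extension of a
  subgroup of `Perm (Fin 3)` (soluble) by a group of diagonal matrices (commutative).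
* `asod2t33_symform` : `(u, v) ↦ u ⬝ᵥ G *ᵥ v` for a symmetric invertible `G`.
-/

set_option autoImplicit false

namespace Cfsg.Agent.Lib.Helper25.ASO

open scoped Matrix commutatorElement

/-- a homomorphism from a perfect group to a soluble group is trivial -/
theorem asod2t33_perfect_hom {Y H : Type*} [Group Y] [Group H] [hH : Group.IsSolvable H]
    (hperf : commutator Y = ⊤) (f : Y →* H) (y : Y) : f y = 1 := by
  obtain ⟨k, hk⟩ := hH
  have htop : ∀ m, derivedSeries Y m = ⊤ := by
    intro m
    induction m with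
    | zero => exact derivedSeries_zero Y
    | succ m ih => rw [derivedSeries_succ, ih, ← commutator_def, hperf]
  have h1 := map_derivedSeries_le_derivedSeries f k
  rw [htop k, hk] at h1
  have : f y ∈ (⊤ : Subgroup Y).map f := ⟨y, Subgroup.mem_top y, rfl⟩
  exact Subgroup.mem_bot.mp (h1 this)

theorem asod2t33_perm3_solvable : Group.IsSolvable (Equiv.Perm (Fin 3)) :=
  (Group.isSolvable_def _).mpr
    ⟨3, Cfsg.Agent.Lib.helper23.derivedSeries_perm_of_card_le_four (by simp)⟩

section three

variable {F : Type*} [Field F] [Fintype F]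

theorem asod2t33_three (hq : Fintype.card F = 3) : (3 : F) = 0 := by
  have := Nat.cast_card_eq_zero F
  rw [hq] at this
  exact_mod_cast this

theorem asod2t33_tri (hq : Fintype.card F = 3) (x : F) : x = 0 ∨ x = 1 ∨ x = -1 := by
  have h := FiniteField.pow_card x
  rw [hq] at h
  have : x * (x - 1) * (x + 1) = 0 := by linear_combination h
  rcases mul_eq_zero.mp this with h1 | h1
  · rcases mul_eq_zero.mp h1 with h2 | h2
    · exact Or.inl h2
    · exact Or.inr (Or.inl (sub_eq_zero.mp h2))
  · exact Or.inr (Or.inr (eq_neg_of_add_eq_zero_left h1))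

/-- a vector of `F_3^3` of norm `1` has exactly one non-zero entry -/
theorem asod2t33_col (hq : Fintype.card F = 3) (c : Fin 3 → F) (h : ∑ i, c i * c i = 1) :
    ∃ i, c i ≠ 0 ∧ ∀ j, j ≠ i → c j = 0 := by
  have h3 := asod2t33_three hq
  have h1 : (1 : F) ≠ 0 := one_ne_zero
  have hm1 : (-1 : F) ≠ 0 := neg_ne_zero.mpr one_ne_zero
  rw [Fin.sum_univ_three] at h
  have w0 : c 1 = 0 → c 2 = 0 → ∀ j : Fin 3, j ≠ 0 → c j = 0 := by
    intro a b j hj
    fin_cases j
    · exact absurd rfl hj
    · exact a
    · exact b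
  have w1 : c 0 = 0 → c 2 = 0 → ∀ j : Fin 3, j ≠ 1 → c j = 0 := by
    intro a b j hj
    fin_cases j
    · exact a
    · exact absurd rfl hj
    · exact b
  have w2 : c 0 = 0 → c 1 = 0 → ∀ j : Fin 3, j ≠ 2 → c j = 0 := by
    intro a b j hj
    fin_cases j
    · exact a
    · exact b
    · exact absurd rfl hj
  rcases asod2t33_tri hq (c 0) with e0 | e0 | e0 <;>
  rcases asod2t33_tri hq (c 1) with e1 | e1 | e1 <;>
  rcases asod2t33_tri hq (c 2) with e2 | e2 | e2 <;>
  rw [e0, e1, e2] at h <;>
  first
  | exact ⟨0, by rw [e0]; assumption, w0 e1 e2⟩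
  | exact ⟨1, by rw [e1]; assumption, w1 e0 e2⟩
  | exact ⟨2, by rw [e2]; assumption, w2 e0 e1⟩
  | exact absurd (by linear_combination h) h1
  | exact absurd (by linear_combination -h) h1
  | exact absurd (by linear_combination h3 - h) h1

/-- over `F_3` a perfect group of orthogonal `3 × 3` matrices is trivial -/
theorem asod2t33_orth_trivial {Y : Type*} [Group Y] (hq : Fintype.card F = 3)
    (ψ : Y →* Matrix (Fin 3) (Fin 3) F) (horth : ∀ y, (ψ y)ᵀ * ψ y = 1)
    (hperf : commutator Y = ⊤) : ∀ y, ψ y = 1 := by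
  classical
  have hcol : ∀ y j, ∃ i, ψ y i j ≠ 0 ∧ ∀ i', i' ≠ i → ψ y i' j = 0 := by
    intro y j
    apply asod2t33_col hq (fun i => ψ y i j)
    have := congrFun (congrFun (horth y) j) j
    rw [Matrix.mul_apply, Matrix.one_apply_eq] at this
    simpa [Matrix.transpose_apply] using this
  choose P hP using hcol
  have huniq : ∀ y j i, ψ y i j ≠ 0 → P y j = i := by
    intro y j i hne
    by_contra hcon
    exact hne ((hP y j).2 i (fun h => hcon h.symm))
  have P1 : ∀ j, P 1 j = j := by
    intro j
    apply huniq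
    rw [map_one, Matrix.one_apply_eq]
    exact one_ne_zero
  have Pmul : ∀ y z j, P (y * z) j = P y (P z j) := by
    intro y z j
    apply huniq
    rw [map_mul, Matrix.mul_apply, Finset.sum_eq_single (P z j)]
    · exact mul_ne_zero (hP y (P z j)).1 (hP z j).1
    · intro k _ hk
      rw [(hP z j).2 k hk, mul_zero]
    · intro h
      exact absurd (Finset.mem_univ _) h
  let ρ₀ : Y →* Function.End (Fin 3) :=
    { toFun := P
      map_one' := funext P1
      map_mul' := fun y z => funext (Pmul y z) }
  have hsol := asod2t33_perm3_solvable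
  have hρ : ∀ y, ρ₀.toHomPerm y = 1 := fun y => asod2t33_perfect_hom hperf ρ₀.toHomPerm y
  have hPid : ∀ y j, P y j = j := by
    intro y j
    have h := hρ y
    have h2 : (ρ₀.toHomPerm y) j = (1 : Equiv.Perm (Fin 3)) j := by rw [h]
    exact h2
  have hdiag : ∀ y, ψ y = Matrix.diagonal (fun i => ψ y i i) := by
    intro y
    ext i j
    by_cases hij : i = j
    · subst hij
      rw [Matrix.diagonal_apply_eq]
    · rw [Matrix.diagonal_apply_ne _ hij]
      have := (hP y j).2 i
      rw [hPid] at this
      exact this hij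
  have hcomm : ∀ y z, ψ y * ψ z = ψ z * ψ y := by
    intro y z
    rw [hdiag y, hdiag z, Matrix.diagonal_mul_diagonal, Matrix.diagonal_mul_diagonal]
    congr 1
    funext i
    exact mul_comm _ _
  have hker : commutator Y ≤ MonoidHom.ker ψ := by
    rw [commutator_eq_closure, Subgroup.closure_le]
    rintro g ⟨y, z, rfl⟩
    show ψ ⁅y, z⁆ = 1
    rw [commutatorElement_def, map_mul, map_mul, map_mul, hcomm y z, ← map_mul, ← map_mul, ← map_mul]
    have : z * y * y⁻¹ * z⁻¹ = 1 := by group
    rw [this, map_one]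
  intro y
  have : y ∈ commutator Y := by rw [hperf]; exact Subgroup.mem_top y
  exact hker this

end three

section form

variable {F : Type*} [Field F] {k : ℕ}

theorem asod2t33_form_symm (G : Matrix (Fin k) (Fin k) F) (hs : Gᵀ = G) (u v : Fin k → F) :
    u ⬝ᵥ (G *ᵥ v) = v ⬝ᵥ (G *ᵥ u) := by
  rw [Matrix.dotProduct_mulVec, ← Matrix.mulVec_transpose, hs, dotProduct_comm]

end form

end Cfsg.Agent.Lib.Helper25.ASO
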