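import Mathlib
import Cfsg.Prelude.Def_GeometricClasses

/-!
# Project ASO, block D2T : the symmetric form `(u, v) ↦ u ⬝ᵥ G *ᵥ v` of a symmetric invertible matrix `G`
(shared by the pieces D2T-33 and D2T-EQ).
-/

set_option autoImplicit false

namespace Cfsg.Agent.Lib.Helper25.ASO

open Cfsg Cfsg.Geo
open scoped Matrix

variable {F : Type*} [Field F] {k : ℕ}

/-- the form with Gram matrix `G` -/
def asod2tformF (G : Matrix (Fin k) (Fin k) F) : (Fin k → F) → (Fin k → F) → F :=
  fun u v => u ⬝ᵥ (G *ᵥ v)

theorem asod2tformF_apply (G : Matrix (Fin k) (Fin k) F) (u v : Fin k → F) :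
    asod2tformF G u v = u ⬝ᵥ (G *ᵥ v) := rfl

theorem asod2tform_comm (G : Matrix (Fin k) (Fin k) F) (hs : Gᵀ = G) (u v : Fin k → F) :
    asod2tformF G u v = asod2tformF G v u := by
  rw [asod2tformF_apply, asod2tformF_apply, Matrix.dotProduct_mulVec, ← Matrix.mulVec_transpose, hs,
    dotProduct_comm]

theorem asod2tform_bilinear (G : Matrix (Fin k) (Fin k) F) : IsBilinearForm (asod2tformF G) where
  add_left x y v := by simp only [asod2tformF_apply, add_dotProduct]
  smul_left c x v := by simp only [asod2tformF_apply, smul_dotProduct, smul_eq_mul]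
  add_right v x y := by simp only [asod2tformF_apply, Matrix.mulVec_add, dotProduct_add]
  smul_right c v x := by simp only [asod2tformF_apply, Matrix.mulVec_smul, dotProduct_smul, smul_eq_mul]

theorem asod2tform_symmetric (G : Matrix (Fin k) (Fin k) F) (hs : Gᵀ = G) (hd : IsUnit G.det) :
    IsSymmetricForm (asod2tformF G) where
  bilinear := asod2tform_bilinear G
  symm := asod2tform_comm G hs
  nondegenerate := by
    intro v hv
    have hGv : G *ᵥ v ≠ 0 := by
      intro h0
      exact hv (Matrix.eq_zero_of_mulVec_eq_zero hd.ne_zero h0)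
    have h1 : ∃ x, asod2tformF G x v ≠ 0 := by
      by_contra hcon
      push Not at hcon
      apply hGv
      funext j
      have := hcon (Pi.single j 1)
      rw [asod2tformF_apply, single_one_dotProduct] at this
      exact this
    refine ⟨h1, ?_⟩
    obtain ⟨x, hx⟩ := h1
    exact ⟨x, by rwa [asod2tform_comm G hs]⟩

theorem asod2tform_gram (G : Matrix (Fin k) (Fin k) F) : gramMatrix (asod2tformF G) = G := by
  ext a b
  show asod2tformF G (Pi.single a 1) (Pi.single b 1) = G a b
  rw [asod2tformF_apply, single_one_dotProduct, Matrix.mulVec_single_one]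
  rfl

/-- change of basis -/
theorem asod2tform_congr (G S : Matrix (Fin k) (Fin k) F) (u v : Fin k → F) :
    asod2tformF (Sᵀ * G * S) u v = asod2tformF G (S *ᵥ u) (S *ᵥ v) := by
  rw [asod2tformF_apply, asod2tformF_apply, Matrix.mulVec_mulVec, mul_assoc, ← Matrix.mulVec_mulVec,
    Matrix.dotProduct_mulVec u, Matrix.vecMul_transpose]

theorem asod2tform_smul (c : F) (G : Matrix (Fin k) (Fin k) F) (u v : Fin k → F) :
    asod2tformF (c • G) u v = c * asod2tformF G u v := by
  rw [asod2tformF_apply, asod2tformF_apply, Matrix.smul_mulVec, dotProduct_smul, smul_eq_mul]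

/-- a matrix is determined by its form -/
theorem asod2tform_inj (G G' : Matrix (Fin k) (Fin k) F)
    (h : ∀ u v, asod2tformF G u v = asod2tformF G' u v) : G = G' := by
  rw [← asod2tform_gram G, ← asod2tform_gram G']
  congr 1
  funext u v
  exact h u v

/-- the form as a double sum -/
theorem asod2tform_sum (G : Matrix (Fin k) (Fin k) F) (u v : Fin k → F) :
    asod2tformF G u v = ∑ a, ∑ b, u a * G a b * v b := by
  rw [asod2tformF_apply, dotProduct]
  refine Finset.sum_congr rfl fun a _ => ?_
  rw [Matrix.mulVec, dotProduct, Finset.mul_sum]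
  refine Finset.sum_congr rfl fun b _ => ?_
  ring

end Cfsg.Agent.Lib.Helper25.ASO
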