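import Mathlib
import Cfsg.Prelude.Def_GeometricClasses
import Cfsg.Agent.Lib.Helper27.ASC.Defs
import Cfsg.Agent.Lib.helper23.ASCO.Defs
import Cfsg.Agent.Lib.Helper19.ASG.Defs
import Cfsg.Agent.Lib.Helper9.ASGD2T.Defs
import Cfsg.Agent.Lib.Helper25.ASO.Defs
import Cfsg.Agent.Lib.Helper25.ASO.DefsD2T
import Cfsg.Agent.Lib.Helper11.ASGD2TPTMUL
import Cfsg.Agent.Lib.Helper22.ASOSIM
import Cfsg.Agent.Lib.Helper29.ASOD2TFORM
import Cfsg.Agent.Lib.Helper29.ASOD2T33core

set_option autoImplicit false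
set_option linter.unusedVariables false
set_option linter.unusedSectionVars false

/-!
# Project ASO, block D2T, piece 33 : `no_perfect_o33`
-/

namespace Cfsg.Agent.Lib.Helper25.ASO

open Cfsg Cfsg.Geo Cfsg.Agent.Lib.Helper27.ASC Cfsg.Agent.Lib.helper23.ASCO Cfsg.Agent.Lib.Helper19.ASG
open scoped MatrixGroups Matrix Kronecker

variable {n : ℕ} {F : Type*} [Field F] [Fintype F]

/-- D2T-33 : over `F_3` a perfect group inside one tensor factor of dimension 3 whose elements preserve a non-degenerate symmetric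
`3 × 3` Gram matrix is trivial. -/
theorem no_perfect_o33 (hq : Fintype.card F = 3) {t : ℕ} (e : Fin n ≃ (Fin t → Fin 3)) (B : GL (Fin n) F)
    (i : Fin t) (A : Matrix (Fin 3) (Fin 3) F) (hAs : A.transpose = A) (hA : IsUnit A.det)
    (X : Subgroup (GL (Fin n) F)) (hperf : ⁅X, X⁆ = X)
    (hX : ∀ x ∈ X, ∃ a : Matrix (Fin 3) (Fin 3) F,
      (x : Matrix (Fin n) (Fin n) F) = (B : Matrix (Fin n) (Fin n) F) *
        Matrix.reindex e.symm e.symm (ptMat (Pi.mulSingle i a)) *
        ((B⁻¹ : GL (Fin n) F) : Matrix (Fin n) (Fin n) F) ∧ a.transpose * A * a = A) : X = ⊥ := by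
  classical
  -- the `i`-th factor embedding
  have hBi : ((B⁻¹ : GL (Fin n) F) : Matrix (Fin n) (Fin n) F) * (B : Matrix (Fin n) (Fin n) F) = 1 := by
    rw [← Units.val_mul, inv_mul_cancel, Units.val_one]
  have Rmul : ∀ M N : Matrix (Fin t → Fin 3) (Fin t → Fin 3) F,
      Matrix.reindex e.symm e.symm (M * N) =
        Matrix.reindex e.symm e.symm M * Matrix.reindex e.symm e.symm N := by
    intro M N
    simp only [Matrix.reindex_apply, Matrix.submatrix_mul_equiv]
  have Rone : Matrix.reindex e.symm e.symm (1 : Matrix (Fin t → Fin 3) (Fin t → Fin 3) F) = 1 := by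
    simp only [Matrix.reindex_apply, Matrix.submatrix_one_equiv]
  let Φ : Matrix (Fin 3) (Fin 3) F → Matrix (Fin n) (Fin n) F := fun a =>
    (B : Matrix (Fin n) (Fin n) F) * Matrix.reindex e.symm e.symm (ptMat (Pi.mulSingle i a)) *
      ((B⁻¹ : GL (Fin n) F) : Matrix (Fin n) (Fin n) F)
  have Φ_def : ∀ a, Φ a = (B : Matrix (Fin n) (Fin n) F) *
      Matrix.reindex e.symm e.symm (ptMat (Pi.mulSingle i a)) *
      ((B⁻¹ : GL (Fin n) F) : Matrix (Fin n) (Fin n) F) := fun a => rfl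
  have Φ_mul : ∀ a b, Φ (a * b) = Φ a * Φ b := by
    intro a b
    rw [Φ_def, Φ_def, Φ_def, Pi.mulSingle_mul, ptMat_mul, Rmul]
    calc (B : Matrix (Fin n) (Fin n) F) * (Matrix.reindex e.symm e.symm (ptMat (Pi.mulSingle i a)) *
          Matrix.reindex e.symm e.symm (ptMat (Pi.mulSingle i b))) *
          ((B⁻¹ : GL (Fin n) F) : Matrix (Fin n) (Fin n) F)
        = (B : Matrix (Fin n) (Fin n) F) * Matrix.reindex e.symm e.symm (ptMat (Pi.mulSingle i a)) *
          (1 : Matrix (Fin n) (Fin n) F) * Matrix.reindex e.symm e.symm (ptMat (Pi.mulSingle i b)) *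
          ((B⁻¹ : GL (Fin n) F) : Matrix (Fin n) (Fin n) F) := by
          rw [mul_one]; simp only [mul_assoc]
      _ = _ := by rw [← hBi]; simp only [mul_assoc]
  have Φ_one : Φ 1 = 1 := by
    rw [Φ_def, Pi.mulSingle_one, ptMat_one, Rone, mul_one, ← Units.val_mul, mul_inv_cancel, Units.val_one]
  have Φ_inj : ∀ a b, Φ a = Φ b → a = b := by
    intro a b h
    rw [Φ_def, Φ_def] at h
    have h1 := (Units.mul_right_inj B).mp ((Units.mul_left_inj B⁻¹).mp h)
    exact ptMat_single_injective i a b ((Matrix.reindex e.symm e.symm).injective h1)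
  choose a ha using (fun x : X => hX x.1 x.2)
  have a_one : a 1 = 1 := by
    apply Φ_inj
    rw [Φ_one, Φ_def, ← (ha 1).1]
    rfl
  have a_mul : ∀ x y, a (x * y) = a x * a y := by
    intro x y
    apply Φ_inj
    rw [Φ_mul, Φ_def (a (x * y)), ← (ha (x * y)).1, Φ_def (a x), Φ_def (a y), ← (ha x).1, ← (ha y).1]
    rfl
  -- the Gram matrix is similar to the identity
  have hF : Odd (Fintype.card F) := by rw [hq]; decide
  have h1s : IsSymmetricForm (asod2tformF (1 : Matrix (Fin 3) (Fin 3) F)) :=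
    asod2tform_symmetric 1 Matrix.transpose_one (by rw [Matrix.det_one]; exact isUnit_one)
  have hAsym : IsSymmetricForm (asod2tformF A) := asod2tform_symmetric A hAs hA
  obtain ⟨S, μ, hμ, hS⟩ := symm_similar hF (by decide : Odd 3) _ _ h1s hAsym
  have hSAS : (S : Matrix (Fin 3) (Fin 3) F)ᵀ * A * (S : Matrix (Fin 3) (Fin 3) F) =
      μ • (1 : Matrix (Fin 3) (Fin 3) F) := by
    apply asod2tform_inj
    intro u v
    rw [asod2tform_congr, hS, asod2tform_smul]
  have hSi : ((S⁻¹ : GL (Fin 3) F) : Matrix (Fin 3) (Fin 3) F) * (S : Matrix (Fin 3) (Fin 3) F) = 1 := by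
    rw [← Units.val_mul, inv_mul_cancel, Units.val_one]
  have hSi' : (S : Matrix (Fin 3) (Fin 3) F) * ((S⁻¹ : GL (Fin 3) F) : Matrix (Fin 3) (Fin 3) F) = 1 := by
    rw [← Units.val_mul, mul_inv_cancel, Units.val_one]
  -- the homomorphism into the orthogonal matrices
  let ψ : X →* Matrix (Fin 3) (Fin 3) F :=
    { toFun := fun x => ((S⁻¹ : GL (Fin 3) F) : Matrix (Fin 3) (Fin 3) F) * a x * (S : Matrix (Fin 3) (Fin 3) F)
      map_one' := by rw [a_one, mul_one, hSi]
      map_mul' := fun x y => by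
        rw [a_mul]
        calc ((S⁻¹ : GL (Fin 3) F) : Matrix (Fin 3) (Fin 3) F) * (a x * a y) * (S : Matrix (Fin 3) (Fin 3) F)
            = ((S⁻¹ : GL (Fin 3) F) : Matrix (Fin 3) (Fin 3) F) * a x * (1 : Matrix (Fin 3) (Fin 3) F) * a y *
              (S : Matrix (Fin 3) (Fin 3) F) := by rw [mul_one]; simp only [mul_assoc]
          _ = _ := by rw [← hSi']; simp only [mul_assoc] }
  have ψ_def : ∀ x, ψ x = ((S⁻¹ : GL (Fin 3) F) : Matrix (Fin 3) (Fin 3) F) * a x *
      (S : Matrix (Fin 3) (Fin 3) F) := fun x => rfl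
  have horth : ∀ x, (ψ x)ᵀ * ψ x = 1 := by
    intro x
    have hSb : (S : Matrix (Fin 3) (Fin 3) F) * ψ x = a x * (S : Matrix (Fin 3) (Fin 3) F) := by
      rw [ψ_def, ← mul_assoc, ← mul_assoc, hSi', one_mul]
    have key : (ψ x)ᵀ * (μ • (1 : Matrix (Fin 3) (Fin 3) F)) * ψ x = μ • (1 : Matrix (Fin 3) (Fin 3) F) := by
      rw [← hSAS]
      calc (ψ x)ᵀ * ((S : Matrix (Fin 3) (Fin 3) F)ᵀ * A * (S : Matrix (Fin 3) (Fin 3) F)) * ψ x
          = ((S : Matrix (Fin 3) (Fin 3) F) * ψ x)ᵀ * A * ((S : Matrix (Fin 3) (Fin 3) F) * ψ x) := by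
            rw [Matrix.transpose_mul]; simp only [mul_assoc]
        _ = (S : Matrix (Fin 3) (Fin 3) F)ᵀ * ((a x)ᵀ * A * a x) * (S : Matrix (Fin 3) (Fin 3) F) := by
            rw [hSb, Matrix.transpose_mul]; simp only [mul_assoc]
        _ = _ := by rw [(ha x).2]
    rw [Matrix.mul_smul, mul_one, Matrix.smul_mul] at key
    exact smul_right_injective _ hμ key
  have hc : commutator X = ⊤ := by
    have h := X.map_subtype_commutator
    rw [hperf] at h
    apply Subgroup.map_injective X.subtype_injective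
    rw [h, ← MonoidHom.range_eq_map, X.range_subtype]
  have htriv := asod2t33_orth_trivial hq ψ horth hc
  rw [Subgroup.eq_bot_iff_forall]
  intro x hx
  have h1 := htriv ⟨x, hx⟩
  rw [ψ_def] at h1
  have hax : a ⟨x, hx⟩ = 1 := by
    calc a ⟨x, hx⟩ = (S : Matrix (Fin 3) (Fin 3) F) *
          (((S⁻¹ : GL (Fin 3) F) : Matrix (Fin 3) (Fin 3) F) * a ⟨x, hx⟩ * (S : Matrix (Fin 3) (Fin 3) F)) *
          ((S⁻¹ : GL (Fin 3) F) : Matrix (Fin 3) (Fin 3) F) := by
          rw [← mul_assoc, ← mul_assoc, hSi', one_mul, mul_assoc, hSi', mul_one]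
      _ = 1 := by rw [h1, mul_one, hSi']
  apply Units.ext
  have h2 := (ha ⟨x, hx⟩).1
  rw [hax] at h2
  have h3 : Φ 1 = 1 := Φ_one
  rw [Φ_def] at h3
  rw [h3] at h2
  exact h2

end Cfsg.Agent.Lib.Helper25.ASO
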