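import Mathlib
import Cfsg.Prelude.Def_GeometricClasses
import Cfsg.Agent.Lib.Helper27.ASC.Defs
import Cfsg.Agent.Lib.helper23.ASCO.Defs
import Cfsg.Agent.Lib.Helper19.ASG.Defs
import Cfsg.Agent.Lib.Helper9.ASGD2T.Defs
import Cfsg.Agent.Lib.Helper25.ASO.Defs
import Cfsg.Agent.Lib.Helper25.ASO.DefsD2T
import Cfsg.Agent.Lib.Helper11.ASGD2TPTMUL
import Cfsg.Agent.Lib.Helper22.ASOSIM
import Cfsg.Agent.Lib.Helper22.ASOCPOW
import Cfsg.Agent.Lib.Helper29.ASOD2TFORM

set_option autoImplicit false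
set_option linter.unusedVariables false
set_option linter.unusedSectionVars false

/-!
# Project ASO, block D2T, piece EQ : `opower_equalise`
-/

namespace Cfsg.Agent.Lib.Helper25.ASO

open Cfsg Cfsg.Geo Cfsg.Agent.Lib.Helper27.ASC Cfsg.Agent.Lib.helper23.ASCO Cfsg.Agent.Lib.Helper19.ASG
open scoped MatrixGroups Matrix Kronecker

variable {n : ℕ} {F : Type*} [Field F] [Fintype F]

omit [Fintype F] in
/-- Changing the base point `P` by a reindexed element of the standard tensor-wreath group does not change the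
tensor-wreath subgroup. -/
theorem asod2teq_tws_le {m t : ℕ} (e : Fin n ≃ (Fin t → Fin m)) (P : GL (Fin n) F)
    (s : GL (Fin t → Fin m) F) (hs : s ∈ tensorWreathStandard m t F) :
    tensorWreathSubgroup m t e P ≤ tensorWreathSubgroup m t e (P * glReindex e.symm s) := by
  intro g hg
  unfold tensorWreathSubgroup at hg ⊢
  obtain ⟨y, hy, rfl⟩ := hg
  obtain ⟨x, hx, rfl⟩ := hy
  refine ⟨glReindex e.symm (s⁻¹ * x * s),
    ⟨s⁻¹ * x * s, (tensorWreathStandard m t F).mul_mem ((tensorWreathStandard m t F).mul_mem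
      ((tensorWreathStandard m t F).inv_mem hs) hx) hs, rfl⟩, ?_⟩
  show (P * glReindex e.symm s) * glReindex e.symm (s⁻¹ * x * s) * (P * glReindex e.symm s)⁻¹ =
    P * glReindex e.symm x * P⁻¹
  rw [map_mul, map_mul, map_inv]
  group

omit [Fintype F] in
theorem asod2teq_ptMat_transpose {m t : ℕ} (c : Fin t → Matrix (Fin m) (Fin m) F) :
    (ptMat c)ᵀ = ptMat (fun i => (c i)ᵀ) := by
  ext x y
  rw [Matrix.transpose_apply, ptMat_apply, ptMat_apply]
  rfl

omit [Fintype F] in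
theorem asod2teq_ptMat_smul {m t : ℕ} (μ : Fin t → F) (c : Fin t → Matrix (Fin m) (Fin m) F) :
    ptMat (fun i => μ i • c i) = (∏ i, μ i) • ptMat c := by
  ext x y
  rw [Matrix.smul_apply, ptMat_apply, ptMat_apply, smul_eq_mul, ← Finset.prod_mul_distrib]
  rfl

omit [Fintype F] in
/-- the double sum of a Gram matrix is `x ⬝ᵥ G *ᵥ y` -/
theorem asod2teq_sum {κ : Type} [Fintype κ] (G : Matrix κ κ F) (x y : κ → F) :
    ∑ a, ∑ b, x a * G a b * y b = x ⬝ᵥ (G *ᵥ y) := by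
  have := asocpow_formOfGram G x y
  unfold formOfGram at this
  simpa only [id] using this

/-- D2T-EQ : all factors symmetric of odd size: after a change of basis in each factor the form is a tensor power. -/
theorem opower_equalise (hF : Odd (Fintype.card F)) {m t : ℕ} (hm : Odd m) (ht : 0 < t)
    (f : (Fin n → F) → (Fin n → F) → F) (e : Fin n ≃ (Fin t → Fin m)) (B : GL (Fin n) F) (c : F) (hc : c ≠ 0)
    (A : Fin t → Matrix (Fin m) (Fin m) F) (hA : ∀ i, IsUnit (A i).det) (hAs : ∀ i, (A i).transpose = A i)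
    (hG : IsPtGram f e B c A) :
    ∃ (B' : GL (Fin n) F) (f₁ : (Fin m → F) → (Fin m → F) → F), IsSymmetricForm f₁ ∧
      IsTensorPowerFormStructure id f f₁ e B' ∧
      tensorWreathSubgroup m t e B ≤ tensorWreathSubgroup m t e B' := by
  classical
  set A₀ : Matrix (Fin m) (Fin m) F := A ⟨0, ht⟩ with hA₀
  have h₀ : IsSymmetricForm (asod2tformF A₀) := asod2tform_symmetric A₀ (hAs _) (hA _)
  have hsim : ∀ i, ∃ (S : GL (Fin m) F) (μ : F), μ ≠ 0 ∧
      (S : Matrix (Fin m) (Fin m) F)ᵀ * A i * (S : Matrix (Fin m) (Fin m) F) = μ • A₀ := by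
    intro i
    obtain ⟨S, μ, hμ, hS⟩ := symm_similar hF hm _ _ h₀ (asod2tform_symmetric (A i) (hAs i) (hA i))
    refine ⟨S, μ, hμ, ?_⟩
    apply asod2tform_inj
    intro u v
    rw [asod2tform_congr, hS, asod2tform_smul]
  choose S μ hμ hS using hsim
  -- the pure tensor of the `S i`
  have hinv1 : ptMat (fun i => (S i : Matrix (Fin m) (Fin m) F)) *
      ptMat (fun i => ((S i)⁻¹ : GL (Fin m) F).1) = 1 := by
    rw [← ptMat_mul, ← ptMat_one]
    congr 1
    funext i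
    rw [Pi.mul_apply, Pi.one_apply, ← Units.val_mul, mul_inv_cancel, Units.val_one]
  have hinv2 : ptMat (fun i => ((S i)⁻¹ : GL (Fin m) F).1) *
      ptMat (fun i => (S i : Matrix (Fin m) (Fin m) F)) = 1 := by
    rw [← ptMat_mul, ← ptMat_one]
    congr 1
    funext i
    rw [Pi.mul_apply, Pi.one_apply, ← Units.val_mul, inv_mul_cancel, Units.val_one]
  let Tg : GL (Fin t → Fin m) F :=
    ⟨ptMat (fun i => (S i : Matrix (Fin m) (Fin m) F)), ptMat (fun i => ((S i)⁻¹ : GL (Fin m) F).1), hinv1, hinv2⟩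
  have hTg : Tg ∈ tensorWreathStandard m t F :=
    Subgroup.subset_closure (Or.inl ⟨S, fun x y => rfl⟩)
  set T : Matrix (Fin t → Fin m) (Fin t → Fin m) F := ptMat (fun i => (S i : Matrix (Fin m) (Fin m) F)) with hT
  have hTcoe : (Tg : Matrix (Fin t → Fin m) (Fin t → Fin m) F) = T := rfl
  have hB' : ((B * glReindex e.symm Tg : GL (Fin n) F) : Matrix (Fin n) (Fin n) F) =
      (B : Matrix (Fin n) (Fin n) F) * T.submatrix e e := by
    rw [Units.val_mul]
    rfl
  have hmv : ∀ x : (Fin t → Fin m) → F,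
      ((B * glReindex e.symm Tg : GL (Fin n) F) : Matrix (Fin n) (Fin n) F) *ᵥ (x ∘ e) =
        (B : Matrix (Fin n) (Fin n) F) *ᵥ ((T *ᵥ x) ∘ e) := by
    intro x
    rw [hB', ← Matrix.mulVec_mulVec, Matrix.submatrix_mulVec_equiv]
    rw [Function.comp_assoc, Equiv.self_comp_symm, Function.comp_id]
  have hTAT : Tᵀ * ptMat A * T = (∏ i, μ i) • ptMat (fun _ : Fin t => A₀) := by
    rw [hT, asod2teq_ptMat_transpose, ← ptMat_mul, ← ptMat_mul, ← asod2teq_ptMat_smul]
    congr 1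
    funext i
    rw [Pi.mul_apply, Pi.mul_apply]
    exact hS i
  refine ⟨B * glReindex e.symm Tg, asod2tformF A₀, h₀, ?_, asod2teq_tws_le e B Tg hTg⟩
  refine ⟨c * ∏ i, μ i, mul_ne_zero hc (Finset.prod_ne_zero_iff.mpr fun i _ => hμ i), ?_⟩
  intro x y
  rw [hmv, hmv, hG]
  have h1 : ∑ a, ∑ b, (T *ᵥ x) a * (∏ i, A i (a i) (b i)) * (T *ᵥ y) b =
      (T *ᵥ x) ⬝ᵥ (ptMat A *ᵥ (T *ᵥ y)) := asod2teq_sum (ptMat A) (T *ᵥ x) (T *ᵥ y)
  have h2 : ∑ a, ∑ b, x a * (∏ i, gramMatrix (asod2tformF A₀) (a i) (b i)) * id (y b) =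
      x ⬝ᵥ (ptMat (fun _ : Fin t => A₀) *ᵥ y) := by
    rw [asod2tform_gram]
    exact asod2teq_sum (ptMat (fun _ : Fin t => A₀)) x y
  rw [h1, h2, asocpow_dot, hTAT, Matrix.smul_mulVec, dotProduct_smul, smul_eq_mul]
  ring

end Cfsg.Agent.Lib.Helper25.ASO
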