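import Mathlib
import Cfsg.Agent.Lib.Helper18.OPE.Defs2
import Cfsg.Agent.Lib.Helper29.OPEARITHcore

set_option autoImplicit false
set_option linter.unusedVariables false
set_option linter.unusedSectionVars false

/-!
# Project OPE (S5974 + S5988; designer helper18), row ARITHSUFF (`arith_suff`) (helper29).
-/

namespace Cfsg.Agent.Lib.Helper18.OPE

/-- the case `c A ≤ m` -/
theorem opearithsuff_low (i c d m : ℕ) (s : ℤ) (hc1 : 1 ≤ c) (hmd : m < d) (A : ℕ) (hA1 : 1 ≤ A)
    (hAm : c * A ≤ m) : Fits c i 1 d m s A := by
  by_cases h1 : m = c * A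
  · by_cases h2 : s = sg i A
    · exact ⟨A, le_refl _, hAm, Or.inl ⟨h1, h2⟩⟩
    · have h3 : c * (A - 1) + c = c * A := by
        rw [← Nat.mul_succ]; congr 1; omega
      refine ⟨A - 1, Nat.sub_le _ _, ?_, Or.inr (Or.inl ⟨?_, ?_⟩)⟩
      all_goals omega
  · exact ⟨A, le_refl _, hAm, Or.inr (Or.inl ⟨by omega, by omega⟩)⟩

/-- ARITHSUFF -/
theorem arith_suff (i c d m : ℕ) (s : ℤ) (hi1 : 1 ≤ i) (hc : c = if Even i then i else 2 * i)
    (hs : s = 1 ∨ s = -1) (hme : Even m) (hm : 2 ≤ m) (hmd : m < d) (hR : RR i c d m s)
    (A : ℕ) (hA1 : 1 ≤ A) (hA : c * A ≤ 2 * d) (hAs : c * A = 2 * d → sg i A = 1) :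
    Fits c i 1 d m s A := by
  have hc1 : 1 ≤ c := by
    rw [hc]; split_ifs <;> omega
  by_cases hAm : c * A ≤ m
  · exact opearithsuff_low i c d m s hc1 hmd A hA1 hAm
  -- now `A > M`
  have hmM : c * (m / c) + m % c = m := Nat.div_add_mod m c
  have hl : m % c < c := Nat.mod_lt _ hc1
  have hnN : c * (2 * d / c) + (2 * d) % c = 2 * d := Nat.div_add_mod (2 * d) c
  have hk : (2 * d) % c < c := Nat.mod_lt _ hc1
  have hMA : m / c < A := by
    by_contra hcon
    have : c * A ≤ c * (m / c) := Nat.mul_le_mul_left _ (not_lt.mp hcon)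
    omega
  have hcMA : c * (m / c) + c ≤ c * A := by
    have : c * (m / c + 1) ≤ c * A := Nat.mul_le_mul_left _ hMA
    rw [Nat.mul_succ] at this
    exact this
  have hAN : A ≤ 2 * d / c := by
    by_contra hcon
    have : c * (2 * d / c + 1) ≤ c * A := Nat.mul_le_mul_left _ (not_le.mp hcon)
    rw [Nat.mul_succ] at this
    omega
  have hcAN : c * A ≤ c * (2 * d / c) := Nat.mul_le_mul_left _ hAN
  by_cases hie : Even i
  · -- `i` even
    rw [if_pos hie] at hc
    subst hc
    rw [opearith_rr_even c d m s hie hs] at hR
    rcases hR with ⟨hk0, hR⟩ | ⟨him, hR⟩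
    · rcases hR with hNodd | ⟨hl0, hsM⟩
      · -- `k = 0`, `N` odd: `A ≤ N - 1`
        have hAne : A ≠ 2 * d / c := by
          intro h
          have h1 : sg c A = 1 := hAs (by rw [h]; omega)
          rw [opearith_sg_even hie, h] at h1
          have := (opearith_one_eq_pow _).mp h1.symm
          exact (Nat.not_even_iff_odd.mpr hNodd) this
        have hAlt : A + 1 ≤ 2 * d / c := by omega
        have hcAN' : c * A + c ≤ c * (2 * d / c) := by
          have : c * (A + 1) ≤ c * (2 * d / c) := Nat.mul_le_mul_left _ hAlt
          rw [Nat.mul_succ] at this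
          exact this
        by_cases hl0 : m % c = 0
        · by_cases hsM : s = sg c (m / c)
          · exact ⟨m / c, hMA.le, by omega, Or.inl ⟨by omega, hsM⟩⟩
          · have hM1 : 1 ≤ m / c := by
              rcases Nat.eq_zero_or_pos (m / c) with h | h
              · rw [h] at hmM; omega
              · exact h
            have h3 : c * (m / c - 1) + c = c * (m / c) := by
              rw [← Nat.mul_succ]; congr 1; omega
            by_cases hcf : c * A + c = c * (2 * d / c)
            · -- clause 3
              have hAN1 : A + 1 = 2 * d / c := by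
                have : c * (A + 1) = c * (2 * d / c) := by rw [Nat.mul_succ]; exact hcf
                exact Nat.eq_of_mul_eq_mul_left hc1 this
              have hAev : Even A := by
                rw [← hAN1] at hNodd
                rcases Nat.even_or_odd A with h | h
                · exact h
                · exact absurd hNodd (Nat.not_odd_iff_even.mpr (h.add_odd odd_one))
              have hsgA : sg c A = 1 := by
                rw [opearith_sg_even hie]; exact hAev.neg_one_pow
              have hsgM : sg c (m / c) = - sg c (m / c - 1) := by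
                rw [opearith_sg_even hie, opearith_sg_even hie]
                have : m / c = (m / c - 1) + 1 := by omega
                conv_lhs => rw [this, pow_succ]
                ring
              refine ⟨m / c - 1, by omega, by omega, Or.inr (Or.inr ⟨by omega, by omega, ?_⟩)⟩
              rw [hsgA]
              rcases opearith_sg_pm c (m / c - 1) with h | h
              · rw [h] at hsgM ⊢
                rcases hs with rfl | rfl
                · norm_num
                · exact absurd hsgM.symm hsM
              · rw [h] at hsgM ⊢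
                rcases hs with rfl | rfl
                · rw [neg_neg] at hsgM
                  exact absurd hsgM.symm hsM
                · norm_num
            · refine ⟨m / c - 1, by omega, by omega, Or.inr (Or.inl ⟨by omega, by omega⟩)⟩
        · exact ⟨m / c, hMA.le, by omega, Or.inr (Or.inl ⟨by omega, by omega⟩)⟩
      · rw [← opearith_sg_even hie] at hsM
        exact ⟨m / c, hMA.le, by omega, Or.inl ⟨by omega, hsM⟩⟩
    · rcases hR with ⟨hl0, hlk⟩ | ⟨hl0, hlk, hsNM⟩ | ⟨hl0, hk0, hsM⟩
      · exact ⟨m / c, hMA.le, by omega, Or.inr (Or.inl ⟨by omega, by omega⟩)⟩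
      · by_cases hcf : c * A = c * (2 * d / c)
        · have hAN' : A = 2 * d / c := Nat.eq_of_mul_eq_mul_left hc1 hcf
          have hNM : (2 * d + m - 2 * ((2 * d) % c)) / c = 2 * d / c + m / c := by
            have : 2 * d + m - 2 * ((2 * d) % c) = c * (2 * d / c + m / c) := by
              rw [Nat.mul_add]; omega
            rw [this]
            exact Nat.mul_div_cancel_left _ hc1
          rw [hNM] at hsNM
          refine ⟨m / c, hMA.le, by omega, Or.inr (Or.inr ⟨by omega, by omega, ?_⟩)⟩
          rw [hsNM, opearith_sg_even hie, opearith_sg_even hie, hAN', pow_add, one_mul, mul_assoc,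
            ← pow_add, ← two_mul, pow_mul]
          norm_num
        · exact ⟨m / c, hMA.le, by omega, Or.inr (Or.inl ⟨by omega, by omega⟩)⟩
      · rw [← opearith_sg_even hie] at hsM
        exact ⟨m / c, hMA.le, by omega, Or.inl ⟨by omega, hsM⟩⟩
  · -- `i` odd
    rw [if_neg hie] at hc
    rw [opearith_rr_odd i c d m s hie hs] at hR
    obtain ⟨hcm, hR⟩ := hR
    rcases hR with ⟨rfl, hlk⟩ | ⟨rfl, hl0, hlk⟩
    · by_cases hl0 : m % c = 0
      · exact ⟨m / c, hMA.le, by omega, Or.inl ⟨by omega, (opearith_sg_odd hie _).symm⟩⟩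
      · by_cases hlf : m - c * (m / c) = 2 * d - c * A
        · refine ⟨m / c, hMA.le, by omega, Or.inr (Or.inr ⟨by omega, hlf, ?_⟩)⟩
          rw [opearith_sg_odd hie, opearith_sg_odd hie]
        · exact ⟨m / c, hMA.le, by omega, Or.inr (Or.inl ⟨by omega, by omega⟩)⟩
    · exact ⟨m / c, hMA.le, by omega, Or.inr (Or.inl ⟨by omega, by omega⟩)⟩

end Cfsg.Agent.Lib.Helper18.OPE
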