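import Mathlib
import Cfsg.Agent.Lib.helper17.T3.Defs

/-!
# T3C row [A2] (helper29): a good cubic datum has `θ ≠ id`

Verbatim against `Cfsg/Agent/Lib/helper17/T3/SkelC.lean.txt`.
-/

set_option autoImplicit false

namespace Cfsg.Agent.Lib.helper17.T3

variable {F K : Type*} [Field F] [Field K] [Algebra F K]

namespace Cub

variable (C : Cub F K)

/-- [A2] [S] a good datum has `θ ≠ id`: `hC.nm_one` gives `v ≠ 1` with `nm v = 1`, `hC.h90 v` gives `a ≠ 0` with `v * a = θ a`; if `θ a = a` then `v = 1`. -/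
theorem theta_ne (hC : C.Good) : ∃ c : K, C.θ c ≠ c := by
  obtain ⟨v, hv1, hv⟩ := hC.nm_one
  obtain ⟨a, ha, hva⟩ := hC.h90 v hv
  refine ⟨a, fun h => hv1 ?_⟩
  rw [h] at hva
  exact mul_right_cancel₀ ha (hva.trans (one_mul a).symm)

end Cub

end Cfsg.Agent.Lib.helper17.T3
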