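import Cfsg.Agent.Lib.helper7.SAP.Defs

/-!
Project SAP (S2284 + S2297, designer helper7): core of row GL10 (`glue_card`, `glue_psi_zx`, `glue_injOn`), by helper29.
The cited statements (GL9 `glue_carRel` + CAR3 `car_card_le`, PRES3 `zx_perm`, PERM3 `closure_zh`) are hypotheses.
-/

namespace Cfsg.Agent.Lib.helper7.SAP

open Equiv

universe u

section glue
variable {p k l : ℕ} {G : Type u} [Group G]

/-- a homomorphism commutes with `zo` -/
theorem sapgl10_map_zo {P : Type*} [Group P] (f : G →* P) (a z : G) (x : ZMod p) :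
    f (zo a z x) = zo (f a) (f z) x := by
  unfold zo
  rw [map_mul, map_mul, map_inv, map_pow]

/-- a homomorphism commutes with `zx` -/
theorem sapgl10_map_zx {P : Type*} [Group P] (f : G →* P) (a z τ : G) (l : ℕ) (y : Ix p k) :
    f (zx a z τ l y) = zx (f a) (f z) (f τ) l y := by
  cases y with
  | inl x => exact sapgl10_map_zo f a z x
  | inr j =>
    show f (τ ^ (j.val + 1) * zo a z ((l : ℕ) : ZMod p) * (τ ^ (j.val + 1))⁻¹) =
      f τ ^ (j.val + 1) * zo (f a) (f z) ((l : ℕ) : ZMod p) * (f τ ^ (j.val + 1))⁻¹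
    rw [map_mul, map_mul, map_inv, map_pow, sapgl10_map_zo]

/-- the number of indices -/
theorem sapgl10_card_Ix [NeZero p] : Nat.card (Ix p k) = p + k := by
  rw [Nat.card_sum, Nat.card_zmod, Nat.card_fin]

/-- the number of points -/
theorem sapgl10_card_Pt [NeZero p] : Nat.card (Pt p k) = p + k + 2 := by
  rw [Nat.card_sum, Nat.card_sum, Nat.card_zmod, Nat.card_fin, Nat.card_fin]
  ring

/-- `glue_card` from the conclusion of CAR3 at the family `zx` (whose hypothesis is GL9) -/
theorem sapgl10_card_core [Fact p.Prime] (H : GlueHyp p k l G)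
    (hc3 : Finite (Subgroup.closure (Set.range (zx H.a H.z H.τ l : Ix p k → G))) ∧
      2 * Nat.card (Subgroup.closure (Set.range (zx H.a H.z H.τ l : Ix p k → G))) ≤
        (Nat.card (Ix p k) + 2).factorial) :
    Finite (Subgroup.closure (Set.range (zx H.a H.z H.τ l : Ix p k → G))) ∧
    2 * Nat.card (Subgroup.closure (Set.range (zx H.a H.z H.τ l : Ix p k → G))) ≤
      (p + k + 2).factorial := by
  have : NeZero p := ⟨(Fact.out : p.Prime).ne_zero⟩
  rw [sapgl10_card_Ix] at hc3
  exact hc3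

/-- `glue_psi_zx` from the statement of PRES3 (`zx_perm`) -/
theorem sapgl10_psi_zx_core [Fact p.Prime] (H : GlueHyp p k l G)
    (hzx : ∀ y : Ix p k, zx (ah p k) (zh (Sum.inl 0)) (th p k l) l y = zh y) (y : Ix p k) :
    H.ψ (zx H.a H.z H.τ l y) = zh y := by
  rw [sapgl10_map_zx, H.hψa, H.hψz, H.hψτ, hzx]

/-- `glue_injOn` from `glue_card`, `glue_psi_zx` and the statement of PERM3 (`closure_zh`) -/
theorem sapgl10_injOn_core [Fact p.Prime] (H : GlueHyp p k l G)
    (hcard : Finite (Subgroup.closure (Set.range (zx H.a H.z H.τ l : Ix p k → G))) ∧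
      2 * Nat.card (Subgroup.closure (Set.range (zx H.a H.z H.τ l : Ix p k → G))) ≤
        (p + k + 2).factorial)
    (hpsi : ∀ y : Ix p k, H.ψ (zx H.a H.z H.τ l y) = zh y)
    (hclo : Subgroup.closure (Set.range (zh : Ix p k → Perm (Pt p k))) = alternatingGroup (Pt p k)) :
    Set.InjOn H.ψ (Subgroup.closure (Set.range (zx H.a H.z H.τ l : Ix p k → G)) : Set G) := by
  classical
  have hne : NeZero p := ⟨(Fact.out : p.Prime).ne_zero⟩
  set N : Subgroup G := Subgroup.closure (Set.range (zx H.a H.z H.τ l : Ix p k → G)) with hN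
  obtain ⟨hfin, hle⟩ := hcard
  -- the image of `N` is the alternating group
  have hmap : N.map H.ψ = alternatingGroup (Pt p k) := by
    rw [hN, MonoidHom.map_closure, ← hclo]
    congr 1
    ext σ
    constructor
    · rintro ⟨_, ⟨y, rfl⟩, rfl⟩
      exact ⟨y, (hpsi y).symm⟩
    · rintro ⟨y, rfl⟩
      exact ⟨_, ⟨y, rfl⟩, hpsi y⟩
  have hnt : Nontrivial (Pt p k) := ⟨⟨ps1, ps2, by
    intro h
    have h1 : (Sum.inr 0 : ZMod p ⊕ Fin 2) = Sum.inr 1 := Sum.inl_injective h
    have h2 : (0 : Fin 2) = 1 := Sum.inr_injective h1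
    exact absurd h2 (by decide)⟩⟩
  have hcA : 2 * Nat.card (alternatingGroup (Pt p k)) = (p + k + 2).factorial := by
    rw [two_mul_nat_card_alternatingGroup, Nat.card_perm, sapgl10_card_Pt]
  have hcm : Nat.card N ≤ Nat.card (N.map H.ψ) := by
    rw [hmap]
    omega
  have hbij : Function.Bijective (H.ψ.subgroupMap N) :=
    (H.ψ.subgroupMap_surjective N).bijective_of_nat_card_le hcm
  intro x hx y hy hxy
  have h1 : H.ψ.subgroupMap N ⟨x, hx⟩ = H.ψ.subgroupMap N ⟨y, hy⟩ := Subtype.ext hxy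
  have h2 := hbij.1 h1
  exact congrArg Subtype.val h2

end glue

end Cfsg.Agent.Lib.helper7.SAP
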