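import Cfsg.Agent.Lib.helper7.SAP.Defs
import Cfsg.Agent.Lib.Helper29.SAPBASE1

/-!
Project SAP (S2284 + S2297, designer helper7): core of row GL11 (`glue_final_A`), by helper29.
The cited statements (BASE4 `base_a_mem`, GL10 `glue_psi_zx` + `glue_injOn`, PERM3 `closure_zh`) are hypotheses.
-/

namespace Cfsg.Agent.Lib.helper7.SAP

open Equiv

universe u

section glue
variable {p k l : ℕ} {G : Type u} [Group G]

/-- the old subgroup lies in the extended one -/
theorem sapgl11_old_le (a z τ : G) (l : ℕ) :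
    Subgroup.closure (Set.range (zo a z : ZMod p → G)) ≤
      Subgroup.closure (Set.range (zx a z τ l : Ix p k → G)) := by
  apply Subgroup.closure_mono
  rintro _ ⟨x, rfl⟩
  exact ⟨Sum.inl x, rfl⟩

/-- the image of the extended subgroup (from `glue_psi_zx`) -/
theorem sapgl11_map_closure (ψ : G →* Perm (Pt p k)) (a z τ : G) (l : ℕ)
    (hpsi : ∀ y : Ix p k, ψ (zx a z τ l y) = zh y) :
    (Subgroup.closure (Set.range (zx a z τ l : Ix p k → G))).map ψ =
      Subgroup.closure (Set.range (zh : Ix p k → Perm (Pt p k))) := by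
  rw [MonoidHom.map_closure]
  congr 1
  ext σ
  constructor
  · rintro ⟨_, ⟨y, rfl⟩, rfl⟩
    exact ⟨y, (hpsi y).symm⟩
  · rintro ⟨y, rfl⟩
    exact ⟨_, ⟨y, rfl⟩, hpsi y⟩

/-- GL11 on the statements of BASE4, GL10, PERM3. -/
theorem sapgl11_core [Fact p.Prime] (H : GlueHyp p k l G) (W : G)
    (ha_mem : H.a ∈ Subgroup.closure (Set.range (zo H.a H.z : ZMod p → G)))
    (hpsi : ∀ y : Ix p k, H.ψ (zx H.a H.z H.τ l y) = zh y)
    (hinj : Set.InjOn H.ψ (Subgroup.closure (Set.range (zx H.a H.z H.τ l : Ix p k → G)) : Set G))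
    (hclo : Subgroup.closure (Set.range (zh : Ix p k → Perm (Pt p k))) = alternatingGroup (Pt p k))
    (hW : W ∈ Subgroup.closure (Set.range (zx H.a H.z H.τ l : Ix p k → G)))
    (hkill : H.τ = W)
    (hgen : Subgroup.closure ({H.a, H.z, H.τ} : Set G) = ⊤) :
    Function.Injective H.ψ ∧ H.ψ.range = alternatingGroup (Pt p k) := by
  have hne : NeZero p := ⟨(Fact.out : p.Prime).ne_zero⟩
  set N : Subgroup G := Subgroup.closure (Set.range (zx H.a H.z H.τ l : Ix p k → G)) with hN
  have haN : H.a ∈ N := sapgl11_old_le H.a H.z H.τ l ha_mem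
  have hzN : H.z ∈ N := by
    have h0 : zx H.a H.z H.τ l (Sum.inl (0 : ZMod p) : Ix p k) = H.z := zo_zero H.a H.z
    rw [← h0]
    exact Subgroup.subset_closure ⟨_, rfl⟩
  have hτN : H.τ ∈ N := by rw [hkill]; exact hW
  have htop : N = ⊤ := by
    rw [eq_top_iff, ← hgen, Subgroup.closure_le]
    intro g hg
    rcases hg with rfl | rfl | rfl
    · exact haN
    · exact hzN
    · exact hτN
  refine ⟨?_, ?_⟩
  · intro x y hxy
    exact hinj (by rw [htop]; exact Subgroup.mem_top x) (by rw [htop]; exact Subgroup.mem_top y) hxy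
  · rw [MonoidHom.range_eq_map, ← htop, hN, sapgl11_map_closure H.ψ H.a H.z H.τ l hpsi, hclo]

end glue

end Cfsg.Agent.Lib.helper7.SAP
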