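import Mathlib
import Cfsg.Prelude.Def_GeometricClasses
import Cfsg.Agent.Lib.Helper27.ASC.Defs
import Cfsg.Agent.Lib.helper23.ASCO.Defs
import Cfsg.Agent.Lib.Helper19.ASG.Defs
import Cfsg.Agent.Lib.Helper1.ASGCLIF3
import Cfsg.Agent.Lib.Helper25.ASO.Defs
import Cfsg.Agent.Lib.helper23.ASE.Defs
import Cfsg.Agent.Lib.Helper27.E10P.Defs
import Cfsg.Agent.Lib.Helper25.ASOADJ
import Cfsg.Agent.Lib.Helper28.OTens
import Cfsg.Agent.Lib.Helper10.ASOCGRAMa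
import Cfsg.Agent.Lib.Helper24.ElT

set_option autoImplicit false
set_option linter.unusedVariables false
set_option linter.unusedSectionVars false

/-!
# Project E10P (leader: helper27), piece T2ISO : a tensor decomposition `2 ⊗ d` with symmetric Gram factors `A ⊗ B`, `2 ≠ 0`,
`A` isotropic: the two isotropic lines `⟨u₀⟩, ⟨u₁⟩` of `A` give two complementary totally singular `d`-spaces
`D i = {u_i ⊗ w}` permuted by the isometries in the tensor group.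
-/

namespace Cfsg.Agent.Lib.Helper27.E10P

open Cfsg Cfsg.Geo Cfsg.Agent.Lib.Helper27.ASC Cfsg.Agent.Lib.helper23.ASCO Cfsg.Agent.Lib.Helper19.ASG
  Cfsg.Agent.Lib.Helper25.ASO Cfsg.Agent.Lib.helper23.ASE
open scoped MatrixGroups Matrix Kronecker

variable {n : ℕ} {F : Type*} [Field F] [Fintype F]

omit [Fintype F] in
/-- a symmetric non-degenerate form on `F^2` (`2 ≠ 0`) with an isotropic vector `u₀` has a second isotropic vector `u₁` with
`f u₀ u₁ ≠ 0`, and every isotropic vector lies on one of the two lines. -/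
theorem e10pt2iso_pair (h2 : (2 : F) ≠ 0) {f₁ : (Fin 2 → F) → (Fin 2 → F) → F} (hf₁ : IsSymmetricForm f₁)
    (u₀ : Fin 2 → F) (hu₀ : u₀ ≠ 0) (h0 : f₁ u₀ u₀ = 0) :
    ∃ u₁ : Fin 2 → F, f₁ u₁ u₁ = 0 ∧ f₁ u₀ u₁ ≠ 0 ∧
      ∀ x, f₁ x x = 0 → (∃ c : F, x = c • u₀) ∨ (∃ c : F, x = c • u₁) := by
  classical
  have hb := hf₁.bilinear
  obtain ⟨y, hy⟩ := (hf₁.nondegenerate u₀ hu₀).2
  obtain ⟨c, hc⟩ : ∃ c, c = f₁ u₀ y := ⟨_, rfl⟩
  obtain ⟨s, hs⟩ : ∃ s, s = f₁ y y := ⟨_, rfl⟩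
  have hc0 : c ≠ 0 := by rw [hc]; exact hy
  obtain ⟨t, ht⟩ : ∃ t, t = -s / (2 * c) := ⟨_, rfl⟩
  obtain ⟨u₁, hu₁⟩ : ∃ u₁, u₁ = y + t • u₀ := ⟨_, rfl⟩
  have h01 : f₁ u₀ u₁ = c := by
    rw [hu₁, hb.add_right, hb.smul_right, h0, mul_zero, add_zero, hc]
  have h11 : f₁ u₁ u₁ = 0 := by
    rw [hu₁, hb.add_left, hb.add_right, hb.add_right, hb.smul_left, hb.smul_left, hb.smul_right, hb.smul_right, h0,
      hf₁.symm y u₀, ← hc, ← hs, ht]
    field_simp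
    ring
  have h10 : f₁ u₁ u₀ = c := by rw [hf₁.symm, h01]
  refine ⟨u₁, h11, by rw [h01]; exact hc0, ?_⟩
  -- `u₀, u₁` is a basis
  have hli : LinearIndependent F ![u₀, u₁] := by
    rw [LinearIndependent.pair_iff]
    intro a b hab
    have e1 : f₁ (a • u₀ + b • u₁) u₁ = 0 := by
      rw [hab]
      exact Cfsg.Agent.Lib.Helper28.OTens.bil_zero_left hb _
    have e2 : f₁ (a • u₀ + b • u₁) u₀ = 0 := by
      rw [hab]
      exact Cfsg.Agent.Lib.Helper28.OTens.bil_zero_left hb _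
    rw [hb.add_left, hb.smul_left, hb.smul_left, h01, h11, mul_zero, add_zero] at e1
    rw [hb.add_left, hb.smul_left, hb.smul_left, h0, h10, mul_zero, zero_add] at e2
    exact ⟨(mul_eq_zero.1 e1).resolve_right hc0, (mul_eq_zero.1 e2).resolve_right hc0⟩
  have hspan : Submodule.span F (Set.range ![u₀, u₁]) = ⊤ := by
    apply hli.span_eq_top_of_card_eq_finrank'
    rw [Fintype.card_fin, Module.finrank_fin_fun]
  intro x hx
  have hxm : x ∈ Submodule.span F (Set.range ![u₀, u₁]) := by rw [hspan]; trivial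
  obtain ⟨k, hk⟩ := (Submodule.mem_span_range_iff_exists_fun F).1 hxm
  rw [Fin.sum_univ_two] at hk
  simp only [Matrix.cons_val_zero, Matrix.cons_val_one] at hk
  have hxx : f₁ x x = 2 * (k 0 * k 1 * c) := by
    rw [← hk]
    simp only [hb.add_left, hb.add_right, hb.smul_left, hb.smul_right, h0, h11, h01, h10]
    ring
  rw [hxx] at hx
  have h3 : k 0 * k 1 = 0 := by
    have := (mul_eq_zero.1 hx).resolve_left h2
    exact (mul_eq_zero.1 this).resolve_right hc0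
  rcases mul_eq_zero.1 h3 with h | h
  · right
    exact ⟨k 1, by rw [← hk, h, zero_smul, zero_add]⟩
  · left
    exact ⟨k 0, by rw [← hk, h, zero_smul, add_zero]⟩

/-- T2ISO -/
theorem tens2_iso_pair (h2 : (2 : F) ≠ 0) (Q : QuadraticForm F (Fin n → F))
    (hQ : (QuadraticMap.polarBilin Q).Nondegenerate)
    {G : Subgroup (GL (Fin n) F)} (hGO : G ≤ isometryGroup F (⇑Q)) {d : ℕ} (hd : 1 ≤ d)
    (e : Fin n ≃ Fin 2 × Fin d) (P : GL (Fin n) F) (hGT : G ≤ tensorProductSubgroup 2 d e P)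
    (A : Matrix (Fin 2) (Fin 2) F) (B : Matrix (Fin d) (Fin d) F) (hA : IsUnit A.det) (hB : IsUnit B.det)
    (hAs : Aᵀ = A) (hBs : Bᵀ = B) (hAB : KronGram (QuadraticMap.polar (⇑Q)) e P A B)
    (hiso : ∃ u : Fin 2 → F, u ≠ 0 ∧ u ⬝ᵥ A *ᵥ u = 0) :
    ∃ D : Fin 2 → Submodule F (Fin n → F), IsMDecomposition d D ∧ (∀ i, IsTotallySingularQuad (⇑Q) (D i)) ∧
      G ≤ decompositionStabilizer D := by
  classical
  have hn : n = 2 * d := by
    have := Fintype.card_congr e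
    rwa [Fintype.card_fin, Fintype.card_prod, Fintype.card_fin, Fintype.card_fin] at this
  obtain ⟨hf₁, hg₁⟩ := asocgram_form A hAs hA.ne_zero
  obtain ⟨hf₂, hg₂⟩ := asocgram_form B hBs hB.ne_zero
  obtain ⟨u₀, hu₀, hu₀0⟩ := hiso
  obtain ⟨f₁, hf₁def⟩ : ∃ f₁ : (Fin 2 → F) → (Fin 2 → F) → F, f₁ = fun u v => u ⬝ᵥ A *ᵥ v := ⟨_, rfl⟩
  obtain ⟨f₂, hf₂def⟩ : ∃ f₂ : (Fin d → F) → (Fin d → F) → F, f₂ = fun u v => u ⬝ᵥ B *ᵥ v := ⟨_, rfl⟩
  rw [← hf₁def] at hf₁ hg₁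
  rw [← hf₂def] at hf₂ hg₂
  have h00 : f₁ u₀ u₀ = 0 := by rw [hf₁def]; exact hu₀0
  have hT' : ∀ x y : Fin 2 × Fin d → F,
      QuadraticMap.polar (⇑Q) ((P : Matrix (Fin n) (Fin n) F) *ᵥ (x ∘ e))
        ((P : Matrix (Fin n) (Fin n) F) *ᵥ (y ∘ e)) =
        (1 : F) * formOfGram id (gramMatrix f₁ ⊗ₖ gramMatrix f₂) x y := by
    intro x y
    rw [hg₁, hg₂, one_mul]
    exact hAB x y
  have htf : ∀ (α α' : Fin 2 → F) (v v' : Fin d → F),
      QuadraticMap.polar (⇑Q) (Cfsg.Agent.Lib.Helper28.OTens.tau e P α v)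
        (Cfsg.Agent.Lib.Helper28.OTens.tau e P α' v') = f₁ α α' * f₂ v v' := by
    intro α α' v v'
    rw [Cfsg.Agent.Lib.Helper28.OTens.tform e P hf₁.bilinear hf₂.bilinear hT' α α' v v', one_mul]
  obtain ⟨u₁, h11, h01, hall⟩ := e10pt2iso_pair h2 hf₁ u₀ hu₀ h00
  have h10 : f₁ u₁ u₀ ≠ 0 := by rw [hf₁.symm]; exact h01
  have hu₁ : u₁ ≠ 0 := by
    intro h
    apply h01
    rw [h]
    have := hf₁.bilinear.smul_right 0 u₀ 0
    rwa [zero_smul, zero_mul] at this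
  -- the frame
  obtain ⟨X, hX⟩ : ∃ X : Fin 2 → (Fin 2 → F), X = ![u₀, u₁] := ⟨_, rfl⟩
  have hX0 : X 0 = u₀ := by rw [hX]; rfl
  have hX1 : X 1 = u₁ := by rw [hX]; rfl
  have hXne : ∀ i, X i ≠ 0 := by
    intro i
    fin_cases i
    · exact hX0 ▸ hu₀
    · exact hX1 ▸ hu₁
  have hXX : ∀ i, f₁ (X i) (X i) = 0 := by
    intro i
    fin_cases i
    · show f₁ (X 0) (X 0) = 0
      rw [hX0]; exact h00
    · show f₁ (X 1) (X 1) = 0
      rw [hX1]; exact h11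
  have hXo : ∀ i j, i ≠ j → f₁ (X i) (X j) ≠ 0 := by
    intro i j hij
    fin_cases i <;> fin_cases j
    · exact absurd rfl hij
    · show f₁ (X 0) (X 1) ≠ 0
      rw [hX0, hX1]; exact h01
    · show f₁ (X 1) (X 0) ≠ 0
      rw [hX0, hX1]; exact h10
    · exact absurd rfl hij
  have hXall : ∀ x, f₁ x x = 0 → ∃ i, ∃ c : F, x = c • X i := by
    intro x hx
    rcases hall x hx with ⟨c, hc⟩ | ⟨c, hc⟩
    · exact ⟨0, c, by rw [hX0]; exact hc⟩
    · exact ⟨1, c, by rw [hX1]; exact hc⟩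
  -- the blocks
  obtain ⟨D, hD⟩ : ∃ D : Fin 2 → Submodule F (Fin n → F),
      ∀ i, D i = Cfsg.Agent.Lib.Helper28.OTens.blk e P (X i) := ⟨_, fun _ => rfl⟩
  have hmem : ∀ i w, w ∈ D i ↔ ∃ v, Cfsg.Agent.Lib.Helper28.OTens.tau e P (X i) v = w := by
    intro i w
    rw [hD]
    exact Cfsg.Agent.Lib.Helper28.OTens.mem_blk e P (X i) w
  have hts : ∀ i, IsTotallySingularQuad (⇑Q) (D i) := by
    intro i w hw
    obtain ⟨v, rfl⟩ := (hmem i w).1 hw
    have h1 := QuadraticMap.polar_self Q (Cfsg.Agent.Lib.Helper28.OTens.tau e P (X i) v)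
    rw [htf, hXX, zero_mul] at h1
    simp only [nsmul_eq_mul, Nat.cast_ofNat] at h1
    exact (mul_eq_zero.1 h1.symm).resolve_left h2
  have hfr : ∀ i, Module.finrank F (D i) = d := by
    intro i
    rw [hD]
    exact Cfsg.Agent.Lib.Helper28.OTens.blk_finrank e P (hXne i)
  have hzero : ∀ α : Fin 2 → F, Cfsg.Agent.Lib.Helper28.OTens.tau e P α (0 : Fin d → F) = 0 := by
    intro α
    have := Cfsg.Agent.Lib.Helper28.OTens.tau_smul_right e P (0 : F) α (0 : Fin d → F)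
    rw [zero_smul, zero_smul] at this
    exact this
  have hdisj : ∀ i j, i ≠ j → Disjoint (D i) (D j) := by
    intro i j hij
    rw [Submodule.disjoint_def]
    intro x hxi hxj
    obtain ⟨v, rfl⟩ := (hmem i x).1 hxi
    obtain ⟨v', hv'⟩ := (hmem j _).1 hxj
    have hv0 : v = 0 := by
      by_contra hv0
      obtain ⟨_, ⟨w, hw⟩⟩ := hf₂.nondegenerate v hv0
      have e1 := htf (X i) (X j) v w
      have e2 := htf (X j) (X j) v' w
      rw [hv', e1, hXX, zero_mul] at e2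
      exact mul_ne_zero (hXo i j hij) hw e2
    rw [hv0, hzero]
  have hind : iSupIndep D := by
    rw [iSupIndep_pair (i := (0 : Fin 2)) (j := (1 : Fin 2)) (by decide) (by intro k; fin_cases k <;> simp)]
    exact hdisj 0 1 (by decide)
  have htop : iSup D = ⊤ := by
    apply Submodule.eq_top_of_finrank_eq
    rw [Cfsg.Agent.Lib.Helper24.el_finrank_iSup D hind, Module.finrank_fin_fun]
    simp only [hfr, Finset.sum_const, Finset.card_univ, Fintype.card_fin, smul_eq_mul]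
    omega
  refine ⟨D, ⟨le_refl 2, hd, hfr, hind, htop⟩, hts, ?_⟩
  -- the stabiliser
  intro g hg
  have hisog : ∀ x y, QuadraticMap.polar (⇑Q) ((g : Matrix (Fin n) (Fin n) F) *ᵥ x)
      ((g : Matrix (Fin n) (Fin n) F) *ᵥ y) = QuadraticMap.polar (⇑Q) x y :=
    fun x y => asoadj_iso_polar Q g (hGO hg) x y
  have hnd₂ : ∃ v v', f₂ v v' ≠ 0 := by
    have hv0 : (Pi.single (⟨0, hd⟩ : Fin d) (1 : F) : Fin d → F) ≠ 0 := by
      intro h
      have := congrFun h ⟨0, hd⟩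
      simp at this
    obtain ⟨⟨x, hx⟩, _⟩ := hf₂.nondegenerate _ hv0
    exact ⟨x, _, hx⟩
  obtain ⟨a, b, hact⟩ := Cfsg.Agent.Lib.Helper28.OTens.tens_act e P g (hGT hg)
  obtain ⟨l, hl, hsim⟩ := Cfsg.Agent.Lib.Helper28.OTens.sim_of_iso e P hf₁.bilinear hf₂.bilinear one_ne_zero hT'
    ⟨X 0, X 1, hXo 0 1 (by decide)⟩ hnd₂ g _ _ hact hisog
  have haX : ∀ i, ∃ j, ∃ c : F, (a : Matrix (Fin 2) (Fin 2) F) *ᵥ X i = c • X j := fun i =>
    hXall _ (by rw [hsim, hXX, mul_zero])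
  choose σ₀ cc hσ₀ using haX
  have hinj : Function.Injective σ₀ := by
    intro i i' hii
    by_contra hne
    have h1 := hsim (X i) (X i')
    rw [hσ₀ i, hσ₀ i', ← hii, hf₁.bilinear.smul_left, hf₁.bilinear.smul_right, hXX, mul_zero, mul_zero] at h1
    exact mul_ne_zero hl (hXo i i' hne) h1.symm
  have hcc : ∀ i, cc i ≠ 0 := by
    intro i h0
    obtain ⟨i', hi'⟩ : ∃ i', i ≠ i' := by
      fin_cases i
      · exact ⟨1, by decide⟩
      · exact ⟨0, by decide⟩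
    have h1 := hsim (X i) (X i')
    rw [hσ₀ i, h0, zero_smul, Cfsg.Agent.Lib.Helper28.OTens.bil_zero_left hf₁.bilinear] at h1
    exact mul_ne_zero hl (hXo i i' hi') h1.symm
  refine ⟨Equiv.ofBijective σ₀ (Finite.injective_iff_bijective.1 hinj), fun i => ?_⟩
  show (D i).map (Matrix.toLin' (g : Matrix (Fin n) (Fin n) F)) = D (σ₀ i)
  ext w
  constructor
  · rintro ⟨w₀, hw₀, rfl⟩
    obtain ⟨v, rfl⟩ := (hmem i w₀).1 hw₀
    rw [Matrix.toLin'_apply, hact, hσ₀ i, Cfsg.Agent.Lib.Helper28.OTens.tau_smul_left,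
      ← Cfsg.Agent.Lib.Helper28.OTens.tau_smul_right]
    exact (hmem _ _).2 ⟨_, rfl⟩
  · intro hw
    obtain ⟨v', rfl⟩ := (hmem _ w).1 hw
    have hbb : ∀ v, (b : Matrix (Fin d) (Fin d) F) *ᵥ
        (((b⁻¹ : Matrix.GeneralLinearGroup (Fin d) F) : Matrix (Fin d) (Fin d) F) *ᵥ v) = v :=
      fun v => Cfsg.Agent.Lib.Helper28.DecGen.gl_cancel' b v
    refine ⟨Cfsg.Agent.Lib.Helper28.OTens.tau e P (X i) (((b⁻¹ : Matrix.GeneralLinearGroup (Fin d) F) :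
      Matrix (Fin d) (Fin d) F) *ᵥ ((cc i)⁻¹ • v')), (hmem i _).2 ⟨_, rfl⟩, ?_⟩
    rw [Matrix.toLin'_apply, hact, hbb, hσ₀ i, Cfsg.Agent.Lib.Helper28.OTens.tau_smul_left,
      Cfsg.Agent.Lib.Helper28.OTens.tau_smul_right, smul_smul, mul_inv_cancel₀ (hcc i), one_smul]

end Cfsg.Agent.Lib.Helper27.E10P
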