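import Mathlib
import Cfsg.Agent.Lib.Helper27.MSS.Base

/-!
Project MSS (S5287), piece FUS : `exists_fusing` (pure `2 × 2` matrix algebra).
-/

set_option autoImplicit false

namespace Cfsg.Agent.Lib.Helper27.MSS

section FUS

variable {K : Type*} [Field K]

/-- a `2 × 2` matrix with square `-1` has trace zero, when `-1` is not a square -/
theorem mssfus_trace (hns : ∀ x : K, x ^ 2 ≠ -1) (M : Matrix (Fin 2) (Fin 2) K)
    (hM : M * M = -1) : M.trace = 0 := by
  rw [Matrix.trace_fin_two]
  by_contra hne
  have h01 := congrFun (congrFun hM 0) 1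
  have h10 := congrFun (congrFun hM 1) 0
  have h00 := congrFun (congrFun hM 0) 0
  simp only [Matrix.mul_apply, Fin.sum_univ_two, Matrix.neg_apply, Matrix.one_apply_eq,
    Matrix.one_apply_ne, ne_eq, zero_ne_one, one_ne_zero, not_false_eq_true, neg_zero,
    Fin.isValue] at h01 h10 h00
  have hb : M 0 1 = 0 := by
    have : M 0 1 * (M 0 0 + M 1 1) = 0 := by linear_combination h01
    rcases mul_eq_zero.mp this with h | h
    · exact h
    · exact absurd h hne
  have hc : M 1 0 = 0 := by
    have : M 1 0 * (M 0 0 + M 1 1) = 0 := by linear_combination h10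
    rcases mul_eq_zero.mp this with h | h
    · exact h
    · exact absurd h hne
  apply hns (M 0 0)
  rw [hb, zero_mul, add_zero] at h00
  rw [pow_two]
  exact h00

/-- the adjugate of a `2 × 2` matrix -/
theorem mssfus_adjugate (M : Matrix (Fin 2) (Fin 2) K) :
    M.adjugate = M.trace • (1 : Matrix (Fin 2) (Fin 2) K) - M := by
  rw [Matrix.adjugate_fin_two, Matrix.trace_fin_two]
  ext i j
  fin_cases i <;> fin_cases j <;> simp

variable {R : Type*} [Ring R]

theorem mssfus_kk (U W : R) (hU : U * U = -1) (hW : W * W = -1) (hWU : W * U = -(U * W)) :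
    U * W * (U * W) = -1 := by
  calc U * W * (U * W) = U * (W * U) * W := by noncomm_ring
    _ = -(U * U * (W * W)) := by rw [hWU]; noncomm_ring
    _ = -1 := by rw [hU, hW]; noncomm_ring

theorem mssfus_sq (U W : R) (hU : U * U = -1) (hW : W * W = -1) (hWU : W * U = -(U * W)) :
    (U + W + U * W) * (U + W + U * W) = -(1 + 1 + 1) := by
  have hkk := mssfus_kk U W hU hW hWU
  have e1 : U * (U * W) = -W := by
    rw [← mul_assoc, hU]; noncomm_ring
  have e2 : U * W * U = W := by
    rw [mul_assoc, hWU]
    calc U * -(U * W) = -(U * U * W) := by noncomm_ring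
      _ = W := by rw [hU]; noncomm_ring
  have e3 : W * (U * W) = U := by
    rw [← mul_assoc, hWU]
    calc -(U * W) * W = -(U * (W * W)) := by noncomm_ring
      _ = U := by rw [hW]; noncomm_ring
  have e4 : U * W * W = -U := by
    rw [mul_assoc, hW]; noncomm_ring
  calc (U + W + U * W) * (U + W + U * W)
      = U * U + W * W + U * W * (U * W) + (U * W + W * U) + (U * (U * W) + U * W * U) +
          (W * (U * W) + U * W * W) := by noncomm_ring
    _ = -(1 + 1 + 1) := by
      rw [hU, hW, hkk, hWU, e1, e2, e3, e4]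
      abel

theorem mssfus_conj (U W : R) (hU : U * U = -1) (hW : W * W = -1) (hWU : W * U = -(U * W)) :
    (-1 + U + W + U * W) * U = U * W * (-1 + U + W + U * W) := by
  have hkk := mssfus_kk U W hU hW hWU
  have e2 : U * W * U = W := by
    rw [mul_assoc, hWU]
    calc U * -(U * W) = -(U * U * W) := by noncomm_ring
      _ = W := by rw [hU]; noncomm_ring
  have e4 : U * W * W = -U := by
    rw [mul_assoc, hW]; noncomm_ring
  calc (-1 + U + W + U * W) * U = -U + U * U + W * U + U * W * U := by noncomm_ring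
    _ = -U + -1 + -(U * W) + W := by rw [hU, hWU, e2]
    _ = -(U * W) + W + -U + -1 := by abel
    _ = -(U * W) + U * W * U + U * W * W + U * W * (U * W) := by rw [e2, e4, hkk]
    _ = U * W * (-1 + U + W + U * W) := by noncomm_ring

end FUS

/-- FUS -/
theorem exists_fusing {K : Type*} [Field K] (h2 : (2 : K) ≠ 0) (hns : ∀ x : K, x ^ 2 ≠ -1)
    (u w : GL (Fin 2) K) (hu : u ^ 2 = -1) (hw : w ^ 2 = -1) (huw : w * u = -(u * w)) :
    ∃ g : GL (Fin 2) K, Matrix.GeneralLinearGroup.det g = 1 ∧ g * u * g⁻¹ = u * w := by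
  set U : Matrix (Fin 2) (Fin 2) K := (u : Matrix (Fin 2) (Fin 2) K) with hUdef
  set W : Matrix (Fin 2) (Fin 2) K := (w : Matrix (Fin 2) (Fin 2) K) with hWdef
  have hU : U * U = -1 := by
    have := congrArg (fun x : GL (Fin 2) K => (x : Matrix (Fin 2) (Fin 2) K)) hu
    simpa [pow_two] using this
  have hW : W * W = -1 := by
    have := congrArg (fun x : GL (Fin 2) K => (x : Matrix (Fin 2) (Fin 2) K)) hw
    simpa [pow_two] using this
  have hWU : W * U = -(U * W) := by
    have := congrArg (fun x : GL (Fin 2) K => (x : Matrix (Fin 2) (Fin 2) K)) huw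
    simpa using this
  have hkk := mssfus_kk U W hU hW hWU
  have hsq := mssfus_sq U W hU hW hWU
  have hconj := mssfus_conj U W hU hW hWU
  have htU := mssfus_trace hns U hU
  have htW := mssfus_trace hns W hW
  have htUW := mssfus_trace hns (U * W) hkk
  set A : Matrix (Fin 2) (Fin 2) K := U + W + U * W with hA
  set G0 : Matrix (Fin 2) (Fin 2) K := (2 : K)⁻¹ • (-1 + A) with hG0
  set G1 : Matrix (Fin 2) (Fin 2) K := (2 : K)⁻¹ • (-1 - A) with hG1
  have h4 : (2 : K)⁻¹ * (2 : K)⁻¹ * 4 = 1 := by
    have : (4 : K) = 2 * 2 := by norm_num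
    rw [this]
    field_simp
  have hmul : G0 * G1 = 1 := by
    rw [hG0, hG1, Matrix.smul_mul, Matrix.mul_smul, smul_smul]
    have : (-1 + A) * (-1 - A) = (4 : K) • (1 : Matrix (Fin 2) (Fin 2) K) := by
      calc (-1 + A) * (-1 - A) = 1 - A * A := by noncomm_ring
        _ = 1 - (-(1 + 1 + 1)) := by rw [hsq]
        _ = (4 : K) • (1 : Matrix (Fin 2) (Fin 2) K) := by
          rw [sub_neg_eq_add]
          ext i j
          fin_cases i <;> fin_cases j <;> simp <;> norm_num
    rw [this, smul_smul, h4, one_smul]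
  have hmul' : G1 * G0 = 1 := mul_eq_one_comm.mp hmul
  have htr : G0.trace = -1 := by
    rw [hG0, Matrix.trace_smul, Matrix.trace_add, Matrix.trace_neg, Matrix.trace_one, hA,
      Matrix.trace_add, Matrix.trace_add, htU, htW, htUW]
    simp only [Fintype.card_fin, Nat.cast_ofNat, add_zero, smul_eq_mul]
    field_simp
  have hadj : G0.adjugate = G1 := by
    rw [mssfus_adjugate, htr, hG0, hG1]
    ext i j
    simp only [Matrix.sub_apply, Matrix.smul_apply, Matrix.add_apply, Matrix.neg_apply,
      smul_eq_mul]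
    field_simp
    ring
  have hdet : G0.det = 1 := by
    have h1 := Matrix.mul_adjugate G0
    rw [hadj, hmul] at h1
    have h2 := congrFun (congrFun h1 0) 0
    simp only [Matrix.one_apply_eq, Matrix.smul_apply, smul_eq_mul, mul_one] at h2
    exact h2.symm
  refine ⟨⟨G0, G1, hmul, hmul'⟩, ?_, ?_⟩
  · apply Units.ext
    rw [Matrix.GeneralLinearGroup.val_det_apply]
    exact hdet
  · apply Units.ext
    show G0 * U * G1 = U * W
    have h5 : G0 * U = U * W * G0 := by
      rw [hG0, Matrix.smul_mul, Matrix.mul_smul]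
      congr 1
      have e : (-1 : Matrix (Fin 2) (Fin 2) K) + A = -1 + U + W + U * W := by
        rw [hA]; abel
      rw [e]
      exact hconj
    rw [h5, mul_assoc, hmul, mul_one]

end Cfsg.Agent.Lib.Helper27.MSS
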