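import Mathlib
import Cfsg.Agent.S1952
import Cfsg.Agent.Lib.Helper1.Frat

set_option autoImplicit false
open MulAction Subgroup
open scoped commutatorElement

namespace Cfsg.Agent.Lib.Helper29.Yoshida

section T1
variable {𝔾 : Type*} [Group 𝔾] {A : Type*} [CommGroup A]

noncomputable def ext1 (H : Subgroup 𝔾) (ϕ : H →* A) (u : 𝔾) : A := by
  classical exact if h : u ∈ H then ϕ ⟨u, h⟩ else 1

theorem ext1_of_mem (H : Subgroup 𝔾) (ϕ : H →* A) {u : 𝔾} (h : u ∈ H) : ext1 H ϕ u = ϕ ⟨u, h⟩ := by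
  unfold ext1; simp [h]

theorem ext1_of_not_mem (H : Subgroup 𝔾) (ϕ : H →* A) {u : 𝔾} (h : u ∉ H) : ext1 H ϕ u = 1 := by
  unfold ext1; simp [h]

theorem ext1_conj (H : Subgroup 𝔾) (ϕ : H →* A) (u : 𝔾) {s : 𝔾} (hs : s ∈ H) :
    ext1 H ϕ (s⁻¹ * u * s) = ext1 H ϕ u := by
  by_cases h : u ∈ H
  · have h' : s⁻¹ * u * s ∈ H := H.mul_mem (H.mul_mem (H.inv_mem hs) h) hs
    rw [ext1_of_mem H ϕ h, ext1_of_mem H ϕ h']
    have : (⟨s⁻¹ * u * s, h'⟩ : H) = (⟨s, hs⟩ : H)⁻¹ * ⟨u, h⟩ * ⟨s, hs⟩ := rfl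
    rw [this, map_mul, map_mul, map_inv, mul_comm, ← mul_assoc, mul_inv_cancel, one_mul]
  · have h' : s⁻¹ * u * s ∉ H := by
      intro h2
      apply h
      have := H.mul_mem (H.mul_mem hs h2) (H.inv_mem hs)
      simpa [mul_assoc] using this
    rw [ext1_of_not_mem H ϕ h, ext1_of_not_mem H ϕ h']

/-- value at any representative of a coset -/
theorem ext1_out (H : Subgroup 𝔾) (ϕ : H →* A) (u r : 𝔾) :
    ext1 H ϕ ((r : 𝔾 ⧸ H).out⁻¹ * u * (r : 𝔾 ⧸ H).out) = ext1 H ϕ (r⁻¹ * u * r) := by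
  obtain ⟨s, hs⟩ : ∃ s : H, (r : 𝔾 ⧸ H).out = r * s := by
    have := QuotientGroup.mk_out_eq_mul H r
    obtain ⟨s, hs⟩ := this
    exact ⟨s, hs⟩
  rw [hs]
  have : (r * (s : 𝔾))⁻¹ * u * (r * s) = (s : 𝔾)⁻¹ * (r⁻¹ * u * r) * s := by group
  rw [this, ext1_conj H ϕ _ s.2]


/-- fixed point criterion -/
theorem smul_eq_iff_conj_mem (H : Subgroup 𝔾) (g r : 𝔾) :
    g • (r : 𝔾 ⧸ H) = (r : 𝔾 ⧸ H) ↔ r⁻¹ * g * r ∈ H := by
  rw [MulAction.Quotient.smul_mk, smul_eq_mul, eq_comm, QuotientGroup.eq, ← mul_assoc]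

theorem smul_out_eq_iff (H : Subgroup 𝔾) (g : 𝔾) (q : 𝔾 ⧸ H) :
    g • q = q ↔ q.out⁻¹ * g * q.out ∈ H := by
  conv_lhs => rw [← QuotientGroup.out_eq' q]
  exact smul_eq_iff_conj_mem H g q.out

theorem transfer_eq_prod_fixed [Finite 𝔾] (H : Subgroup 𝔾) (ϕ : H →* A) (g : 𝔾) [Fintype (𝔾 ⧸ H)]
    (hvan : ∀ (k : ℕ) (g₀ : 𝔾), 1 < k → k ∣ orderOf g → ∀ hk : g₀⁻¹ * g ^ k * g₀ ∈ H,
      ϕ ⟨g₀⁻¹ * g ^ k * g₀, hk⟩ = 1) :
    MonoidHom.transfer ϕ g = ∏ q : 𝔾 ⧸ H, ext1 H ϕ (q.out⁻¹ * g * q.out) := by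
  classical
  letI : Fintype (Quotient (orbitRel (zpowers g) (𝔾 ⧸ H))) := Fintype.ofFinite _
  rw [MonoidHom.transfer_eq_prod_quotient_orbitRel_zpowers_quot,
    ← (quotientEquivSigmaZMod H g).symm.prod_comp, Fintype.prod_sigma]
  refine Fintype.prod_congr _ _ (fun q => ?_)
  have hpt : ∀ k : ZMod (Function.minimalPeriod (g • ·) q.out),
      (quotientEquivSigmaZMod H g).symm ⟨q, k⟩ = g ^ (ZMod.cast k : ℤ) • q.out := fun k => rfl
  by_cases hper : Function.minimalPeriod (g • ·) q.out = 1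
  · -- fixed point
    have hfix : g • q.out = q.out := Function.minimalPeriod_eq_one_iff_isFixedPt.mp hper
    have hfixk : ∀ k : ℤ, g ^ k • q.out = q.out := by
      intro k
      have h1 : (⟨g, mem_zpowers g⟩ : zpowers g) ^ k • q.out = q.out := by
        have hstab : (⟨g, mem_zpowers g⟩ : zpowers g) ∈ MulAction.stabilizer (zpowers g) q.out := hfix
        exact (Subgroup.zpow_mem _ hstab k)
      exact h1
    have hterm : ∀ k : ZMod (Function.minimalPeriod (g • ·) q.out),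
        ext1 H ϕ (((quotientEquivSigmaZMod H g).symm ⟨q, k⟩).out⁻¹ * g *
          ((quotientEquivSigmaZMod H g).symm ⟨q, k⟩).out) =
        ϕ ⟨q.out.out⁻¹ * g ^ Function.minimalPeriod (g • ·) q.out * q.out.out,
          QuotientGroup.out_conj_pow_minimalPeriod_mem H g q.out⟩ := by
      intro k
      rw [hpt, hfixk]
      have hmem : q.out.out⁻¹ * g * q.out.out ∈ H := (smul_out_eq_iff H g q.out).mp hfix
      rw [ext1_of_mem H ϕ hmem]
      congr 1
      apply Subtype.ext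
      simp [hper]
    rw [Finset.prod_congr rfl (fun k _ => hterm k), Finset.prod_const, Finset.card_univ, ZMod.card]
    generalize ϕ ⟨q.out.out⁻¹ * g ^ Function.minimalPeriod (g • ·) q.out * q.out.out,
          QuotientGroup.out_conj_pow_minimalPeriod_mem H g q.out⟩ = c
    rw [hper, pow_one]
  · have hne : ∀ k : ZMod (Function.minimalPeriod (g • ·) q.out),
        ext1 H ϕ (((quotientEquivSigmaZMod H g).symm ⟨q, k⟩).out⁻¹ * g *
          ((quotientEquivSigmaZMod H g).symm ⟨q, k⟩).out) = 1 := by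
      intro k
      apply ext1_of_not_mem
      intro hmem
      rw [← smul_out_eq_iff, hpt] at hmem
      apply hper
      rw [Function.minimalPeriod_eq_one_iff_isFixedPt]
      show g • q.out = q.out
      have h2 : g ^ (ZMod.cast k : ℤ) • (g • q.out) = g ^ (ZMod.cast k : ℤ) • q.out := by
        rw [← mul_smul, ← zpow_add_one, add_comm, zpow_one_add, mul_smul]
        exact hmem
      exact smul_left_cancel _ h2
    rw [Finset.prod_congr rfl (fun k _ => hne k), Finset.prod_const_one]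
    apply hvan
    · have h0 : Function.minimalPeriod (g • ·) q.out ≠ 0 := NeZero.ne _
      omega
    · apply Function.IsPeriodicPt.minimalPeriod_dvd
      show (g • ·)^[orderOf g] q.out = q.out
      rw [smul_iterate, pow_orderOf_eq_one]
      exact one_smul _ _

end T1


section T0
variable {𝔾 : Type*} [Group 𝔾] {A : Type*} [CommGroup A]

theorem transfer_eq_pow_index [Finite 𝔾] (H : Subgroup 𝔾) (ϕ : H →* A) (g : 𝔾) (c : A)
    (hc : ∀ (k : ℕ) (g₀ : 𝔾), ∀ hk : g₀⁻¹ * g ^ k * g₀ ∈ H, ϕ ⟨g₀⁻¹ * g ^ k * g₀, hk⟩ = c ^ k) :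
    MonoidHom.transfer ϕ g = c ^ H.index := by
  classical
  letI : Fintype (Quotient (orbitRel (zpowers g) (𝔾 ⧸ H))) := Fintype.ofFinite _
  rw [MonoidHom.transfer_eq_prod_quotient_orbitRel_zpowers_quot, index_eq_sum_minimalPeriod H g,
    ← Finset.prod_pow_eq_pow_sum]
  refine Fintype.prod_congr _ _ (fun q => ?_)
  exact hc _ _ _

end T0

def HasWreath (p : ℕ) [Fact p.Prime] (P : Type*) [Group P] : Prop :=
  ∃ (Q : Sylow p (Equiv.Perm (Fin (p ^ 2)))) (f : P →* ↥(Q : Subgroup (Equiv.Perm (Fin (p ^ 2))))),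
    Function.Surjective f

theorem HasWreath.of_surjective {p : ℕ} [Fact p.Prime] {P P₁ : Type*} [Group P] [Group P₁]
    (π : P →* P₁) (hπ : Function.Surjective π) (h : HasWreath p P₁) : HasWreath p P := by
  obtain ⟨Q, f, hf⟩ := h
  exact ⟨Q, f.comp π, hf.comp hπ⟩

theorem zmod_pow (p : ℕ) (c : Multiplicative (ZMod p)) : c ^ p = 1 := by
  show Multiplicative.ofAdd (p • Multiplicative.toAdd c) = 1
  simp

theorem wreath_Z {P : Type*} [Group P] [Finite P] {p : ℕ} [Fact p.Prime] (hP : IsPGroup p P)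
    (M : Subgroup P) [M.Normal] (hidx : M.index = p) (μ : M →* Multiplicative (ZMod p))
    (x y : P) (hx : x ∈ M) (hy : y ∉ M) (z : M)
    (hz : (z : P) = ((List.range p).map (fun i => (y ^ i)⁻¹ * x * y ^ i)).prod)
    (hμ : μ z ≠ 1) : HasWreath p P := by
  -- the core of the kernel
  set L : Subgroup P := μ.ker.map M.subtype with hL
  have hLM : L ≤ M := by rintro _ ⟨a, _, rfl⟩; exact a.2
  have hmemL : ∀ (m : P) (hm : m ∈ M), μ ⟨m, hm⟩ = 1 → m ∈ L := fun m hm h => ⟨⟨m, hm⟩, h, rfl⟩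
  have hLmem : ∀ (m : P) (hm : m ∈ M), m ∈ L → μ ⟨m, hm⟩ = 1 := by
    rintro m hm ⟨a, ha, hEq⟩
    have : a = ⟨m, hm⟩ := Subtype.ext hEq
    rw [← this]; exact ha
  set K : Subgroup P := L.normalCore with hK
  have hKL : K ≤ L := Subgroup.normalCore_le L
  have hKM : K ≤ M := hKL.trans hLM
  have hconj : ∀ (g m : P), m ∈ M → g * m * g⁻¹ ∈ M := fun g m hm => ‹M.Normal›.conj_mem m hm g
  -- p-th powers of M lie in K
  have hpowK : ∀ m ∈ M, m ^ p ∈ K := by
    intro m hm g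
    have h1 : g * m ^ p * g⁻¹ = (g * m * g⁻¹) ^ p := by rw [conj_pow]
    rw [h1]
    apply hmemL _ (M.pow_mem (hconj g m hm) p)
    have : (⟨(g * m * g⁻¹) ^ p, M.pow_mem (hconj g m hm) p⟩ : M) = ⟨g * m * g⁻¹, hconj g m hm⟩ ^ p := rfl
    rw [this, map_pow, zmod_pow]
  -- commutators of M lie in K
  have hcommK : ∀ m₁ ∈ M, ∀ m₂ ∈ M, (m₂ * m₁)⁻¹ * (m₁ * m₂) ∈ K := by
    intro m₁ h1 m₂ h2 g
    have hc1 := hconj g m₁ h1
    have hc2 := hconj g m₂ h2
    have h3 : g * ((m₂ * m₁)⁻¹ * (m₁ * m₂)) * g⁻¹ =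
        ((g * m₂ * g⁻¹) * (g * m₁ * g⁻¹))⁻¹ * ((g * m₁ * g⁻¹) * (g * m₂ * g⁻¹)) := by group
    rw [h3]
    have hmem : ((g * m₂ * g⁻¹) * (g * m₁ * g⁻¹))⁻¹ * ((g * m₁ * g⁻¹) * (g * m₂ * g⁻¹)) ∈ M :=
      M.mul_mem (M.inv_mem (M.mul_mem hc2 hc1)) (M.mul_mem hc1 hc2)
    apply hmemL _ hmem
    have : (⟨_, hmem⟩ : M) = ((⟨_, hc2⟩ : M) * ⟨_, hc1⟩)⁻¹ * ((⟨_, hc1⟩ : M) * ⟨_, hc2⟩) := rfl
    rw [this, map_mul, map_inv, map_mul, map_mul, mul_comm (μ ⟨_, hc2⟩), inv_mul_cancel]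
  -- the quotient
  let π : P →* P ⧸ K := QuotientGroup.mk' K
  have hπ : Function.Surjective π := QuotientGroup.mk'_surjective K
  let Abar : Subgroup (P ⧸ K) := M.map π
  haveI : Abar.Normal := Subgroup.Normal.map ‹M.Normal› π hπ
  have hAidx : Abar.index = p := by
    rw [Subgroup.index_map_eq _ hπ (by rw [QuotientGroup.ker_mk']; exact hKM), hidx]
  have hAel : Cfsg.IsElementaryAbelian p Abar := by
    constructor
    · refine ⟨⟨?_⟩⟩
      rintro ⟨a, m₁, h1, rfl⟩ ⟨b, m₂, h2, rfl⟩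
      apply Subtype.ext
      show π m₁ * π m₂ = π m₂ * π m₁
      rw [← map_mul, ← map_mul, eq_comm]
      exact (QuotientGroup.eq).mpr (hcommK m₁ h1 m₂ h2)
    · rintro a ⟨m, hm, rfl⟩
      rw [← map_pow]
      exact (QuotientGroup.eq_one_iff _).mpr (hpowK m hm)
  have hxA : π x ∈ Abar := ⟨x, hx, rfl⟩
  have hyA : π y ∉ Abar := by
    rintro ⟨m, hm, hEq⟩
    apply hy
    have : m⁻¹ * y ∈ K := (QuotientGroup.eq).mp hEq
    have h2 := M.mul_mem hm (hKM this)
    simpa using h2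
  have hprod : ((List.range p).map (fun i => (π y ^ i)⁻¹ * π x * π y ^ i)).prod ≠ 1 := by
    have h1 : ((List.range p).map (fun i => (π y ^ i)⁻¹ * π x * π y ^ i)).prod = π (z : P) := by
      rw [hz, map_list_prod, List.map_map]
      congr 1
    rw [h1]
    intro h
    have hzK : (z : P) ∈ K := (QuotientGroup.eq_one_iff _).mp h
    exact hμ (hLmem _ z.2 (hKL hzK))
  have hPbar : IsPGroup p (P ⧸ K) := hP.to_quotient K
  obtain ⟨Q, f, hf⟩ := Cfsg.Agent.S1952.result hPbar Abar hAel hAidx (π x) (π y) hxA hyA hprod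
  exact HasWreath.of_surjective π hπ ⟨Q, f, hf⟩


theorem sep_aux {p : ℕ} [Fact p.Prime] {A : Type*} [CommGroup A] [Module (ZMod p) (Additive A)]
    (a : A) (ha : a ≠ 1) : ∃ χ : A →* Multiplicative (ZMod p), χ a ≠ 1 := by
  have h0 : Additive.ofMul a ≠ 0 := fun h => ha (by simpa using h)
  obtain ⟨φ, hφ⟩ := Module.Projective.exists_dual_ne_zero (ZMod p) h0
  refine ⟨AddMonoidHom.toMultiplicativeRight φ.toAddMonoidHom, ?_⟩
  intro h
  apply hφ
  exact h

theorem sep {p : ℕ} [Fact p.Prime] {A : Type*} [CommGroup A] (hexp : ∀ a : A, a ^ p = 1)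
    (a : A) (ha : a ≠ 1) : ∃ χ : A →* Multiplicative (ZMod p), χ a ≠ 1 := by
  let _ : Module (ZMod p) (Additive A) := AddCommGroup.zmodModule (n := p) (fun v => by
    show Additive.ofMul ((Additive.toMul v) ^ p) = 0
    rw [hexp]; rfl)
  exact sep_aux a ha


theorem prod_quot_trans {𝔓 : Type*} [Group 𝔓] [Finite 𝔓] {A : Type*} [CommMonoid A]
    (S M : Subgroup 𝔓) (hSM : S ≤ M) (f : 𝔓 → A) (hf : ∀ r s, s ∈ S → f (r * s) = f r)
    [Fintype (𝔓 ⧸ S)] [Fintype (𝔓 ⧸ M)] [Fintype (M ⧸ S.subgroupOf M)] :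
    ∏ q : 𝔓 ⧸ S, f q.out = ∏ Q : 𝔓 ⧸ M, ∏ q' : M ⧸ S.subgroupOf M, f (Q.out * (q'.out : 𝔓)) := by
  rw [← Fintype.prod_prod_type']
  symm
  apply Fintype.prod_equiv (Subgroup.quotientEquivProdOfLE hSM).symm
  rintro ⟨Q, q'⟩
  have h1 : (Subgroup.quotientEquivProdOfLE hSM).symm (Q, q') =
      ((Q.out * (q'.out : 𝔓) : 𝔓) : 𝔓 ⧸ S) := by
    conv_lhs => rw [← QuotientGroup.out_eq' q']
    rfl
  rw [h1]
  obtain ⟨s, hs⟩ := QuotientGroup.mk_out_eq_mul S (Q.out * (q'.out : 𝔓))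
  rw [hs, hf _ _ s.2]


theorem prod_quot_prime {𝔓 : Type*} [Group 𝔓] [Finite 𝔓] {A : Type*} [CommMonoid A] {p : ℕ}
    [Fact p.Prime] (M : Subgroup 𝔓) [M.Normal] (hidx : M.index = p) (y : 𝔓) (hy : y ∉ M)
    [Fintype (𝔓 ⧸ M)] (g : 𝔓 ⧸ M → A) :
    ∏ Q : 𝔓 ⧸ M, g Q = ∏ i ∈ Finset.range p, g ((y ^ i : 𝔓) : 𝔓 ⧸ M) := by
  classical
  have hp := (Fact.out : p.Prime)
  have hcard : Nat.card (𝔓 ⧸ M) = p := by rw [← Subgroup.index_eq_card, hidx]
  have hy1 : (y : 𝔓 ⧸ M) ≠ 1 := fun h => hy ((QuotientGroup.eq_one_iff y).mp h)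
  have hord : orderOf (y : 𝔓 ⧸ M) = p := by
    have h1 : orderOf (y : 𝔓 ⧸ M) ∣ p := by rw [← hcard]; exact orderOf_dvd_natCard _
    rcases (Nat.dvd_prime hp).mp h1 with h | h
    · exact absurd (orderOf_eq_one_iff.mp h) hy1
    · exact h
  have hinj : Set.InjOn (fun i : ℕ => ((y ^ i : 𝔓) : 𝔓 ⧸ M)) (Finset.range p : Set ℕ) := by
    intro i hi j hj hij
    simp only [Finset.coe_range, Set.mem_Iio] at hi hj
    simp only [QuotientGroup.mk_pow] at hij
    exact pow_injOn_Iio_orderOf (by simpa [hord] using hi) (by simpa [hord] using hj) hij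
  have himg : (Finset.range p).image (fun i : ℕ => ((y ^ i : 𝔓) : 𝔓 ⧸ M)) = Finset.univ := by
    apply Finset.eq_univ_of_card
    rw [Finset.card_image_of_injOn hinj, Finset.card_range, ← Nat.card_eq_fintype_card, hcard]
  rw [← himg, Finset.prod_image hinj]


theorem conj_pow_inv {G : Type*} [Group G] (a b : G) (k : ℕ) : (a⁻¹ * b * a) ^ k = a⁻¹ * b ^ k * a := by
  have := conj_pow (a := a⁻¹) (b := b) (i := k)
  simpa using this

theorem ext1_subgroupOf {𝔓 : Type*} [Group 𝔓] {A : Type*} [CommGroup A] (S M : Subgroup 𝔓) (hSM : S ≤ M)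
    (μ : S →* A) (u : M) :
    ext1 (S.subgroupOf M) (μ.comp (Subgroup.subgroupOfEquivOfLe hSM).toMonoidHom) u
      = ext1 S μ (u : 𝔓) := by
  by_cases h : (u : 𝔓) ∈ S
  · have h' : u ∈ S.subgroupOf M := Subgroup.mem_subgroupOf.mpr h
    rw [ext1_of_mem _ _ h, ext1_of_mem _ _ h']
    rfl
  · have h' : u ∉ S.subgroupOf M := fun h2 => h (Subgroup.mem_subgroupOf.mp h2)
    rw [ext1_of_not_mem _ _ h, ext1_of_not_mem _ _ h']

theorem plevel {𝔓 : Type*} [Group 𝔓] [Finite 𝔓] {p : ℕ} [Fact p.Prime] (hP : IsPGroup p 𝔓)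
    (hnw : ¬ HasWreath p 𝔓) (S : Subgroup 𝔓) (hS : S ≠ ⊤) (μ : S →* Multiplicative (ZMod p)) (x : 𝔓)
    (hvan : ∀ (k : ℕ) (r : 𝔓), 1 < k → k ∣ orderOf x → ∀ h : r⁻¹ * x ^ k * r ∈ S,
      μ ⟨r⁻¹ * x ^ k * r, h⟩ = 1)
    [Fintype (𝔓 ⧸ S)] :
    ∏ q : 𝔓 ⧸ S, ext1 S μ (q.out⁻¹ * x * q.out) = 1 := by
  classical
  obtain ⟨M, hM, hSM⟩ := (eq_top_or_exists_le_coatom S).resolve_left hS
  haveI : M.Normal := Cfsg.Agent.Lib.Helper1.pgroup_coatom_normal hP hM
  have hidx : M.index = p := Cfsg.Agent.Lib.Helper1.pgroup_coatom_index hP hM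
  obtain ⟨y, hy⟩ : ∃ y, y ∉ M := by
    by_contra hall
    push Not at hall
    exact hM.1 (eq_top_iff.mpr (fun g _ => hall g))
  have hconj : ∀ (r m : 𝔓), m ∈ M → r⁻¹ * m * r ∈ M := by
    intro r m hm
    have := ‹M.Normal›.conj_mem m hm r⁻¹
    simpa using this
  by_cases hxM : x ∈ M
  · -- notation
    set SM : Subgroup M := S.subgroupOf M with hSMdef
    set μM : SM →* Multiplicative (ZMod p) :=
      μ.comp (Subgroup.subgroupOfEquivOfLe hSM).toMonoidHom with hμM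
    let ν : M →* Multiplicative (ZMod p) := MonoidHom.transfer μM
    let xc : 𝔓 → M := fun r => ⟨r⁻¹ * x * r, hconj r x hxM⟩
    letI : Fintype (𝔓 ⧸ M) := Fintype.ofFinite _
    letI : Fintype (M ⧸ SM) := Fintype.ofFinite _
    -- step 1: split the product
    have hf : ∀ r s, s ∈ S → ext1 S μ ((r * s)⁻¹ * x * (r * s)) = ext1 S μ (r⁻¹ * x * r) := by
      intro r s hs
      have : (r * s)⁻¹ * x * (r * s) = s⁻¹ * (r⁻¹ * x * r) * s := by group
      rw [this, ext1_conj S μ _ hs]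
    rw [prod_quot_trans S M hSM (fun r => ext1 S μ (r⁻¹ * x * r)) hf]
    -- step 2: inner products are transfers
    have hinner : ∀ Q : 𝔓 ⧸ M, ∏ q' : M ⧸ SM, ext1 S μ ((Q.out * (q'.out : 𝔓))⁻¹ * x * (Q.out * (q'.out : 𝔓)))
        = ν (xc Q.out) := by
      intro Q
      have hvanM : ∀ (k : ℕ) (g₀ : M), 1 < k → k ∣ orderOf (xc Q.out) →
          ∀ hk : g₀⁻¹ * (xc Q.out) ^ k * g₀ ∈ SM, μM ⟨g₀⁻¹ * (xc Q.out) ^ k * g₀, hk⟩ = 1 := by
        intro k g₀ hk1 hkd hk
        have hord : orderOf (xc Q.out) = orderOf x := by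
          rw [← Subgroup.orderOf_coe]
          show orderOf (Q.out⁻¹ * x * Q.out) = orderOf x
          have : Q.out⁻¹ * x * Q.out = (MulAut.conj Q.out⁻¹) x := by simp
          rw [this, MulEquiv.orderOf_eq]
        rw [hord] at hkd
        have hmem : (Q.out * (g₀ : 𝔓))⁻¹ * x ^ k * (Q.out * (g₀ : 𝔓)) ∈ S := by
          have h1 := Subgroup.mem_subgroupOf.mp hk
          have h2 : ((g₀⁻¹ * (xc Q.out) ^ k * g₀ : M) : 𝔓) =
              (Q.out * (g₀ : 𝔓))⁻¹ * x ^ k * (Q.out * (g₀ : 𝔓)) := by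
            show (g₀ : 𝔓)⁻¹ * (Q.out⁻¹ * x * Q.out) ^ k * (g₀ : 𝔓) = _
            rw [conj_pow_inv]
            group
          rwa [h2] at h1
        have h3 := hvan k (Q.out * (g₀ : 𝔓)) hk1 hkd hmem
        rw [← h3]
        show μ _ = μ _
        congr 1
        apply Subtype.ext
        show (g₀ : 𝔓)⁻¹ * (Q.out⁻¹ * x * Q.out) ^ k * (g₀ : 𝔓) = _
        rw [conj_pow_inv]
        group
      show _ = MonoidHom.transfer μM (xc Q.out)
      rw [transfer_eq_prod_fixed SM μM (xc Q.out) hvanM]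
      apply Finset.prod_congr rfl
      intro q' _
      rw [ext1_subgroupOf S M hSM μ]
      congr 1
      show _ = (q'.out : 𝔓)⁻¹ * (Q.out⁻¹ * x * Q.out) * (q'.out : 𝔓)
      group
    rw [Finset.prod_congr rfl (fun Q _ => hinner Q)]
    -- step 3: reindex over the cyclic quotient
    rw [prod_quot_prime M hidx y hy (fun Q => ν (xc Q.out))]
    have hrep : ∀ i : ℕ, ν (xc (((y ^ i : 𝔓) : 𝔓 ⧸ M)).out) = ν (xc (y ^ i)) := by
      intro i
      obtain ⟨m, hm⟩ := QuotientGroup.mk_out_eq_mul M (y ^ i)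
      have h1 : xc (((y ^ i : 𝔓) : 𝔓 ⧸ M)).out = m⁻¹ * xc (y ^ i) * m := by
        apply Subtype.ext
        show (((y ^ i : 𝔓) : 𝔓 ⧸ M)).out⁻¹ * x * (((y ^ i : 𝔓) : 𝔓 ⧸ M)).out
          = (m : 𝔓)⁻¹ * ((y ^ i)⁻¹ * x * y ^ i) * (m : 𝔓)
        rw [hm]; group
      rw [h1, map_mul, map_mul, map_inv, mul_comm, ← mul_assoc, mul_inv_cancel, one_mul]
    rw [Finset.prod_congr rfl (fun i _ => hrep i)]
    -- the ordered product
    set z : M := ((List.range p).map (fun i => xc (y ^ i))).prod with hzdef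
    have hz : (z : 𝔓) = ((List.range p).map (fun i => (y ^ i)⁻¹ * x * y ^ i)).prod := by
      have := map_list_prod M.subtype ((List.range p).map (fun i => xc (y ^ i)))
      rw [List.map_map] at this
      exact this
    have hνz : ν z = ∏ i ∈ Finset.range p, ν (xc (y ^ i)) := by
      rw [hzdef, map_list_prod, List.map_map, ← List.toFinset_range,
        List.prod_toFinset _ (List.nodup_range)]
      rfl
    rw [← hνz]
    by_contra hne
    exact hnw (wreath_Z hP M hidx ν x y hxM hy z hz hne)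
  · apply Finset.prod_eq_one
    intro q _
    apply ext1_of_not_mem
    intro h
    apply hxM
    have h1 := hconj q.out⁻¹ _ (hSM h)
    simpa [mul_assoc] using h1


theorem orbit_prod {H X : Type*} [Group H] [MulAction H X] [Fintype X] {A : Type*} [CommMonoid A]
    [Fintype (Quotient (orbitRel H X))] [∀ o : Quotient (orbitRel H X), Fintype (H ⧸ stabilizer H o.out)]
    (F : X → A) :
    ∏ ω : X, F ω = ∏ o : Quotient (orbitRel H X), ∏ q : H ⧸ stabilizer H o.out, F (q.out • o.out) := by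
  rw [← Fintype.prod_sigma']
  symm
  apply Fintype.prod_equiv (MulAction.selfEquivSigmaOrbitsQuotientStabilizer H X).symm
  rintro ⟨o, q⟩
  conv_rhs => rw [← QuotientGroup.out_eq' q]
  rfl

theorem orderOf_conj_pow_lt {G : Type*} [Group G] [Finite G] (x g : G) (k : ℕ) (hk : 1 < k)
    (hkd : k ∣ orderOf x) : orderOf (g⁻¹ * x ^ k * g) < orderOf x := by
  have h1 : g⁻¹ * x ^ k * g = (MulAut.conj g⁻¹) (x ^ k) := by simp
  rw [h1, MulEquiv.orderOf_eq, orderOf_pow_of_dvd (by omega) hkd]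
  exact Nat.div_lt_self (orderOf_pos x) hk

theorem conj_mem_commutator {G : Type*} [Group G] (x g : G) (k : ℕ) (hx : x ∈ commutator G) :
    g⁻¹ * x ^ k * g ∈ commutator G := by
  have h1 : x ^ k ∈ commutator G := Subgroup.pow_mem _ hx k
  have := (inferInstance : (commutator G).Normal).conj_mem _ h1 g⁻¹
  simpa using this

theorem main_lemma {G : Type*} [Group G] [Finite G] {p : ℕ} [Fact p.Prime] (P : Sylow p G)
    (hnw : ¬ HasWreath p ↥(P : Subgroup G)) (lam : ↥(P : Subgroup G) →* Multiplicative (ZMod p))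
    (hinv : ∀ g : G, (∀ u ∈ (P : Subgroup G), g⁻¹ * u * g ∈ (P : Subgroup G)) →
       ∀ (u : ↥(P : Subgroup G)) (h : g⁻¹ * (u : G) * g ∈ (P : Subgroup G)),
         lam ⟨g⁻¹ * (u : G) * g, h⟩ = lam u) :
    ∀ u : ↥(P : Subgroup G), (u : G) ∈ commutator G → lam u = 1 := by
  classical
  have hp := (Fact.out : p.Prime)
  intro u
  induction' hn : orderOf u using Nat.strong_induction_on with n ih generalizing u
  intro hu
  have hsmall : ∀ (k : ℕ) (g : G), 1 < k → k ∣ orderOf (u : G) →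
      ∀ hk : g⁻¹ * (u : G) ^ k * g ∈ (P : Subgroup G), lam ⟨g⁻¹ * (u : G) ^ k * g, hk⟩ = 1 := by
    intro k g hk1 hkd hk
    apply ih (orderOf (⟨g⁻¹ * (u : G) ^ k * g, hk⟩ : ↥(P : Subgroup G))) _ _ rfl
    · exact conj_mem_commutator _ _ _ hu
    · rw [← hn, ← Subgroup.orderOf_coe, ← Subgroup.orderOf_coe u]
      exact orderOf_conj_pow_lt _ _ _ hk1 hkd
  set c := lam u with hc
  let _ : Fintype (G ⧸ (P : Subgroup G)) := Fintype.ofFinite _
  let _ : Fintype (Quotient (orbitRel ↥(P : Subgroup G) (G ⧸ (P : Subgroup G)))) := Fintype.ofFinite _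
  let _ : ∀ o : Quotient (orbitRel ↥(P : Subgroup G) (G ⧸ (P : Subgroup G))),
      Fintype (↥(P : Subgroup G) ⧸ stabilizer ↥(P : Subgroup G) o.out) := fun o => Fintype.ofFinite _
  -- transfer vanishes on the commutator subgroup
  have h1 : MonoidHom.transfer lam (u : G) = 1 :=
    (Abelianization.commutator_subset_ker (MonoidHom.transfer lam)) hu
  rw [transfer_eq_prod_fixed (P : Subgroup G) lam (u : G) hsmall,
    orbit_prod (H := ↥(P : Subgroup G))] at h1
  -- each orbit contributes as the constant function c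
  have h2 : ∀ o : Quotient (orbitRel ↥(P : Subgroup G) (G ⧸ (P : Subgroup G))),
      ∏ q : ↥(P : Subgroup G) ⧸ stabilizer ↥(P : Subgroup G) o.out,
        ext1 (P : Subgroup G) lam ((q.out • o.out).out⁻¹ * (u : G) * (q.out • o.out).out)
      = ∏ _q : ↥(P : Subgroup G) ⧸ stabilizer ↥(P : Subgroup G) o.out, c := by
    intro o
    set ω₀ : G ⧸ (P : Subgroup G) := o.out with hω₀
    set g₀ : G := ω₀.out with hg₀
    set S : Subgroup ↥(P : Subgroup G) := stabilizer ↥(P : Subgroup G) ω₀ with hSdef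
    have hω₀mk : ω₀ = ((g₀ : G) : G ⧸ (P : Subgroup G)) := (QuotientGroup.out_eq' ω₀).symm
    have hsmul : ∀ v : ↥(P : Subgroup G), v • ω₀ = (((v : G) * g₀ : G) : G ⧸ (P : Subgroup G)) := by
      intro v
      conv_lhs => rw [hω₀mk]
      rfl
    have hmemS : ∀ v : ↥(P : Subgroup G), v ∈ S ↔ g₀⁻¹ * (v : G) * g₀ ∈ (P : Subgroup G) := by
      intro v
      rw [hSdef, MulAction.mem_stabilizer_iff]
      have := smul_eq_iff_conj_mem (P : Subgroup G) (v : G) g₀
      rw [← hω₀mk] at this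
      exact this
    -- the conjugated character on the stabilizer
    let μ : S →* Multiplicative (ZMod p) :=
      { toFun := fun v => lam ⟨g₀⁻¹ * ((v : ↥(P : Subgroup G)) : G) * g₀, (hmemS v).mp v.2⟩
        map_one' := by
          have : (⟨g₀⁻¹ * (((1 : S) : ↥(P : Subgroup G)) : G) * g₀, (hmemS _).mp (1 : S).2⟩ :
              ↥(P : Subgroup G)) = 1 := by
            apply Subtype.ext; simp
          rw [this, map_one]
        map_mul' := by
          intro v w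
          have : (⟨g₀⁻¹ * (((v * w : S) : ↥(P : Subgroup G)) : G) * g₀, (hmemS _).mp (v * w).2⟩ :
              ↥(P : Subgroup G)) =
              ⟨g₀⁻¹ * ((v : ↥(P : Subgroup G)) : G) * g₀, (hmemS v).mp v.2⟩ *
              ⟨g₀⁻¹ * ((w : ↥(P : Subgroup G)) : G) * g₀, (hmemS w).mp w.2⟩ := by
            apply Subtype.ext
            show g₀⁻¹ * (((v : ↥(P : Subgroup G)) : G) * ((w : ↥(P : Subgroup G)) : G)) * g₀ = _
            simp only [Subgroup.coe_mul]
            group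
          rw [this, map_mul] }
    have hμ : ∀ (v : ↥(P : Subgroup G)) (hv : v ∈ S),
        μ ⟨v, hv⟩ = lam ⟨g₀⁻¹ * (v : G) * g₀, (hmemS v).mp hv⟩ := fun v hv => rfl
    -- term identity
    have hterm : ∀ q : ↥(P : Subgroup G) ⧸ S,
        ext1 (P : Subgroup G) lam ((q.out • ω₀).out⁻¹ * (u : G) * (q.out • ω₀).out)
          = ext1 S μ (q.out⁻¹ * u * q.out) := by
      intro q
      rw [hsmul, ext1_out]
      have hEq : ((q.out : G) * g₀)⁻¹ * (u : G) * ((q.out : G) * g₀)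
          = g₀⁻¹ * ((q.out⁻¹ * u * q.out : ↥(P : Subgroup G)) : G) * g₀ := by
        simp only [Subgroup.coe_mul, Subgroup.coe_inv]
        group
      rw [hEq]
      by_cases hv : (q.out⁻¹ * u * q.out) ∈ S
      · rw [ext1_of_mem S μ hv, hμ, ext1_of_mem _ _ ((hmemS _).mp hv)]
      · rw [ext1_of_not_mem S μ hv, ext1_of_not_mem _ _ (fun h => hv ((hmemS _).mpr h))]
    rw [Finset.prod_congr rfl (fun q _ => hterm q)]
    by_cases hStop : S = ⊤
    · -- fixed orbit: each term equals c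
      have hall : ∀ v : ↥(P : Subgroup G), v ∈ S := by
        intro v; rw [hStop]; exact Subgroup.mem_top v
      apply Finset.prod_congr rfl
      intro q _
      have hv : (q.out⁻¹ * u * q.out) ∈ S := hall _
      rw [ext1_of_mem S μ hv, hμ]
      have hnorm : ∀ w ∈ (P : Subgroup G), ((q.out : G) * g₀)⁻¹ * w * ((q.out : G) * g₀) ∈ (P : Subgroup G) := by
        intro w hw
        have hw' : (q.out⁻¹ * ⟨w, hw⟩ * q.out : ↥(P : Subgroup G)) ∈ S := hall _
        have := (hmemS _).mp hw'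
        have hEq : ((q.out : G) * g₀)⁻¹ * w * ((q.out : G) * g₀)
            = g₀⁻¹ * ((q.out⁻¹ * ⟨w, hw⟩ * q.out : ↥(P : Subgroup G)) : G) * g₀ := by
          simp only [Subgroup.coe_mul, Subgroup.coe_inv]
          group
        rw [hEq]; exact this
      have hmem' : ((q.out : G) * g₀)⁻¹ * (u : G) * ((q.out : G) * g₀) ∈ (P : Subgroup G) := hnorm _ u.2
      have := hinv ((q.out : G) * g₀) hnorm u hmem'
      rw [hc, ← this]
      congr 1
      apply Subtype.ext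
      simp only [Subgroup.coe_mul, Subgroup.coe_inv]
      group
    · -- non-fixed orbit: both sides are 1
      have hleft : ∏ q : ↥(P : Subgroup G) ⧸ S, ext1 S μ (q.out⁻¹ * u * q.out) = 1 := by
        apply plevel P.2 hnw S hStop μ u
        intro k r hk1 hkd h
        rw [hμ]
        have hkd' : k ∣ orderOf (u : G) := by rwa [Subgroup.orderOf_coe]
        have hmemP : ((r : G) * g₀)⁻¹ * (u : G) ^ k * ((r : G) * g₀) ∈ (P : Subgroup G) := by
          have := (hmemS _).mp h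
          have hEq : ((r : G) * g₀)⁻¹ * (u : G) ^ k * ((r : G) * g₀)
              = g₀⁻¹ * ((r⁻¹ * u ^ k * r : ↥(P : Subgroup G)) : G) * g₀ := by
            simp only [Subgroup.coe_mul, Subgroup.coe_inv, Subgroup.coe_pow]
            group
          rw [hEq]; exact this
        have := hsmall k ((r : G) * g₀) hk1 hkd' hmemP
        rw [← this]
        congr 1
        apply Subtype.ext
        simp only [Subgroup.coe_mul, Subgroup.coe_inv, Subgroup.coe_pow]
        group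
      rw [hleft, Finset.prod_const, Finset.card_univ, ← Nat.card_eq_fintype_card, ← Subgroup.index_eq_card]
      obtain ⟨m, hm⟩ := IsPGroup.index P.2 S
      have hm0 : m ≠ 0 := by
        intro h0
        rw [h0, pow_zero] at hm
        exact hStop (Subgroup.index_eq_one.mp hm)
      obtain ⟨m', rfl⟩ := Nat.exists_eq_succ_of_ne_zero hm0
      rw [hm, pow_succ, pow_mul', zmod_pow, one_pow]
  rw [Finset.prod_congr rfl (fun o _ => h2 o), ← orbit_prod (H := ↥(P : Subgroup G)) (fun _ => c),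
    Finset.prod_const, Finset.card_univ, ← Nat.card_eq_fintype_card, ← Subgroup.index_eq_card] at h1
  have h3 : c ^ p = 1 := zmod_pow p c
  have hcop : Nat.Coprime (P : Subgroup G).index p := by
    rw [Nat.coprime_comm, hp.coprime_iff_not_dvd]
    exact P.not_dvd_index
  have h4 : orderOf c ∣ 1 := by
    rw [← Nat.Coprime.gcd_eq_one hcop]
    exact Nat.dvd_gcd (orderOf_dvd_of_pow_eq_one h1) (orderOf_dvd_of_pow_eq_one h3)
  exact orderOf_eq_one_iff.mp (Nat.dvd_one.mp h4)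


theorem transfer_comp {G : Type*} [Group G] {A B : Type*} [CommGroup A] [CommGroup B]
    (H : Subgroup G) [H.FiniteIndex] (ϕ : H →* A) (f : A →* B) (g : G) :
    MonoidHom.transfer (f.comp ϕ) g = f (MonoidHom.transfer ϕ g) := by
  classical
  letI : Fintype (Quotient (orbitRel (zpowers g) (G ⧸ H))) := Fintype.ofFinite _
  rw [MonoidHom.transfer_eq_prod_quotient_orbitRel_zpowers_quot,
    MonoidHom.transfer_eq_prod_quotient_orbitRel_zpowers_quot, map_prod]
  rfl

/-- invariance of a homomorphism on a subgroup under all elements conjugating the subgroup into itself -/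
def Inv {G : Type*} [Group G] (P : Subgroup G) {A : Type*} [Monoid A] (lam : P →* A) : Prop :=
  ∀ g : G, (∀ u ∈ P, g⁻¹ * u * g ∈ P) →
    ∀ (u : P) (h : g⁻¹ * (u : G) * g ∈ P), lam ⟨g⁻¹ * (u : G) * g, h⟩ = lam u

theorem Inv.comp {G : Type*} [Group G] {P : Subgroup G} {A B : Type*} [Monoid A] [Monoid B]
    {lam : P →* A} (h : Inv P lam) (f : A →* B) : Inv P (f.comp lam) := by
  intro g hg u hu
  show f (lam _) = f (lam u)
  rw [h g hg u hu]

theorem step {G : Type*} [Group G] [Finite G] {p : ℕ} [Fact p.Prime] (P : Sylow p G)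
    (hnw : ¬ HasWreath p ↥(P : Subgroup G)) {A : Type*} [CommGroup A] (hA : IsPGroup p A)
    (lam : ↥(P : Subgroup G) →* A) (hinv : Inv (P : Subgroup G) lam)
    (hpw : ∀ u : ↥(P : Subgroup G), (u : G) ∈ commutator G → lam u ^ p = 1) :
    ∀ u : ↥(P : Subgroup G), (u : G) ∈ commutator G → lam u = 1 := by
  classical
  have hp := (Fact.out : p.Prime)
  set m := (P : Subgroup G).index with hm
  let pw : A →* A := powMonoidHom p
  let V : G →* A := MonoidHom.transfer lam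
  -- (a)
  have ha : ∀ u : ↥(P : Subgroup G), V u ^ p = (lam u ^ p) ^ m := by
    intro u
    have h1 : MonoidHom.transfer (pw.comp lam) (u : G) = pw (V u) := transfer_comp _ lam pw u
    have h2 : MonoidHom.transfer (pw.comp lam) (u : G) = (lam u ^ p) ^ m := by
      apply transfer_eq_pow_index
      intro k g₀ hk
      show (lam ⟨g₀⁻¹ * (u : G) ^ k * g₀, hk⟩) ^ p = (lam u ^ p) ^ k
      set w : ↥(P : Subgroup G) := (u ^ k)⁻¹ * ⟨g₀⁻¹ * (u : G) ^ k * g₀, hk⟩ with hw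
      have hwc : (w : G) ∈ commutator G := by
        have : (w : G) = ⁅((u : G) ^ k)⁻¹, g₀⁻¹⁆ := by
          rw [hw, commutatorElement_def]
          simp only [Subgroup.coe_mul, Subgroup.coe_inv, Subgroup.coe_pow, inv_inv]
          group
        rw [this]
        exact Subgroup.commutator_mem_commutator (Subgroup.mem_top _) (Subgroup.mem_top _)
      have h3 : (⟨g₀⁻¹ * (u : G) ^ k * g₀, hk⟩ : ↥(P : Subgroup G)) = u ^ k * w := by
        rw [hw]; group
      rw [h3, map_mul, mul_pow, hpw w hwc, mul_one, map_pow, ← pow_mul, ← pow_mul, mul_comm]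
    rw [← h2, h1]
    rfl
  -- (b)
  let K : Subgroup A := pw.ker
  let ε₀ : ↥(P : Subgroup G) →* A :=
    { toFun := fun u => V u * (lam u ^ m)⁻¹
      map_one' := by simp
      map_mul' := by
        intro a b
        simp only [Subgroup.coe_mul, map_mul, mul_pow, mul_inv]
        rw [mul_mul_mul_comm] }
  have hε₀K : ∀ u, ε₀ u ∈ K := by
    intro u
    show (V u * (lam u ^ m)⁻¹) ^ p = 1
    rw [mul_pow, ha, inv_pow, ← pow_mul, ← pow_mul, mul_comm m p, mul_inv_cancel]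
  let ε : ↥(P : Subgroup G) →* K := ε₀.codRestrict K hε₀K
  have hεinv : Inv (P : Subgroup G) ε := by
    intro g hg u hu
    apply Subtype.ext
    show V (g⁻¹ * (u : G) * g) * (lam ⟨g⁻¹ * (u : G) * g, hu⟩ ^ m)⁻¹ = V u * (lam u ^ m)⁻¹
    rw [hinv g hg u hu, map_mul, map_mul, map_inv, mul_comm (V g)⁻¹, mul_assoc (V ↑u), inv_mul_cancel, mul_one]
  have hKexp : ∀ a : K, a ^ p = 1 := by
    intro a
    apply Subtype.ext
    exact a.2
  intro u hu
  -- (d)
  have hεu : ε u = 1 := by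
    by_contra hne
    obtain ⟨χ, hχ⟩ := sep hKexp (ε u) hne
    apply hχ
    exact main_lemma P hnw (χ.comp ε) (hεinv.comp χ) u hu
  have hε₀u : V u * (lam u ^ m)⁻¹ = 1 := congrArg Subtype.val hεu
  have hVu : V u = 1 := (Abelianization.commutator_subset_ker V) hu
  rw [hVu, one_mul, inv_eq_one] at hε₀u
  -- (e)
  obtain ⟨j, hj⟩ := hA (lam u)
  have hcop : Nat.Coprime (p ^ j) m := by
    apply Nat.Coprime.pow_left
    rw [hp.coprime_iff_not_dvd]
    exact P.not_dvd_index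
  have h4 : orderOf (lam u) ∣ 1 := by
    rw [← Nat.Coprime.gcd_eq_one hcop]
    exact Nat.dvd_gcd (orderOf_dvd_of_pow_eq_one hj) (orderOf_dvd_of_pow_eq_one hε₀u)
  exact orderOf_eq_one_iff.mp (Nat.dvd_one.mp h4)

theorem full_aux {G : Type*} [Group G] [Finite G] {p : ℕ} [Fact p.Prime] (P : Sylow p G)
    (hnw : ¬ HasWreath p ↥(P : Subgroup G)) {A : Type*} [CommGroup A] (hA : IsPGroup p A)
    (lam : ↥(P : Subgroup G) →* A) (hinv : Inv (P : Subgroup G) lam) (j : ℕ) :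
    (∀ u : ↥(P : Subgroup G), (u : G) ∈ commutator G → lam u ^ (p ^ j) = 1) →
    ∀ u : ↥(P : Subgroup G), (u : G) ∈ commutator G → lam u = 1 := by
  induction j with
  | zero =>
    intro H u hu
    simpa using H u hu
  | succ j ih =>
    intro H
    apply ih
    have := step P hnw hA ((powMonoidHom (p ^ j)).comp lam) (hinv.comp _) (by
      intro u hu
      show (lam u ^ (p ^ j)) ^ p = 1
      rw [← pow_mul, ← pow_succ]
      exact H u hu)
    exact this

theorem full {G : Type*} [Group G] [Finite G] {p : ℕ} [Fact p.Prime] (P : Sylow p G)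
    (hnw : ¬ HasWreath p ↥(P : Subgroup G)) {A : Type*} [CommGroup A] [Finite A] (hA : IsPGroup p A)
    (lam : ↥(P : Subgroup G) →* A) (hinv : Inv (P : Subgroup G) lam) :
    ∀ u : ↥(P : Subgroup G), (u : G) ∈ commutator G → lam u = 1 := by
  obtain ⟨n, hn⟩ := IsPGroup.iff_card.mp hA
  apply full_aux P hnw hA lam hinv n
  intro u _
  rw [← hn]
  exact pow_card_eq_one'


end Cfsg.Agent.Lib.Helper29.Yoshida
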