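import Mathlib
import Cfsg.Agent.Lib.Helper28.BP2.Defs

/-!
# BP2 (designer helper28), row AO7a: `card_le_of_cyc_dih` (verbatim).
-/

set_option autoImplicit false

namespace Cfsg.Agent.Lib.Helper28.BP2

open Cfsg.Agent.Lib.helper14

universe u

variable {F : Type u} [Field F] [Fintype F]

/-- **AO7a**.  `|DihedralGroup k| = 2 k`. -/
theorem card_le_of_cyc_dih (hodd : Odd (Fintype.card F)) (H : Subgroup (PSL2 F)) (k : ℕ)
    (hk : k ∣ (Fintype.card F + 1) / 2 ∨ k ∣ (Fintype.card F - 1) / 2)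
    (h : (IsCyclic H ∧ Nat.card H = k) ∨ Nonempty (H ≃* DihedralGroup k)) :
    Nat.card H ≤ Fintype.card F + 1 := by
  have h2 : 2 ≤ Fintype.card F := Fintype.one_lt_card
  obtain ⟨r, hr⟩ := hodd
  have hk' : k ≤ (Fintype.card F + 1) / 2 := by
    rcases hk with hk | hk
    · exact Nat.le_of_dvd (by omega) hk
    · exact (Nat.le_of_dvd (by omega) hk).trans (by omega)
  rcases h with ⟨_, h⟩ | ⟨⟨e⟩⟩
  · omega
  · rw [Nat.card_congr e.toEquiv, DihedralGroup.nat_card]
    omega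

end Cfsg.Agent.Lib.Helper28.BP2
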