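import Mathlib
import Cfsg.Agent.Lib.Helper28.BP2.Defs
import Cfsg.Agent.Lib.helper4.BP2U2

/-!
# BP2 (designer helper28), row U7: `normalizer_PU` (verbatim).
-/

set_option autoImplicit false

namespace Cfsg.Agent.Lib.Helper28.BP2

open Cfsg.Agent.Lib.helper14

universe u

variable {F : Type u} [Field F]

/-- the `(1,0)` entry of `b⁻¹ * uS x * b` -/
theorem bp2u7_entry (b : SL2 F) (x : F) :
    ((b⁻¹ * uS x * b : SL2 F) : Matrix (Fin 2) (Fin 2) F) 1 0 =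
      -(x * (b : Matrix (Fin 2) (Fin 2) F) 1 0 ^ 2) := by
  rw [Matrix.SpecialLinearGroup.coe_mul, Matrix.SpecialLinearGroup.coe_mul,
    Matrix.SpecialLinearGroup.coe_inv, Matrix.adjugate_fin_two, uS_coe]
  simp only [Matrix.mul_apply, Fin.sum_univ_two, Matrix.of_apply, Matrix.cons_val_zero,
    Matrix.cons_val_one, Matrix.cons_val', Matrix.cons_val_fin_one]
  ring

/-- membership in `PU F` -/
theorem bp2u7_mem_PU (g : PSL2 F) : g ∈ PU F ↔ ∃ m ∈ US F, pr F m = g := Subgroup.mem_map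

/-- membership in `PB F` -/
theorem bp2u7_mem_PB (g : PSL2 F) : g ∈ PB F ↔ ∃ b ∈ BS F, pr F b = g := Subgroup.mem_map

/-- conjugating `PU F` by an element of `PB F` -/
theorem bp2u7_conj_mem {g h : PSL2 F} (hg : g ∈ PB F) (hh : h ∈ PU F) : g * h * g⁻¹ ∈ PU F := by
  obtain ⟨b, hb, rfl⟩ := (bp2u7_mem_PB g).1 hg
  obtain ⟨m, hm, rfl⟩ := (bp2u7_mem_PU h).1 hh
  refine (bp2u7_mem_PU _).2 ⟨b * m * b⁻¹, conj_mem_US_of_mem_BS b hb m hm, ?_⟩
  rw [map_mul, map_mul, map_inv]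

/-- an element of `SL₂` whose image conjugates `pr (uS x)`, `x ≠ 0`, into `PU F` is upper triangular -/
theorem bp2u7_mem_BS_of_conj (b : SL2 F) (x : F) (hx : x ≠ 0)
    (h : (pr F b)⁻¹ * pr F (uS x) * pr F b ∈ PU F) : b ∈ BS F := by
  obtain ⟨m, hm, hpm⟩ := (bp2u7_mem_PU _).1 h
  obtain ⟨y, rfl⟩ := (mem_US m).1 hm
  have hpm' : pr F (uS y) = pr F (b⁻¹ * uS x * b) := by
    rw [hpm, map_mul, map_mul, map_inv]
  have h10 : ((b⁻¹ * uS x * b : SL2 F) : Matrix (Fin 2) (Fin 2) F) 1 0 = 0 := by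
    rcases (pr_eq_iff _ _).1 hpm' with h1 | h1
    · rw [← h1, uS_coe]; rfl
    · have h2 : (b⁻¹ * uS x * b : SL2 F) = -uS y := by rw [h1, neg_neg]
      rw [h2, Matrix.SpecialLinearGroup.coe_neg, Matrix.neg_apply, uS_coe]
      show -(0 : F) = 0
      exact neg_zero
  rw [bp2u7_entry, neg_eq_zero] at h10
  rw [mem_BS]
  rcases mul_eq_zero.1 h10 with h' | h'
  · exact absurd h' hx
  · exact pow_eq_zero_iff (two_ne_zero) |>.1 h'

variable [Fintype F]

/-- **U7**.  (`conj_mem_US_of_mem_BS`, `mem_BS_of_conj_uS`.) -/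
theorem normalizer_PU :
    Subgroup.normalizer ((PU F : Subgroup (PSL2 F)) : Set (PSL2 F)) = PB F := by
  ext g
  rw [Subgroup.mem_set_normalizer_iff]
  constructor
  · intro h
    obtain ⟨b, hb⟩ : ∃ b : SL2 F, pr F b = g :=
      QuotientGroup.mk'_surjective (Subgroup.center (SL2 F)) g
    subst hb
    refine (bp2u7_mem_PB _).2 ⟨b, bp2u7_mem_BS_of_conj b 1 one_ne_zero ?_, rfl⟩
    apply (h _).2
    have e : pr F b * ((pr F b)⁻¹ * pr F (uS 1) * pr F b) * (pr F b)⁻¹ = pr F (uS 1) := by group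
    rw [e]
    exact (bp2u7_mem_PU _).2 ⟨uS 1, uS_mem 1, rfl⟩
  · intro hg k
    constructor
    · exact bp2u7_conj_mem hg
    · intro hk
      have := bp2u7_conj_mem ((PB F).inv_mem hg) hk
      have e : g⁻¹ * (g * k * g⁻¹) * g⁻¹⁻¹ = k := by group
      rwa [e] at this

end Cfsg.Agent.Lib.Helper28.BP2
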