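import Mathlib
import Cfsg.Agent.Lib.Helper28.BP2.Defs

/-!
# BP2 (designer helper28), row U8: `card_PB` (verbatim).
-/

set_option autoImplicit false

namespace Cfsg.Agent.Lib.Helper28.BP2

open Cfsg.Agent.Lib.helper14

universe u

variable {F : Type u} [Field F]

theorem bp2u8_ne_zero (g : BS F) : ((g : SL2 F) : Matrix (Fin 2) (Fin 2) F) 0 0 ≠ 0 := by
  intro h0
  have hd := sl2_det (g : SL2 F)
  have h10 : ((g : SL2 F) : Matrix (Fin 2) (Fin 2) F) 1 0 = 0 := (mem_BS _).1 g.2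
  rw [h0, h10, zero_mul, mul_zero, sub_zero] at hd
  exact zero_ne_one hd

/-- the upper triangular matrix with diagonal `(a, a⁻¹)` and corner `b` -/
def bp2u8_mk (a : Fˣ) (b : F) : SL2 F :=
  ⟨!![(a : F), b; 0, ((a⁻¹ : Fˣ) : F)], by
    rw [Matrix.det_fin_two_of, mul_zero, sub_zero, ← Units.val_mul, mul_inv_cancel,
      Units.val_one]⟩

theorem bp2u8_mk_coe (a : Fˣ) (b : F) :
    ((bp2u8_mk a b : SL2 F) : Matrix (Fin 2) (Fin 2) F) = !![(a : F), b; 0, ((a⁻¹ : Fˣ) : F)] := rfl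

theorem bp2u8_mk_mem (a : Fˣ) (b : F) : bp2u8_mk a b ∈ BS F := by
  rw [mem_BS, bp2u8_mk_coe]; rfl

/-- the upper triangular group of `SL₂(F)` is `Fˣ × F` as a set -/
noncomputable def bp2u8_BSEquiv : BS F ≃ Fˣ × F where
  toFun g := (Units.mk0 (((g : SL2 F) : Matrix (Fin 2) (Fin 2) F) 0 0) (bp2u8_ne_zero g),
    ((g : SL2 F) : Matrix (Fin 2) (Fin 2) F) 0 1)
  invFun ab := ⟨bp2u8_mk ab.1 ab.2, bp2u8_mk_mem ab.1 ab.2⟩
  left_inv g := by
    apply Subtype.ext
    apply Subtype.ext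
    have hd := sl2_det (g : SL2 F)
    have h10 : ((g : SL2 F) : Matrix (Fin 2) (Fin 2) F) 1 0 = 0 := (mem_BS _).1 g.2
    rw [h10, mul_zero, sub_zero] at hd
    show ((bp2u8_mk _ _ : SL2 F) : Matrix (Fin 2) (Fin 2) F) = ((g : SL2 F) : Matrix (Fin 2) (Fin 2) F)
    rw [bp2u8_mk_coe, Matrix.eta_fin_two ((g : SL2 F) : Matrix (Fin 2) (Fin 2) F), h10]
    have h11 : ((Units.mk0 (((g : SL2 F) : Matrix (Fin 2) (Fin 2) F) 0 0) (bp2u8_ne_zero g))⁻¹ : Fˣ) =
        (((g : SL2 F) : Matrix (Fin 2) (Fin 2) F) 1 1 : F) := by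
      rw [Units.val_inv_eq_inv_val, Units.val_mk0]
      exact inv_eq_of_mul_eq_one_right hd
    rw [h11, Units.val_mk0]
  right_inv ab := by
    apply Prod.ext
    · apply Units.ext
      rfl
    · rfl

theorem bp2u8_center_le_BS : Subgroup.center (SL2 F) ≤ BS F := by
  intro z hz
  rw [Matrix.SpecialLinearGroup.mem_center_iff] at hz
  obtain ⟨r, -, hr⟩ := hz
  rw [mem_BS, ← hr]
  simp

variable [Fintype F]

theorem bp2u8_card_BS : Nat.card (BS F) = Fintype.card F * (Fintype.card F - 1) := by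
  rw [Nat.card_congr bp2u8_BSEquiv, Nat.card_prod, Nat.card_units, Nat.card_eq_fintype_card,
    mul_comm]

theorem bp2u8_card_center :
    Nat.card (Subgroup.center (SL2 F)) = Nat.gcd 2 (Fintype.card F - 1) := by
  have e := Matrix.SpecialLinearGroup.center_equiv_rootsOfUnity' (n := Fin 2) (R := F) 0
  rw [Nat.card_congr e.toEquiv, Fintype.card_fin]
  have h1 : (rootsOfUnity 2 F) = (powMonoidHom 2 : Fˣ →* Fˣ).ker := by
    ext x
    simp [mem_rootsOfUnity, MonoidHom.mem_ker]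
  rw [h1, IsCyclic.card_powMonoidHom_ker, Nat.card_units, Nat.card_eq_fintype_card, Nat.gcd_comm]

/-- **U8**.  `|BS F| = q (q - 1)`. -/
theorem card_PB :
    Nat.card (PB F) * Nat.gcd 2 (Fintype.card F - 1) = Fintype.card F * (Fintype.card F - 1) := by
  have hle : (pr F).ker ≤ BS F := by
    unfold pr
    rw [QuotientGroup.ker_mk']
    exact bp2u8_center_le_BS
  have hidx : (PB F).index = (BS F).index :=
    Subgroup.index_map_eq (H := BS F) (f := pr F)
      (QuotientGroup.mk'_surjective (Subgroup.center (SL2 F))) hle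
  have h1 := Subgroup.card_mul_index (PB F)
  have h2 := Subgroup.card_mul_index (BS F)
  have h3 := Subgroup.card_eq_card_quotient_mul_card_subgroup (Subgroup.center (SL2 F))
  rw [bp2u8_card_center] at h3
  have hpos : 0 < (BS F).index := Nat.pos_of_ne_zero (Subgroup.index_ne_zero_of_finite)
  apply Nat.eq_of_mul_eq_mul_right hpos
  rw [← bp2u8_card_BS, h2, h3, ← h1, hidx]
  show _ = Nat.card (PB F) * (BS F).index * _
  ring

end Cfsg.Agent.Lib.Helper28.BP2
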