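import Mathlib
import Cfsg.Agent.Lib.Helper28.BP2.Defs
import Cfsg.Agent.Lib.Helper29.BP2U6
import Cfsg.Agent.Lib.Helper29.BP2U7
import Cfsg.Agent.Lib.Helper29.BP2U8

/-!
# BP2 (designer helper28), row AO7b: `card_normalizer_sylow` (verbatim).
-/

set_option autoImplicit false

namespace Cfsg.Agent.Lib.Helper28.BP2

open Cfsg.Agent.Lib.helper14

universe u

/-- the normaliser of a conjugate is the conjugate of the normaliser -/
theorem bp2ao7b_normalizer_conj {G : Type*} [Group G] (H : Subgroup G) (g : G) :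
    Subgroup.normalizer ((H.map (MulAut.conj g).toMonoidHom : Subgroup G) : Set G) =
      (Subgroup.normalizer (H : Set G)).map (MulAut.conj g).toMonoidHom := by
  ext x
  rw [Subgroup.mem_set_normalizer_iff]
  have hmem : ∀ (K : Subgroup G) (z : G), z ∈ K.map (MulAut.conj g).toMonoidHom ↔ g⁻¹ * z * g ∈ K := by
    intro K z
    constructor
    · rintro ⟨k, hk, rfl⟩
      have e : g⁻¹ * ((MulAut.conj g).toMonoidHom k) * g = k := by
        show g⁻¹ * (g * k * g⁻¹) * g = k
        group
      rw [e]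
      exact hk
    · intro h
      refine ⟨g⁻¹ * z * g, h, ?_⟩
      show g * (g⁻¹ * z * g) * g⁻¹ = z
      group
  rw [hmem, Subgroup.mem_set_normalizer_iff]
  constructor
  · intro h k
    have := h (g * k * g⁻¹)
    simp only [SetLike.mem_coe] at this ⊢
    rw [hmem, hmem] at this
    have e1 : g⁻¹ * (g * k * g⁻¹) * g = k := by group
    have e2 : g⁻¹ * (x * (g * k * g⁻¹) * x⁻¹) * g = g⁻¹ * x * g * k * (g⁻¹ * x * g)⁻¹ := by group
    rw [e1, e2] at this
    exact this
  · intro h k
    have := h (g⁻¹ * k * g)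
    simp only [SetLike.mem_coe] at this ⊢
    rw [hmem, hmem]
    have e2 : g⁻¹ * x * g * (g⁻¹ * k * g) * (g⁻¹ * x * g)⁻¹ = g⁻¹ * (x * k * x⁻¹) * g := by group
    rw [e2] at this
    exact this

variable {F : Type u} [Field F] [Fintype F]

/-- **AO7b**  (U6, U7, U8). -/
theorem card_normalizer_sylow (p : ℕ) [Fact p.Prime] [CharP F p] (P : Sylow p (PSL2 F)) :
    Nat.card (Subgroup.normalizer ((P : Subgroup (PSL2 F)) : Set (PSL2 F))) *
      Nat.gcd 2 (Fintype.card F - 1) = Fintype.card F * (Fintype.card F - 1) := by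
  obtain ⟨g, hg⟩ := sylow_conj_PU p P
  rw [hg, bp2ao7b_normalizer_conj, Subgroup.card_map_of_injective (MulAut.conj g).injective,
    normalizer_PU, card_PB]

end Cfsg.Agent.Lib.Helper28.BP2
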