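import Mathlib
import Cfsg.Agent.Lib.Helper5.UNI.Defs

/-! Project UNI (designer helper5), row C2B `uni_sub_stable` (helper29): a word in the letters of `J`
preserves the root subsystem `Φ_J` (only the coordinate `i` of the coroot vector changes under the
reflection in the `i`-th fundamental root: `H8Refl.tc2`). -/

set_option autoImplicit false

namespace Cfsg.Agent.Lib.Helper5.UNI

open Cfsg.Lie Cfsg.Lie.ChevalleyDatum Cfsg.Agent.Lib.helper8

section Chevalley

/-- one reflection in a fundamental root of `J` preserves `Φ_J` -/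
theorem unic2b_step (D : ChevalleyDatum) (hA : H8ReflAll D) (J : Set ℕ) (i : ℕ) (hi : i < D.rank)
    (hiJ : i ∈ J) (s : ℕ) (hs : D.InRootSub J s) : D.InRootSub J (D.reflectRoot i s) := by
  obtain ⟨η, hR⟩ := h8reflAll_spec D hA i hi
  refine ⟨hR.lt _ hs.1, ?_⟩
  intro j hj hjJ
  rw [hR.tc2 j hj _ hs.1, hs.2 j hj hjJ]
  have hne : j ≠ i := fun h => hjJ (h ▸ hiJ)
  rw [if_neg hne, sub_zero]

/-- C2b: a word in the letters of `J` preserves the root subsystem `Φ_J` -/
theorem uni_sub_stable (D : ChevalleyDatum) (hA : H8ReflAll D) (J : Set ℕ) (w : List ℕ)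
    (hw : ∀ i ∈ w, i < D.rank ∧ i ∈ J) (s : ℕ) (hs : D.InRootSub J s) :
    D.InRootSub J (h8sW D w s) := by
  induction w with
  | nil => exact hs
  | cons i w ih =>
    have ih' := ih (fun j hj => hw j (List.mem_cons_of_mem _ hj))
    obtain ⟨hi, hiJ⟩ := hw i List.mem_cons_self
    exact unic2b_step D hA J i hi hiJ _ ih'

end Chevalley

end Cfsg.Agent.Lib.Helper5.UNI
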