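import Mathlib
import Cfsg.Agent.Lib.Helper5.UNI.Defs

/-! Project UNI (designer helper5), row C2C core (helper29): positivity extension.  If a word sends the
fundamental roots of `J` to negative roots and acts linearly on the coroot vectors (the statement of
row C2A, here a hypothesis), then it sends every positive root of `Φ_J` to a negative root. -/

set_option autoImplicit false

namespace Cfsg.Agent.Lib.Helper5.UNI

open Cfsg.Lie Cfsg.Lie.ChevalleyDatum Cfsg.Agent.Lib.helper8

section Chevalley

/-- from the table check: every coroot vector has `rank` entries -/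
theorem unic2c_size (D : ChevalleyDatum) (hT : uniTabChk D = true) (r : ℕ) (hr : r < D.nroots) :
    (D.coroot.getD r #[]).size = D.rank := by
  unfold uniTabChk at hT
  simp only [Bool.and_eq_true, List.all_eq_true, List.mem_range, decide_eq_true_eq] at hT
  exact hT.1.1 r hr

/-- from the table check: the coroot vector of the `j`-th fundamental root is the `j`-th unit vector -/
theorem unic2c_simple (D : ChevalleyDatum) (hT : uniTabChk D = true) (j i : ℕ) (hj : j < D.rank)
    (hi : i < D.rank) :
    (D.coroot.getD (D.simple j) #[]).getD i 0 = if i = j then 1 else 0 := by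
  unfold uniTabChk at hT
  simp only [Bool.and_eq_true, List.all_eq_true, List.mem_range, decide_eq_true_eq] at hT
  exact hT.1.2 j hj i hi

/-- from the table check: the coroot vector of `-r` is minus that of `r` -/
theorem unic2c_neg (D : ChevalleyDatum) (hT : uniTabChk D = true) (r i : ℕ) (hr : r < D.nroots)
    (hi : i < D.rank) :
    (D.coroot.getD (D.negIdx.getD r 0) #[]).getD i 0 = - (D.coroot.getD r #[]).getD i 0 := by
  unfold uniTabChk at hT
  simp only [Bool.and_eq_true, List.all_eq_true, List.mem_range, decide_eq_true_eq] at hT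
  exact hT.2 r hr i hi

theorem unic2c_getD_nonneg (v : Array ℤ) (h : ∀ c ∈ v.toList, 0 ≤ c) (j : ℕ) : 0 ≤ v.getD j 0 := by
  by_cases hj : j < v.size
  · have e : v.getD j 0 = v[j] := by simp [Array.getD, hj]
    rw [e]
    apply h
    simp
  · have e : v.getD j 0 = 0 := by simp [Array.getD, hj]
    rw [e]

theorem unic2c_getD_nonpos (v : Array ℤ) (h : ∀ c ∈ v.toList, c ≤ 0) (j : ℕ) : v.getD j 0 ≤ 0 := by
  by_cases hj : j < v.size
  · have e : v.getD j 0 = v[j] := by simp [Array.getD, hj]
    rw [e]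
    apply h
    simp
  · have e : v.getD j 0 = 0 := by simp [Array.getD, hj]
    rw [e]

theorem unic2c_all_nonpos (v : Array ℤ) (h : ∀ j < v.size, v.getD j 0 ≤ 0) :
    ∀ c ∈ v.toList, c ≤ 0 := by
  intro c hc
  rw [Array.mem_toList_iff, Array.mem_iff_getElem] at hc
  obtain ⟨j, hj, rfl⟩ := hc
  have e : v.getD j 0 = v[j] := by simp [Array.getD, hj]
  rw [← e]
  exact h j hj

theorem unic2c_all_nonneg (v : Array ℤ) (h : ∀ j < v.size, 0 ≤ v.getD j 0) :
    ∀ c ∈ v.toList, 0 ≤ c := by
  intro c hc
  rw [Array.mem_toList_iff, Array.mem_iff_getElem] at hc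
  obtain ⟨j, hj, rfl⟩ := hc
  have e : v.getD j 0 = v[j] := by simp [Array.getD, hj]
  rw [← e]
  exact h j hj

/-- C2c core: with the linearity statement of row C2A as a hypothesis -/
theorem unic2c_core (D : ChevalleyDatum) (hA : H8ReflAll D) (hT : uniTabChk D = true) (J : Set ℕ)
    (w : List ℕ) (hw : ∀ i ∈ w, i < D.rank)
    (hlin : ∀ s : ℕ, s < D.nroots → ∀ j : ℕ, j < D.rank →
      (D.coroot.getD (h8sW D w s) #[]).getD j 0 =
        ∑ a ∈ Finset.range D.rank, (D.coroot.getD s #[]).getD a 0 *
          (D.coroot.getD (h8sW D w (D.simple a)) #[]).getD j 0)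
    (hneg : ∀ a ∈ J, a < D.rank → D.IsNegRoot (h8sW D w (D.simple a)))
    (s : ℕ) (hs : D.IsPosRoot s) (hsJ : D.InRootSub J s) : D.IsNegRoot (h8sW D w s) := by
  have hlt : h8sW D w s < D.nroots := h8sW_lt D hA w hw s hs.1
  refine ⟨hlt, ?_⟩
  apply unic2c_all_nonpos
  intro j hj
  rw [unic2c_size D hT _ hlt] at hj
  rw [hlin s hs.1 j hj]
  apply Finset.sum_nonpos
  intro a ha
  rw [Finset.mem_range] at ha
  by_cases haJ : a ∈ J
  · have h1 := unic2c_getD_nonneg _ hs.2 a
    have h2 := unic2c_getD_nonpos _ (hneg a haJ ha).2 j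
    exact mul_nonpos_of_nonneg_of_nonpos h1 h2
  · rw [hsJ.2 a ha haJ, zero_mul]

/-- the mirror statement: fundamental roots of `J` to positive roots, then negative roots of `Φ_J`
to negative roots, etc.  Here: positive to positive. -/
theorem unic2c_core_pos (D : ChevalleyDatum) (hA : H8ReflAll D) (hT : uniTabChk D = true) (J : Set ℕ)
    (w : List ℕ) (hw : ∀ i ∈ w, i < D.rank)
    (hlin : ∀ s : ℕ, s < D.nroots → ∀ j : ℕ, j < D.rank →
      (D.coroot.getD (h8sW D w s) #[]).getD j 0 =
        ∑ a ∈ Finset.range D.rank, (D.coroot.getD s #[]).getD a 0 *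
          (D.coroot.getD (h8sW D w (D.simple a)) #[]).getD j 0)
    (hpos : ∀ a ∈ J, a < D.rank → D.IsPosRoot (h8sW D w (D.simple a)))
    (s : ℕ) (hs : D.IsPosRoot s) (hsJ : D.InRootSub J s) : D.IsPosRoot (h8sW D w s) := by
  have hlt : h8sW D w s < D.nroots := h8sW_lt D hA w hw s hs.1
  refine ⟨hlt, ?_⟩
  apply unic2c_all_nonneg
  intro j hj
  rw [unic2c_size D hT _ hlt] at hj
  rw [hlin s hs.1 j hj]
  apply Finset.sum_nonneg
  intro a ha
  rw [Finset.mem_range] at ha
  by_cases haJ : a ∈ J
  · have h1 := unic2c_getD_nonneg _ hs.2 a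
    have h2 := unic2c_getD_nonneg _ (hpos a haJ ha).2 j
    exact mul_nonneg h1 h2
  · rw [hsJ.2 a ha haJ, zero_mul]

end Chevalley

end Cfsg.Agent.Lib.Helper5.UNI
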