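import Mathlib
import Cfsg.Agent.Lib.Helper5.UNI.Defs
import Cfsg.Agent.Lib.Helper20.UNIC2A
import Cfsg.Agent.Lib.Helper29.UNIC2Ccore

/-! Project UNI (designer helper5), row C2C `uni_neg_of_simple_neg` (helper29), verbatim: the core
`unic2c_core` with helper20's landed row C2A `uni_vec_lin`. -/

set_option autoImplicit false

namespace Cfsg.Agent.Lib.Helper5.UNI

open Cfsg.Lie Cfsg.Lie.ChevalleyDatum Cfsg.Agent.Lib.helper8

section Chevalley

/-- C2c: if a word sends the fundamental roots of `J` to negative roots then it sends every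
positive root of `Φ_J` to a negative root -/
theorem uni_neg_of_simple_neg (D : ChevalleyDatum) (hA : H8ReflAll D) (hBN : H8BN D)
    (hT : uniTabChk D = true) (J : Set ℕ) (w : List ℕ) (hw : ∀ i ∈ w, i < D.rank)
    (hneg : ∀ a ∈ J, a < D.rank → D.IsNegRoot (h8sW D w (D.simple a)))
    (s : ℕ) (hs : D.IsPosRoot s) (hsJ : D.InRootSub J s) : D.IsNegRoot (h8sW D w s) :=
  unic2c_core D hA hT J w hw (fun s hs j hj => uni_vec_lin D hA hBN hT w hw s hs j hj) hneg s hs hsJ

/-- the mirror: fundamental roots of `J` to positive roots, then `Φ_J^+` to positive roots -/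
theorem unic2c_pos_of_simple_pos (D : ChevalleyDatum) (hA : H8ReflAll D) (hBN : H8BN D)
    (hT : uniTabChk D = true) (J : Set ℕ) (w : List ℕ) (hw : ∀ i ∈ w, i < D.rank)
    (hpos : ∀ a ∈ J, a < D.rank → D.IsPosRoot (h8sW D w (D.simple a)))
    (s : ℕ) (hs : D.IsPosRoot s) (hsJ : D.InRootSub J s) : D.IsPosRoot (h8sW D w s) :=
  unic2c_core_pos D hA hT J w hw (fun s hs j hj => uni_vec_lin D hA hBN hT w hw s hs j hj) hpos s hs
    hsJ

end Chevalley

end Cfsg.Agent.Lib.Helper5.UNI
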