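import Mathlib
import Cfsg.Agent.Lib.helper8.A7R.Defs
import Cfsg.Agent.Lib.helper8.SylowBasic
import Cfsg.Agent.Lib.helper8.SubgroupCard
import Cfsg.Agent.Lib.helper8.SylowConj

set_option autoImplicit false

/-!
# Project A7R (S0984, designer helper8), row B10: `cent_three` (helper29).
-/

namespace Cfsg.Agent.Lib.helper8.A7R

universe u

variable {G : Type u} [Group G]

open Subgroup

/-- the elements of an abelian subgroup `P` inverted by `j` form a subgroup -/
theorem a7rb10_exists_B (P : Subgroup G) (j : G) (hcomm : ∀ a ∈ P, ∀ b ∈ P, a * b = b * a) :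
    ∃ B : Subgroup G, ∀ y, y ∈ B ↔ y ∈ P ∧ j * y * j⁻¹ = y⁻¹ := by
  refine ⟨{ carrier := {y | y ∈ P ∧ j * y * j⁻¹ = y⁻¹}
            mul_mem' := ?_
            one_mem' := ?_
            inv_mem' := ?_ }, fun y => Iff.rfl⟩
  · rintro a b ⟨ha, ha'⟩ ⟨hb, hb'⟩
    refine ⟨P.mul_mem ha hb, ?_⟩
    have : j * (a * b) * j⁻¹ = (j * a * j⁻¹) * (j * b * j⁻¹) := by group
    rw [this, ha', hb', mul_inv_rev]
    exact hcomm _ (P.inv_mem ha) _ (P.inv_mem hb)
  · exact ⟨P.one_mem, by simp⟩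
  · rintro a ⟨ha, ha'⟩
    refine ⟨P.inv_mem ha, ?_⟩
    have : j * a⁻¹ * j⁻¹ = (j * a * j⁻¹)⁻¹ := by group
    rw [this, ha']

/-- an element with `c^2 = 1` and `c^3 = 1` is trivial -/
theorem a7rb10_eq_one_of_sq_cube (c : G) (h2 : c ^ 2 = 1) (h3 : c ^ 3 = 1) : c = 1 := by
  have : c ^ 3 = c ^ 2 * c := pow_succ c 2
  rw [h3, h2, one_mul] at this
  exact this.symm

/-- an element of order 4 normalizing a self-centralizing elementary abelian group of order 9: its square inverts the group -/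
theorem a7rb10_sq_inverts [Finite G] (P : Subgroup G) (hP9 : Nat.card P = 9)
    (hcent : ∀ g : G, (∀ y ∈ P, g * y = y * g) → g ∈ P)
    (hcomm : ∀ a ∈ P, ∀ b ∈ P, a * b = b * a)
    (he : ∀ y ∈ P, y ^ 3 = 1)
    (k : G) (hk : ∀ y ∈ P, k * y * k⁻¹ ∈ P) (hk4 : orderOf k = 4) :
    ∀ y ∈ P, k ^ 2 * y * (k ^ 2)⁻¹ = y⁻¹ := by
  classical
  set j : G := k ^ 2 with hj
  have hk4' : k ^ 4 = 1 := by rw [← hk4]; exact pow_orderOf_eq_one k
  have hjkk : j = k * k := by rw [hj, pow_two]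
  have hj2 : j * j = 1 := by rw [hj, ← pow_add]; exact hk4'
  have hjinv : j⁻¹ = j := inv_eq_of_mul_eq_one_right hj2
  have hj1 : j ≠ 1 := by
    intro h
    have : orderOf k ∣ 2 := orderOf_dvd_of_pow_eq_one h
    rw [hk4] at this
    omega
  have hjP : j ∉ P := by
    intro h
    apply hj1
    apply a7rb10_eq_one_of_sq_cube j (by rw [pow_two]; exact hj2) (he j h)
  have hjn : ∀ y ∈ P, j * y * j⁻¹ ∈ P := by
    intro y hy
    have : j * y * j⁻¹ = k * (k * y * k⁻¹) * k⁻¹ := by rw [hjkk]; group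
    rw [this]
    exact hk _ (hk _ hy)
  have hjk : ∀ y : G, j * (k * y * k⁻¹) * j⁻¹ = k * (j * y * j⁻¹) * k⁻¹ := by
    intro y; rw [hjkk]; group
  -- some element of P is moved by j
  obtain ⟨y0, hy0, hy0'⟩ : ∃ y0 ∈ P, j * y0 ≠ y0 * j := by
    by_contra hcon
    push Not at hcon
    exact hjP (hcent j hcon)
  obtain ⟨B, hB⟩ := a7rb10_exists_B P j hcomm
  -- the element b0 of B
  set b0 : G := y0 * (j * y0 * j⁻¹)⁻¹ with hb0
  have hb0P : b0 ∈ P := P.mul_mem hy0 (P.inv_mem (hjn y0 hy0))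
  have hb0B : b0 ∈ B := by
    rw [hB]
    refine ⟨hb0P, ?_⟩
    have e1 : j * b0 * j⁻¹ = (j * y0 * j⁻¹) * (j * j * y0 * (j * j)⁻¹)⁻¹ := by rw [hb0]; group
    rw [e1, hj2, hb0]
    group
  have hb01 : b0 ≠ 1 := by
    intro h
    rw [hb0, mul_inv_eq_one] at h
    apply hy0'
    calc j * y0 = (j * y0 * j⁻¹) * j := by group
      _ = y0 * j := by rw [← h]
  by_contra hcon
  push Not at hcon
  obtain ⟨y1, hy1, hy1'⟩ := hcon
  set c : G := y1 * (j * y1 * j⁻¹) with hc
  have hcP : c ∈ P := P.mul_mem hy1 (hjn y1 hy1)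
  have hc1 : c ≠ 1 := by
    intro h
    apply hy1'
    rw [hc] at h
    exact (inv_eq_of_mul_eq_one_right h).symm ▸ rfl
  have hcfix : j * c * j⁻¹ = c := by
    have e1 : j * c * j⁻¹ = (j * y1 * j⁻¹) * (j * j * y1 * (j * j)⁻¹) := by rw [hc]; group
    rw [e1, hj2, hc]
    simp only [one_mul, inv_one, mul_one]
    exact hcomm _ (hjn y1 hy1) _ hy1
  have hcB : c ∉ B := by
    intro h
    rw [hB] at h
    have h2 : c = c⁻¹ := hcfix.symm.trans h.2
    apply hc1
    apply a7rb10_eq_one_of_sq_cube c _ (he c hcP)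
    rw [pow_two]
    nth_rw 1 [h2]
    exact inv_mul_cancel c
  have hBP : B ≤ P := fun y hy => ((hB y).1 hy).1
  -- card B = 3
  have hB3 : Nat.card B = 3 := by
    have hdvd : Nat.card B ∣ 9 := hP9 ▸ Subgroup.card_dvd_of_le hBP
    have h9 : (9 : ℕ) = 3 ^ 2 := by norm_num
    rw [h9, Nat.dvd_prime_pow Nat.prime_three] at hdvd
    obtain ⟨i, hi, hi'⟩ := hdvd
    interval_cases i
    · exfalso
      have : B = ⊥ := Subgroup.card_eq_one.mp (by simpa using hi')
      rw [this, Subgroup.mem_bot] at hb0B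
      exact hb01 hb0B
    · simpa using hi'
    · exfalso
      have : B = P := Subgroup.eq_of_le_of_card_ge hBP (by rw [hP9, hi']; norm_num)
      exact hcB (this ▸ hcP)
  have hzp : zpowers b0 = B :=
    Cfsg.Agent.Lib.helper8.h8_zpowers_eq_of_prime_card 3 Nat.prime_three B hB3 b0 hb0B hb01
  have hb0o : orderOf b0 = 3 := by
    rw [← Nat.card_zpowers, hzp, hB3]
  have hkb : k * b0 * k⁻¹ ∈ B := by
    rw [hB]
    refine ⟨hk _ hb0P, ?_⟩
    rw [hjk, ((hB b0).1 hb0B).2]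
    group
  rw [← hzp, mem_zpowers_iff_mem_range_orderOf, hb0o] at hkb
  have hjb : j * b0 * j⁻¹ = b0⁻¹ := ((hB b0).1 hb0B).2
  have hjb' : j * b0 * j⁻¹ = k * (k * b0 * k⁻¹) * k⁻¹ := by rw [hjkk]; group
  have hfin : b0 = b0⁻¹ → False := by
    intro h2
    apply hb01
    apply a7rb10_eq_one_of_sq_cube b0 _ (he b0 hb0P)
    rw [pow_two]
    nth_rw 1 [h2]
    exact inv_mul_cancel b0
  simp only [Finset.mem_image, Finset.mem_range] at hkb
  obtain ⟨n, hn, hn'⟩ := hkb
  interval_cases n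
  · rw [pow_zero] at hn'
    apply hb01
    have : b0 = k⁻¹ * (k * b0 * k⁻¹) * k := by group
    rw [this, ← hn']; group
  · rw [pow_one] at hn'
    rw [← hn', ← hn'] at hjb'
    exact hfin (hjb'.symm.trans hjb)
  · have e2 : k * (b0 ^ 2) * k⁻¹ = (k * b0 * k⁻¹) ^ 2 := conj_pow.symm
    rw [← hn', e2, ← hn'] at hjb'
    have e3 : (b0 ^ 2) ^ 2 = b0 := by
      rw [← pow_mul]
      have : b0 ^ (2 * 2) = b0 ^ 3 * b0 := pow_succ b0 3
      rw [this, he b0 hb0P, one_mul]
    rw [e3] at hjb'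
    exact hfin (hjb'.symm.trans hjb)

/-- `C_{N(P)}(x) = P` for `1 ≠ x ∈ P` -/
theorem a7rb10_norm_cent (hS : Std G) (h2 : St2 G)
    (hc : ∀ P : Sylow 3 G, Cs (P : Subgroup G) = (P : Subgroup G))
    (he : ∀ P : Sylow 3 G, ∀ x ∈ (P : Subgroup G), x ^ 3 = 1)
    (hf : ∀ P : Sylow 3 G, ∃ k ∈ Nz (P : Subgroup G), orderOf k = 4)
    (P : Sylow 3 G) (x : G) (hxP : x ∈ (P : Subgroup G)) (hx1 : x ≠ 1)
    (g : G) (hg : g ∈ Nz (P : Subgroup G)) (hgx : g * x = x * g) : g ∈ (P : Subgroup G) := by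
  classical
  have := hS.finite
  have : Fact (Nat.Prime 3) := ⟨by norm_num⟩
  obtain ⟨k, hkN, hk4⟩ := hf P
  have hP9 : Nat.card (P : Subgroup G) = 9 := by
    have := Cfsg.Agent.Lib.helper8.h8_sylow_card 3 2 280 (by rw [hS.card]; norm_num) (by norm_num) P
    simpa using this
  have hN36 : Nat.card (Nz (P : Subgroup G)) = 36 := by
    have h36 := Cfsg.Agent.Lib.helper8.h8_card_normalizer_sylow 3 P
    rw [h2.syl3, hS.card] at h36
    show Nat.card (normalizer ((P : Subgroup G) : Set G)) = 36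
    omega
  have hcomm : ∀ a ∈ (P : Subgroup G), ∀ b ∈ (P : Subgroup G), a * b = b * a := by
    intro a ha b hb
    have : a ∈ Cs (P : Subgroup G) := by rw [hc P]; exact ha
    rw [Subgroup.mem_centralizer_iff] at this
    exact (this b hb).symm
  have hcent : ∀ g : G, (∀ y ∈ (P : Subgroup G), g * y = y * g) → g ∈ (P : Subgroup G) := by
    intro g hg
    rw [← hc P, Subgroup.mem_centralizer_iff]
    intro y hy
    exact (hg y hy).symm
  have hkn : ∀ y ∈ (P : Subgroup G), k * y * k⁻¹ ∈ (P : Subgroup G) := by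
    intro y hy
    exact (Subgroup.mem_normalizer_iff.mp hkN y).mp hy
  have hinv := a7rb10_sq_inverts (P : Subgroup G) hP9 hcent hcomm (he P) k hkn hk4
  have hk4' : k ^ 4 = 1 := by rw [← hk4]; exact pow_orderOf_eq_one k
  -- the complement
  have hPN : (P : Subgroup G) ≤ Nz (P : Subgroup G) := Subgroup.le_normalizer
  have hKN : zpowers k ≤ Nz (P : Subgroup G) := by rw [zpowers_le]; exact hkN
  have hcompl : IsComplement' ((P : Subgroup G).subgroupOf (Nz (P : Subgroup G)))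
      ((zpowers k).subgroupOf (Nz (P : Subgroup G))) := by
    apply isComplement'_of_coprime
    · rw [Cfsg.Agent.Lib.helper8.h8_card_subgroupOf hPN,
        Cfsg.Agent.Lib.helper8.h8_card_subgroupOf hKN, hP9, Nat.card_zpowers, hk4, hN36]
    · rw [Cfsg.Agent.Lib.helper8.h8_card_subgroupOf hPN,
        Cfsg.Agent.Lib.helper8.h8_card_subgroupOf hKN, hP9, Nat.card_zpowers, hk4]
      norm_num
  obtain ⟨⟨⟨p, hp⟩, ⟨k', hk'⟩⟩, hpk⟩ := hcompl.2 ⟨g, hg⟩
  replace hp : (p : G) ∈ (P : Subgroup G) := hp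
  replace hk' : (k' : G) ∈ zpowers k := hk'
  have hpk' : (p : G) * (k' : G) = g := congrArg Subtype.val hpk
  -- k' commutes with x
  have hk'x : Commute (k' : G) x := by
    have e : (k' : G) = (p : G)⁻¹ * g := by rw [← hpk']; group
    rw [e]
    exact (Commute.inv_left (hcomm _ hp _ hxP)).mul_left hgx
  -- if j commutes with x then x = 1
  have hjx : Commute (k ^ 2) x → False := by
    intro hjc
    have h1 := hinv x hxP
    have h2' : k ^ 2 * x * (k ^ 2)⁻¹ = x := by rw [hjc.eq]; group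
    apply hx1
    apply a7rb10_eq_one_of_sq_cube x _ (he P x hxP)
    have h3 : x = x⁻¹ := h2'.symm.trans h1
    rw [pow_two]
    nth_rw 1 [h3]
    exact inv_mul_cancel x
  rw [mem_zpowers_iff_mem_range_orderOf, hk4] at hk'
  simp only [Finset.mem_image, Finset.mem_range] at hk'
  obtain ⟨n, hn, hn'⟩ := hk'
  interval_cases n
  · rw [pow_zero] at hn'
    rw [← hpk', ← hn', mul_one]
    exact hp
  · exfalso
    rw [pow_one] at hn'
    rw [← hn'] at hk'x
    exact hjx (hk'x.pow_left 2)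
  · exfalso
    rw [← hn'] at hk'x
    exact hjx hk'x
  · exfalso
    rw [← hn'] at hk'x
    have h6 : (k ^ 3) ^ 2 = k ^ 2 := by
      rw [← pow_mul]
      have : k ^ (3 * 2) = k ^ 4 * k ^ 2 := by rw [← pow_add]
      rw [this, hk4', one_mul]
    have := hk'x.pow_left 2
    rw [h6] at this
    exact hjx this

/-- membership in the centralizer of an element -/
theorem a7rb10_mem_Cz (x y : G) : y ∈ Cz x ↔ x * y = y * x := by
  rw [Subgroup.mem_centralizer_iff]
  constructor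
  · intro h; exact h x rfl
  · intro h z hz; rw [Set.mem_singleton_iff.mp hz]; exact h

/-- the arithmetic of `|C(x)| = 9 m` -/
theorem a7rb10_arith (m : ℕ) (h1 : 9 * m ∣ 2520) (h5 : ¬ 5 ∣ 9 * m) (h7 : ¬ 7 ∣ 9 * m)
    (h3 : m % 3 = 1) : m = 1 ∨ m = 4 := by
  have hm : m ∣ 280 := by
    have : 9 * m ∣ 9 * 280 := by norm_num; exact h1
    exact Nat.dvd_of_mul_dvd_mul_left (by norm_num) this
  have hle : m ≤ 280 := Nat.le_of_dvd (by norm_num) hm
  interval_cases m <;> omega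

/-- no element of order 7 centralizes an element of order 3 -/
theorem a7rb10_no7 (hS : Std G) (h1 : St1 G) (x : G) (hx : orderOf x = 3) :
    ¬ 7 ∣ Nat.card (Cz x) := by
  have := hS.finite
  intro h7
  have : Fact (Nat.Prime 7) := ⟨by norm_num⟩
  obtain ⟨z, hz⟩ := exists_prime_orderOf_dvd_card' (G := Cz x) 7 h7
  have hz' : orderOf (z : G) = 7 := by rw [Subgroup.orderOf_coe]; exact hz
  have hzx : x * (z : G) = (z : G) * x := (a7rb10_mem_Cz x z).1 z.2
  have hxz : x ∈ Cz (z : G) := (a7rb10_mem_Cz _ _).2 hzx.symm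
  rw [h1.selfc7 _ hz'] at hxz
  have := orderOf_dvd_of_mem_zpowers hxz
  rw [hx, hz'] at this
  omega

/-- no element of order 5 centralizes an element of order 3 -/
theorem a7rb10_no5 (hS : Std G) (h2 : St2 G) (x : G) (hx : orderOf x = 3) :
    ¬ 5 ∣ Nat.card (Cz x) := by
  have := hS.finite
  intro h5
  have : Fact (Nat.Prime 5) := ⟨by norm_num⟩
  obtain ⟨z, hz⟩ := exists_prime_orderOf_dvd_card' (G := Cz x) 5 h5
  have hz' : orderOf (z : G) = 5 := by rw [Subgroup.orderOf_coe]; exact hz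
  have hzx : Commute x (z : G) := (a7rb10_mem_Cz x z).1 z.2
  have := hzx.orderOf_mul_eq_mul_orderOf_of_coprime (by rw [hx, hz']; norm_num)
  rw [hx, hz'] at this
  exact h2.no15 _ this

/-- a normal subgroup of order 4 of `C(x)` (`x` in a self-centralizing elementary abelian 3-group `P`) has exponent 2 -/
theorem a7rb10_exp_two [Finite G] (P V : Subgroup G)
    (hcent : ∀ g : G, (∀ y ∈ P, g * y = y * g) → g ∈ P)
    (he : ∀ y ∈ P, y ^ 3 = 1)
    (hV4 : Nat.card V = 4) (hVn : ∀ y ∈ P, ∀ v ∈ V, y * v * y⁻¹ ∈ V) :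
    ∀ v ∈ V, v ^ 2 = 1 := by
  classical
  intro v hv
  by_contra hv2
  have hdvd : orderOf v ∣ 4 := hV4 ▸ Subgroup.orderOf_dvd_natCard V hv
  have ho4 : orderOf v = 4 := by
    have hle : orderOf v ≤ 4 := Nat.le_of_dvd (by norm_num) hdvd
    have hpos : 0 < orderOf v := orderOf_pos v
    have h2 : ¬ orderOf v ∣ 2 := fun h => hv2 (orderOf_dvd_iff_pow_eq_one.mp h)
    interval_cases h : orderOf v <;> omega
  have hv4 : v ^ 4 = 1 := by rw [← ho4]; exact pow_orderOf_eq_one v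
  have hzp : zpowers v = V := by
    apply Subgroup.eq_of_le_of_card_ge
    · rw [zpowers_le]; exact hv
    · rw [Nat.card_zpowers, ho4, hV4]
  have hvP : v ∈ P := by
    apply hcent
    intro y hy
    have h1 := hVn y hy v hv
    rw [← hzp, mem_zpowers_iff_mem_range_orderOf, ho4] at h1
    simp only [Finset.mem_image, Finset.mem_range] at h1
    obtain ⟨n, hn, hn'⟩ := h1
    have hconj2 : (y * v * y⁻¹) ^ 2 = y * v ^ 2 * y⁻¹ := conj_pow
    interval_cases n
    · exfalso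
      rw [pow_zero] at hn'
      apply hv2
      have : v = y⁻¹ * (y * v * y⁻¹) * y := by group
      rw [this, ← hn']; group
    · rw [pow_one] at hn'
      have : v * y = y * v * y⁻¹ * y := by rw [← hn']
      rw [this]; group
    · exfalso
      apply hv2
      have h3 : y * v ^ 2 * y⁻¹ = 1 := by
        rw [← hconj2, ← hn', ← pow_mul]; exact hv4
      have : v ^ 2 = y⁻¹ * (y * v ^ 2 * y⁻¹) * y := by group
      rw [this, h3]; group
    · exfalso
      apply hv2
      -- y v y⁻¹ = v³ = v⁻¹, so y³ v y⁻³ = v⁻¹, i.e. v = v⁻¹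
      have hinv : y * v * y⁻¹ = v⁻¹ := by
        rw [← hn']
        apply eq_inv_of_mul_eq_one_left
        rw [← pow_succ]; exact hv4
      have hinv' : y * v⁻¹ * y⁻¹ = v := by
        have : y * v⁻¹ * y⁻¹ = (y * v * y⁻¹)⁻¹ := by group
        rw [this, hinv, inv_inv]
      have h3 : y ^ 3 * v * (y ^ 3)⁻¹ = v⁻¹ := by
        have : y ^ 3 * v * (y ^ 3)⁻¹ = y * (y * (y * v * y⁻¹) * y⁻¹) * y⁻¹ := by
          rw [pow_succ, pow_two]; group
        rw [this, hinv, hinv', hinv]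
      rw [he y hy] at h3
      simp only [one_mul, inv_one, mul_one] at h3
      rw [pow_two]
      nth_rw 1 [h3]
      exact inv_mul_cancel v
  apply hv2
  apply a7rb10_eq_one_of_sq_cube (v ^ 2)
  · rw [← pow_mul]; exact hv4
  · rw [← pow_mul]
    have : v ^ (2 * 3) = (v ^ 3) ^ 2 := by rw [← pow_mul]
    rw [this, he v hvP, one_pow]

/-- B10 [L]: centralizers of elements of order 3. -/
theorem cent_three (hS : Std G) (h1 : St1 G) (h2 : St2 G)
    (hc : ∀ P : Sylow 3 G, Cs (P : Subgroup G) = (P : Subgroup G))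
    (he : ∀ P : Sylow 3 G, ∀ x ∈ (P : Subgroup G), x ^ 3 = 1)
    (hf : ∀ P : Sylow 3 G, ∃ k ∈ Nz (P : Subgroup G), orderOf k = 4) (x : G) (hx : orderOf x = 3) :
    (Is3A x ∨ Is3B x) ∧ (Is3A x → ∃ V : Subgroup G, V ≤ Cz x ∧ Nat.card V = 4 ∧ (∀ v ∈ V, v ^ 2 = 1) ∧
      (∀ g ∈ Cz x, ∀ v ∈ V, g * v * g⁻¹ ∈ V) ∧ (∀ u ∈ Cz x, orderOf u = 2 → u ∈ V)) := by
  classical
  have := hS.finite
  have : Fact (Nat.Prime 3) := ⟨by norm_num⟩
  have hzp : IsPGroup 3 (zpowers x) :=
    IsPGroup.of_card (n := 1) (by rw [Nat.card_zpowers, hx]; norm_num)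
  obtain ⟨P, hxP'⟩ := hzp.exists_le_sylow
  have hxP : x ∈ (P : Subgroup G) := hxP' (mem_zpowers x)
  have hx1 : x ≠ 1 := by
    rintro rfl
    simp at hx
  have hP9 : Nat.card (P : Subgroup G) = 9 := by
    have := Cfsg.Agent.Lib.helper8.h8_sylow_card 3 2 280 (by rw [hS.card]; norm_num) (by norm_num) P
    simpa using this
  have hcomm : ∀ a ∈ (P : Subgroup G), ∀ b ∈ (P : Subgroup G), a * b = b * a := by
    intro a ha b hb
    have : a ∈ Cs (P : Subgroup G) := by rw [hc P]; exact ha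
    rw [Subgroup.mem_centralizer_iff] at this
    exact (this b hb).symm
  have hcent : ∀ g : G, (∀ y ∈ (P : Subgroup G), g * y = y * g) → g ∈ (P : Subgroup G) := by
    intro g hg
    rw [← hc P, Subgroup.mem_centralizer_iff]
    intro y hy
    exact (hg y hy).symm
  have hPle : (P : Subgroup G) ≤ Cz x := by
    intro y hy
    rw [a7rb10_mem_Cz]
    exact hcomm x hxP y hy
  -- the normalizer of `P` in `C(x)`
  have hnorm : ∀ n : Cz x, n ∈ normalizer ((P.subtype hPle : Sylow 3 (Cz x)) : Set (Cz x)) →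
      (n : G) ∈ (P : Subgroup G) := by
    intro n hn
    refine a7rb10_norm_cent hS h2 hc he hf P x hxP hx1 (n : G) ?_ ?_
    · apply Cfsg.Agent.Lib.helper8.h8_mem_normalizer_of_conj_le 3 P
      intro y hy
      have hn' := (normalizer ((P.subtype hPle : Sylow 3 (Cz x)) : Set (Cz x))).inv_mem hn
      have h3 := (Subgroup.mem_normalizer_iff.mp hn' ⟨y, hPle hy⟩).mp
        (show (⟨y, hPle hy⟩ : Cz x) ∈ ((P.subtype hPle : Sylow 3 (Cz x)) : Subgroup (Cz x)) from hy)
      have h4 : ((n⁻¹ * ⟨y, hPle hy⟩ * n⁻¹⁻¹ : Cz x) : G) ∈ (P : Subgroup G) := h3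
      simpa using h4
    · exact ((a7rb10_mem_Cz x n).1 n.2).symm
  have hNP : normalizer ((P.subtype hPle : Sylow 3 (Cz x)) : Set (Cz x)) =
      ((P.subtype hPle : Sylow 3 (Cz x)) : Subgroup (Cz x)) := by
    apply le_antisymm
    · intro n hn
      exact hnorm n hn
    · exact Subgroup.le_normalizer
  have hPC9 : Nat.card ((P.subtype hPle : Sylow 3 (Cz x)) : Subgroup (Cz x)) = 9 := by
    rw [Sylow.coe_subtype, Cfsg.Agent.Lib.helper8.h8_card_subgroupOf hPle, hP9]
  -- the index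
  have hidx : Nat.card (Sylow 3 (Cz x)) =
      ((P.subtype hPle : Sylow 3 (Cz x)) : Subgroup (Cz x)).index := by
    rw [(P.subtype hPle).card_eq_index_normalizer, hNP]
  have hmod : ((P.subtype hPle : Sylow 3 (Cz x)) : Subgroup (Cz x)).index % 3 = 1 := by
    rw [← hidx]
    exact Cfsg.Agent.Lib.helper8.h8_nsylow_mod 3
  have hcardH : 9 * ((P.subtype hPle : Sylow 3 (Cz x)) : Subgroup (Cz x)).index = Nat.card (Cz x) := by
    rw [← hPC9]
    exact Subgroup.card_mul_index _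
  have hdvd : Nat.card (Cz x) ∣ 2520 := by
    rw [← hS.card]
    exact Subgroup.card_subgroup_dvd_card _
  have hm := a7rb10_arith _ (hcardH ▸ hdvd) (hcardH ▸ a7rb10_no5 hS h2 x hx)
    (hcardH ▸ a7rb10_no7 hS h1 x hx) hmod
  refine ⟨?_, ?_⟩
  · rcases hm with hm | hm
    · right
      refine ⟨hx, ?_⟩
      rw [← hcardH, hm]
    · left
      refine ⟨hx, ?_⟩
      rw [← hcardH, hm]
  · rintro ⟨-, h36⟩
    -- Burnside's transfer
    have hPcen : normalizer ((P.subtype hPle : Sylow 3 (Cz x)) : Set (Cz x)) ≤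
        centralizer ((P.subtype hPle : Sylow 3 (Cz x)) : Set (Cz x)) := by
      intro n hn
      rw [Subgroup.mem_centralizer_iff]
      intro h hh
      apply Subtype.ext
      exact hcomm _ hh _ (hnorm n hn)
    have hcompl := MonoidHom.ker_transferSylow_isComplement' (P.subtype hPle) hPcen
    have hQ4 : Nat.card (MonoidHom.transferSylow (P.subtype hPle) hPcen).ker = 4 := by
      have := hcompl.card_mul_card
      rw [hPC9, h36] at this
      omega
    refine ⟨(MonoidHom.transferSylow (P.subtype hPle) hPcen).ker.map (Cz x).subtype,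
      Subgroup.map_subtype_le _, ?_, ?_, ?_, ?_⟩
    · rw [Subgroup.card_subtype, hQ4]
    · -- exponent 2
      apply a7rb10_exp_two (P : Subgroup G) _ hcent (he P)
      · rw [Subgroup.card_subtype, hQ4]
      · rintro y hy v ⟨q, hq, rfl⟩
        refine ⟨⟨y, hPle hy⟩ * q * ⟨y, hPle hy⟩⁻¹, ?_, by simp⟩
        exact (inferInstance : (MonoidHom.transferSylow (P.subtype hPle) hPcen).ker.Normal).conj_mem
          q hq ⟨y, hPle hy⟩
    · rintro g hg v ⟨q, hq, rfl⟩
      refine ⟨⟨g, hg⟩ * q * ⟨g, hg⟩⁻¹, ?_, by simp⟩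
      exact (inferInstance : (MonoidHom.transferSylow (P.subtype hPle) hPcen).ker.Normal).conj_mem
        q hq ⟨g, hg⟩
    · intro u hu hu2
      refine ⟨⟨u, hu⟩, ?_, rfl⟩
      rw [SetLike.mem_coe, MonoidHom.mem_ker]
      have ht2 : (MonoidHom.transferSylow (P.subtype hPle) hPcen ⟨u, hu⟩) ^ 2 = 1 := by
        rw [← map_pow]
        have : (⟨u, hu⟩ : Cz x) ^ 2 = 1 := by
          apply Subtype.ext
          simp only [Subgroup.coe_pow, Subgroup.coe_one]
          rw [← hu2]; exact pow_orderOf_eq_one u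
        rw [this, map_one]
      have hd2 : orderOf (MonoidHom.transferSylow (P.subtype hPle) hPcen ⟨u, hu⟩) ∣ 2 :=
        orderOf_dvd_of_pow_eq_one ht2
      have hd9 : orderOf (MonoidHom.transferSylow (P.subtype hPle) hPcen ⟨u, hu⟩) ∣ 9 := by
        rw [← hPC9]
        exact orderOf_dvd_natCard _
      have hd1 : orderOf (MonoidHom.transferSylow (P.subtype hPle) hPcen ⟨u, hu⟩) ∣ 1 :=
        Nat.dvd_gcd hd2 hd9
      exact orderOf_eq_one_iff.mp (Nat.dvd_one.mp hd1)

end Cfsg.Agent.Lib.helper8.A7R
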