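import Mathlib
import Cfsg.Agent.Lib.helper8.A7R.Defs
import Cfsg.Agent.Lib.helper8.SylowBasic
import Cfsg.Agent.Lib.helper8.SubgroupCard
import Cfsg.Agent.Lib.helper8.SylowConj
import Cfsg.Agent.Lib.Helper29.A7RB10

set_option autoImplicit false

/-!
# Project A7R (S0984, designer helper8), row A01: `frob_struct` (helper29).
-/

namespace Cfsg.Agent.Lib.helper8.A7R

universe u

variable {G : Type u} [Group G]

open Subgroup

/-- `x = x⁻¹` and `x^3 = 1` force `x = 1` -/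
theorem a7ra01_eq_one_of_eq_inv (x : G) (h : x = x⁻¹) (h3 : x ^ 3 = 1) : x = 1 := by
  apply a7rb10_eq_one_of_sq_cube x _ h3
  rw [pow_two]
  nth_rw 1 [h]
  exact inv_mul_cancel x

/-- if `k^2` inverts `x` (`x^3 = 1`, `x ≠ 1`) then `k` does not normalize `⟨x⟩` -/
theorem a7ra01_nofix [Finite G] (k x : G) (hinv : k ^ 2 * x * (k ^ 2)⁻¹ = x⁻¹) (h3 : x ^ 3 = 1) (hx1 : x ≠ 1) :
    k * x * k⁻¹ ∉ Subgroup.zpowers x := by
  classical
  intro hmem
  have ho : orderOf x = 3 := by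
    have hd : orderOf x ∣ 3 := orderOf_dvd_of_pow_eq_one h3
    rcases (Nat.dvd_prime Nat.prime_three).mp hd with h | h
    · exact absurd (orderOf_eq_one_iff.mp h) hx1
    · exact h
  have hjkk : k ^ 2 * x * (k ^ 2)⁻¹ = k * (k * x * k⁻¹) * k⁻¹ := by rw [pow_two]; group
  rw [hjkk] at hinv
  rw [mem_zpowers_iff_mem_range_orderOf, ho] at hmem
  simp only [Finset.mem_image, Finset.mem_range] at hmem
  obtain ⟨n, hn, hn'⟩ := hmem
  interval_cases n
  · rw [pow_zero] at hn'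
    apply hx1
    have : x = k⁻¹ * (k * x * k⁻¹) * k := by group
    rw [this, ← hn']; group
  · rw [pow_one] at hn'
    rw [← hn', ← hn'] at hinv
    exact hx1 (a7ra01_eq_one_of_eq_inv x hinv h3)
  · have e2 : k * (x ^ 2) * k⁻¹ = (k * x * k⁻¹) ^ 2 := conj_pow.symm
    rw [← hn', e2, ← hn'] at hinv
    have e3 : (x ^ 2) ^ 2 = x := by
      rw [← pow_mul]
      have : x ^ (2 * 2) = x ^ 3 * x := pow_succ x 3
      rw [this, h3, one_mul]
    rw [e3] at hinv
    exact hx1 (a7ra01_eq_one_of_eq_inv x hinv h3)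

/-- `N(P) = P ⟨k⟩` -/
theorem a7ra01_prod [Finite G] (P : Subgroup G) (hP9 : Nat.card P = 9) (hN36 : Nat.card (Nz P) = 36)
    (k : G) (hk : k ∈ Nz P) (hk4 : orderOf k = 4) :
    ∀ n ∈ Nz P, ∃ x ∈ P, ∃ i : ℕ, n = x * k ^ i := by
  classical
  intro n hn
  have hPN : P ≤ Nz P := Subgroup.le_normalizer
  have hKN : zpowers k ≤ Nz P := by rw [zpowers_le]; exact hk
  have hcompl : IsComplement' (P.subgroupOf (Nz P)) ((zpowers k).subgroupOf (Nz P)) := by
    apply isComplement'_of_coprime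
    · rw [Cfsg.Agent.Lib.helper8.h8_card_subgroupOf hPN,
        Cfsg.Agent.Lib.helper8.h8_card_subgroupOf hKN, hP9, Nat.card_zpowers, hk4, hN36]
    · rw [Cfsg.Agent.Lib.helper8.h8_card_subgroupOf hPN,
        Cfsg.Agent.Lib.helper8.h8_card_subgroupOf hKN, hP9, Nat.card_zpowers, hk4]
      norm_num
  obtain ⟨⟨⟨p, hp⟩, ⟨k', hk'⟩⟩, hpk⟩ := hcompl.2 ⟨n, hn⟩
  replace hp : (p : G) ∈ P := hp
  replace hk' : (k' : G) ∈ zpowers k := hk'
  have hpk' : (p : G) * (k' : G) = n := congrArg Subtype.val hpk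
  rw [mem_zpowers_iff_mem_range_orderOf] at hk'
  simp only [Finset.mem_image, Finset.mem_range] at hk'
  obtain ⟨i, -, hi⟩ := hk'
  exact ⟨p, hp, i, by rw [hi, hpk']⟩

/-- A01 [M]: the Frobenius structure of `N(P)`. -/
theorem frob_struct (hS : Std G) (h2 : St2 G) (h3 : St3 G) (P : Sylow 3 G) (k : G) (hk : k ∈ Nz (P : Subgroup G)) (hk4 : orderOf k = 4) :
    (∀ x ∈ (P : Subgroup G), k ^ 2 * x * (k ^ 2)⁻¹ = x⁻¹) ∧
    (∀ x ∈ (P : Subgroup G), x ≠ 1 → k * x * k⁻¹ ∉ Subgroup.zpowers x) ∧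
    (∀ n ∈ Nz (P : Subgroup G), ∃ x ∈ (P : Subgroup G), ∃ i : ℕ, n = x * k ^ i) ∧
    Nat.card (Nz (P : Subgroup G)) = 36 := by
  have := hS.finite
  have : Fact (Nat.Prime 3) := ⟨by norm_num⟩
  have hP9 : Nat.card (P : Subgroup G) = 9 := by
    have := Cfsg.Agent.Lib.helper8.h8_sylow_card 3 2 280 (by rw [hS.card]; norm_num) (by norm_num) P
    simpa using this
  have hN36 : Nat.card (Nz (P : Subgroup G)) = 36 := by
    have h36 := Cfsg.Agent.Lib.helper8.h8_card_normalizer_sylow 3 P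
    rw [h2.syl3, hS.card] at h36
    show Nat.card (normalizer ((P : Subgroup G) : Set G)) = 36
    omega
  have hcomm : ∀ a ∈ (P : Subgroup G), ∀ b ∈ (P : Subgroup G), a * b = b * a := by
    intro a ha b hb
    have : a ∈ Cs (P : Subgroup G) := by rw [h3.centP P]; exact ha
    rw [Subgroup.mem_centralizer_iff] at this
    exact (this b hb).symm
  have hcent : ∀ g : G, (∀ y ∈ (P : Subgroup G), g * y = y * g) → g ∈ (P : Subgroup G) := by
    intro g hg
    rw [← h3.centP P, Subgroup.mem_centralizer_iff]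
    intro y hy
    exact (hg y hy).symm
  have hkn : ∀ y ∈ (P : Subgroup G), k * y * k⁻¹ ∈ (P : Subgroup G) := by
    intro y hy
    exact (Subgroup.mem_normalizer_iff.mp hk y).mp hy
  have hinv := a7rb10_sq_inverts (P : Subgroup G) hP9 hcent hcomm (h3.expP P) k hkn hk4
  refine ⟨hinv, ?_, a7ra01_prod (P : Subgroup G) hP9 hN36 k hk hk4, hN36⟩
  intro x hx hx1
  exact a7ra01_nofix k x (hinv x hx) (h3.expP P x hx) hx1

end Cfsg.Agent.Lib.helper8.A7R
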