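import Mathlib
import Cfsg.Agent.Lib.helper8.A7R.Defs

set_option autoImplicit false

/-!
# Project A7R (S0984, designer helper8), row A04b: `t_notin_NP` (helper29).
-/

namespace Cfsg.Agent.Lib.helper8.A7R

universe u

variable {G : Type u} [Group G]

open Subgroup

/-- A04b [S]: `t ∉ N(P)`: otherwise `N(K) = K ∪ t K ≤ N(P)` and `8 ∣ 36`. -/
theorem t_notin_NP (hS : Std G) (P : Sylow 3 G) (k t : G) (hk : k ∈ Nz (P : Subgroup G)) (hk4 : orderOf k = 4)
    (hcardN : Nat.card (Nz (P : Subgroup G)) = 36) (ht : t ∈ Nz (Subgroup.zpowers k)) (htK : t ∉ Subgroup.zpowers k)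
    (ht2 : orderOf t = 2) (htk : t * k * t⁻¹ = k⁻¹) (hcardNK : Nat.card (Nz (Subgroup.zpowers k)) = 8) :
    t ∉ Nz (P : Subgroup G) := by
  have := hS.finite
  intro htP
  have hKD : zpowers k ≤ zpowers k ⊔ zpowers t := le_sup_left
  have hDNK : zpowers k ⊔ zpowers t ≤ Nz (zpowers k) := by
    apply sup_le Subgroup.le_normalizer
    rw [zpowers_le]; exact ht
  have hDNP : zpowers k ⊔ zpowers t ≤ Nz (P : Subgroup G) := by
    apply sup_le
    · rw [zpowers_le]; exact hk
    · rw [zpowers_le]; exact htP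
  have h4 : 4 ∣ Nat.card (zpowers k ⊔ zpowers t : Subgroup G) := by
    have := Subgroup.card_dvd_of_le hKD
    rwa [Nat.card_zpowers, hk4] at this
  have h8 : Nat.card (zpowers k ⊔ zpowers t : Subgroup G) ∣ 8 :=
    hcardNK ▸ Subgroup.card_dvd_of_le hDNK
  have h36 : Nat.card (zpowers k ⊔ zpowers t : Subgroup G) ∣ 36 :=
    hcardN ▸ Subgroup.card_dvd_of_le hDNP
  have hne4 : Nat.card (zpowers k ⊔ zpowers t : Subgroup G) ≠ 4 := by
    intro h
    have : zpowers k = zpowers k ⊔ zpowers t :=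
      Subgroup.eq_of_le_of_card_ge hKD (by rw [h, Nat.card_zpowers, hk4])
    apply htK
    rw [this]
    exact (le_sup_right : zpowers t ≤ zpowers k ⊔ zpowers t) (Subgroup.mem_zpowers t)
  have hle : Nat.card (zpowers k ⊔ zpowers t : Subgroup G) ≤ 8 := Nat.le_of_dvd (by norm_num) h8
  interval_cases h : Nat.card (zpowers k ⊔ zpowers t : Subgroup G) <;> omega

end Cfsg.Agent.Lib.helper8.A7R
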