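import Mathlib
import Cfsg.Agent.Lib.helper8.A7R.Defs
import Cfsg.Agent.Lib.helper8.SylowBasic
import Cfsg.Agent.Lib.helper8.SubgroupCard
import Cfsg.Agent.Lib.helper8.SylowConj

set_option autoImplicit false

/-!
# Project A7R (S0984, designer helper8), row A06: `inter` (helper29).
-/

namespace Cfsg.Agent.Lib.helper8.A7R

universe u

variable {G : Type u} [Group G]

open Subgroup

/-- `conjS t P` is the Sylow subgroup `t • P` -/
theorem a7ra06_conjS_eq {p : ℕ} (P : Sylow p G) (t : G) :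
    conjS t (P : Subgroup G) = ((t • P : Sylow p G) : Subgroup G) := by
  ext y
  rw [mem_conjS, Cfsg.Agent.Lib.helper8.h8_mem_smul_sylow]

/-- if `t` normalizes `⟨k⟩` and `k` normalizes `P`, then `k` normalizes `t • P` -/
theorem a7ra06_k_mem [Finite G] {p : ℕ} [Fact p.Prime] (P : Sylow p G) (k t : G)
    (hk : k ∈ Nz (P : Subgroup G)) (ht : t ∈ Nz (Subgroup.zpowers k)) :
    k ∈ Nz ((t • P : Sylow p G) : Subgroup G) := by
  have ht' := (Nz (Subgroup.zpowers k)).inv_mem ht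
  have h1 : t⁻¹ * k * t⁻¹⁻¹ ∈ Subgroup.zpowers k :=
    (Subgroup.mem_normalizer_iff.mp ht' k).mp (Subgroup.mem_zpowers k)
  have hKN : zpowers k ≤ Nz (P : Subgroup G) := by rw [zpowers_le]; exact hk
  have h2 : t⁻¹ * k * t⁻¹⁻¹ ∈ Nz (P : Subgroup G) := hKN h1
  have h3 : (t⁻¹ * k * t⁻¹⁻¹) • P = P := Sylow.smul_eq_iff_mem_normalizer.mpr h2
  apply Sylow.smul_eq_iff_mem_normalizer.mp
  rw [← mul_smul]
  have e : k * t = t * (t⁻¹ * k * t⁻¹⁻¹) := by group
  rw [e, mul_smul, h3]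

/-- A06 [M]: `N(P) ∩ N(Q) = K`, `Q = t P t⁻¹`. -/
theorem inter (hS : Std G) (h3 : St3 G) (P : Sylow 3 G) (k t : G) (hk : k ∈ Nz (P : Subgroup G)) (hk4 : orderOf k = 4)
    (hnofix : ∀ x ∈ (P : Subgroup G), x ≠ 1 → k * x * k⁻¹ ∉ Subgroup.zpowers x)
    (hprod : ∀ n ∈ Nz (P : Subgroup G), ∃ x ∈ (P : Subgroup G), ∃ i : ℕ, n = x * k ^ i)
    (ht : t ∈ Nz (Subgroup.zpowers k)) (htP : t ∉ Nz (P : Subgroup G)) :
    ∀ g : G, g ∈ Nz (P : Subgroup G) → g ∈ Nz (conjS t (P : Subgroup G)) → g ∈ Subgroup.zpowers k := by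
  have := hS.finite
  have : Fact (Nat.Prime 3) := ⟨by norm_num⟩
  intro g hgP hgQ
  rw [a7ra06_conjS_eq] at hgQ
  have hkQ := a7ra06_k_mem P k t hk ht
  obtain ⟨x, hx, i, hgi⟩ := hprod g hgP
  have hP9 : Nat.card (P : Subgroup G) = 9 := by
    have := Cfsg.Agent.Lib.helper8.h8_sylow_card 3 2 280 (by rw [hS.card]; norm_num) (by norm_num) P
    simpa using this
  by_cases hx1 : x = 1
  · rw [hgi, hx1, one_mul]
    exact Subgroup.pow_mem _ (Subgroup.mem_zpowers k) i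
  · exfalso
    have hxNQ : x ∈ Nz ((t • P : Sylow 3 G) : Subgroup G) := by
      have e : x = g * (k ^ i)⁻¹ := by rw [hgi]; group
      rw [e]
      exact Subgroup.mul_mem _ hgQ (Subgroup.inv_mem _ (Subgroup.pow_mem _ hkQ i))
    have hx3 : x ^ 3 = 1 := h3.expP P x hx
    have ho : orderOf x = 3 := by
      have hd : orderOf x ∣ 3 := orderOf_dvd_of_pow_eq_one hx3
      rcases (Nat.dvd_prime Nat.prime_three).mp hd with h | h
      · exact absurd (orderOf_eq_one_iff.mp h) hx1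
      · exact h
    have hxQ : x ∈ ((t • P : Sylow 3 G) : Subgroup G) :=
      Cfsg.Agent.Lib.helper8.h8_mem_sylow_of_mem_normalizer 3 (t • P) x 1 (by rw [ho]; norm_num) hxNQ
    have hkxP : k * x * k⁻¹ ∈ (P : Subgroup G) := (Subgroup.mem_normalizer_iff.mp hk x).mp hx
    have hkxQ : k * x * k⁻¹ ∈ ((t • P : Sylow 3 G) : Subgroup G) :=
      (Subgroup.mem_normalizer_iff.mp hkQ x).mp hxQ
    have hzD : zpowers x ≤ (P : Subgroup G) ⊓ ((t • P : Sylow 3 G) : Subgroup G) := by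
      rw [zpowers_le]; exact ⟨hx, hxQ⟩
    have hdvd : Nat.card ((P : Subgroup G) ⊓ ((t • P : Sylow 3 G) : Subgroup G) : Subgroup G) ∣ 9 :=
      hP9 ▸ Subgroup.card_dvd_of_le inf_le_left
    have h3dvd : 3 ∣ Nat.card ((P : Subgroup G) ⊓ ((t • P : Sylow 3 G) : Subgroup G) : Subgroup G) := by
      have := Subgroup.card_dvd_of_le hzD
      rwa [Nat.card_zpowers, ho] at this
    have hne3 : Nat.card ((P : Subgroup G) ⊓ ((t • P : Sylow 3 G) : Subgroup G) : Subgroup G) ≠ 3 := by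
      intro h
      have : zpowers x = (P : Subgroup G) ⊓ ((t • P : Sylow 3 G) : Subgroup G) :=
        Subgroup.eq_of_le_of_card_ge hzD (by rw [h, Nat.card_zpowers, ho])
      apply hnofix x hx hx1
      rw [this]
      exact ⟨hkxP, hkxQ⟩
    have h9 : Nat.card ((P : Subgroup G) ⊓ ((t • P : Sylow 3 G) : Subgroup G) : Subgroup G) = 9 := by
      have hle : Nat.card ((P : Subgroup G) ⊓ ((t • P : Sylow 3 G) : Subgroup G) : Subgroup G) ≤ 9 :=
        Nat.le_of_dvd (by norm_num) hdvd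
      interval_cases h : Nat.card ((P : Subgroup G) ⊓ ((t • P : Sylow 3 G) : Subgroup G) : Subgroup G) <;> omega
    have hDP : (P : Subgroup G) ⊓ ((t • P : Sylow 3 G) : Subgroup G) = (P : Subgroup G) :=
      Subgroup.eq_of_le_of_card_ge inf_le_left (by rw [h9, hP9])
    have hPQ : (P : Subgroup G) ≤ ((t • P : Sylow 3 G) : Subgroup G) := by
      rw [← hDP]; exact inf_le_right
    have := Cfsg.Agent.Lib.helper8.h8_sylow_eq_of_le 3 P (t • P) hPQ
    exact htP (Sylow.smul_eq_iff_mem_normalizer.mp this.symm)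

end Cfsg.Agent.Lib.helper8.A7R
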