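import Mathlib
import Cfsg.Agent.Lib.helper8.A7R.Defs

set_option autoImplicit false

/-!
# Project A7R (S0984, designer helper8), row B09d: `no4_conj` (helper29).
-/

namespace Cfsg.Agent.Lib.helper8.A7R

universe u

variable {G : Type u} [Group G]

/-- membership in a conjugate Sylow subgroup -/
theorem a7rb09d_mem_smul {p : ℕ} (P : Sylow p G) (g y : G) :
    y ∈ ((g • P : Sylow p G) : Subgroup G) ↔ g⁻¹ * y * g ∈ (P : Subgroup G) := by
  rw [Sylow.coe_subgroup_smul, Subgroup.mem_pointwise_smul_iff_inv_smul_mem]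
  simp [MulAut.smul_def, mul_assoc]

/-- conjugation transports normalizers of conjugate Sylow subgroups -/
theorem a7rb09d_conj_mem_Nz {p : ℕ} (P : Sylow p G) (g k : G)
    (hk : k ∈ Nz ((g • P : Sylow p G) : Subgroup G)) : g⁻¹ * k * g ∈ Nz (P : Subgroup G) := by
  rw [Subgroup.mem_normalizer_iff] at hk ⊢
  intro y
  have h : (g * y * g⁻¹ ∈ ((g • P : Sylow p G) : Subgroup G)) ↔
      (k * (g * y * g⁻¹) * k⁻¹ ∈ ((g • P : Sylow p G) : Subgroup G)) := hk (g * y * g⁻¹)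
  rw [a7rb09d_mem_smul, a7rb09d_mem_smul] at h
  show y ∈ (P : Subgroup G) ↔ g⁻¹ * k * g * y * (g⁻¹ * k * g)⁻¹ ∈ (P : Subgroup G)
  have e1 : g⁻¹ * (g * y * g⁻¹) * g = y := by group
  have e2 : g⁻¹ * (k * (g * y * g⁻¹) * k⁻¹) * g = g⁻¹ * k * g * y * (g⁻¹ * k * g)⁻¹ := by group
  rw [e1, e2] at h
  exact h

/-- B09d [S]: conjugacy transport: if one Sylow 3-normalizer has no element of order 4, none has. -/
theorem no4_conj (hS : Std G) (P : Sylow 3 G) (hno : ∀ k ∈ Nz (P : Subgroup G), orderOf k ≠ 4) (P' : Sylow 3 G) :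
    ∀ k ∈ Nz (P' : Subgroup G), orderOf k ≠ 4 := by
  have := hS.finite
  have : Fact (Nat.Prime 3) := ⟨by norm_num⟩
  obtain ⟨g, rfl⟩ := MulAction.exists_smul_eq G P P'
  intro k hk h4
  have h1 := a7rb09d_conj_mem_Nz P g k hk
  apply hno _ h1
  have e : g⁻¹ * k * g = (MulAut.conj g⁻¹) k := by simp
  rw [e, MulEquiv.orderOf_eq]
  exact h4

end Cfsg.Agent.Lib.helper8.A7R
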