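import Mathlib
import Cfsg.Agent.Lib.helper8.A7R.Defs
import Cfsg.Agent.Lib.helper8.SylowBasic
import Cfsg.Agent.Lib.helper8.SubgroupCard
import Cfsg.Agent.Lib.helper8.SylowConj
import Cfsg.Agent.Lib.Helper29.A7RB09d
import Cfsg.Agent.Lib.Helper29.A7RA06

set_option autoImplicit false

/-!
# Project A7R (S0984, designer helper8), row A05: `fixK` (helper29).
-/

namespace Cfsg.Agent.Lib.helper8.A7R

universe u

variable {G : Type u} [Group G]

open Subgroup

/-- an element conjugating a generator of a finite cyclic group into the group normalizes the group -/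
theorem a7ra05_mem_Nz_zpowers [Finite G] (k m : G) (h : m * k * m⁻¹ ∈ zpowers k) :
    m ∈ Nz (zpowers k) := by
  have heq : zpowers (m * k * m⁻¹) = zpowers k := by
    apply Subgroup.eq_of_le_of_card_ge
    · rw [zpowers_le]; exact h
    · rw [Nat.card_zpowers, Nat.card_zpowers]
      have e : m * k * m⁻¹ = (MulAut.conj m) k := by simp
      rw [e, MulEquiv.orderOf_eq]
  rw [Subgroup.mem_normalizer_iff]
  intro y
  constructor
  · intro hy
    obtain ⟨z, rfl⟩ := Subgroup.mem_zpowers_iff.mp hy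
    have e : m * k ^ z * m⁻¹ = (m * k * m⁻¹) ^ z := conj_zpow.symm
    rw [e]
    exact Subgroup.zpow_mem _ h z
  · intro hy
    rw [← heq] at hy
    obtain ⟨z, hz⟩ := Subgroup.mem_zpowers_iff.mp hy
    rw [conj_zpow] at hz
    have : y = k ^ z := by
      have e1 : y = m⁻¹ * (m * y * m⁻¹) * m := by group
      rw [e1, ← hz]; group
    rw [this]
    exact Subgroup.zpow_mem _ (Subgroup.mem_zpowers k) z

/-- A05 [M-L]: `K` normalizes exactly `P` and `t P t⁻¹`. -/
theorem fixK (hS : Std G) (h2 : St2 G) (h3 : St3 G) (P : Sylow 3 G) (k t : G) (hk : k ∈ Nz (P : Subgroup G)) (hk4 : orderOf k = 4)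
    (hinv : ∀ x ∈ (P : Subgroup G), k ^ 2 * x * (k ^ 2)⁻¹ = x⁻¹)
    (hnofix : ∀ x ∈ (P : Subgroup G), x ≠ 1 → k * x * k⁻¹ ∉ Subgroup.zpowers x)
    (hprod : ∀ n ∈ Nz (P : Subgroup G), ∃ x ∈ (P : Subgroup G), ∃ i : ℕ, n = x * k ^ i)
    (hcardN : Nat.card (Nz (P : Subgroup G)) = 36)
    (ht : t ∈ Nz (Subgroup.zpowers k)) (htK : t ∉ Subgroup.zpowers k) (hcardNK : Nat.card (Nz (Subgroup.zpowers k)) = 8) :
    ∀ P' : Sylow 3 G, k ∈ Nz (P' : Subgroup G) → (P' : Subgroup G) = (P : Subgroup G) ∨ (P' : Subgroup G) = conjS t (P : Subgroup G) := by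
  classical
  have := hS.finite
  have : Fact (Nat.Prime 3) := ⟨by norm_num⟩
  have : Fact (Nat.Prime 2) := ⟨by norm_num⟩
  intro P' hkP'
  obtain ⟨g, rfl⟩ := MulAction.exists_smul_eq G P P'
  have hk'N : g⁻¹ * k * g ∈ Nz (P : Subgroup G) := a7rb09d_conj_mem_Nz P g k hkP'
  have hk'4 : orderOf (g⁻¹ * k * g) = 4 := by
    rw [Cfsg.Agent.Lib.helper8.h8_orderOf_conj]; exact hk4
  have hKN : zpowers k ≤ Nz (P : Subgroup G) := by rw [zpowers_le]; exact hk
  have hK'N : zpowers (g⁻¹ * k * g) ≤ Nz (P : Subgroup G) := by rw [zpowers_le]; exact hk'N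
  have hfac : (Nat.card (Nz (P : Subgroup G))).factorization 2 = 2 := by
    rw [hcardN]
    exact Cfsg.Agent.Lib.helper8.h8_factorization_of_eq 2 2 9 36 Nat.prime_two (by norm_num) (by norm_num)
  have hc1 : Nat.card ((zpowers k).subgroupOf (Nz (P : Subgroup G))) =
      2 ^ (Nat.card (Nz (P : Subgroup G))).factorization 2 := by
    rw [Cfsg.Agent.Lib.helper8.h8_card_subgroupOf hKN, Nat.card_zpowers, hk4, hfac]
    norm_num
  have hc2 : Nat.card ((zpowers (g⁻¹ * k * g)).subgroupOf (Nz (P : Subgroup G))) =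
      2 ^ (Nat.card (Nz (P : Subgroup G))).factorization 2 := by
    rw [Cfsg.Agent.Lib.helper8.h8_card_subgroupOf hK'N, Nat.card_zpowers, hk'4, hfac]
    norm_num
  obtain ⟨n, hn⟩ := MulAction.exists_smul_eq (Nz (P : Subgroup G))
    (Sylow.ofCard _ hc2) (Sylow.ofCard _ hc1)
  -- n k' n⁻¹ ∈ ⟨k⟩
  have h1 : (n : G) * (g⁻¹ * k * g) * (n : G)⁻¹ ∈ zpowers k := by
    have hm : (⟨g⁻¹ * k * g, hk'N⟩ : Nz (P : Subgroup G)) ∈
        ((Sylow.ofCard _ hc2 : Sylow 2 (Nz (P : Subgroup G))) : Subgroup (Nz (P : Subgroup G))) := by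
      rw [Sylow.coe_ofCard, Subgroup.mem_subgroupOf]
      exact Subgroup.mem_zpowers _
    have h2' : n * ⟨g⁻¹ * k * g, hk'N⟩ * n⁻¹ ∈
        ((n • (Sylow.ofCard _ hc2 : Sylow 2 (Nz (P : Subgroup G))) : Sylow 2 (Nz (P : Subgroup G))) :
          Subgroup (Nz (P : Subgroup G))) := by
      rw [Cfsg.Agent.Lib.helper8.h8_mem_smul_sylow]
      have e : n⁻¹ * (n * ⟨g⁻¹ * k * g, hk'N⟩ * n⁻¹) * n = ⟨g⁻¹ * k * g, hk'N⟩ := by group
      rw [e]; exact hm
    rw [hn, Sylow.coe_ofCard, Subgroup.mem_subgroupOf] at h2'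
    simpa using h2'
  -- h := g n⁻¹ normalizes K
  have hhNK : g * (n : G)⁻¹ ∈ Nz (zpowers k) := by
    have : ((n : G) * g⁻¹) ∈ Nz (zpowers k) := by
      apply a7ra05_mem_Nz_zpowers
      have e : (n : G) * g⁻¹ * k * ((n : G) * g⁻¹)⁻¹ = (n : G) * (g⁻¹ * k * g) * (n : G)⁻¹ := by group
      rw [e]; exact h1
    have h' := (Nz (zpowers k)).inv_mem this
    have e : ((n : G) * g⁻¹)⁻¹ = g * (n : G)⁻¹ := by group
    rwa [e] at h'
  have hgP : g • P = (g * (n : G)⁻¹) • P := by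
    have hnP : (n : G) • P = P := Sylow.smul_eq_iff_mem_normalizer.mpr n.2
    calc g • P = (g * (n : G)⁻¹ * (n : G)) • P := by rw [inv_mul_cancel_right]
      _ = (g * (n : G)⁻¹) • ((n : G) • P) := mul_smul _ _ _
      _ = (g * (n : G)⁻¹) • P := by rw [hnP]
  by_cases hhK : g * (n : G)⁻¹ ∈ zpowers k
  · left
    rw [hgP, Sylow.smul_eq_iff_mem_normalizer.mpr (hKN hhK)]
  · right
    have hidx : ((zpowers k).subgroupOf (Nz (zpowers k))).index = 2 := by
      have := Subgroup.card_mul_index ((zpowers k).subgroupOf (Nz (zpowers k)))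
      rw [Cfsg.Agent.Lib.helper8.h8_card_subgroupOf Subgroup.le_normalizer, Nat.card_zpowers, hk4,
        hcardNK] at this
      omega
    have ht' : t⁻¹ ∈ Nz (zpowers k) := Subgroup.inv_mem _ ht
    have hiff := Subgroup.mul_mem_iff_of_index_two hidx
      (a := (⟨t⁻¹, ht'⟩ : Nz (zpowers k))) (b := ⟨g * (n : G)⁻¹, hhNK⟩)
    simp only [Subgroup.mem_subgroupOf, Subgroup.coe_mul] at hiff
    have hc : t⁻¹ * (g * (n : G)⁻¹) ∈ zpowers k := by
      rw [hiff]
      constructor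
      · intro h
        exact absurd ((Subgroup.inv_mem_iff _).mp h) htK
      · intro h
        exact absurd h hhK
    have hcP : (t⁻¹ * (g * (n : G)⁻¹)) • P = P := Sylow.smul_eq_iff_mem_normalizer.mpr (hKN hc)
    have hfin : (g * (n : G)⁻¹) • P = t • P := by
      calc (g * (n : G)⁻¹) • P = (t * (t⁻¹ * (g * (n : G)⁻¹))) • P := by rw [mul_inv_cancel_left]
        _ = t • ((t⁻¹ * (g * (n : G)⁻¹)) • P) := mul_smul _ _ _
        _ = t • P := by rw [hcP]
    rw [a7ra06_conjS_eq, hgP, hfin]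

end Cfsg.Agent.Lib.helper8.A7R
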