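import Mathlib
import Cfsg.Agent.Lib.helper8.A7R.Defs

set_option autoImplicit false

/-!
# Project A7R (S0984, designer helper8), row A09: `PQ_triv` (helper29).
-/

namespace Cfsg.Agent.Lib.helper8.A7R

universe u

variable {G : Type u} [Group G]

open Subgroup

/-- A09 [S]: `P ∩ t P t⁻¹ = 1`. -/
theorem PQ_triv {P : Sylow 3 G} {k t : G} (hC : Ctx P k t) (x : G) (hx : x ∈ (P : Subgroup G))
    (hx' : x ∈ conjS t (P : Subgroup G)) : x = 1 := by
  have h1 : x ∈ Nz (P : Subgroup G) := Subgroup.le_normalizer hx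
  have h2 : x ∈ Nz (conjS t (P : Subgroup G)) := Subgroup.le_normalizer hx'
  have h3 := hC.inter x h1 h2
  have hk4' : k ^ 4 = 1 := by rw [← hC.hk4]; exact pow_orderOf_eq_one k
  have hx4 : x ^ 4 = 1 := by
    obtain ⟨z, rfl⟩ := Subgroup.mem_zpowers_iff.mp h3
    rw [← zpow_natCast, ← zpow_mul, mul_comm, zpow_mul, zpow_natCast, hk4', one_zpow]
  obtain ⟨n, hn⟩ := P.2 ⟨x, hx⟩
  have hn' : x ^ 3 ^ n = 1 := by
    have := congrArg Subtype.val hn
    simpa using this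
  have hd4 : orderOf x ∣ 4 := orderOf_dvd_of_pow_eq_one hx4
  have hd3 : orderOf x ∣ 3 ^ n := orderOf_dvd_of_pow_eq_one hn'
  have hcop : Nat.Coprime 4 (3 ^ n) := Nat.Coprime.pow_right n (by norm_num)
  have : orderOf x ∣ 1 := by
    have := Nat.dvd_gcd hd4 hd3
    rwa [hcop.gcd_eq_one] at this
  exact orderOf_eq_one_iff.mp (Nat.dvd_one.mp this)

end Cfsg.Agent.Lib.helper8.A7R
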