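import Mathlib
import Cfsg.Prelude.Def_GeometricClasses
import Cfsg.Agent.Lib.Helper27.ASC.Defs
import Cfsg.Agent.Lib.helper23.ASCO.Defs
import Cfsg.Agent.Lib.Helper19.ASG.Defs
import Cfsg.Agent.Lib.Helper1.ASGCLIF3
import Cfsg.Agent.Lib.Helper25.ASO.Defs
import Cfsg.Agent.Lib.helper23.ASE.Defs
import Cfsg.Agent.Lib.helper7.ASCOSQ

/-!
# Project ASE, piece SUB2O : odd characteristic: a quadratic form carried (up to a scalar) by a structure over a subfield
of index 2 is of plus type.

The polar form of `Q₂ u = ζ Q (B u)` restricts to a symmetric bilinear form over `F₁` on `F₁^n`; an orthogonal basis over `F₁`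
(`LinearMap.BilinForm.exists_orthogonal_basis`) has norms `w_i ∈ F₁ˣ`; `- w_(m+j) / w_j ∈ F₁` is a square `s_j²` in `F`
(`square_of_mem_index_two`); the vectors `s_j v_j + v_(m+j)` span a totally singular subspace of dimension `m = n / 2`.
-/

set_option autoImplicit false
set_option linter.unusedVariables false
set_option linter.unusedSectionVars false

namespace Cfsg.Agent.Lib.helper23.ASE

open Cfsg Cfsg.Geo Cfsg.Agent.Lib.Helper27.ASC Cfsg.Agent.Lib.helper23.ASCO Cfsg.Agent.Lib.Helper19.ASG
  Cfsg.Agent.Lib.Helper25.ASO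
open scoped MatrixGroups Matrix Kronecker

variable {n : ℕ} {F : Type*} [Field F] [Fintype F]

omit [Fintype F] in
/-- an orthogonal family `V` indexed by `Fin (m + m)` with non-zero norms `w` such that `- w (m + j) / w j` is a square:
a totally singular subspace of dimension `m` -/
theorem asesub2o_pairs (h2 : (2 : F) ≠ 0) {m : ℕ} (Q₂ : QuadraticForm F (Fin n → F))
    (V : Fin (m + m) → (Fin n → F)) (w : Fin (m + m) → F) (hw : ∀ i, w i ≠ 0)
    (hself : ∀ i, QuadraticMap.polar Q₂ (V i) (V i) = w i)
    (horth : ∀ i j, i ≠ j → QuadraticMap.polar Q₂ (V i) (V j) = 0)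
    (hsq : ∀ j : Fin m, ∃ s : F, s ^ 2 = - w (Fin.natAdd m j) / w (Fin.castAdd m j)) :
    ∃ U : Submodule F (Fin n → F), (∀ x ∈ U, Q₂ x = 0) ∧ Module.finrank F U = m := by
  classical
  choose s hs using hsq
  set P := QuadraticMap.polarBilin Q₂ with hP
  have hPapp : ∀ x y, P x y = QuadraticMap.polar Q₂ x y := fun x y => rfl
  let u : Fin m → (Fin n → F) := fun j => s j • V (Fin.castAdd m j) + V (Fin.natAdd m j)
  have hu : ∀ j, u j = s j • V (Fin.castAdd m j) + V (Fin.natAdd m j) := fun j => rfl
  have hab : ∀ j k : Fin m, Fin.castAdd m j ≠ Fin.natAdd m k := by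
    intro j k h
    have := congrArg Fin.val h
    simp only [Fin.val_castAdd, Fin.val_natAdd] at this
    omega
  have haa : ∀ j k : Fin m, j ≠ k → Fin.castAdd m j ≠ Fin.castAdd m k := by
    intro j k hjk h
    apply hjk
    have := congrArg Fin.val h
    simp only [Fin.val_castAdd] at this
    exact Fin.ext this
  have hbb : ∀ j k : Fin m, j ≠ k → Fin.natAdd m j ≠ Fin.natAdd m k := by
    intro j k hjk h
    apply hjk
    have := congrArg Fin.val h
    simp only [Fin.val_natAdd] at this
    exact Fin.ext (by omega)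
  -- the four kinds of products
  have hVaVb : ∀ j k, P (V (Fin.castAdd m j)) (V (Fin.natAdd m k)) = 0 := fun j k => by
    rw [hPapp]; exact horth _ _ (hab j k)
  have hVbVa : ∀ j k, P (V (Fin.natAdd m j)) (V (Fin.castAdd m k)) = 0 := fun j k => by
    rw [hPapp]; exact horth _ _ (hab k j).symm
  have huVb : ∀ j k, P (u j) (V (Fin.natAdd m k)) = if j = k then w (Fin.natAdd m k) else 0 := by
    intro j k
    rw [hu, map_add, map_smul, LinearMap.add_apply, LinearMap.smul_apply, hVaVb, smul_zero, zero_add]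
    by_cases hjk : j = k
    · subst hjk
      rw [if_pos rfl, hPapp, hself]
    · rw [if_neg hjk, hPapp, horth _ _ (hbb j k hjk)]
  have huVa : ∀ j k, P (u j) (V (Fin.castAdd m k)) = if j = k then s j * w (Fin.castAdd m k) else 0 := by
    intro j k
    rw [hu, map_add, map_smul, LinearMap.add_apply, LinearMap.smul_apply, hVbVa, add_zero, smul_eq_mul]
    by_cases hjk : j = k
    · subst hjk
      rw [if_pos rfl, hPapp, hself]
    · rw [if_neg hjk, hPapp, horth _ _ (haa j k hjk), mul_zero]
  have huu : ∀ j k, P (u j) (u k) = 0 := by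
    intro j k
    rw [hu k, map_add, map_smul, huVa, huVb, smul_eq_mul]
    by_cases hjk : j = k
    · subst hjk
      rw [if_pos rfl, if_pos rfl]
      have h1 := hs j
      have hwa := hw (Fin.castAdd m j)
      have h3 : s j ^ 2 * w (Fin.castAdd m j) = - w (Fin.natAdd m j) := by
        rw [h1]
        field_simp
      linear_combination h3
    · rw [if_neg hjk, if_neg hjk, mul_zero, add_zero]
  have hli : LinearIndependent F u := by
    rw [Fintype.linearIndependent_iff]
    intro g hg k
    have h1 := congrArg (fun x => P x (V (Fin.natAdd m k))) hg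
    simp only [map_sum, map_smul, LinearMap.sum_apply, LinearMap.smul_apply, map_zero, LinearMap.zero_apply, huVb,
      smul_eq_mul, mul_ite, mul_zero, Finset.sum_ite_eq', Finset.mem_univ, if_true] at h1
    rcases mul_eq_zero.mp h1 with h | h
    · exact h
    · exact absurd h (hw _)
  refine ⟨Submodule.span F (Set.range u), ?_, (finrank_span_eq_card hli).trans (Fintype.card_fin m)⟩
  have hPU1 : ∀ j, ∀ y ∈ Submodule.span F (Set.range u), P (u j) y = 0 := by
    intro j y hy
    refine Submodule.span_induction ?_ ?_ ?_ ?_ hy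
    · rintro _ ⟨k, rfl⟩
      exact huu j k
    · exact map_zero _
    · intro a b _ _ ha hb
      rw [map_add, ha, hb, add_zero]
    · intro c a _ ha
      rw [map_smul, ha, smul_zero]
  have hPU : ∀ x ∈ Submodule.span F (Set.range u), ∀ y ∈ Submodule.span F (Set.range u), P x y = 0 := by
    intro x hx y hy
    refine Submodule.span_induction ?_ ?_ ?_ ?_ hx
    · rintro _ ⟨j, rfl⟩
      exact hPU1 j y hy
    · rw [map_zero, LinearMap.zero_apply]
    · intro a b _ _ ha hb
      rw [map_add, LinearMap.add_apply, ha, hb, add_zero]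
    · intro c a _ ha
      rw [map_smul, LinearMap.smul_apply, ha, smul_zero]
  intro x hx
  have h1 := hPU x hx x hx
  rw [hPapp, QuadraticMap.polar_self, nsmul_eq_mul, Nat.cast_ofNat] at h1
  rcases mul_eq_zero.mp h1 with h | h
  · exact absurd h h2
  · exact h

/-- SUB2O (same statement as `sub2_plus_odd` of the skeleton; renamed: helper10's `Helper10.ASESUB2` landed the verbatim name first) -/
theorem asesub2o_plus_odd (h2 : (2 : F) ≠ 0) (hn : Even n) (Q : QuadraticForm F (Fin n → F))
    (hQ : (QuadraticMap.polarBilin Q).Nondegenerate) (F₁ : Subfield F)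
    (hcard : Fintype.card F = Nat.card F₁ ^ 2) (B : GL (Fin n) F) (ζ : F) (hζ : ζ ≠ 0)
    (hrat : IsQuadFormRationalStructure (fun v : Fin n → F => ζ * Q v) F₁ B) : IsPlusTypeOn (⇑Q) ⊤ := by
  classical
  obtain ⟨m, rfl⟩ := hn
  have hodd : Odd (Fintype.card F) := by
    by_contra h
    apply h2
    have h1 : ringChar F = 2 := by
      apply FiniteField.even_card_iff_char_two.mpr
      exact Nat.even_iff.mp (Nat.not_odd_iff_even.mp h)
    have : CharP F 2 := ringChar.of_eq h1
    exact CharTwo.two_eq_zero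
  -- the scaled and transported form
  set Q₂ : QuadraticForm F (Fin (m + m) → F) :=
    ζ • Q.comp (Matrix.toLin' (B : Matrix (Fin (m + m)) (Fin (m + m)) F)) with hQ₂
  have hQ₂app : ∀ x, Q₂ x = ζ * Q ((B : Matrix (Fin (m + m)) (Fin (m + m)) F) *ᵥ x) := fun x => rfl
  set P := QuadraticMap.polarBilin Q₂ with hP
  have hPapp : ∀ x y, P x y = QuadraticMap.polar Q₂ x y := fun x y => rfl
  have hPapp' : ∀ x y, P x y = ζ * QuadraticMap.polar Q
      ((B : Matrix (Fin (m + m)) (Fin (m + m)) F) *ᵥ x) ((B : Matrix (Fin (m + m)) (Fin (m + m)) F) *ᵥ y) := by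
    intro x y
    rw [hPapp]
    unfold QuadraticMap.polar
    rw [hQ₂app, hQ₂app, hQ₂app, Matrix.mulVec_add]
    ring
  -- the inclusion of `F₁^n`
  let ι : (Fin (m + m) → F₁) → (Fin (m + m) → F) := fun x k => (x k : F)
  have hιadd : ∀ x y, ι (x + y) = ι x + ι y := fun x y => by
    funext k
    simp [ι]
  have hιsmul : ∀ (a : F₁) x, ι (a • x) = (a : F) • ι x := fun a x => by
    funext k
    simp [ι]
  have hιrat : ∀ x, Q₂ (ι x) ∈ F₁ := fun x => hrat (ι x) (fun k => (x k).2)
  have hPrat : ∀ x y, P (ι x) (ι y) ∈ F₁ := by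
    intro x y
    rw [hPapp]
    unfold QuadraticMap.polar
    rw [← hιadd]
    exact F₁.sub_mem (F₁.sub_mem (hιrat _) (hιrat _)) (hιrat _)
  -- the bilinear form over `F₁`
  let B₁ : LinearMap.BilinForm F₁ (Fin (m + m) → F₁) :=
    LinearMap.mk₂ F₁ (fun x y => (⟨P (ι x) (ι y), hPrat x y⟩ : F₁))
      (by
        intro x x' y
        apply Subtype.ext
        show P (ι (x + x')) (ι y) = P (ι x) (ι y) + P (ι x') (ι y)
        rw [hιadd, map_add, LinearMap.add_apply])
      (by
        intro a x y
        apply Subtype.ext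
        show P (ι (a • x)) (ι y) = (a : F) * P (ι x) (ι y)
        rw [hιsmul, map_smul, LinearMap.smul_apply, smul_eq_mul])
      (by
        intro x y y'
        apply Subtype.ext
        show P (ι x) (ι (y + y')) = P (ι x) (ι y) + P (ι x) (ι y')
        rw [hιadd, map_add])
      (by
        intro a x y
        apply Subtype.ext
        show P (ι x) (ι (a • y)) = (a : F) * P (ι x) (ι y)
        rw [hιsmul, map_smul, smul_eq_mul])
  have hB₁app : ∀ x y, ((B₁ x y : F₁) : F) = P (ι x) (ι y) := fun x y => rfl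
  have hB₁symm : B₁.IsSymm := by
    refine ⟨fun x y => ?_⟩
    apply Subtype.ext
    show P (ι x) (ι y) = P (ι y) (ι x)
    rw [hPapp, hPapp, QuadraticMap.polar_comm]
  -- `B₁` is left separating
  have hBinv : ∀ x : Fin (m + m) → F, ((B⁻¹ : GL (Fin (m + m)) F) : Matrix (Fin (m + m)) (Fin (m + m)) F) *ᵥ
      ((B : Matrix (Fin (m + m)) (Fin (m + m)) F) *ᵥ x) = x := by
    intro x
    rw [Matrix.mulVec_mulVec, ← Units.val_mul, inv_mul_cancel, Units.val_one, Matrix.one_mulVec]
  have hBinv' : ∀ x : Fin (m + m) → F, (B : Matrix (Fin (m + m)) (Fin (m + m)) F) *ᵥ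
      (((B⁻¹ : GL (Fin (m + m)) F) : Matrix (Fin (m + m)) (Fin (m + m)) F) *ᵥ x) = x := by
    intro x
    rw [Matrix.mulVec_mulVec, ← Units.val_mul, mul_inv_cancel, Units.val_one, Matrix.one_mulVec]
  have hsep : B₁.SeparatingLeft := by
    intro x hx
    -- `P (ι x) e_k = 0` for all `k`, so `P (ι x) = 0`
    have h1 : ∀ y : Fin (m + m) → F, P (ι x) y = 0 := by
      intro y
      have hy : y = ∑ k, y k • (Pi.single k (1 : F) : Fin (m + m) → F) := by
        funext j
        simp [Finset.sum_apply, Pi.single_apply]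
      rw [hy, map_sum]
      apply Finset.sum_eq_zero
      intro k _
      rw [map_smul]
      have h3 : (Pi.single k (1 : F) : Fin (m + m) → F) = ι (Pi.single k (1 : F₁)) := by
        funext j
        by_cases hjk : j = k
        · subst hjk
          simp [ι]
        · simp [ι, hjk]
      rw [h3, ← hB₁app, hx, Subfield.coe_zero, smul_zero]
    have h4 : (B : Matrix (Fin (m + m)) (Fin (m + m)) F) *ᵥ ι x = 0 := by
      apply hQ.1
      intro y
      have := h1 (((B⁻¹ : GL (Fin (m + m)) F) : Matrix (Fin (m + m)) (Fin (m + m)) F) *ᵥ y)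
      rw [hPapp', hBinv'] at this
      rcases mul_eq_zero.mp this with h | h
      · exact absurd h hζ
      · exact h
    have h5 : ι x = 0 := by
      have := congrArg (fun v => ((B⁻¹ : GL (Fin (m + m)) F) : Matrix (Fin (m + m)) (Fin (m + m)) F) *ᵥ v) h4
      simp only [hBinv, Matrix.mulVec_zero] at this
      exact this
    funext k
    apply Subtype.ext
    exact congrFun h5 k
  -- an orthogonal basis over `F₁`
  have : Invertible (2 : F₁) := by
    apply invertibleOfNonzero
    intro h
    apply h2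
    have h' : ((2 : F₁) : F) = ((0 : F₁) : F) := by rw [h]
    exact h'
  obtain ⟨v, hv⟩ := LinearMap.BilinForm.exists_orthogonal_basis (LinearMap.BilinForm.isSymm_iff.mp hB₁symm)
  have hvne := fun i => hv.not_isOrtho_basis_self_of_separatingLeft hsep i
  rw [LinearMap.isOrthoᵢ_def] at hv
  have hfr : Module.finrank F₁ (Fin (m + m) → F₁) = m + m := Module.finrank_fin_fun F₁
  -- reindex by `Fin (m + m)`
  let c : Fin (m + m) → Fin (Module.finrank F₁ (Fin (m + m) → F₁)) := fun i => Fin.cast hfr.symm i
  have hcinj : Function.Injective c := fun i j h => by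
    have := congrArg Fin.val h
    simp only [c, Fin.val_cast] at this
    exact Fin.ext this
  -- apply the pairing lemma
  obtain ⟨U, hU0, hUdim⟩ := asesub2o_pairs h2 Q₂ (fun i => ι (v (c i))) (fun i => ((B₁ (v (c i)) (v (c i)) : F₁) : F))
    (fun i h => hvne (c i) (Subtype.ext h))
    (fun i => by rw [hB₁app]; rfl)
    (fun i j hij => by
      have := hv (c i) (c j) (fun h => hij (hcinj h))
      have h1 := congrArg (fun a : F₁ => (a : F)) this
      simp only [hB₁app, Subfield.coe_zero] at h1
      exact h1)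
    (fun j => by
      obtain ⟨s, hs⟩ := square_of_mem_index_two hodd F₁ hcard
        (- ((B₁ (v (c (Fin.natAdd m j))) (v (c (Fin.natAdd m j))) : F₁) : F) /
          ((B₁ (v (c (Fin.castAdd m j))) (v (c (Fin.castAdd m j))) : F₁) : F))
        (F₁.div_mem (F₁.neg_mem (Subtype.mem _)) (Subtype.mem _))
      exact ⟨s, hs⟩)
  -- transport to `Q`
  refine ⟨U.map (Matrix.toLin' (B : Matrix (Fin (m + m)) (Fin (m + m)) F)), le_top, ?_, ?_⟩
  · rintro _ ⟨x, hx, rfl⟩
    have := hU0 x hx
    rw [hQ₂app] at this
    rcases mul_eq_zero.mp this with h | h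
    · exact absurd h hζ
    · rw [Matrix.toLin'_apply]
      exact h
  · have hinj : Function.Injective (Matrix.toLin' (B : Matrix (Fin (m + m)) (Fin (m + m)) F)) := by
      intro x y hxy
      rw [Matrix.toLin'_apply, Matrix.toLin'_apply] at hxy
      have := congrArg (fun v => ((B⁻¹ : GL (Fin (m + m)) F) : Matrix (Fin (m + m)) (Fin (m + m)) F) *ᵥ v) hxy
      simp only [hBinv] at this
      exact this
    rw [← (Submodule.equivMapOfInjective _ hinj U).finrank_eq, hUdim, finrank_top, Module.finrank_fin_fun]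
    omega

end Cfsg.Agent.Lib.helper23.ASE
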