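import Mathlib
import Cfsg.Agent.Lib.helper6.AbCent.Defs

/-!
# AbCent (helper6's S2202 project): small utilities on the conjugation action on Sylow 2-subgroups
-/

set_option autoImplicit false

namespace Cfsg.Agent.Lib.Helper29.AbCent
open Cfsg.Agent.Lib.helper6.AbCent

universe u
variable {G : Type u} [Group G]

theorem ab_mem_smul_sylow (P : Sylow 2 G) (g x : G) :
    x ∈ ((g • P : Sylow 2 G) : Subgroup G) ↔ g⁻¹ * x * g ∈ (P : Subgroup G) := by
  rw [Sylow.coe_subgroup_smul, Subgroup.mem_pointwise_smul_iff_inv_smul_mem]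
  simp [MulAut.smul_def]

theorem ab_conj_mem_smul_sylow (P : Sylow 2 G) (g x : G) (hx : x ∈ (P : Subgroup G)) :
    g * x * g⁻¹ ∈ ((g • P : Sylow 2 G) : Subgroup G) := by
  rw [ab_mem_smul_sylow]
  have : g⁻¹ * (g * x * g⁻¹) * g = x := by group
  rw [this]; exact hx

theorem ab_mem_NN_iff (P : Sylow 2 G) (g : G) : g ∈ NN P ↔ g • P = P :=
  Sylow.smul_eq_iff_mem_normalizer.symm

theorem ab_sylow_orderOf (P : Sylow 2 G) {x : G} (hx : x ∈ (P : Subgroup G)) :
    ∃ n : ℕ, orderOf x = 2 ^ n := by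
  obtain ⟨n, hn⟩ := IsPGroup.iff_orderOf.mp P.isPGroup' ⟨x, hx⟩
  exact ⟨n, by rw [← hn, Subgroup.orderOf_mk]⟩

theorem ab_CC_le_NN (P : Sylow 2 G) : CC P ≤ NN P :=
  Subgroup.centralizer_le_normalizer _

theorem ab_le_NN (P : Sylow 2 G) : (P : Subgroup G) ≤ NN P :=
  Subgroup.le_normalizer

/-- the normalizer of a conjugate -/
theorem ab_mem_NN_smul (P : Sylow 2 G) (h n : G) : n ∈ NN (h • P) ↔ h⁻¹ * n * h ∈ NN P := by
  rw [ab_mem_NN_iff, ab_mem_NN_iff, mul_smul, mul_smul, inv_smul_eq_iff]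

/-- a nontrivial 2-element has a power which is an involution -/
theorem ab_exists_pow_invol {x : G} (hx : ∃ n : ℕ, orderOf x = 2 ^ n) (hx1 : x ≠ 1) :
    ∃ k : ℕ, orderOf (x ^ k) = 2 := by
  obtain ⟨n, hn⟩ := hx
  rcases Nat.eq_zero_or_pos n with h0 | hpos
  · rw [h0, pow_zero, orderOf_eq_one_iff] at hn
    exact absurd hn hx1
  · obtain ⟨m, rfl⟩ : ∃ m, n = m + 1 := ⟨n - 1, by omega⟩
    refine ⟨2 ^ m, ?_⟩
    rw [orderOf_pow' x (by positivity), hn, pow_succ, Nat.gcd_eq_right (dvd_mul_right _ _)]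
    exact Nat.mul_div_cancel_left 2 (by positivity)

end Cfsg.Agent.Lib.Helper29.AbCent
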