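import Mathlib
import Cfsg.Agent.Lib.Helper29.AbCentUtil
import Cfsg.Agent.Lib.helper2.AbCentB
import Cfsg.Agent.Lib.helper2.AbCentK

/-!
# AbCent piece E (helper6's S2202 project): semiregularity of `K(P)`, `stepE`.
-/

set_option autoImplicit false

namespace Cfsg.Agent.Lib.Helper29.AbCent
open Cfsg.Agent.Lib.helper6.AbCent
open Cfsg.Agent.Lib.helper2.AbCent

universe u
variable {G : Type u} [Group G] [Finite G]

theorem ab_KK_le_NN (hS : Setup G) (P : Sylow 2 G) : KK P ≤ NN P :=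
  fun _ hx => ab_CC_le_NN P ((mem_KK hS P).mp hx).1

/-- two distinct Sylow 2-subgroups are swapped by an involution (dihedral argument) -/
theorem ab_exists_invol_swap (hS : Setup G) (P Q : Sylow 2 G) (hPQ : P ≠ Q) :
    ∃ u : G, orderOf u = 2 ∧ u • P = Q := by
  obtain ⟨s, hsP, hs⟩ : ∃ s ∈ (P : Subgroup G), orderOf s = 2 := by
    have h3 := three_le_nI hS P
    have hpos : 0 < Nat.card {t : G // t ∈ (P : Subgroup G) ∧ orderOf t = 2} := by
      unfold nI at h3; omega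
    obtain ⟨⟨t, ht⟩⟩ := (Nat.card_pos_iff.mp hpos).1
    exact ⟨t, ht.1, ht.2⟩
  obtain ⟨t, htQ, ht⟩ : ∃ t ∈ (Q : Subgroup G), orderOf t = 2 := by
    have h3 := three_le_nI hS Q
    have hpos : 0 < Nat.card {t : G // t ∈ (Q : Subgroup G) ∧ orderOf t = 2} := by
      unfold nI at h3; omega
    obtain ⟨⟨t, ht⟩⟩ := (Nat.card_pos_iff.mp hpos).1
    exact ⟨t, ht.1, ht.2⟩
  have ht1 : t ≠ 1 := by intro h; rw [h, orderOf_one] at ht; norm_num at ht
  have htN : t ∉ NN P := by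
    intro hc
    have htP : t ∈ (P : Subgroup G) := mem_sylow_of_normalizes P ⟨1, by rw [ht, pow_one]⟩ hc
    exact hPQ (sylow_TI hS.ac P Q ht1 htP htQ)
  have hodd := odd_orderOf_mul hS.ac P hs hsP ht htN
  obtain ⟨k, hk⟩ := hodd
  have hss : s * s = 1 := by rw [← pow_two, ← hs, pow_orderOf_eq_one]
  have htt : t * t = 1 := by rw [← pow_two, ← ht, pow_orderOf_eq_one]
  obtain ⟨r, hr⟩ : ∃ r, r = s * t := ⟨_, rfl⟩
  have hrk : r ^ (2 * k + 1) = 1 := by rw [hr, ← hk, pow_orderOf_eq_one]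
  -- `s r s = r⁻¹`
  have hsrs : s * r * s = r⁻¹ := by
    rw [hr, mul_inv_rev]
    have hsi : s⁻¹ = s := inv_eq_of_mul_eq_one_left hss
    have hti : t⁻¹ = t := inv_eq_of_mul_eq_one_left htt
    rw [hsi, hti, ← mul_assoc, hss, one_mul]
  have hsrjs : ∀ j : ℕ, s * r ^ j * s = (r ^ j)⁻¹ := by
    intro j
    induction j with
    | zero => simp [hss]
    | succ j ih =>
      have : s * r ^ (j + 1) * s = (s * r ^ j * s) * (s * r * s) := by
        rw [pow_succ]
        calc s * (r ^ j * r) * s = s * r ^ j * (1 * r) * s := by rw [one_mul]; group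
          _ = s * r ^ j * (s * s * r) * s := by rw [hss]
          _ = (s * r ^ j * s) * (s * r * s) := by group
      rw [this, ih, hsrs, ← mul_inv_rev, ← pow_succ']
  obtain ⟨u, hu⟩ : ∃ u, u = s * r ^ (k + 1) := ⟨_, rfl⟩
  have huu : u * u = 1 := by
    rw [hu]
    calc s * r ^ (k + 1) * (s * r ^ (k + 1)) = (s * r ^ (k + 1) * s) * r ^ (k + 1) := by group
      _ = 1 := by rw [hsrjs, inv_mul_cancel]
  have husu : u * s * u = t := by
    rw [hu]
    calc s * r ^ (k + 1) * s * (s * r ^ (k + 1)) = s * r ^ (k + 1) * (s * s) * r ^ (k + 1) := by group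
      _ = s * (r ^ (k + 1) * r ^ (k + 1)) := by rw [hss, mul_one, mul_assoc]
      _ = s * (r ^ (2 * k + 1) * r) := by
        rw [← pow_add, ← pow_succ]; congr 2; ring
      _ = t := by rw [hrk, one_mul, hr, ← mul_assoc, hss, one_mul]
  have hui : u⁻¹ = u := inv_eq_of_mul_eq_one_left huu
  have hu1 : u ≠ 1 := by
    intro h
    rw [h, one_mul, mul_one] at husu
    rw [← husu] at htQ
    have hs1 : s ≠ 1 := by intro h; rw [h, orderOf_one] at hs; norm_num at hs
    exact hPQ (sylow_TI hS.ac P Q hs1 hsP htQ)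
  refine ⟨u, orderOf_eq_prime (by rw [pow_two]; exact huu) hu1, ?_⟩
  have h1 : t ∈ ((u • P : Sylow 2 G) : Subgroup G) := by
    have := ab_conj_mem_smul_sylow P u s hsP
    rwa [hui, husu] at this
  exact sylow_TI hS.ac (u • P) Q ht1 h1 htQ

/-- (a): `K(P) ⊓ K(Q) = 1` for `P ≠ Q`. -/
theorem ab_KK_inf_KK (hS : Setup G)
    (hAlt : ∀ P : Sylow 2 G, ∀ y ∈ KK P, y ≠ 1 → Subgroup.centralizer ({y} : Set G) ≤ NN P)
    (P Q : Sylow 2 G) (hPQ : P ≠ Q) {y : G} (hyP : y ∈ KK P) (hyQ : y ∈ KK Q) : y = 1 := by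
  by_contra hy1
  have hyCQ : y ∈ CC Q := ((mem_KK hS Q).mp hyQ).1
  have hQle : (Q : Subgroup G) ≤ Subgroup.centralizer {y} := by
    intro x hx
    rw [Subgroup.mem_centralizer_iff]
    intro h hh
    rw [Set.mem_singleton_iff] at hh
    subst hh
    exact ((Subgroup.mem_centralizer_iff.mp hyCQ) x hx).symm
  have hQN : (Q : Subgroup G) ≤ NN P := hQle.trans (hAlt P y hyP hy1)
  have hQP : (Q : Subgroup G) ≤ P := fun x hx =>
    mem_sylow_of_normalizes P (ab_sylow_orderOf Q hx) (hQN hx)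
  exact hPQ (Sylow.ext (Q.is_maximal' P.isPGroup' hQP))

theorem stepE (hS : Setup G)
    (hAlt : ∀ P : Sylow 2 G, ∀ y ∈ KK P, y ≠ 1 → Subgroup.centralizer ({y} : Set G) ≤ NN P)
    (P Q : Sylow 2 G) (hPQ : P ≠ Q) : KK P ⊓ NN Q = ⊥ := by
  rw [eq_bot_iff]
  intro y hy
  rw [Subgroup.mem_bot]
  obtain ⟨hyK, hyNQ⟩ := Subgroup.mem_inf.mp hy
  by_contra hy1
  -- an involution `u` with `u • P = Q`
  obtain ⟨u, hu2, huPQ⟩ := ab_exists_invol_swap hS P Q hPQ
  have huu : u * u = 1 := by rw [← pow_two, ← hu2, pow_orderOf_eq_one]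
  have huinv : u⁻¹ = u := inv_eq_of_mul_eq_one_left huu
  have huQP : u • Q = P := by rw [← huPQ, smul_smul, huu, one_smul]
  have hyNP : y ∈ NN P := ab_KK_le_NN hS P hyK
  have hyP' : y • P = P := (ab_mem_NN_iff P y).mp hyNP
  have hyQ' : y • Q = Q := (ab_mem_NN_iff Q y).mp hyNQ
  obtain ⟨y', hy'⟩ : ∃ y', y' = u * y * u⁻¹ := ⟨_, rfl⟩
  have hy'KQ : y' ∈ KK Q := by
    rw [← huPQ, KK_smul, hy']
    exact Subgroup.mem_map_of_mem _ hyK
  have hy'NP : y' ∈ NN P := by
    rw [ab_mem_NN_iff, hy', mul_smul, mul_smul, huinv, huPQ, hyQ', huQP]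
  have hy'NQ : y' ∈ NN Q := by
    rw [ab_mem_NN_iff, hy', mul_smul, mul_smul, huinv, huQP, hyP', huPQ]
  -- `y` and `y'` commute
  have hcomm : y' * y = y * y' := by
    have hcP : y' * y * y'⁻¹ * y⁻¹ ∈ KK P := by
      have h1 : y' * y * y'⁻¹ ∈ KK P :=
        (Subgroup.mem_normalizer_iff.mp (NN_le_normalizer_KK P hy'NP) y).mp hyK
      exact (KK P).mul_mem h1 ((KK P).inv_mem hyK)
    have hcQ : y' * y * y'⁻¹ * y⁻¹ ∈ KK Q := by
      have h1 : y * y'⁻¹ * y⁻¹ ∈ KK Q :=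
        (Subgroup.mem_normalizer_iff.mp (NN_le_normalizer_KK Q hyNQ) y'⁻¹).mp
          ((KK Q).inv_mem hy'KQ)
      have h2 : y' * y * y'⁻¹ * y⁻¹ = y' * (y * y'⁻¹ * y⁻¹) := by group
      rw [h2]
      exact (KK Q).mul_mem hy'KQ h1
    have h1 := ab_KK_inf_KK hS hAlt P Q hPQ hcP hcQ
    calc y' * y = (y' * y * y'⁻¹ * y⁻¹) * (y * y') := by group
      _ = y * y' := by rw [h1, one_mul]
  obtain ⟨z, hz⟩ : ∃ z, z = y * y' := ⟨_, rfl⟩
  have hz1 : z ≠ 1 := by
    intro h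
    rw [hz] at h
    have h1 : y' = y⁻¹ := (inv_eq_of_mul_eq_one_right h).symm
    have h2 : y' ∈ KK P := by rw [h1]; exact (KK P).inv_mem hyK
    have h3 := ab_KK_inf_KK hS hAlt P Q hPQ h2 hy'KQ
    rw [h3] at h1
    exact hy1 (inv_eq_one.mp h1.symm)
  have huz : u * z = z * u := by
    have h1 : u * y = y' * u := by rw [hy']; group
    have h2 : u * y' = y * u := by
      rw [hy', huinv]
      calc u * (u * y * u) = (u * u) * y * u := by group
        _ = y * u := by rw [huu, one_mul]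
    calc u * z = u * y * y' := by rw [hz, mul_assoc]
      _ = y' * (u * y') := by rw [h1, mul_assoc]
      _ = y' * y * u := by rw [h2, mul_assoc]
      _ = z * u := by rw [hcomm, hz]
  have hzodd : Odd (orderOf z) := by
    have hyo : Odd (orderOf y) := ((mem_KK hS P).mp hyK).2
    have hy'o : Odd (orderOf y') := ((mem_KK hS Q).mp hy'KQ).2
    have hc : Commute y y' := hcomm.symm
    have hdvd : orderOf z ∣ orderOf y * orderOf y' := by
      rw [hz]
      exact hc.orderOf_mul_dvd_lcm.trans (Nat.lcm_dvd_mul _ _)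
    exact Odd.of_dvd_nat (hyo.mul hy'o) hdvd
  -- the Sylow `R` of `u`
  obtain ⟨R, hR⟩ : ∃ R : Sylow 2 G, Subgroup.zpowers u ≤ R := by
    apply IsPGroup.exists_le_sylow
    rw [IsPGroup.iff_card]
    exact ⟨1, by rw [Nat.card_zpowers, hu2, pow_one]⟩
  have huR : u ∈ (R : Subgroup G) := hR (Subgroup.mem_zpowers u)
  have hRP : R ≠ P := by
    intro h
    rw [h] at huR
    have : u • P = P := (ab_mem_NN_iff P u).mp (Subgroup.le_normalizer huR)
    exact hPQ (this.symm.trans huPQ)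
  have hzKR : z ∈ KK R := by
    rw [mem_KK hS R]
    refine ⟨?_, hzodd⟩
    rw [← cent_invol hS.ac R hu2 huR, Subgroup.mem_centralizer_iff]
    intro h hh
    rw [Set.mem_singleton_iff] at hh
    subst hh
    exact huz
  have hyNR : y ∈ NN R := by
    apply hAlt R z hzKR hz1
    rw [Subgroup.mem_centralizer_iff]
    intro h hh
    rw [Set.mem_singleton_iff] at hh
    subst hh
    rw [hz, mul_assoc, hcomm]
  have hyR' : y • R = R := (ab_mem_NN_iff R y).mp hyNR
  have hwR : y * u * y⁻¹ ∈ (R : Subgroup G) := by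
    have := ab_conj_mem_smul_sylow R y u huR
    rwa [hyR'] at this
  obtain ⟨v, hv⟩ : ∃ v, v = u * (y * u * y⁻¹) := ⟨_, rfl⟩
  have hvR : v ∈ (R : Subgroup G) := by rw [hv]; exact (R : Subgroup G).mul_mem huR hwR
  have hvNP : v ∈ NN P := by
    have hyinvP : y⁻¹ • P = P := by
      rw [inv_smul_eq_iff, hyP']
    rw [ab_mem_NN_iff, hv, mul_smul, mul_smul, mul_smul, hyinvP, huPQ, hyQ', huQP]
  have hv1 : v = 1 := by
    by_contra hv1
    have hvP : v ∈ (P : Subgroup G) := mem_sylow_of_normalizes P (ab_sylow_orderOf R hvR) hvNP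
    exact hRP (sylow_TI hS.ac R P hv1 hvR hvP)
  -- `y` commutes with `u`
  have hyu : y * u = u * y := by
    have h1 : y * u * y⁻¹ = u := by
      have : y * u * y⁻¹ = u⁻¹ * v := by rw [hv]; group
      rw [this, hv1, mul_one, huinv]
    calc y * u = (y * u * y⁻¹) * y := by group
      _ = u * y := by rw [h1]
  have hyy' : y' = y := by
    rw [hy', ← hyu]; group
  rw [hyy'] at hy'KQ
  exact hy1 (ab_KK_inf_KK hS hAlt P Q hPQ hyK hy'KQ)

end Cfsg.Agent.Lib.Helper29.AbCent
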