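import Mathlib
import Cfsg.Agent.S0001
import Cfsg.Agent.S1225
import Cfsg.Agent.Lib.Helper29.AbCentUtil
import Cfsg.Agent.Lib.helper2.AbCentB

/-!
# AbCent piece M (helper6's S2202 project): the matching argument `stepM`.

A proper subgroup `H ≥ N(P)` in which `P` is transitive on the other Sylow 2-subgroups inside `H`
equals `N(P)`.
-/

set_option autoImplicit false

namespace Cfsg.Agent.Lib.Helper29.AbCent
open Cfsg.Agent.Lib.helper6.AbCent
open Cfsg.Agent.Lib.helper2.AbCent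
open scoped Pointwise

universe u
variable {G : Type u} [Group G] [Finite G]

/-- parity: a finite type with an involution having exactly one fixed point and an involution
without fixed points does not exist -/
theorem m_parity {α : Type*} [Finite α] (f g : α → α) (hf : ∀ a, f (f a) = a) (hg : ∀ a, g (g a) = a)
    (hf0 : ∀ a, f a ≠ a) (a0 : α) (hg0 : g a0 = a0) (hg1 : ∀ a, g a = a → a = a0) : False := by
  classical
  have : Fintype α := Fintype.ofFinite α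
  have : Fact (Nat.Prime 2) := ⟨Nat.prime_two⟩
  obtain ⟨F, hF⟩ : ∃ F : Function.End α, F = f := ⟨f, rfl⟩
  obtain ⟨K, hK⟩ : ∃ K : Function.End α, K = g := ⟨g, rfl⟩
  have hFF : F ^ 2 ^ 1 = 1 := by
    rw [pow_one, pow_two]
    funext a
    show F (F a) = a
    rw [hF]; exact hf a
  have hKK : K ^ 2 ^ 1 = 1 := by
    rw [pow_one, pow_two]
    funext a
    show K (K a) = a
    rw [hK]; exact hg a
  have h1 := Equiv.Perm.card_fixedPoints_modEq (p := 2) (n := 1) hFF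
  have h2 := Equiv.Perm.card_fixedPoints_modEq (p := 2) (n := 1) hKK
  have h3 : Nat.card (Function.fixedPoints F) = 0 := by
    rw [Nat.card_eq_zero]
    left
    exact ⟨fun ⟨a, ha⟩ => hf0 a (by rw [← hF]; exact ha)⟩
  have h4 : Nat.card (Function.fixedPoints K) = 1 := by
    rw [Nat.card_eq_one_iff_unique]
    refine ⟨⟨?_⟩, ⟨⟨a0, by rw [hK]; exact hg0⟩⟩⟩
    rintro ⟨a, ha⟩ ⟨b, hb⟩
    apply Subtype.ext
    show a = b
    rw [hg1 a (by rw [← hK]; exact ha), hg1 b (by rw [← hK]; exact hb)]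
  rw [← Nat.card_eq_fintype_card, ← Nat.card_eq_fintype_card, h3] at h1
  rw [← Nat.card_eq_fintype_card, ← Nat.card_eq_fintype_card, h4] at h2
  have := h1.symm.trans h2
  exact absurd this (by decide)

/-- Sylow 2-subgroups of `G` inside `H` are `H`-conjugate. -/
theorem m_conj (P : Sylow 2 G) (H : Subgroup G) (hP : (P : Subgroup G) ≤ H) (R : Sylow 2 G)
    (hR : (R : Subgroup G) ≤ H) : ∃ h ∈ H, h • P = R := by
  have : Fact (Nat.Prime 2) := ⟨Nat.prime_two⟩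
  obtain ⟨h, hh⟩ := MulAction.exists_smul_eq ↥H (P.subtype hP) (R.subtype hR)
  refine ⟨h.1, h.2, ?_⟩
  rw [Sylow.smul_subtype hP h] at hh
  exact Sylow.subtype_injective hh


omit [Finite G] in
theorem m_smul_le (H : Subgroup G) {h : G} (hh : h ∈ H) (R : Sylow 2 G)
    (hR : (R : Subgroup G) ≤ H) : ((h • R : Sylow 2 G) : Subgroup G) ≤ H := by
  intro x hx
  rw [ab_mem_smul_sylow] at hx
  have := H.mul_mem (H.mul_mem hh (hR hx)) (H.inv_mem hh)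
  have h2 : h * (h⁻¹ * x * h) * h⁻¹ = x := by group
  rwa [h2] at this


theorem m_NN_le (P : Sylow 2 G) (H : Subgroup G) (hPH : NN P ≤ H) (R : Sylow 2 G)
    (hR : (R : Subgroup G) ≤ H) : NN R ≤ H := by
  obtain ⟨h, hh, rfl⟩ := m_conj P H ((ab_le_NN P).trans hPH) R hR
  intro n hn
  rw [ab_mem_NN_smul] at hn
  have := H.mul_mem (H.mul_mem hh (hPH hn)) (H.inv_mem hh)
  have h2 : h * (h⁻¹ * n * h) * h⁻¹ = n := by group
  rwa [h2] at this

/-- semiregularity (TI) -/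
theorem m_semireg (hS : Setup G) (R Q : Sylow 2 G) (hQR : Q ≠ R) {x : G} (hx : x ∈ (R : Subgroup G))
    (hxQ : x • Q = Q) : x = 1 := by
  by_contra hx1
  have hxN : x ∈ NN Q := (ab_mem_NN_iff Q x).mpr hxQ
  have hxQ' : x ∈ (Q : Subgroup G) := mem_sylow_of_normalizes Q (ab_sylow_orderOf R hx) hxN
  exact hQR (sylow_TI hS.ac Q R hx1 hxQ' hx)

/-- transitivity of every `R ≤ H` on the other Sylow subgroups in `H` -/
theorem m_trans (P : Sylow 2 G) (H : Subgroup G) (hPH : NN P ≤ H)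
    (htr : ∀ Q R : Sylow 2 G, (Q : Subgroup G) ≤ H → (R : Subgroup G) ≤ H → Q ≠ P → R ≠ P →
      ∃ x ∈ P, x • Q = R)
    (R : Sylow 2 G) (hR : (R : Subgroup G) ≤ H) (Q Q' : Sylow 2 G) (hQ : (Q : Subgroup G) ≤ H)
    (hQ' : (Q' : Subgroup G) ≤ H) (hQR : Q ≠ R) (hQ'R : Q' ≠ R) : ∃ x ∈ R, x • Q = Q' := by
  obtain ⟨h, hh, rfl⟩ := m_conj P H ((ab_le_NN P).trans hPH) R hR
  have hhi : h⁻¹ ∈ H := H.inv_mem hh
  obtain ⟨x, hx, hxQ⟩ := htr (h⁻¹ • Q) (h⁻¹ • Q') (m_smul_le H hhi Q hQ) (m_smul_le H hhi Q' hQ')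
    (fun hc => hQR (by rw [← hc, smul_inv_smul])) (fun hc => hQ'R (by rw [← hc, smul_inv_smul]))
  refine ⟨h * x * h⁻¹, ab_conj_mem_smul_sylow P h x hx, ?_⟩
  rw [mul_smul, mul_smul, hxQ, smul_inv_smul]

omit [Finite G] in
theorem m_eq_one_of_two_pow_of_odd {x : G} (hx : ∃ n : ℕ, orderOf x = 2 ^ n) (Y : Subgroup G)
    (hxY : x ∈ Y) (hY : Odd (Nat.card Y)) : x = 1 := by
  obtain ⟨n, hn⟩ := hx
  have h1 : orderOf x ∣ Nat.card Y := by
    have := orderOf_dvd_natCard (⟨x, hxY⟩ : Y)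
    rwa [Subgroup.orderOf_mk] at this
  rw [hn] at h1
  rcases Nat.eq_zero_or_pos n with h0 | hpos
  · rw [h0, pow_zero] at hn
    exact orderOf_eq_one_iff.mp hn
  · exfalso
    have h2 : 2 ∣ Nat.card Y := (dvd_pow_self 2 (by omega)).trans h1
    exact (Nat.not_even_iff_odd.mpr hY) (even_iff_two_dvd.mpr h2)

/-- existence of a second fixed point (Schur–Zassenhaus, S0001) -/
theorem m_fix_exists (hS : Setup G) (H : Subgroup G) (R : Sylow 2 G)
    (hNRH : NN R ≤ H)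
    (hreg : ∀ Q Q' : Sylow 2 G, (Q : Subgroup G) ≤ H → (Q' : Subgroup G) ≤ H → Q ≠ R → Q' ≠ R →
      ∃ x ∈ R, x • Q = Q')
    (Y : Subgroup G) (hYN : Y ≤ NN R) (hYodd : Odd (Nat.card Y))
    (R1 : Sylow 2 G) (hR1H : (R1 : Subgroup G) ≤ H) (hR1 : R1 ≠ R) :
    ∃ R' : Sylow 2 G, (R' : Subgroup G) ≤ H ∧ R' ≠ R ∧ Y ≤ NN R' := by
  obtain ⟨T, hT⟩ : ∃ T : Subgroup G, T = (R : Subgroup G) ⊔ Y := ⟨_, rfl⟩
  have hRT : (R : Subgroup G) ≤ T := hT ▸ le_sup_left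
  have hYT : Y ≤ T := hT ▸ le_sup_right
  have hTN : T ≤ NN R := hT ▸ sup_le (ab_le_NN R) hYN
  have hTH : T ≤ H := hTN.trans hNRH
  have hTmul : ∀ g ∈ T, ∃ r ∈ (R : Subgroup G), ∃ y ∈ Y, g = r * y := by
    intro g hg
    have h1 := Subgroup.coe_mul_of_right_le_normalizer_left (R : Subgroup G) Y hYN
    have hg' : g ∈ ((R : Subgroup G) : Set G) * (Y : Set G) := by
      rw [← h1, ← hT]; exact hg
    obtain ⟨r, hr, y, hy, rfl⟩ := Set.mem_mul.mp hg'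
    exact ⟨r, hr, y, hy, rfl⟩
  -- translates of `R1` by `T`
  have hTR1 : ∀ g ∈ T, ((g • R1 : Sylow 2 G) : Subgroup G) ≤ H ∧ g • R1 ≠ R := by
    intro g hg
    refine ⟨?_, ?_⟩
    · intro x hx
      rw [ab_mem_smul_sylow] at hx
      have := H.mul_mem (H.mul_mem (hTH hg) (hR1H hx)) (H.inv_mem (hTH hg))
      have h2 : g * (g⁻¹ * x * g) * g⁻¹ = x := by group
      rwa [h2] at this
    · intro hc
      have hgR : g • R = R := (ab_mem_NN_iff R g).mp (hTN hg)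
      rw [← hgR] at hc
      exact hR1 (smul_left_cancel g hc)
  -- the three subgroups of `↥T`
  obtain ⟨N, hN⟩ : ∃ N : Subgroup ↥T, N = (R : Subgroup G).subgroupOf T := ⟨_, rfl⟩
  obtain ⟨Hc, hHc⟩ : ∃ Hc : Subgroup ↥T, Hc = Y.subgroupOf T := ⟨_, rfl⟩
  obtain ⟨Kc, hKc⟩ : ∃ Kc : Subgroup ↥T, Kc = (NN R1).subgroupOf T := ⟨_, rfl⟩
  have hNn : N.Normal := by
    rw [hN]; exact (Subgroup.normal_subgroupOf_iff_le_normalizer hRT).mpr hTN
  have hmemN : ∀ g : ↥T, g ∈ N ↔ (g : G) ∈ (R : Subgroup G) := by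
    intro g; rw [hN, Subgroup.mem_subgroupOf]
  have hmemHc : ∀ g : ↥T, g ∈ Hc ↔ (g : G) ∈ Y := by
    intro g; rw [hHc, Subgroup.mem_subgroupOf]
  have hmemKc : ∀ g : ↥T, g ∈ Kc ↔ (g : G) ∈ NN R1 := by
    intro g; rw [hKc, Subgroup.mem_subgroupOf]
  -- complements
  have hc1 : Subgroup.IsComplement' N Hc := by
    apply Subgroup.isComplement'_of_disjoint_and_mul_eq_univ
    · rw [Subgroup.disjoint_def]
      intro g hgN hgH
      have : (g : G) = 1 :=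
        m_eq_one_of_two_pow_of_odd (ab_sylow_orderOf R ((hmemN g).mp hgN)) Y ((hmemHc g).mp hgH) hYodd
      exact Subtype.ext this
    · rw [Set.eq_univ_iff_forall]
      intro g
      obtain ⟨r, hr, y, hy, hg⟩ := hTmul g.1 g.2
      refine Set.mem_mul.mpr ⟨⟨r, hRT hr⟩, (hmemN _).mpr hr, ⟨y, hYT hy⟩, (hmemHc _).mpr hy, ?_⟩
      exact Subtype.ext hg.symm
  have hc2 : Subgroup.IsComplement' N Kc := by
    apply Subgroup.isComplement'_of_disjoint_and_mul_eq_univ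
    · rw [Subgroup.disjoint_def]
      intro g hgN hgK
      have h1 : (g : G) • R1 = R1 := (ab_mem_NN_iff R1 g).mp ((hmemKc g).mp hgK)
      exact Subtype.ext (m_semireg hS R R1 hR1 ((hmemN g).mp hgN) h1)
    · rw [Set.eq_univ_iff_forall]
      intro g
      obtain ⟨h1, h2⟩ := hTR1 g.1 g.2
      obtain ⟨x, hx, hxR⟩ := hreg R1 (g.1 • R1) hR1H h1 hR1 h2
      have hk : x⁻¹ * g.1 ∈ NN R1 := by
        rw [ab_mem_NN_iff, mul_smul, ← hxR, inv_smul_smul]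
      have hkT : x⁻¹ * g.1 ∈ T := T.mul_mem (T.inv_mem (hRT hx)) g.2
      refine Set.mem_mul.mpr ⟨⟨x, hRT hx⟩, (hmemN _).mpr hx, ⟨x⁻¹ * g.1, hkT⟩, (hmemKc _).mpr hk, ?_⟩
      apply Subtype.ext
      show x * (x⁻¹ * g.1) = g.1
      group
  -- coprimality and solvability
  have hcop : (Nat.card N).Coprime N.index := by
    have h1 : N.index = Nat.card Hc := hc1.symm.index_eq_card
    have h2 : Nat.card Hc = Nat.card Y := by
      rw [hHc]; exact Nat.card_congr (Subgroup.subgroupOfEquivOfLe hYT).toEquiv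
    have h3 : Nat.card N = Nat.card (R : Subgroup G) := by
      rw [hN]; exact Nat.card_congr (Subgroup.subgroupOfEquivOfLe hRT).toEquiv
    obtain ⟨n, hn⟩ := IsPGroup.iff_card.mp R.isPGroup'
    rw [h1, h2, h3, hn]
    exact Nat.Coprime.pow_left n (Nat.coprime_two_left.mpr hYodd)
  have hsolv : Group.IsSolvable N := by
    have hab : ∀ a b : N, a * b = b * a := by
      intro a b
      apply Subtype.ext
      apply Subtype.ext
      exact sylow_comm hS.ac R a.1.1 ((hmemN a.1).mp a.2) b.1.1 ((hmemN b.1).mp b.2)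
    exact Group.isSolvable_of_comm hab
  obtain ⟨g, hg⟩ := Cfsg.Agent.S0001.result N hcop (Or.inl hsolv) Hc Kc hc1 hc2
  -- `Y` fixes `g⁻¹ • R1`
  refine ⟨(g⁻¹ : ↥T).1 • R1, (hTR1 _ (g⁻¹).2).1, (hTR1 _ (g⁻¹).2).2, ?_⟩
  intro y hy
  have hyHc : (⟨y, hYT hy⟩ : ↥T) ∈ Hc := (hmemHc _).mpr hy
  have h1 : g * ⟨y, hYT hy⟩ * g⁻¹ ∈ Kc := by
    rw [← hg]
    exact Subgroup.smul_mem_pointwise_smul _ _ _ hyHc
  have h2 : (g : G) * y * (g : G)⁻¹ ∈ NN R1 := (hmemKc _).mp h1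
  rw [ab_mem_NN_iff] at h2
  rw [ab_mem_NN_iff]
  show y • ((g⁻¹ : ↥T) : G) • R1 = ((g⁻¹ : ↥T) : G) • R1
  have h3 : ((g⁻¹ : ↥T) : G) = (g : G)⁻¹ := rfl
  rw [h3, ← mul_smul, eq_inv_smul_iff, ← mul_smul, ← mul_assoc]
  exact h2


theorem m_exists_invol (hS : Setup G) (R : Sylow 2 G) :
    ∃ t ∈ (R : Subgroup G), orderOf t = 2 := by
  have h3 := three_le_nI hS R
  have hpos : 0 < Nat.card {t : G // t ∈ (R : Subgroup G) ∧ orderOf t = 2} := by
    unfold nI at h3; omega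
  obtain ⟨⟨t, ht⟩⟩ := (Nat.card_pos_iff.mp hpos).1
  exact ⟨t, ht.1, ht.2⟩


theorem m_exists_two_invol (hS : Setup G) (R : Sylow 2 G) :
    ∃ s ∈ (R : Subgroup G), ∃ t ∈ (R : Subgroup G), orderOf s = 2 ∧ orderOf t = 2 ∧ s ≠ t := by
  have h3 := three_le_nI hS R
  have h1 : 1 < Nat.card {t : G // t ∈ (R : Subgroup G) ∧ orderOf t = 2} := by
    unfold nI at h3; omega
  have := Finite.one_lt_card_iff_nontrivial.mp h1
  obtain ⟨⟨s, hs⟩, ⟨t, ht⟩, hst⟩ := exists_pair_ne {t : G // t ∈ (R : Subgroup G) ∧ orderOf t = 2}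
  exact ⟨s, hs.1, t, ht.1, hs.2, ht.2, fun h => hst (Subtype.ext h)⟩

omit [Finite G] in
theorem m_invol_ne_one {t : G} (ht : orderOf t = 2) : t ≠ 1 := by
  intro h; rw [h, orderOf_one] at ht; norm_num at ht

/-- `D' = H ⊓ uHu⁻¹` is transitive on the Sylow 2-subgroups inside `H` -/
theorem m_Dtrans (hS : Setup G) (H : Subgroup G) (hSE : Cfsg.IsStronglyEmbedded H) (u : G)
    (hu : orderOf u = 2) (huH : u ∉ H) (R R' : Sylow 2 G) (hR : (R : Subgroup G) ≤ H)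
    (hR' : (R' : Subgroup G) ≤ H) :
    ∃ d ∈ H ⊓ H.map (MulAut.conj u).toMonoidHom, d • R = R' := by
  obtain ⟨s, hsR, hs⟩ := m_exists_invol hS R
  obtain ⟨t, htR', ht⟩ := m_exists_invol hS R'
  obtain ⟨d, hd, hdst⟩ :=
    (Cfsg.Agent.S1225.result H hSE u hu huH s t hs (hR hsR) ht (hR' htR')).1
  refine ⟨d, hd, ?_⟩
  have h1 : t ∈ ((d • R : Sylow 2 G) : Subgroup G) := by
    rw [← hdst]; exact ab_conj_mem_smul_sylow R d s hsR
  exact sylow_TI hS.ac (d • R) R' (m_invol_ne_one ht) h1 htR'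

/-- `Y = D' ⊓ N(R)` is transitive on the involutions of `R` -/
theorem m_Ytrans (hS : Setup G) (H : Subgroup G) (hSE : Cfsg.IsStronglyEmbedded H) (u : G)
    (hu : orderOf u = 2) (huH : u ∉ H) (R : Sylow 2 G) (hR : (R : Subgroup G) ≤ H)
    {s t : G} (hsR : s ∈ (R : Subgroup G)) (hs : orderOf s = 2) (htR : t ∈ (R : Subgroup G))
    (ht : orderOf t = 2) :
    ∃ y ∈ H ⊓ H.map (MulAut.conj u).toMonoidHom ⊓ NN R, y * s * y⁻¹ = t := by
  obtain ⟨d, hd, hdst⟩ :=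
    (Cfsg.Agent.S1225.result H hSE u hu huH s t hs (hR hsR) ht (hR htR)).1
  refine ⟨d, Subgroup.mem_inf.mpr ⟨hd, ?_⟩, hdst⟩
  have h1 : t ∈ ((d • R : Sylow 2 G) : Subgroup G) := by
    rw [← hdst]; exact ab_conj_mem_smul_sylow R d s hsR
  exact (ab_mem_NN_iff R d).mpr (sylow_TI hS.ac (d • R) R (m_invol_ne_one ht) h1 htR)


theorem m_Y_not_le_CC (hS : Setup G) (H : Subgroup G) (hSE : Cfsg.IsStronglyEmbedded H) (u : G)
    (hu : orderOf u = 2) (huH : u ∉ H) (R : Sylow 2 G) (hR : (R : Subgroup G) ≤ H) :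
    ∃ y ∈ H ⊓ H.map (MulAut.conj u).toMonoidHom ⊓ NN R, y ∉ CC R := by
  obtain ⟨s, hsR, t, htR, hs, ht, hst⟩ := m_exists_two_invol hS R
  obtain ⟨y, hy, hyst⟩ := m_Ytrans hS H hSE u hu huH R hR hsR hs htR ht
  refine ⟨y, hy, fun hc => hst ?_⟩
  have h1 : s * y = y * s := (Subgroup.mem_centralizer_iff.mp hc) s hsR
  rw [← hyst, ← h1]; group

/-- a subgroup `Y ≤ N(R)`, `Y ≰ C(R)`, fixes at most one other Sylow subgroup inside `H` -/
theorem m_fix_unique (hS : Setup G) (H : Subgroup G) (R : Sylow 2 G)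
    (hreg : ∀ Q Q' : Sylow 2 G, (Q : Subgroup G) ≤ H → (Q' : Subgroup G) ≤ H → Q ≠ R → Q' ≠ R →
      ∃ x ∈ R, x • Q = Q')
    (Y : Subgroup G) (hYN : Y ≤ NN R) (hYC : ∃ y ∈ Y, y ∉ CC R)
    (R1 R2 : Sylow 2 G) (hR1H : (R1 : Subgroup G) ≤ H) (hR2H : (R2 : Subgroup G) ≤ H)
    (hR1 : R1 ≠ R) (hR2 : R2 ≠ R) (hY1 : Y ≤ NN R1) (hY2 : Y ≤ NN R2) : R1 = R2 := by
  by_contra h12
  obtain ⟨x, hx, hxR⟩ := hreg R1 R2 hR1H hR2H hR1 hR2
  have hx1 : x ≠ 1 := by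
    intro h; rw [h, one_smul] at hxR; exact h12 hxR
  obtain ⟨y, hyY, hyC⟩ := hYC
  apply hyC
  -- `y` centralizes `x`
  have hyx : y * x * y⁻¹ = x := by
    have hyR : y * x * y⁻¹ ∈ (R : Subgroup G) :=
      (Subgroup.mem_normalizer_iff.mp (hYN hyY) x).mp hx
    have h1 : y • R1 = R1 := (ab_mem_NN_iff R1 y).mp (hY1 hyY)
    have h2 : y • R2 = R2 := (ab_mem_NN_iff R2 y).mp (hY2 hyY)
    have h3 : (x⁻¹ * (y * x * y⁻¹)) • R1 = R1 := by
      have : (y * x * y⁻¹) • R1 = R2 := by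
        have hyi : y⁻¹ • R1 = R1 := by rw [inv_smul_eq_iff, h1]
        rw [mul_smul, mul_smul, hyi, hxR, h2]
      rw [mul_smul, this, ← hxR, inv_smul_smul]
    have h4 := m_semireg hS R R1 hR1
      ((R : Subgroup G).mul_mem ((R : Subgroup G).inv_mem hx) hyR) h3
    calc y * x * y⁻¹ = x * (x⁻¹ * (y * x * y⁻¹)) := by group
      _ = x := by rw [h4, mul_one]
  obtain ⟨k, hk⟩ := ab_exists_pow_invol (ab_sylow_orderOf R hx) hx1
  have htR : x ^ k ∈ (R : Subgroup G) := (R : Subgroup G).pow_mem hx k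
  rw [← cent_invol hS.ac R hk htR, Subgroup.mem_centralizer_iff]
  intro h hh
  rw [Set.mem_singleton_iff] at hh
  subst hh
  have : y * x ^ k * y⁻¹ = x ^ k := by rw [← conj_pow, hyx]
  calc x ^ k * y = (y * x ^ k * y⁻¹) * y := by rw [this]
    _ = y * x ^ k := by group


theorem stepM (hS : Setup G) (P : Sylow 2 G) (H : Subgroup G) (hPH : NN P ≤ H) (hH : H ≠ ⊤)
    (htr : ∀ Q R : Sylow 2 G, (Q : Subgroup G) ≤ H → (R : Subgroup G) ≤ H → Q ≠ P → R ≠ P →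
      ∃ x ∈ P, x • Q = R) : H = NN P := by
  by_contra hne
  have hPle : (P : Subgroup G) ≤ H := (ab_le_NN P).trans hPH
  obtain ⟨h0, hh0, hh0N⟩ : ∃ h ∈ H, h ∉ NN P := by
    by_contra hall
    push Not at hall
    exact hne (le_antisymm hall hPH)
  have hSE := stronglyEmbedded_of_le hS P H hPH hH
  obtain ⟨u, hu, huH⟩ := exists_invol_not_mem hS P H hPH hH
  obtain ⟨D, hD⟩ : ∃ D : Subgroup G, D = H ⊓ H.map (MulAut.conj u).toMonoidHom := ⟨_, rfl⟩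
  have hDodd : Odd (Nat.card D) := hD ▸ hSE.2.2 u huH
  have hreg : ∀ R : Sylow 2 G, (R : Subgroup G) ≤ H → ∀ Q Q' : Sylow 2 G, (Q : Subgroup G) ≤ H →
      (Q' : Subgroup G) ≤ H → Q ≠ R → Q' ≠ R → ∃ x ∈ R, x • Q = Q' :=
    fun R hR Q Q' hQ hQ' h1 h2 => m_trans P H hPH htr R hR Q Q' hQ hQ' h1 h2
  have hex : ∀ R : Sylow 2 G, (R : Subgroup G) ≤ H →
      ∃ R' : Sylow 2 G, (R' : Subgroup G) ≤ H ∧ R' ≠ R ∧ D ⊓ NN R ≤ NN R' := by
    intro R hR
    obtain ⟨R1, hR1H, hR1⟩ : ∃ R1 : Sylow 2 G, (R1 : Subgroup G) ≤ H ∧ R1 ≠ R := by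
      by_cases hRP : R = P
      · refine ⟨h0 • P, m_smul_le H hh0 P hPle, ?_⟩
        rw [hRP]
        intro hc
        exact hh0N ((ab_mem_NN_iff P h0).mpr hc)
      · exact ⟨P, hPle, fun hc => hRP hc.symm⟩
    have hYodd : Odd (Nat.card ↥(D ⊓ NN R)) :=
      Odd.of_dvd_nat hDodd (Subgroup.card_dvd_of_le inf_le_left)
    exact m_fix_exists hS H R (m_NN_le P H hPH R hR) (hreg R hR) (D ⊓ NN R) inf_le_right hYodd
      R1 hR1H hR1
  have huniq : ∀ R : Sylow 2 G, (R : Subgroup G) ≤ H → ∀ R1 R2 : Sylow 2 G,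
      (R1 : Subgroup G) ≤ H → (R2 : Subgroup G) ≤ H → R1 ≠ R → R2 ≠ R →
      D ⊓ NN R ≤ NN R1 → D ⊓ NN R ≤ NN R2 → R1 = R2 := by
    intro R hR R1 R2 h1 h2 h3 h4 h5 h6
    refine m_fix_unique hS H R (hreg R hR) (D ⊓ NN R) inf_le_right ?_ R1 R2 h1 h2 h3 h4 h5 h6
    obtain ⟨y, hy, hyC⟩ := m_Y_not_le_CC hS H hSE u hu huH R hR
    exact ⟨y, hD ▸ hy, hyC⟩
  choose! φ hφ using hex
  have hφφ : ∀ R : Sylow 2 G, (R : Subgroup G) ≤ H → φ (φ R) = R := by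
    intro R hR
    obtain ⟨h1, h2, h3⟩ := hφ R hR
    obtain ⟨h4, h5, h6⟩ := hφ (φ R) h1
    have hle : D ⊓ NN R ≤ D ⊓ NN (φ R) := le_inf inf_le_left h3
    by_contra hne2
    have := huniq R hR (φ R) (φ (φ R)) h1 h4 h2 hne2 h3 (hle.trans h6)
    exact h5 this.symm
  -- an involution of `P`
  obtain ⟨t, htP, ht⟩ := m_exists_invol hS P
  have htt : t * t = 1 := by rw [← pow_two, ← ht, pow_orderOf_eq_one]
  have htH : t ∈ H := hPle htP
  -- parity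
  refine m_parity (α := {R : Sylow 2 G // (R : Subgroup G) ≤ H})
    (fun R => ⟨φ R.1, (hφ R.1 R.2).1⟩) (fun R => ⟨t • R.1, m_smul_le H htH R.1 R.2⟩)
    ?_ ?_ ?_ ⟨P, hPle⟩ ?_ ?_
  · intro R
    apply Subtype.ext
    exact hφφ R.1 R.2
  · intro R
    apply Subtype.ext
    show t • t • R.1 = R.1
    rw [smul_smul, htt, one_smul]
  · intro R hc
    exact (hφ R.1 R.2).2.1 (congrArg Subtype.val hc)
  · apply Subtype.ext
    show t • P = P
    exact (ab_mem_NN_iff P t).mp (ab_le_NN P htP)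
  · intro R hR
    have hR' : t • R.1 = R.1 := congrArg Subtype.val hR
    apply Subtype.ext
    show R.1 = P
    by_contra hRP
    exact m_invol_ne_one ht (m_semireg hS P R.1 hRP htP hR')

end Cfsg.Agent.Lib.Helper29.AbCent
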