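import Mathlib
import Cfsg.Agent.Lib.Lead.B3P.Defs
import Cfsg.Agent.Lib.helper2.CharNat
import Cfsg.Agent.Lib.helper2.PModular2
import Cfsg.Agent.S0139

/-!
# Project B3P (S4427) : pieces TOC, AUG, EH (group algebra basics)
-/

set_option autoImplicit false
set_option linter.unusedVariables false
set_option linter.unusedSectionVars false
set_option linter.style.haveILetI false
open scoped ComplexConjugate
open Classical

namespace Cfsg.Agent.Lib.Lead.B3P

open Cfsg.Agent.Lib.helper7 Cfsg.Agent.Lib.helper7.Br Polynomial

variable {G : Type*} [Group G]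

/-- piece TOC -/
theorem toC_mul [Fintype G] {M : Ideal Cfsg.AlgInt} {hM : M.IsPrime} (x y : GA (locRing M hM) G) :
    toC (x * y) = toC x * toC y := by
  funext g
  rw [toC_apply, GA.mul_apply, GA.mul_apply]
  push_cast
  rfl

/-- piece TOC -/
theorem toC_add [Fintype G] {M : Ideal Cfsg.AlgInt} {hM : M.IsPrime} (x y : GA (locRing M hM) G) :
    toC (x + y) = toC x + toC y := by
  funext g
  rw [toC_apply, GA.add_apply, GA.add_apply]
  push_cast
  rfl

/-- piece TOC -/
theorem toC_sub [Fintype G] {M : Ideal Cfsg.AlgInt} {hM : M.IsPrime} (x y : GA (locRing M hM) G) :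
    toC (x - y) = toC x - toC y := by
  funext g
  rw [toC_apply, GA.sub_apply, GA.sub_apply]
  push_cast
  rfl

/-- piece TOC -/
theorem toC_eH {M : Ideal Cfsg.AlgInt} {hM : M.IsPrime} (H : Subgroup G) (c : locRing M hM) :
    toC (eH H c) = eH H (c : ℂ) := by
  funext g
  rw [toC_apply, eH_apply, eH_apply]
  split_ifs <;> simp

/-- piece TOC -/
theorem toC_aug [Fintype G] {M : Ideal Cfsg.AlgInt} {hM : M.IsPrime} (x : GA (locRing M hM) G) :
    aug (toC x) = ((aug x : locRing M hM) : ℂ) := by
  unfold aug
  exact (map_sum (locRing M hM).subtype (fun g : G => (x g : locRing M hM)) Finset.univ).symm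

/-- convolution and sums, for functions -/
theorem b3paug_conv {O : Type*} [CommRing O] [Fintype G] (a b : G → O) :
    ∑ g : G, ∑ h : G, a h * b (h⁻¹ * g) = (∑ g : G, a g) * ∑ g : G, b g := by
  rw [Finset.sum_comm, Finset.sum_mul]
  apply Finset.sum_congr rfl
  intro h _
  rw [← Finset.mul_sum]
  congr 1
  exact Fintype.sum_bijective (fun g => h⁻¹ * g) (Group.mulLeft_bijective h⁻¹) _ _ (fun _ => rfl)

/-- the augmentation is multiplicative -/
theorem b3paug_mul {O : Type*} [CommRing O] [Fintype G] (x y : GA O G) :
    aug (x * y) = aug x * aug y := by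
  unfold aug
  have h1 : ∀ g : G, (x * y) g = ∑ h : G, x h * y (h⁻¹ * g) := fun g => GA.mul_apply x y g
  rw [Finset.sum_congr rfl (fun g _ => h1 g)]
  exact b3paug_conv (fun g => x g) (fun g => y g)

/-- the augmentation of the unit element -/
theorem b3paug_one {O : Type*} [CommRing O] [Fintype G] : aug (1 : GA O G) = 1 := by
  unfold aug
  have h1 : ∀ g : G, (1 : GA O G) g = if g = 1 then 1 else 0 := fun g => GA.one_apply g
  rw [Finset.sum_congr rfl (fun g _ => h1 g)]
  simp

/-- piece AUG -/
theorem exists_augHom {O : Type*} [CommRing O] [Fintype G] :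
    ∃ φ : GA O G →ₐ[O] O, ∀ x : GA O G, φ x = aug x := by
  refine ⟨{ toFun := fun x => aug x
            map_one' := b3paug_one
            map_mul' := b3paug_mul
            map_zero' := by unfold aug; simp
            map_add' := fun x y => by
              unfold aug
              exact Finset.sum_add_distrib (f := fun g : G => (x g : O)) (g := fun g : G => (y g : O))
            commutes' := fun c => by
              show aug (algebraMap O (GA O G) c) = c
              unfold aug
              have h1 : ∀ g : G, (algebraMap O (GA O G) c) g = if g = 1 then c else 0 :=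
                fun g => GA.algebraMap_apply c g
              rw [Finset.sum_congr rfl (fun g _ => h1 g)]
              simp }, fun x => rfl⟩

/-- the number of elements of a subgroup, as a filter -/
theorem b3peh_card_filter [Fintype G] (H : Subgroup G) :
    (Finset.univ.filter (fun g : G => g ∈ H)).card = Nat.card H := by
  rw [Nat.card_eq_fintype_card, Fintype.card_subtype]

/-- piece EH -/
theorem eH_idem {O : Type*} [CommRing O] [Fintype G] (H : Subgroup G) (c : O)
    (hc : c * (Nat.card H : O) = 1) :
    eH H c * eH H c = eH H c := by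
  funext g
  rw [GA.mul_apply]
  by_cases hg : g ∈ H
  · have h1 : ∀ h : G, eH H c h * eH H c (h⁻¹ * g) = if h ∈ H then c * c else 0 := by
      intro h
      rw [eH_apply, eH_apply]
      by_cases hh : h ∈ H
      · rw [if_pos hh, if_pos (H.mul_mem (H.inv_mem hh) hg), if_pos hh]
      · rw [if_neg hh, if_neg hh, zero_mul]
    rw [Finset.sum_congr rfl (fun h _ => h1 h), ← Finset.sum_filter, Finset.sum_const,
      b3peh_card_filter, eH_apply, if_pos hg, nsmul_eq_mul]
    calc (Nat.card H : O) * (c * c) = (c * (Nat.card H : O)) * c := by ring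
      _ = c := by rw [hc, one_mul]
  · have h1 : ∀ h : G, eH H c h * eH H c (h⁻¹ * g) = 0 := by
      intro h
      rw [eH_apply, eH_apply]
      by_cases hh : h ∈ H
      · have : h⁻¹ * g ∉ H := by
          intro hmem
          apply hg
          have := H.mul_mem hh hmem
          rwa [mul_inv_cancel_left] at this
        rw [if_neg this, mul_zero]
      · rw [if_neg hh, zero_mul]
    rw [Finset.sum_congr rfl (fun h _ => h1 h), Finset.sum_const_zero, eH_apply, if_neg hg]

/-- piece EH -/
theorem eH_aug {O : Type*} [CommRing O] [Fintype G] (H : Subgroup G) (c : O)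
    (hc : c * (Nat.card H : O) = 1) : aug (eH H c) = 1 := by
  unfold aug
  have h1 : ∀ g : G, eH H c g = if g ∈ H then c else 0 := fun g => eH_apply H c g
  rw [Finset.sum_congr rfl (fun g _ => h1 g), ← Finset.sum_filter, Finset.sum_const,
    b3peh_card_filter, nsmul_eq_mul, mul_comm, hc]

end Cfsg.Agent.Lib.Lead.B3P
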