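import Mathlib
import Cfsg.Agent.Lib.Lead.BCG.Defs
import Cfsg.Agent.Lib.Helper22.BCGA15
import Cfsg.Agent.Lib.Helper20.BCGR1
import Cfsg.Agent.Lib.Helper13.S5972MAXEL
import Cfsg.Agent.Lib.helper23.ONECYCLADDER
import Cfsg.Agent.Lib.Helper19.ONETYEX
import Cfsg.Agent.Lib.helper17.ONENDPERPS
import Cfsg.Agent.Lib.helper15.S5972STDCTX
import Cfsg.Agent.Lib.Helper25.S5972OMEGAODD
import Cfsg.Agent.Lib.Helper24.S5972SPLIT
import Cfsg.Agent.Lib.Helper9.BCSA2

set_option autoImplicit false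

/-!
# Project BCG (designer lead), row O4 (`o_2s_suf`), CORE (helper29).
`Crit2 q n s → InO n F (2 s)`, on the statements of rows A11 (`o_flip`) and A12 (`o_cut`) as hypotheses
(specialised to the standard `(2n+1)`-space).

* `bcgo4_tail`: commuting `y` (order `s`) and `z` (involution with `cycS 2 z` of dimension `2k`, type `t`,
  `t = 1 ↔ q^k ≡ 1 (mod 4)`) on the standard space give an element of order `2s` of `Ω`.
* `bcgo4_case1`: `cOf q s + 2 ≤ 2n`.
* `bcgo4_case2`: `cOf q s = 2n` with the type condition.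
-/

namespace Cfsg.Agent.Lib.Lead.BCG

open Polynomial Module Matrix Cfsg.Agent.Lib.Helper13.S5955 Cfsg.Agent.Lib.helper15.S5972
  Cfsg.Agent.Lib.Helper18.ONE Cfsg.Agent.Lib.Lead.BCS

/-- the statement of row A11 (`o_flip`) on the standard `(2n+1)`-space -/
def BcgO4Flip (n : ℕ) (F : Type*) [Field F] : Prop :=
  ∀ P : Submodule F (Unit ⊕ (Fin n ⊕ Fin n) → F), SND (stdO n F) P →
    ∃ z : Module.End F (Unit ⊕ (Fin n ⊕ Fin n) → F), OCtx 2 (stdO n F) z ∧ cycS 2 z = P ∧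
      fixS z = (stdO n F).orthogonal P ∧
      ∀ g : Module.End F (Unit ⊕ (Fin n ⊕ Fin n) → F),
        (∀ u v, stdO n F (g u) (g v) = stdO n F u v) → SInv g P → Commute z g

/-- the statement of row A12 (`o_cut`) on the standard `(2n+1)`-space -/
def BcgO4Cut (n s : ℕ) (F : Type*) [Field F] : Prop :=
  ∀ y : Module.End F (Unit ⊕ (Fin n ⊕ Fin n) → F), OCtx s (stdO n F) y →
    ∀ M : Submodule F (Unit ⊕ (Fin n ⊕ Fin n) → F), SInv y M → SND (stdO n F) M →
      ∃ y' : Module.End F (Unit ⊕ (Fin n ⊕ Fin n) → F), OCtx s (stdO n F) y' ∧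
        (∀ v ∈ M, y' v = y v) ∧ ∀ v ∈ (stdO n F).orthogonal M, y' v = v

theorem bcgo4_cyc_two_one {F : Type*} [Field F] (h2 : (2 : F) ≠ 0) {V : Type*} [AddCommGroup V]
    [Module F V] : cycS 2 (1 : Module.End F V) = ⊥ := by
  rw [eq_bot_iff]
  intro v hv
  rw [bcs_mem_cyc_two, Module.End.one_apply] at hv
  have h : (2 : F) • v = 0 := by
    rw [two_smul]
    nth_rewrite 1 [hv]
    exact neg_add_cancel v
  rcases smul_eq_zero.mp h with h | h
  · exact absurd h h2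
  · exact (Submodule.mem_bot F).mpr h

theorem bcgo4_p_ne_two {F : Type*} [Field F] [Fintype F] {p : ℕ} [Fact p.Prime] [CharP F p]
    (hodd : Odd (Fintype.card F)) : p ≠ 2 := by
  intro hp
  have h2 : (2 : F) ≠ 0 := s5972omegaodd_two_ne hodd
  apply h2
  have := CharP.cast_eq_zero F p
  rw [hp] at this
  exact_mod_cast this

theorem bcgo4_not_dvd {F : Type*} [Field F] [Fintype F] {p : ℕ} [Fact p.Prime] [CharP F p]
    (s : ℕ) [Fact s.Prime] (hsp : s ≠ p) : ¬ s ∣ Fintype.card F := by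
  obtain ⟨k, hp, hk⟩ := FiniteField.card F p
  intro h
  rw [hk] at h
  have h1 := (Fact.out : s.Prime).dvd_of_dvd_pow h
  exact hsp ((Nat.prime_dvd_prime_iff_eq Fact.out hp).mp h1)

theorem bcgo4_finrank_std (n : ℕ) (F : Type*) [Field F] :
    finrank F (Unit ⊕ (Fin n ⊕ Fin n) → F) = 2 * n + 1 := by
  rw [Module.finrank_fintype_fun_eq_card]
  simp only [Fintype.card_sum, Fintype.card_unit, Fintype.card_fin]
  ring

/-- the common tail: commuting `y` of order `s` and an involution `z` whose `(-1)`-space has the right type -/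
theorem bcgo4_tail {F : Type*} [Field F] [Fintype F]
    (hodd : Odd (Fintype.card F)) (n : ℕ) (hn : 3 ≤ n) (s : ℕ) [Fact s.Prime] (hs2 : s ≠ 2)
    (y z : Module.End F (Unit ⊕ (Fin n ⊕ Fin n) → F))
    (hy : OCtx s (stdO n F) y) (hy1 : y ≠ 1) (hz : OCtx 2 (stdO n F) z) (hzy : Commute z y)
    (k : ℕ) (hk1 : 1 ≤ k) (hk : finrank F (cycS 2 z) = 2 * k) (t : ℤ) (ht : t = 1 ∨ t = -1)
    (hty : OTy (stdO n F) (cycS 2 z) t) (hcond : t = 1 ↔ Fintype.card F ^ k % 4 = 1) :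
    InO n F (2 * s) := by
  have h2 : (2 : F) ≠ 0 := s5972omegaodd_two_ne hodd
  obtain ⟨Y, hYiso, hYy, hYs⟩ := o_realize h2 n s y hy
  obtain ⟨Z, hZiso, hZz, hZ2⟩ := o_realize h2 n 2 z hz
  have hZΩ : Z ∈ Cfsg.Geo.omegaGL (Cfsg.quadFormOdd n F) :=
    invol_omega_mem hodd n Z hZiso hZ2 k (by rw [hZz]; exact hk) t ht (by rw [hZz]; exact hty)
      hcond
  have hY1 : Y ≠ 1 := by
    rintro rfl
    apply hy1
    rw [← hYy, Units.val_one, Matrix.toLin'_one]
    rfl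
  have hYord : orderOf Y = s := orderOf_eq_prime hYs hY1
  have hsodd : Odd s := (Fact.out : s.Prime).odd_of_ne_two hs2
  have hYΩ : Y ∈ Cfsg.Geo.omegaGL (Cfsg.quadFormOdd n F) :=
    omega_of_odd hodd n hn Y hYiso (by rw [hYord]; exact hsodd)
  have hZ1 : Z ≠ 1 := by
    rintro rfl
    have hz1 : z = 1 := by
      rw [← hZz, Units.val_one, Matrix.toLin'_one]
      rfl
    rw [hz1, bcgo4_cyc_two_one h2, finrank_bot] at hk
    omega
  have hZord : orderOf Z = 2 := orderOf_eq_prime hZ2 hZ1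
  have hcomm : Commute Z Y := by
    apply Units.ext
    apply Matrix.toLin'.injective
    rw [Units.val_mul, Units.val_mul, Matrix.toLin'_mul, Matrix.toLin'_mul, hZz, hYy]
    exact hzy
  have hcop : Nat.Coprime (orderOf Z) (orderOf Y) := by
    rw [hZord, hYord]
    exact (Nat.coprime_primes Nat.prime_two Fact.out).mpr (Ne.symm hs2)
  refine ⟨Z * Y, mul_mem hZΩ hYΩ, ?_⟩
  rw [hcomm.orderOf_mul_eq_mul_orderOf_of_coprime hcop, hZord, hYord]

/-- second case: `cOf q s = 2n` and the type condition -/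
theorem bcgo4_case2 {F : Type*} [Field F] [Fintype F] {p : ℕ} [Fact p.Prime] [CharP F p]
    (hodd : Odd (Fintype.card F)) (n : ℕ) (hn : 3 ≤ n) (s : ℕ) [Fact s.Prime] (hsp : s ≠ p)
    (hs2 : s ≠ 2) (hflip : BcgO4Flip n F) (hc : cOf (Fintype.card F) s = 2 * n)
    (hcond : Odd (orderOf ((Fintype.card F : ℕ) : ZMod s)) ↔ Fintype.card F ^ n % 4 = 1) :
    InO n F (2 * s) := by
  have h2 : (2 : F) ≠ 0 := s5972omegaodd_two_ne hodd
  have hp2 : p ≠ 2 := bcgo4_p_ne_two hodd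
  obtain ⟨y, hctx, hy1, hfix⟩ := o_maxel hp2 s hsp hs2 n
    (orderOf ((Fintype.card F : ℕ) : ZMod s)) (cOf (Fintype.card F) s) rfl rfl
    (by rw [hc]; omega)
  obtain ⟨horth, hcompl, hndfix, hndcyc⟩ := o_split hsp hctx
  have hdimsum := Submodule.finrank_add_eq_of_isCompl hcompl
  rw [bcgo4_finrank_std] at hdimsum
  have hfix1 : finrank F (fixS y) = 1 := by
    rw [hfix, hc]
    have h1 : 2 * n + 1 = 1 + 2 * n * 1 := by ring
    rw [h1, Nat.add_mul_mod_self_left]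
    apply Nat.mod_eq_of_lt
    omega
  have hcycdim : finrank F (cycS s y) = 2 * n := by omega
  obtain ⟨z, hzctx, hzcyc, -, hzcomm⟩ := hflip (cycS s y) hndcyc
  have hzy : Commute z y := hzcomm y hctx.pres (Cfsg.Agent.Lib.Helper24.el_inv_ker y _)
  obtain ⟨hm1, hp1⟩ := bcs_cyc_ty h2 hsp hs2 hctx n (by omega) hcycdim
  rcases ordc_of_cof hc with hi | ⟨hi, hnodd⟩
  · -- `i = 2n`: elliptic
    refine bcgo4_tail hodd n hn s hs2 y z hctx hy1 hzctx hzy n (by omega)
      (by rw [hzcyc]; exact hcycdim) (-1) (Or.inr rfl) (by rw [hzcyc]; exact hm1 hi) ?_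
    constructor
    · intro h; exact absurd h (by norm_num)
    · intro h
      have := hcond.mpr h
      rw [hi] at this
      exact absurd this (Nat.not_odd_iff_even.mpr ⟨n, by ring⟩)
  · -- `i = n` odd: hyperbolic
    refine bcgo4_tail hodd n hn s hs2 y z hctx hy1 hzctx hzy n (by omega)
      (by rw [hzcyc]; exact hcycdim) 1 (Or.inl rfl) (by rw [hzcyc]; exact hp1 hi) ?_
    constructor
    · intro _
      apply hcond.mp
      rw [hi]
      exact hnodd
    · intro _; rfl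

/-- first case: `cOf q s + 2 ≤ 2n` -/
theorem bcgo4_case1 {F : Type*} [Field F] [Fintype F] {p : ℕ} [Fact p.Prime] [CharP F p]
    (hodd : Odd (Fintype.card F)) (n : ℕ) (hn : 3 ≤ n) (s : ℕ) [Fact s.Prime] (hsp : s ≠ p)
    (hs2 : s ≠ 2) (hflip : BcgO4Flip n F) (hcut : BcgO4Cut n s F)
    (hc : cOf (Fintype.card F) s + 2 ≤ 2 * n) : InO n F (2 * s) := by
  have h2 : (2 : F) ≠ 0 := s5972omegaodd_two_ne hodd
  have hp2 : p ≠ 2 := bcgo4_p_ne_two hodd
  obtain ⟨-, hc2, -⟩ := cof_facts (Fintype.card F) s Fact.out hs2 (bcgo4_not_dvd s hsp)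
  obtain ⟨y, hctx, hy1, hfix⟩ := o_maxel hp2 s hsp hs2 n
    (orderOf ((Fintype.card F : ℕ) : ZMod s)) (cOf (Fintype.card F) s) rfl rfl (by omega)
  obtain ⟨horth, hcompl, hndfix, hndcyc⟩ := o_split hsp hctx
  have hdimsum := Submodule.finrank_add_eq_of_isCompl hcompl
  rw [bcgo4_finrank_std] at hdimsum
  set c := cOf (Fintype.card F) s with hcdef
  have hb : c * 1 ≤ finrank F (cycS s y) := by
    have h1 := Nat.div_add_mod (2 * n + 1) c
    have h3 : 1 ≤ (2 * n + 1) / c := Nat.div_pos (by omega) (by omega)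
    have h4 : c * 1 ≤ c * ((2 * n + 1) / c) := Nat.mul_le_mul_left c h3
    omega
  obtain ⟨M, hMle, hMinv, hMnd, hMdim⟩ := o_nd_ladder hsp hs2 hctx
    (orderOf ((Fintype.card F : ℕ) : ZMod s)) c rfl rfl 1 hb
  obtain ⟨y', hctx', hy'M, hy'perp⟩ := hcut y hctx M hMinv hMnd
  -- `y' ≠ 1`
  have hy'1 : y' ≠ 1 := by
    intro h1
    have hpos : 0 < finrank F M := by rw [hMdim]; omega
    obtain ⟨v, hv⟩ := Module.finrank_pos_iff_exists_ne_zero.mp hpos
    have hvfix : (v : Unit ⊕ (Fin n ⊕ Fin n) → F) ∈ fixS y := by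
      rw [bcs_mem_fixS, ← hy'M _ v.2, h1, Module.End.one_apply]
    have hvbot : (v : Unit ⊕ (Fin n ⊕ Fin n) → F) ∈ fixS y ⊓ cycS s y :=
      Submodule.mem_inf.mpr ⟨hvfix, hMle v.2⟩
    rw [hcompl.inf_eq_bot, Submodule.mem_bot] at hvbot
    exact hv (Subtype.ext hvbot)
  -- the orthogonal complement of `M`
  have hndtop : SND (stdO n F) ⊤ := fun u _ hu => hctx.nd u (fun v => hu v Submodule.mem_top)
  obtain ⟨-, -, hNnd, -, hNdim⟩ := nd_perp_symm (stdO n F) hctx.symm ⊤ M hndtop le_top hMnd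
  rw [finrank_top, bcgo4_finrank_std, hMdim] at hNdim
  obtain ⟨P, hPN, hPnd, hPdim, hPty⟩ := ty_ex h2 (stdO n F) hctx.symm
    (⊤ ⊓ (stdO n F).orthogonal M) hNnd 2 even_two two_pos (by omega)
    (if Fintype.card F % 4 = 1 then 1 else -1)
    (by by_cases h : Fintype.card F % 4 = 1
        · rw [if_pos h]; exact Or.inl rfl
        · rw [if_neg h]; exact Or.inr rfl)
  obtain ⟨z, hzctx, hzcyc, -, hzcomm⟩ := hflip P hPnd
  have hPinv : SInv y' P := by
    intro v hv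
    rw [hy'perp v (Submodule.mem_inf.mp (hPN hv)).2]
    exact hv
  have hzy : Commute z y' := hzcomm y' hctx'.pres hPinv
  refine bcgo4_tail hodd n hn s hs2 y' z hctx' hy'1 hzctx hzy 1 le_rfl
    (by rw [hzcyc, hPdim]) _ ?_ (by rw [hzcyc]; exact hPty) ?_
  · by_cases h : Fintype.card F % 4 = 1
    · rw [if_pos h]; exact Or.inl rfl
    · rw [if_neg h]; exact Or.inr rfl
  · rw [pow_one]
    by_cases h : Fintype.card F % 4 = 1
    · rw [if_pos h]; exact ⟨fun _ => h, fun _ => rfl⟩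
    · rw [if_neg h]
      exact ⟨fun h' => absurd h' (by norm_num), fun h' => absurd h' h⟩

/-- O4 core: `Crit2 → InO n F (2 s)` on the statements of A11 and A12 -/
theorem bcgo4_core {F : Type*} [Field F] [Fintype F] {p : ℕ} [Fact p.Prime] [CharP F p]
    (hodd : Odd (Fintype.card F)) (n : ℕ) (hn : 3 ≤ n) (s : ℕ) [Fact s.Prime] (hsp : s ≠ p)
    (hs2 : s ≠ 2) (hflip : BcgO4Flip n F) (hcut : BcgO4Cut n s F)
    (h : Crit2 (Fintype.card F) n s) : InO n F (2 * s) := by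
  rcases h with h | ⟨hc, hcond⟩
  · exact bcgo4_case1 hodd n hn s hsp hs2 hflip hcut h
  · exact bcgo4_case2 hodd n hn s hsp hs2 hflip hc hcond

end Cfsg.Agent.Lib.Lead.BCG
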