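import Mathlib
import Cfsg.Agent.Lib.Helper29.BCGO4core
import Cfsg.Agent.Lib.Helper22.BCGA11
import Cfsg.Agent.Lib.Helper27.BCGA12

set_option autoImplicit false

/-!
# Project BCG (designer lead), row O4 (`o_2s_suf`), verbatim (helper29).
`bcgo4_core` (Helper29/BCGO4core.lean) + row A11 `o_flip` (Helper22) + row A12 `o_cut` (Helper27).
-/

namespace Cfsg.Agent.Lib.Lead.BCG

open Polynomial Module Matrix Cfsg.Agent.Lib.Helper13.S5955 Cfsg.Agent.Lib.helper15.S5972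
  Cfsg.Agent.Lib.Helper18.ONE Cfsg.Agent.Lib.Lead.BCS

/-- O4 [M-L] -/
theorem o_2s_suf {F : Type*} [Field F] [Fintype F] {p : ℕ} [Fact p.Prime] [CharP F p]
    (hodd : Odd (Fintype.card F)) (n : ℕ) (hn : 3 ≤ n) (s : ℕ) [Fact s.Prime] (hsp : s ≠ p)
    (hs2 : s ≠ 2) (h : Crit2 (Fintype.card F) n s) : InO n F (2 * s) := by
  have h2 : (2 : F) ≠ 0 := s5972omegaodd_two_ne hodd
  obtain ⟨hsymm, hnd, -, -⟩ := stdO_facts (F := F) h2 n
  refine bcgo4_core hodd n hn s hsp hs2 ?_ ?_ h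
  · intro P hP
    exact o_flip h2 (stdO n F) hsymm hnd P hP
  · intro y hy M hM hMnd
    exact o_cut hy M hM hMnd

end Cfsg.Agent.Lib.Lead.BCG
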