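import Mathlib
import Cfsg.Agent.Lib.helper7.BD.D1Defs
import Cfsg.Agent.Lib.helper7.BD.D1Defs2
import Cfsg.Agent.Lib.Helper13.BD3CJ
import Cfsg.Agent.Lib.Helper24.CyclicInertial3
import Cfsg.Agent.Lib.Helper25.CharBasic
import Cfsg.Agent.Lib.Helper1.BD3CARDB

/-!
# Project BD (helper7), stage B, wave 4, piece REPSCOV : every member of `b ∖ {θ}` is `T`-conjugate
to a representative.
-/

set_option autoImplicit false
set_option linter.unusedVariables false
set_option linter.unusedSectionVars false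

namespace Cfsg.Agent.Lib.helper7.BD

open Cfsg.Agent.Lib.helper7

universe u

section root

variable {G : Type u} [Group G] [Fintype G] {M : Ideal Cfsg.AlgInt} {p : ℕ} [Fact p.Prime]
  {P : Sylow p G} {B : Set (Cfsg.IrrCharacter G)}
  {b : Set (Cfsg.IrrCharacter (Subgroup.centralizer ((P : Subgroup G) : Set G)))}
  {θ : Cfsg.IrrCharacter (Subgroup.centralizer ((P : Subgroup G) : Set G))} {T : Subgroup G}

local notation "CC" => Subgroup.centralizer ((P : Subgroup G) : Set G)

/-- REPSCOV : every member of `b ∖ {θ}` is `T`-conjugate to a representative -/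
theorem root_reps_cover (h : RootHyp p M P B b θ T) {t : ℕ}
    (r : Fin t → Cfsg.IrrCharacter (Subgroup.centralizer ((P : Subgroup G) : Set G)))
    (hr : IsReps P b θ T ((Subgroup.centralizer ((P : Subgroup G) : Set G)).relIndex T) t r)
    (ξ : Cfsg.IrrCharacter (Subgroup.centralizer ((P : Subgroup G) : Set G))) (hξ : ξ ∈ b)
    (hne : ξ ≠ θ) :
    ∃ j, ∃ n ∈ T, cjIrr (Subgroup.centralizer ((P : Subgroup G) : Set G)) n (r j) = ξ := by
  classical
  have hpp : p.Prime := Fact.out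
  -- elements of `T` normalize `C`
  have hTN : ∀ n ∈ T, n ∈ Subgroup.normalizer (CC : Set G) := fun n hn =>
    Cfsg.Agent.Lib.Helper24.ci_normalizer_le (P : Subgroup G) ((h.hT n).1 hn).1
  let Q : Cfsg.IrrCharacter CC → Prop := fun ζ => ∃ j, ∃ n ∈ T, cjIrr CC n (r j) = ζ
  let g : Cfsg.IrrCharacter CC → ℂ := fun ζ => if Q ζ then 1 else 0
  have hQinv : ∀ n ∈ T, ∀ ζ, Q (cjIrr CC n ζ) ↔ Q ζ := by
    intro n hn ζ
    constructor
    · rintro ⟨j, n', hn', hj⟩
      refine ⟨j, n⁻¹ * n', T.mul_mem (T.inv_mem hn) hn', ?_⟩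
      rw [cjIrr_mul CC (Subgroup.inv_mem _ (hTN n hn)) (hTN n' hn'), hj,
        ← cjIrr_mul CC (Subgroup.inv_mem _ (hTN n hn)) (hTN n hn), inv_mul_cancel,
        cjIrr_of_mem_self CC (Subgroup.one_mem _)]
    · rintro ⟨j, n', hn', hj⟩
      refine ⟨j, n * n', T.mul_mem hn hn', ?_⟩
      rw [cjIrr_mul CC (hTN n hn) (hTN n' hn'), hj]
  have hginv : ∀ n ∈ T, ∀ ζ ∈ b, g (cjIrr CC n ζ) = g ζ := by
    intro n hn ζ _
    show (if Q (cjIrr CC n ζ) then (1 : ℂ) else 0) = if Q ζ then 1 else 0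
    rw [if_congr (hQinv n hn ζ) rfl rfl]
  have hsum := hr.sum g hginv
  have hgr : ∀ j, g (r j) = 1 := by
    intro j
    show (if Q (r j) then (1 : ℂ) else 0) = 1
    rw [if_pos]
    exact ⟨j, 1, T.one_mem, cjIrr_of_mem_self CC (Subgroup.one_mem _) (r j)⟩
  simp only [hgr, Finset.sum_const, Finset.card_univ, Fintype.card_fin, nsmul_eq_mul, mul_one]
    at hsum
  -- the left side counts the members of `b ∖ {θ}` satisfying `Q`
  have hfin : (b \ {θ}).Finite := Set.toFinite _
  rw [finsum_mem_eq_finite_toFinset_sum _ hfin] at hsum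
  have hboole : ∑ ζ ∈ hfin.toFinset, g ζ = ((hfin.toFinset.filter Q).card : ℂ) := by
    show ∑ ζ ∈ hfin.toFinset, (if Q ζ then (1 : ℂ) else 0) = _
    rw [Finset.sum_boole]
  rw [hboole] at hsum
  have hcard : hfin.toFinset.card = p - 1 := by
    rw [← Set.ncard_eq_toFinset_card (b \ {θ}) hfin, Set.ncard_sdiff_singleton_of_mem h.hθ,
      ← Nat.card_coe_set_eq, root_card_b h]
  have het : ((hfin.toFinset.filter Q).card : ℂ) = ((p - 1 : ℕ) : ℂ) := by
    rw [hsum, ← hr.et]
    push_cast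
    ring
  have het' : (hfin.toFinset.filter Q).card = hfin.toFinset.card := by
    rw [hcard]
    exact_mod_cast het
  have hall := (Finset.card_filter_eq_iff).1 het'
  have hmem : ξ ∈ hfin.toFinset := by
    rw [Set.Finite.mem_toFinset]
    exact ⟨hξ, hne⟩
  exact hall ξ hmem

end root

end Cfsg.Agent.Lib.helper7.BD
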