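import Mathlib
import Cfsg.Agent.Lib.Helper10.BGL.AlgDefs

/-!
# BGL row AL4 (helper29): `alg_spec_group`, the specialised group lies in `D.group F`.
Statement verbatim from `Helper10/BGL/SkelALG.lean.txt`.
Extras: `bglal4_algXn` (the root element over a commutative ring, the identity out of range), `bglal4_algW` (words), their `map` lemmas.
-/

set_option autoImplicit false

namespace Cfsg.Agent.Lib.Helper10.BGL

open Cfsg.Lie Cfsg.Lie.ChevalleyDatum Cfsg.Agent.Lib.helper8 Cfsg.Agent.Lib.helper7.Sf

universe u

/-- `x_r(t)` over a commutative ring, the root given by its index as a natural number (the identity out of range) -/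
def bglal4_algXn (D : ChevalleyDatum) (R : Type*) [CommRing R] (r : ℕ) (t : R) : Matrix D.Idx D.Idx R :=
  if h : r < D.nroots then algX D R ⟨r, h⟩ t else 1

theorem bglal4_algXn_map (D : ChevalleyDatum) {R : Type*} [CommRing R] {F : Type*} [Field F] (f : R →+* F)
    (r : ℕ) (t : R) : (bglal4_algXn D R r t).map f = D.x F r (f t) := by
  unfold bglal4_algXn ChevalleyDatum.x
  by_cases h : r < D.nroots
  · rw [dif_pos h, dif_pos h, algX_map]
  · rw [dif_neg h, dif_neg h]
    exact (RingHom.mapMatrix f).map_one

/-- the matrix of a word in root elements over a commutative ring -/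
def bglal4_algW (D : ChevalleyDatum) (R : Type*) [CommRing R] (w : List (ℕ × R)) : Matrix D.Idx D.Idx R :=
  (w.map fun p => bglal4_algXn D R p.1 p.2).prod

theorem bglal4_algW_map (D : ChevalleyDatum) {R : Type*} [CommRing R] {F : Type*} [Field F] (f : R →+* F)
    (w : List (ℕ × R)) :
    (bglal4_algW D R w).map f = D.wordMat F (w.map fun p => (p.1, f p.2)) := by
  induction w with
  | nil =>
    rw [List.map_nil, h8wordMat_nil]
    show (RingHom.mapMatrix f) (1 : Matrix D.Idx D.Idx R) = 1
    exact (RingHom.mapMatrix f).map_one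
  | cons p w ih =>
    rw [List.map_cons, h8wordMat_cons, ← ih, ← bglal4_algXn_map]
    show (RingHom.mapMatrix f) (bglal4_algW D R (p :: w)) = _
    unfold bglal4_algW
    rw [List.map_cons, List.prod_cons, map_mul]
    rfl

/-- a word with parameters in a subring comes from a word over the subring -/
theorem bglal4_lift_word {k : Type*} [Field k] (R : Subring k) (w : List (ℕ × k)) (hw : ∀ pr ∈ w, pr.2 ∈ R) :
    ∃ w' : List (ℕ × R), w = w'.map fun p => (p.1, R.subtype p.2) := by
  induction w with
  | nil => exact ⟨[], rfl⟩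
  | cons p w ih =>
    obtain ⟨w', hw'⟩ := ih (fun pr hpr => hw pr (List.mem_cons_of_mem _ hpr))
    refine ⟨(p.1, ⟨p.2, hw p List.mem_cons_self⟩) :: w', ?_⟩
    rw [List.map_cons, ← hw']
    rfl

/-- AL4 -/
theorem alg_spec_group (D : ChevalleyDatum)
    (hD : D ∈ [chevG2, chevB2, chevD4, chevF4, chevE6, chevE7, chevE8])
    {k : Type u} [Field k] (R : Subring k) {F : Type u} [Field F] (π : R →+* F)
    (M : Subgroup (GL D.Idx k))
    (hw : ∀ g ∈ M, ∃ w : List (ℕ × k), (∀ pr ∈ w, pr.2 ∈ R) ∧
      (g : Matrix D.Idx D.Idx k) = D.wordMat k w) :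
    specM D R π M ≤ D.group F := by
  have hB : H8Base.{u} D := h8base_all D hD
  intro g'' hg''
  unfold specM at hg''
  rw [Subgroup.mem_map] at hg''
  obtain ⟨g', hg', rfl⟩ := hg''
  rw [Subgroup.mem_comap] at hg'
  obtain ⟨w, hwR, hgw⟩ := hw _ hg'
  obtain ⟨w', rfl⟩ := bglal4_lift_word R w hwR
  -- the word over `R` is `g'`
  have h1 : (bglal4_algW D R w').map R.subtype = (g' : Matrix D.Idx D.Idx R).map R.subtype := by
    rw [bglal4_algW_map]
    exact hgw.symm
  have h2 : bglal4_algW D R w' = (g' : Matrix D.Idx D.Idx R) :=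
    Matrix.map_injective (Subtype.val_injective) h1
  -- hence its image is a word over `F`
  have h3 : ((Matrix.GeneralLinearGroup.map π g' : GL D.Idx F) : Matrix D.Idx D.Idx F) =
      D.wordMat F (w'.map fun p => (p.1, π p.2)) := by
    rw [← bglal4_algW_map, h2]
    rfl
  have h4 : Matrix.GeneralLinearGroup.map π g' = h8wordU D hB (w'.map fun p => (p.1, π p.2)) := by
    apply Units.ext
    rw [h3, h8wordU_val]
  rw [h4]
  exact h8wordU_mem_group D hB _

end Cfsg.Agent.Lib.Helper10.BGL
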