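import Mathlib
import Cfsg.Agent.Lib.Helper10.BGL.AlgDefs
import Cfsg.Agent.Lib.Helper29.BGLAL4

/-!
# BGL row AL5 (helper29): `alg_spec_Lq`, the specialised group contains `Lq D F q`.
Statement verbatim from `Helper10/BGL/SkelALG.lean.txt`.
-/

set_option autoImplicit false

namespace Cfsg.Agent.Lib.Helper10.BGL

open Cfsg.Lie Cfsg.Lie.ChevalleyDatum Cfsg.Agent.Lib.helper8 Cfsg.Agent.Lib.helper7.Sf

universe u

open Polynomial in
/-- the roots of `X^q - X` (`q = p^a`) in an algebraically closed field of characteristic `p`: there are `q` of them -/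
theorem bglal5_card_roots {k : Type u} [Field k] [DecidableEq k] [IsAlgClosed k] (p : ℕ) [Fact p.Prime] [CharP k p] (a : ℕ) (ha : 1 ≤ a) :
    ((X ^ p ^ a - X : k[X]).roots.toFinset).card = p ^ a := by
  have hsep : (X ^ p ^ a - X : k[X]).Separable :=
    galois_poly_separable p (p ^ a) (dvd_pow_self p (by omega))
  rw [Multiset.toFinset_card_of_nodup (nodup_roots hsep), IsAlgClosed.card_roots_eq_natDegree,
    FiniteField.X_pow_card_pow_sub_X_natDegree_eq k (by omega) (Fact.out : p.Prime).one_lt]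

open Polynomial in
theorem bglal5_mem_roots {K : Type u} [Field K] [DecidableEq K] (p : ℕ) [Fact p.Prime] (a : ℕ) (ha : 1 ≤ a) (c : K) :
    c ∈ (X ^ p ^ a - X : K[X]).roots.toFinset ↔ c ^ p ^ a = c := by
  have hne : (X ^ p ^ a - X : K[X]) ≠ 0 :=
    FiniteField.X_pow_card_pow_sub_X_ne_zero K (by omega) (Fact.out : p.Prime).one_lt
  rw [Multiset.mem_toFinset, mem_roots hne, IsRoot.def, eval_sub, eval_pow, eval_X, sub_eq_zero]

open Polynomial in
theorem bglal5_card_roots_le {K : Type u} [Field K] [DecidableEq K] (p : ℕ) [Fact p.Prime] (a : ℕ) (ha : 1 ≤ a) :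
    ((X ^ p ^ a - X : K[X]).roots.toFinset).card ≤ p ^ a := by
  calc ((X ^ p ^ a - X : K[X]).roots.toFinset).card ≤ Multiset.card (X ^ p ^ a - X : K[X]).roots :=
        Multiset.toFinset_card_le _
    _ ≤ (X ^ p ^ a - X : K[X]).natDegree := card_roots' _
    _ = p ^ a := FiniteField.X_pow_card_pow_sub_X_natDegree_eq K (by omega) (Fact.out : p.Prime).one_lt

/-- every `q`-rational element of `F` is the image of a `q`-rational element of `R` -/
theorem bglal5_surj {k : Type u} [Field k] [IsAlgClosed k] (p : ℕ) [Fact p.Prime] [CharP k p] (a : ℕ) (ha : 1 ≤ a)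
    (R : Subring k) {F : Type u} [Field F] (π : R →+* F)
    (hRq : ∀ c : k, c ^ (p ^ a) = c → c ∈ R) (t : F) (ht : t ^ p ^ a = t) :
    ∃ c : R, (c : k) ^ p ^ a = c ∧ π c = t := by
  classical
  have hq2 : 2 ≤ p ^ a := by
    calc 2 ≤ p := (Fact.out : p.Prime).two_le
      _ = p ^ 1 := (pow_one p).symm
      _ ≤ p ^ a := Nat.pow_le_pow_right (Fact.out : p.Prime).pos ha
  have key := Finset.surj_on_of_inj_on_of_card_le
    (s := (Polynomial.X ^ p ^ a - Polynomial.X : Polynomial k).roots.toFinset)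
    (t := (Polynomial.X ^ p ^ a - Polynomial.X : Polynomial F).roots.toFinset)
    (fun c hc => π ⟨c, hRq c ((bglal5_mem_roots p a ha c).mp hc)⟩)
    (by
      intro c hc
      rw [bglal5_mem_roots p a ha, ← map_pow]
      congr 1
      apply Subtype.ext
      exact (bglal5_mem_roots p a ha c).mp hc)
    (by
      intro c d hc hd hcd
      have hc' := (bglal5_mem_roots p a ha c).mp hc
      have hd' := (bglal5_mem_roots p a ha d).mp hd
      by_contra hne
      have he0 : c - d ≠ 0 := sub_ne_zero.mpr hne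
      have heq : (c - d) ^ p ^ a = c - d := by
        rw [sub_pow_char_pow, hc', hd']
      have he1 : (c - d) ^ (p ^ a - 1) = 1 := by
        have h1 : (c - d) ^ (p ^ a - 1) * (c - d) = 1 * (c - d) := by
          rw [← pow_succ, Nat.sub_add_cancel (by omega), heq, one_mul]
        exact mul_right_cancel₀ he0 h1
      have hR1 : ((⟨c, hRq c hc'⟩ : R) - ⟨d, hRq d hd'⟩) ^ (p ^ a - 1) = 1 := by
        apply Subtype.ext
        exact he1
      have hπ : π ((⟨c, hRq c hc'⟩ : R) - ⟨d, hRq d hd'⟩) = 0 := by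
        rw [map_sub, sub_eq_zero]
        exact hcd
      have := congrArg π hR1
      rw [map_pow, hπ, map_one, zero_pow (by omega)] at this
      exact zero_ne_one this)
    (by
      rw [bglal5_card_roots (k := k) p a ha]
      exact bglal5_card_roots_le p a ha)
  obtain ⟨c, hc, hct⟩ := key t ((bglal5_mem_roots p a ha t).mpr ht)
  exact ⟨⟨c, hRq c ((bglal5_mem_roots p a ha c).mp hc)⟩, (bglal5_mem_roots p a ha c).mp hc, hct.symm⟩

/-- the root elements over a subring of a field are units -/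
theorem bglal5_algXn_mul_neg (D : ChevalleyDatum) (hB : H8Base.{u} D) {k : Type u} [Field k] (R : Subring k)
    (s : ℕ) (c : R) : bglal4_algXn D R s c * bglal4_algXn D R s (-c) = 1 := by
  apply Matrix.map_injective (f := R.subtype) Subtype.val_injective
  show (bglal4_algXn D R s c * bglal4_algXn D R s (-c)).map R.subtype = (1 : Matrix D.Idx D.Idx R).map R.subtype
  rw [Matrix.map_mul, bglal4_algXn_map, bglal4_algXn_map, map_neg, h8x_mul_neg D hB]
  exact ((RingHom.mapMatrix R.subtype).map_one).symm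

/-- the root element over a subring of a field, as a unit -/
def bglal5_algXU (D : ChevalleyDatum) (hB : H8Base.{u} D) {k : Type u} [Field k] (R : Subring k)
    (s : ℕ) (c : R) : GL D.Idx R :=
  ⟨bglal4_algXn D R s c, bglal4_algXn D R s (-c), bglal5_algXn_mul_neg D hB R s c, by
    have := bglal5_algXn_mul_neg D hB R s (-c)
    rwa [neg_neg] at this⟩

theorem bglal5_algXU_map (D : ChevalleyDatum) (hB : H8Base.{u} D) {k : Type u} [Field k] (R : Subring k)
    {F : Type u} [Field F] (f : R →+* F) (s : ℕ) (c : R) :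
    ((Matrix.GeneralLinearGroup.map f (bglal5_algXU D hB R s c) : GL D.Idx F) : Matrix D.Idx D.Idx F) =
      D.x F s (f c) :=
  bglal4_algXn_map D f s c

/-- AL5 -/
theorem alg_spec_Lq (D : ChevalleyDatum)
    (hD : D ∈ [chevG2, chevB2, chevD4, chevF4, chevE6, chevE7, chevE8])
    {k : Type u} [Field k] [IsAlgClosed k] (p : ℕ) [Fact p.Prime] [CharP k p] (a : ℕ) (ha : 1 ≤ a)
    (R : Subring k) {F : Type u} [Field F] (π : R →+* F) (M : Subgroup (GL D.Idx k))
    (hRq : ∀ c : k, c ^ (p ^ a) = c → c ∈ R) (hLM : Lq D k (p ^ a) ≤ M) :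
    Lq D F (p ^ a) ≤ specM D R π M := by
  have hB : H8Base.{u} D := h8base_all D hD
  unfold Lq
  rw [Subgroup.closure_le]
  rintro g ⟨s, t, ht, hg⟩
  obtain ⟨c, hc, hct⟩ := bglal5_surj p a ha R π hRq t ht
  show g ∈ specM D R π M
  unfold specM
  rw [Subgroup.mem_map]
  refine ⟨bglal5_algXU D hB R s c, ?_, ?_⟩
  · rw [Subgroup.mem_comap]
    apply hLM
    exact Subgroup.subset_closure ⟨s, (c : k), hc, bglal5_algXU_map D hB R R.subtype s c⟩
  · apply Units.ext
    rw [bglal5_algXU_map, hct, hg]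

end Cfsg.Agent.Lib.Helper10.BGL
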