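import Mathlib
import Cfsg.Agent.Lib.Helper10.BGL.Btc
import Cfsg.Agent.Lib.helper14.ChevCentUJ
import Cfsg.Agent.Lib.helper8.BGLPAR1
import Cfsg.Agent.Lib.helper8.BGLPAR2
import Cfsg.Agent.Lib.Helper9.BTTROOT1h9

/-!
# Project BGL, block PAR (designer helper8), row PARX1 (helper29): `par_x_entry_lin` (verbatim)

The part of `x_s(t) - 1` which raises the level by exactly `L s` is linear in `t`.
`bglparx1_core`: the same with the ROOT1 statements at this `L`, `s` as hypotheses.
-/

set_option autoImplicit false

namespace Cfsg.Agent.Lib.helper8.PAR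

open Cfsg.Lie Cfsg.Lie.ChevalleyDatum Cfsg.Agent.Lib.helper8 Cfsg.Agent.Lib.helper8.BTT

universe u

theorem bglparx1_sum_lin {F : Type*} [Field F] {α : Type*} (l : List α) (f g : α → F) (t : F)
    (h : ∀ a ∈ l, f a = t * g a) : (l.map f).sum = t * (l.map g).sum := by
  induction l with
  | nil => simp
  | cons a l ih =>
    rw [List.map_cons, List.sum_cons, List.map_cons, List.sum_cons, mul_add,
      h a List.mem_cons_self, ih (fun b hb => h b (List.mem_cons_of_mem _ hb))]

theorem bglparx1_core {F : Type u} [Field F] (D : ChevalleyDatum)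
    (L : Fin D.nroots → ℝ) (s : ℕ) (hs : s < D.nroots) (hpos : 0 < lv D L s) (t : F)
    (hneg : D.neg s < D.nroots ∧ lv D L (D.neg s) = - lv D L s)
    (hchain : ∀ v u : ℕ, v < D.nroots → u < D.nroots → ∀ km : ℕ × ℤ,
      km ∈ D.chainCoeff s v u → 1 ≤ km.1 ∧ lv D L u = lv D L v + (km.1 : ℝ) * lv D L s)
    (i j : D.Idx) (hij : lvl D L i = lvl D L j + lv D L s) :
    (D.x F s t - 1) i j = t * (D.x F s 1 - 1) i j := by
  have hx : ∀ t : F, D.x F s t = D.xMat F ⟨s, hs⟩ t := by
    intro t
    unfold ChevalleyDatum.x
    rw [dif_pos hs]
  rw [hx, hx]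
  have hlvs : lv D L s = L ⟨s, hs⟩ := by
    unfold lv
    rw [dif_pos hs]
  have hlvc : ∀ r : Fin D.nroots, lv D L r.val = L r := by
    intro r
    unfold lv
    rw [dif_pos r.isLt]
  rw [Matrix.sub_apply, Matrix.sub_apply]
  rcases j with b | v
  · rcases i with a | w
    · unfold ChevalleyDatum.xMat
      rw [Matrix.of_apply, Matrix.of_apply, Matrix.one_apply]
      simp only [Sum.inl.injEq]
      rw [sub_self, mul_zero]
    · unfold ChevalleyDatum.xMat
      rw [Matrix.of_apply, Matrix.of_apply, Matrix.one_apply]
      simp only [reduceCtorEq, if_false, sub_zero]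
      by_cases hw : w = ⟨s, hs⟩
      · rw [if_pos hw, if_pos hw]
        ring
      · rw [if_neg hw, if_neg hw, mul_zero]
  · unfold ChevalleyDatum.xMat
    rw [Matrix.of_apply, Matrix.of_apply]
    by_cases hv : v = ⟨s, hs⟩
    · simp only [hv, if_true]
      rcases i with a | w
      · rw [Matrix.one_apply]
        simp
      · rw [Matrix.one_apply]
        simp only [Sum.inr.injEq]
        rw [hv, sub_self, mul_zero]
    · simp only [hv, if_false]
      by_cases hvn : v.val = D.negIdx.getD s 0
      · simp only [hvn, if_true]
        have hLv : L v = - L ⟨s, hs⟩ := by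
          have h1 := hneg.2
          unfold ChevalleyDatum.neg at h1
          rw [← hvn, hlvc v, hlvs] at h1
          exact h1
        rcases i with a | w
        · rw [Matrix.one_apply]
          simp only [reduceCtorEq, if_false, sub_zero]
          ring
        · rw [Matrix.one_apply]
          simp only [Sum.inr.injEq]
          by_cases hwv : w = v
          · simp only [hwv, if_true]
            simp
          · simp only [hwv, if_false, sub_zero]
            by_cases hws : w = ⟨s, hs⟩
            · exfalso
              subst hws
              simp only [lvl, Sum.elim_inr, hlvs, hLv] at hij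
              rw [hlvs] at hpos
              linarith
            · simp only [hws, if_false, mul_zero]
      · simp only [hvn, if_false]
        rcases i with a | w
        · rw [Matrix.one_apply]
          simp
        · rw [Matrix.one_apply]
          simp only [Sum.inr.injEq]
          rw [add_sub_cancel_left, add_sub_cancel_left]
          apply bglparx1_sum_lin
          intro km hkm
          obtain ⟨h1, h2⟩ := hchain v.val w.val v.isLt w.isLt km hkm
          rw [hlvc, hlvc] at h2
          simp only [lvl, Sum.elim_inr] at hij
          have h3 : ((km.1 : ℝ) - 1) * lv D L s = 0 := by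
            rw [sub_mul, one_mul, sub_eq_zero]
            linarith
          have h4 : (km.1 : ℝ) - 1 = 0 := by
            rcases mul_eq_zero.mp h3 with h | h
            · exact h
            · exact absurd h (ne_of_gt hpos)
          have h5 : km.1 = 1 := by
            have : (km.1 : ℝ) = 1 := by linarith
            exact_mod_cast this
          rw [h5, pow_one, pow_one, mul_one]
          exact mul_comm _ _

section grp
variable {F : Type u} [Field F] (D : ChevalleyDatum)

/-- PARX1 [M]: the part of `x_s(t) - 1` which raises the level by exactly `L s` is linear in `t`. -/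
theorem par_x_entry_lin (hD : D ∈ [chevG2, chevB2, chevD4, chevF4, chevE6, chevE7, chevE8])
    (L : Fin D.nroots → ℝ) (hL : L ∈ levE D) (s : ℕ) (hs : s < D.nroots) (hpos : 0 < lv D L s)
    (t : F) (i j : D.Idx) (hij : lvl D L i = lvl D L j + lv D L s) :
    (D.x F s t - 1) i j = t * (D.x F s 1 - 1) i j :=
  bglparx1_core D L s hs hpos t (bttroot1_h9_lev_neg D hD L hL s hs)
    (fun v u hv hu km hkm => bttroot1_h9_lev_chain D hD L hL s v u hs hv hu km hkm) i j hij

end grp

end Cfsg.Agent.Lib.helper8.PAR
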