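import Mathlib
import Cfsg.Prelude.Def_Blocks

/-!
# Project BLI, piece ATOM (helper29): the Blichfeldt decomposition

`U` a norm-preserving representation of a finite group `G` on a finite-dimensional complex inner product
space, `z ∈ G`, `ε` an eigenvalue of `U z` with `‖U z - ε‖ < 1`.  The minimal non-zero intersections of
`ε`-eigenspaces of conjugates of `z` ("atoms") are pairwise orthogonal and permuted by `G`.
-/

set_option autoImplicit false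
set_option linter.unusedVariables false
set_option linter.unusedSectionVars false

namespace Cfsg.Agent.Lib.Helper29.BLI

open scoped ComplexConjugate InnerProductSpace

section

variable {G : Type*} [Group G] {V : Type*} [NormedAddCommGroup V] [InnerProductSpace ℂ V]

/-- the `ε`-eigenspace of `U h` -/
def bliatom_E (U : G →* (V →L[ℂ] V)) (ε : ℂ) (h : G) : Submodule ℂ V where
  carrier := {u | U h u = ε • u}
  add_mem' := by
    intro a b ha hb
    show U h (a + b) = ε • (a + b)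
    rw [map_add, smul_add, ha, hb]
  zero_mem' := by
    show U h 0 = ε • (0 : V)
    rw [map_zero, smul_zero]
  smul_mem' := by
    intro c a ha
    show U h (c • a) = ε • (c • a)
    rw [map_smul, ha, smul_comm]

theorem bliatom_mem_E (U : G →* (V →L[ℂ] V)) (ε : ℂ) (h : G) (u : V) :
    u ∈ bliatom_E U ε h ↔ U h u = ε • u := Iff.rfl

/-- the common `ε`-eigenspace of the `U h`, `h ∈ A` -/
def bliatom_F (U : G →* (V →L[ℂ] V)) (ε : ℂ) (A : Set G) : Submodule ℂ V where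
  carrier := {u | ∀ h ∈ A, U h u = ε • u}
  add_mem' := by
    intro a b ha hb h hh
    rw [map_add, smul_add, ha h hh, hb h hh]
  zero_mem' := by
    intro h hh
    rw [map_zero, smul_zero]
  smul_mem' := by
    intro c a ha h hh
    rw [map_smul, ha h hh, smul_comm]

theorem bliatom_mem_F (U : G →* (V →L[ℂ] V)) (ε : ℂ) (A : Set G) (u : V) :
    u ∈ bliatom_F U ε A ↔ ∀ h ∈ A, U h u = ε • u := Iff.rfl

theorem bliatom_F_le_E (U : G →* (V →L[ℂ] V)) (ε : ℂ) (A : Set G) (h : G) (hh : h ∈ A) :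
    bliatom_F U ε A ≤ bliatom_E U ε h := fun u hu => hu h hh

theorem bliatom_F_anti (U : G →* (V →L[ℂ] V)) (ε : ℂ) {A B : Set G} (hAB : A ⊆ B) :
    bliatom_F U ε B ≤ bliatom_F U ε A := fun u hu h hh => hu h (hAB hh)

theorem bliatom_inv_apply (U : G →* (V →L[ℂ] V)) (x : G) (u : V) : U x⁻¹ (U x u) = u := by
  have : U x⁻¹ (U x u) = (U x⁻¹ * U x) u := rfl
  rw [this, ← map_mul, inv_mul_cancel, map_one]
  rfl

theorem bliatom_apply_inv (U : G →* (V →L[ℂ] V)) (x : G) (u : V) : U x (U x⁻¹ u) = u := by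
  have := bliatom_inv_apply U x⁻¹ u
  rwa [inv_inv] at this

theorem bliatom_mul_apply (U : G →* (V →L[ℂ] V)) (x y : G) (u : V) : U (x * y) u = U x (U y u) := by
  rw [map_mul]
  rfl

/-- the action of `G` on the common eigenspaces -/
theorem bliatom_map_F (U : G →* (V →L[ℂ] V)) (ε : ℂ) (A : Set G) (x : G) :
    (bliatom_F U ε A).map ((U x : V →L[ℂ] V) : V →ₗ[ℂ] V) =
      bliatom_F U ε ((fun h => x * h * x⁻¹) '' A) := by
  ext w
  constructor
  · rintro ⟨u, hu, rfl⟩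
    rintro _ ⟨h, hh, rfl⟩
    show U (x * h * x⁻¹) (U x u) = ε • U x u
    rw [bliatom_mul_apply, bliatom_mul_apply, bliatom_inv_apply, hu h hh, map_smul]
  · intro hw
    refine ⟨U x⁻¹ w, ?_, bliatom_apply_inv U x w⟩
    intro h hh
    have := hw (x * h * x⁻¹) ⟨h, hh, rfl⟩
    rw [bliatom_mul_apply, bliatom_mul_apply] at this
    have h2 := congrArg (U x⁻¹) this
    rw [bliatom_inv_apply, map_smul] at h2
    exact h2

theorem bliatom_map_map_inv (U : G →* (V →L[ℂ] V)) (x : G) (L : Submodule ℂ V) :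
    (L.map ((U x : V →L[ℂ] V) : V →ₗ[ℂ] V)).map ((U x⁻¹ : V →L[ℂ] V) : V →ₗ[ℂ] V) = L := by
  ext w
  constructor
  · rintro ⟨_, ⟨u, hu, rfl⟩, rfl⟩
    show U x⁻¹ (U x u) ∈ L
    rw [bliatom_inv_apply]
    exact hu
  · intro hw
    exact ⟨U x w, ⟨w, hw, rfl⟩, bliatom_inv_apply U x w⟩

theorem bliatom_map_ne_bot (U : G →* (V →L[ℂ] V)) (x : G) (L : Submodule ℂ V) (hL : L ≠ ⊥) :
    L.map ((U x : V →L[ℂ] V) : V →ₗ[ℂ] V) ≠ ⊥ := by
  intro h
  apply hL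
  rw [← bliatom_map_map_inv U x L, h, Submodule.map_bot]

/-- the conjugates of `z` -/
def bliatom_C (z : G) : Set G := {h | ∃ x : G, h = x * z * x⁻¹}

theorem bliatom_C_conj (z x h : G) (hh : h ∈ bliatom_C z) : x * h * x⁻¹ ∈ bliatom_C z := by
  obtain ⟨y, rfl⟩ := hh
  exact ⟨x * y, by group⟩

/-- the non-zero intersections of non-empty families of eigenspaces of conjugates of `z` -/
def bliatom_lat (U : G →* (V →L[ℂ] V)) (ε : ℂ) (z : G) : Set (Submodule ℂ V) :=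
  {L | L ≠ ⊥ ∧ ∃ A : Set G, A.Nonempty ∧ A ⊆ bliatom_C z ∧ L = bliatom_F U ε A}

/-- the atoms: minimal members of the lattice -/
def bliatom_atoms (U : G →* (V →L[ℂ] V)) (ε : ℂ) (z : G) : Set (Submodule ℂ V) :=
  {L | Minimal (· ∈ bliatom_lat U ε z) L}

theorem bliatom_lat_finite [Finite G] (U : G →* (V →L[ℂ] V)) (ε : ℂ) (z : G) :
    (bliatom_lat U ε z).Finite := by
  apply Set.Finite.subset (Set.finite_range (fun A : Set G => bliatom_F U ε A))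
  rintro L ⟨_, A, _, _, rfl⟩
  exact ⟨A, rfl⟩

theorem bliatom_atoms_finite [Finite G] (U : G →* (V →L[ℂ] V)) (ε : ℂ) (z : G) :
    (bliatom_atoms U ε z).Finite :=
  (bliatom_lat_finite U ε z).subset (fun L hL => hL.1)

theorem bliatom_lat_map (U : G →* (V →L[ℂ] V)) (ε : ℂ) (z x : G) (L : Submodule ℂ V)
    (hL : L ∈ bliatom_lat U ε z) :
    L.map ((U x : V →L[ℂ] V) : V →ₗ[ℂ] V) ∈ bliatom_lat U ε z := by
  obtain ⟨hne, A, hA, hAC, rfl⟩ := hL
  refine ⟨bliatom_map_ne_bot U x _ hne, (fun h => x * h * x⁻¹) '' A, hA.image _, ?_, bliatom_map_F U ε A x⟩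
  rintro _ ⟨h, hh, rfl⟩
  exact bliatom_C_conj z x h (hAC hh)

theorem bliatom_atoms_map (U : G →* (V →L[ℂ] V)) (ε : ℂ) (z x : G) (L : Submodule ℂ V)
    (hL : L ∈ bliatom_atoms U ε z) :
    L.map ((U x : V →L[ℂ] V) : V →ₗ[ℂ] V) ∈ bliatom_atoms U ε z := by
  refine ⟨bliatom_lat_map U ε z x L hL.1, ?_⟩
  intro L' hL' hle
  have h1 : L'.map ((U x⁻¹ : V →L[ℂ] V) : V →ₗ[ℂ] V) ∈ bliatom_lat U ε z :=
    bliatom_lat_map U ε z x⁻¹ L' hL'
  have h2 : L'.map ((U x⁻¹ : V →L[ℂ] V) : V →ₗ[ℂ] V) ≤ L := by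
    have := Submodule.map_mono (f := ((U x⁻¹ : V →L[ℂ] V) : V →ₗ[ℂ] V)) hle
    rwa [bliatom_map_map_inv] at this
  have h3 : L ≤ L'.map ((U x⁻¹ : V →L[ℂ] V) : V →ₗ[ℂ] V) := hL.2 h1 h2
  have h4 := Submodule.map_mono (f := ((U x : V →L[ℂ] V) : V →ₗ[ℂ] V)) h3
  have h5 := bliatom_map_map_inv U x⁻¹ L'
  rw [inv_inv] at h5
  rwa [h5] at h4

theorem bliatom_exists_atom_le [Finite G] (U : G →* (V →L[ℂ] V)) (ε : ℂ) (z : G) (L : Submodule ℂ V)
    (hL : L ∈ bliatom_lat U ε z) : ∃ L₀ ∈ bliatom_atoms U ε z, L₀ ≤ L := by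
  obtain ⟨b, hb, hmin⟩ := (bliatom_lat_finite U ε z).exists_le_minimal hL
  exact ⟨b, hmin, hb⟩

/-- an atom lies in an eigenspace of a conjugate or meets it trivially -/
theorem bliatom_dichotomy (U : G →* (V →L[ℂ] V)) (ε : ℂ) (z h : G) (hh : h ∈ bliatom_C z)
    (L : Submodule ℂ V) (hL : L ∈ bliatom_atoms U ε z) :
    L ≤ bliatom_E U ε h ∨ L ⊓ bliatom_E U ε h = ⊥ := by
  by_cases hbot : L ⊓ bliatom_E U ε h = ⊥
  · exact Or.inr hbot
  · left
    obtain ⟨⟨hne, A, hA, hAC, hLA⟩, hmin⟩ := hL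
    have heq : L ⊓ bliatom_E U ε h = bliatom_F U ε (A ∪ {h}) := by
      rw [hLA]
      ext u
      rw [Submodule.mem_inf, bliatom_mem_F, bliatom_mem_F, bliatom_mem_E]
      constructor
      · rintro ⟨h1, h2⟩ g (hg | hg)
        · exact h1 g hg
        · rw [Set.mem_singleton_iff] at hg
          rw [hg]
          exact h2
      · intro h1
        exact ⟨fun g hg => h1 g (Or.inl hg), h1 h (Or.inr rfl)⟩
    have hmem : L ⊓ bliatom_E U ε h ∈ bliatom_lat U ε z := by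
      refine ⟨hbot, A ∪ {h}, ⟨h, Or.inr rfl⟩, ?_, heq⟩
      rintro g (hg | hg)
      · exact hAC hg
      · rw [Set.mem_singleton_iff] at hg
        rw [hg]
        exact hh
    exact (hmin hmem inf_le_left).trans inf_le_right

/-- an atom is the common eigenspace of all conjugates containing it -/
theorem bliatom_atom_eq (U : G →* (V →L[ℂ] V)) (ε : ℂ) (z : G) (L : Submodule ℂ V)
    (hL : L ∈ bliatom_atoms U ε z) :
    ({h | h ∈ bliatom_C z ∧ L ≤ bliatom_E U ε h} : Set G).Nonempty ∧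
      L = bliatom_F U ε {h | h ∈ bliatom_C z ∧ L ≤ bliatom_E U ε h} := by
  obtain ⟨⟨hne, A, hA, hAC, hLA⟩, hmin⟩ := hL
  have hsub : A ⊆ {h | h ∈ bliatom_C z ∧ L ≤ bliatom_E U ε h} := by
    intro h hh
    refine ⟨hAC hh, ?_⟩
    rw [hLA]
    exact bliatom_F_le_E U ε A h hh
  refine ⟨hA.mono hsub, le_antisymm ?_ ?_⟩
  · intro u hu h hh
    exact hh.2 hu
  · conv_rhs => rw [hLA]
    exact bliatom_F_anti U ε hsub

/-! ### Distances -/

/-- the key inequality: `‖U h u - ε u‖ ≤ ‖U z - ε‖ ‖u - f‖` for `f` in the eigenspace of the conjugate `h` -/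
theorem bliatom_close (U : G →* (V →L[ℂ] V)) (hU : ∀ g v, ‖U g v‖ = ‖v‖) (ε : ℂ) (z h : G)
    (hh : h ∈ bliatom_C z) (u f : V) (hf : f ∈ bliatom_E U ε h) :
    ‖U h u - ε • u‖ ≤ ‖U z - ε • (1 : V →L[ℂ] V)‖ * ‖u - f‖ := by
  obtain ⟨x, rfl⟩ := hh
  have hf' : U (x * z * x⁻¹) f = ε • f := hf
  obtain ⟨w, hw⟩ : ∃ w : V, w = U x⁻¹ (u - f) := ⟨_, rfl⟩
  have e1 : U (x * z * x⁻¹) u - ε • u = U x ((U z - ε • (1 : V →L[ℂ] V)) w) := by
    have e2 : U (x * z * x⁻¹) u - ε • u = U (x * z * x⁻¹) (u - f) - ε • (u - f) := by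
      rw [map_sub, hf', smul_sub]
      abel
    rw [e2, bliatom_mul_apply, bliatom_mul_apply, ← hw]
    have e3 : u - f = U x w := by rw [hw, bliatom_apply_inv]
    rw [e3]
    simp only [sub_apply, smul_apply, one_apply_eq_self, map_sub, map_smul]
  rw [e1, hU]
  calc ‖(U z - ε • (1 : V →L[ℂ] V)) w‖ ≤ ‖U z - ε • (1 : V →L[ℂ] V)‖ * ‖w‖ :=
        ContinuousLinearMap.le_opNorm _ _
    _ = ‖U z - ε • (1 : V →L[ℂ] V)‖ * ‖u - f‖ := by rw [hw, hU]

theorem bliatom_E_closed [FiniteDimensional ℂ V] (U : G →* (V →L[ℂ] V)) (ε : ℂ) (h : G) :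
    IsClosed (bliatom_E U ε h : Set V) := Submodule.closed_of_finiteDimensional _

theorem bliatom_close_inf [FiniteDimensional ℂ V] (U : G →* (V →L[ℂ] V)) (hU : ∀ g v, ‖U g v‖ = ‖v‖)
    (ε : ℂ) (z h : G) (hh : h ∈ bliatom_C z) (u : V) :
    ‖U h u - ε • u‖ ≤ ‖U z - ε • (1 : V →L[ℂ] V)‖ * Metric.infDist u (bliatom_E U ε h : Set V) := by
  have : ProperSpace V := FiniteDimensional.proper ℂ V
  obtain ⟨f, hf, hd⟩ := (bliatom_E_closed U ε h).exists_infDist_eq_dist ⟨0, Submodule.zero_mem _⟩ u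
  rw [hd, dist_eq_norm]
  exact bliatom_close U hU ε z h hh u f hf

/-- a unit vector orthogonal to a subspace has distance at least one from it -/
theorem bliatom_orth_dist (E : Submodule ℂ V) (w : V) (hw : ‖w‖ = 1)
    (horth : ∀ f ∈ E, ⟪f, w⟫_ℂ = 0) : 1 ≤ Metric.infDist w (E : Set V) := by
  rw [Metric.le_infDist ⟨0, Submodule.zero_mem _⟩]
  intro f hf
  rw [dist_eq_norm]
  have h0 : ⟪w, -f⟫_ℂ = 0 := by
    rw [inner_neg_right, ← inner_conj_symm, horth f hf, map_zero, neg_zero]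
  have h1 := norm_add_sq_eq_norm_sq_add_norm_sq_of_inner_eq_zero w (-f) h0
  rw [← sub_eq_add_neg, hw, norm_neg] at h1
  have h2 : 1 ≤ ‖w - f‖ * ‖w - f‖ := by
    rw [h1]
    nlinarith [norm_nonneg f]
  nlinarith [norm_nonneg (w - f)]

/-- the smallest distance from a unit vector of `L` to the eigenspace of `h` -/
noncomputable def bliatom_delta (U : G →* (V →L[ℂ] V)) (ε : ℂ) (L : Submodule ℂ V) (h : G) : ℝ :=
  sInf ((fun u => Metric.infDist u (bliatom_E U ε h : Set V)) '' {u | u ∈ L ∧ ‖u‖ = 1})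

theorem bliatom_delta_le (U : G →* (V →L[ℂ] V)) (ε : ℂ) (L : Submodule ℂ V) (h : G) (u : V)
    (hu : u ∈ L) (hu1 : ‖u‖ = 1) :
    bliatom_delta U ε L h ≤ Metric.infDist u (bliatom_E U ε h : Set V) := by
  apply csInf_le
  · refine ⟨0, ?_⟩
    rintro _ ⟨v, _, rfl⟩
    exact Metric.infDist_nonneg
  · exact ⟨u, ⟨hu, hu1⟩, rfl⟩

theorem bliatom_delta_attained [FiniteDimensional ℂ V] (U : G →* (V →L[ℂ] V)) (ε : ℂ)
    (L : Submodule ℂ V) (hL : L ≠ ⊥) (h : G) :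
    ∃ u₀ ∈ L, ‖u₀‖ = 1 ∧ Metric.infDist u₀ (bliatom_E U ε h : Set V) = bliatom_delta U ε L h := by
  have : ProperSpace V := FiniteDimensional.proper ℂ V
  have hK : IsCompact ({u | u ∈ L ∧ ‖u‖ = 1} : Set V) := by
    have : ({u | u ∈ L ∧ ‖u‖ = 1} : Set V) = (L : Set V) ∩ Metric.sphere 0 1 := by
      ext u
      simp
    rw [this]
    exact (isCompact_sphere (0 : V) 1).inter_left (Submodule.closed_of_finiteDimensional L)
  have hne : ({u | u ∈ L ∧ ‖u‖ = 1} : Set V).Nonempty := by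
    obtain ⟨u, hu, hu0⟩ := Submodule.exists_mem_ne_zero_of_ne_bot hL
    refine ⟨(‖u‖⁻¹ : ℂ) • u, L.smul_mem _ hu, ?_⟩
    have hn : ‖u‖ ≠ 0 := norm_ne_zero_iff.mpr hu0
    rw [norm_smul]
    simp [hn]
  obtain ⟨u₀, hu₀, hmin⟩ := hK.exists_isMinOn hne
    (Metric.continuous_infDist_pt (bliatom_E U ε h : Set V)).continuousOn
  refine ⟨u₀, hu₀.1, hu₀.2, ?_⟩
  apply le_antisymm
  · apply le_csInf (hne.image _)
    rintro _ ⟨v, hv, rfl⟩
    exact hmin hv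
  · exact bliatom_delta_le U ε L h u₀ hu₀.1 hu₀.2


/-! ### The descent -/

/-- an isometry leaving `L` invariant and without `ε`-eigenvector in `L`: `L` is orthogonal to the
`ε`-eigenspace -/
theorem bliatom_orth_of_invariant' [FiniteDimensional ℂ V]
    (T : V →L[ℂ] V) (hT : ∀ v, ‖T v‖ = ‖v‖) (ε : ℂ) (hε : ‖ε‖ = 1)
    (L : Submodule ℂ V) (hinv : ∀ u ∈ L, T u ∈ L) (hbot : ∀ u ∈ L, T u = ε • u → u = 0)
    (f : V) (hf : T f = ε • f) (u : V) (hu : u ∈ L) : ⟪f, u⟫_ℂ = 0 := by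
  obtain ⟨S, hSdef⟩ : ∃ S : V →ₗ[ℂ] V, ∀ x, S x = T x - ε • x :=
    ⟨(T : V →ₗ[ℂ] V) - ε • (LinearMap.id : V →ₗ[ℂ] V), fun x => rfl⟩
  have hS : ∀ x ∈ L, S x ∈ L := fun x hx => by
    rw [hSdef]
    exact L.sub_mem (hinv x hx) (L.smul_mem ε hx)
  have hinj : Function.Injective (S.restrict hS) := by
    rw [← LinearMap.ker_eq_bot, LinearMap.ker_eq_bot']
    intro x hx
    have h1 : T x.1 - ε • x.1 = 0 := by
      have := congrArg Subtype.val hx
      rw [LinearMap.coe_restrict_apply, hSdef] at this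
      exact this
    exact Subtype.ext (hbot x.1 x.2 (sub_eq_zero.mp h1))
  have hsurj := LinearMap.injective_iff_surjective.mp hinj
  obtain ⟨u₁, hu₁⟩ := hsurj ⟨u, hu⟩
  have hu1 : u = T u₁.1 - ε • u₁.1 := by
    have := congrArg Subtype.val hu₁
    rw [LinearMap.coe_restrict_apply, hSdef] at this
    exact this.symm
  have hinner : ∀ a b : V, ⟪T a, T b⟫_ℂ = ⟪a, b⟫_ℂ :=
    (LinearMap.norm_map_iff_inner_map_map (T : V →ₗ[ℂ] V)).mp (fun v => hT v)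
  rw [hu1, inner_sub_right, inner_smul_right]
  have h3 : ⟪f, T u₁.1⟫_ℂ = ε * ⟪f, u₁.1⟫_ℂ := by
    have h4 : ⟪T f, T u₁.1⟫_ℂ = ⟪f, u₁.1⟫_ℂ := hinner f u₁.1
    rw [hf, inner_smul_left] at h4
    have h5 : ε * conj ε = 1 := by
      rw [Complex.mul_conj, Complex.normSq_eq_norm_sq, hε]
      simp
    calc ⟪f, T u₁.1⟫_ℂ = (ε * conj ε) * ⟪f, T u₁.1⟫_ℂ := by rw [h5, one_mul]
      _ = ε * (conj ε * ⟪f, T u₁.1⟫_ℂ) := by ring
      _ = ε * ⟪f, u₁.1⟫_ℂ := by rw [h4]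
  rw [h3, sub_self]

/-- the bad pairs: an atom meeting an eigenspace trivially without being orthogonal to it -/
def bliatom_bad (U : G →* (V →L[ℂ] V)) (ε : ℂ) (z : G) : Set (Submodule ℂ V × G) :=
  {P | P.1 ∈ bliatom_atoms U ε z ∧ P.2 ∈ bliatom_C z ∧ P.1 ⊓ bliatom_E U ε P.2 = ⊥ ∧
    ∃ u ∈ P.1, ∃ f ∈ bliatom_E U ε P.2, ⟪f, u⟫_ℂ ≠ 0}

theorem bliatom_bad_finite [Finite G] (U : G →* (V →L[ℂ] V)) (ε : ℂ) (z : G) :
    (bliatom_bad U ε z).Finite := by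
  apply Set.Finite.subset ((bliatom_atoms_finite U ε z).prod (Set.finite_univ (α := G)))
  rintro ⟨L, h⟩ hP
  exact ⟨hP.1, Set.mem_univ _⟩

/-- there is no bad pair -/
theorem bliatom_no_bad [Finite G] [FiniteDimensional ℂ V] (U : G →* (V →L[ℂ] V))
    (hU : ∀ g v, ‖U g v‖ = ‖v‖) (z : G) (ε : ℂ) (hε1 : ‖ε‖ = 1)
    (hclose : ‖U z - ε • (1 : V →L[ℂ] V)‖ < 1) : bliatom_bad U ε z = ∅ := by
  by_contra hne
  have hne' : (bliatom_bad U ε z).Nonempty := Set.nonempty_iff_ne_empty.mpr hne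
  obtain ⟨⟨L, g⟩, hbad, hmin⟩ := Set.exists_min_image (bliatom_bad U ε z)
    (fun P => bliatom_delta U ε P.1 P.2) (bliatom_bad_finite U ε z) hne'
  obtain ⟨hL, hg, hbot, u₁, hu₁, f₁, hf₁, hnz⟩ := hbad
  change L ∈ bliatom_atoms U ε z at hL
  change g ∈ bliatom_C z at hg
  change L ⊓ bliatom_E U ε g = ⊥ at hbot
  change u₁ ∈ L at hu₁
  change f₁ ∈ bliatom_E U ε g at hf₁
  have hLne : L ≠ ⊥ := hL.1.1
  obtain ⟨u₀, hu₀, hu₀1, hδ⟩ := bliatom_delta_attained U ε L hLne g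
  set δ := bliatom_delta U ε L g with hδdef
  set r := ‖U z - ε • (1 : V →L[ℂ] V)‖ with hrdef
  have hr0 : 0 ≤ r := norm_nonneg _
  have hu₀ne : u₀ ≠ 0 := by
    intro h0
    rw [h0, norm_zero] at hu₀1
    exact zero_ne_one hu₀1
  -- δ > 0
  have hδpos : 0 < δ := by
    rw [← hδ, ← (bliatom_E_closed U ε g).notMem_iff_infDist_pos ⟨0, Submodule.zero_mem _⟩]
    intro hmem
    have : u₀ ∈ L ⊓ bliatom_E U ε g := ⟨hu₀, hmem⟩
    rw [hbot, Submodule.mem_bot] at this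
    exact hu₀ne this
  -- δ ≤ 1
  have hδle : δ ≤ 1 := by
    rw [← hδ]
    calc Metric.infDist u₀ (bliatom_E U ε g : Set V) ≤ dist u₀ 0 :=
          Metric.infDist_le_dist_of_mem (Submodule.zero_mem _)
      _ = 1 := by rw [dist_zero_right, hu₀1]
  have hrδ : r * δ < δ := by nlinarith
  -- the image atom
  have hL' : L.map ((U g : V →L[ℂ] V) : V →ₗ[ℂ] V) ∈ bliatom_atoms U ε z :=
    bliatom_atoms_map U ε z g L hL
  have hw : U g u₀ ∈ L.map ((U g : V →L[ℂ] V) : V →ₗ[ℂ] V) := ⟨u₀, hu₀, rfl⟩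
  have hw1 : ‖U g u₀‖ = 1 := by rw [hU, hu₀1]
  have hclose' : ‖U g u₀ - ε • u₀‖ ≤ r * δ := by
    rw [← hδ]
    exact bliatom_close_inf U hU ε z g hg u₀
  -- the image atom lies in every eigenspace containing `L`
  have hstep : ∀ h' ∈ bliatom_C z, L ≤ bliatom_E U ε h' →
      L.map ((U g : V →L[ℂ] V) : V →ₗ[ℂ] V) ≤ bliatom_E U ε h' := by
    intro h' hh' hLh'
    rcases bliatom_dichotomy U ε z h' hh' _ hL' with hle | hbot'
    · exact hle
    · exfalso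
      have hupper : Metric.infDist (U g u₀) (bliatom_E U ε h' : Set V) ≤ r * δ := by
        have hmem : ε • u₀ ∈ bliatom_E U ε h' := Submodule.smul_mem _ _ (hLh' hu₀)
        calc Metric.infDist (U g u₀) (bliatom_E U ε h' : Set V) ≤ dist (U g u₀) (ε • u₀) :=
              Metric.infDist_le_dist_of_mem hmem
          _ = ‖U g u₀ - ε • u₀‖ := dist_eq_norm _ _
          _ ≤ r * δ := hclose'
      have hlower : δ ≤ Metric.infDist (U g u₀) (bliatom_E U ε h' : Set V) := by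
        by_cases horth : ∀ u ∈ L.map ((U g : V →L[ℂ] V) : V →ₗ[ℂ] V), ∀ f ∈ bliatom_E U ε h',
            ⟪f, u⟫_ℂ = 0
        · exact hδle.trans (bliatom_orth_dist _ _ hw1 (fun f hf => horth _ hw f hf))
        · push Not at horth
          obtain ⟨u, hu, f, hf, hfu⟩ := horth
          have hbad' : (L.map ((U g : V →L[ℂ] V) : V →ₗ[ℂ] V), h') ∈ bliatom_bad U ε z :=
            ⟨hL', hh', hbot', u, hu, f, hf, hfu⟩
          exact (hmin _ hbad').trans (bliatom_delta_le U ε _ h' _ hw hw1)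
      linarith
  -- hence `U g` leaves `L` invariant
  have hinv : ∀ u ∈ L, U g u ∈ L := by
    intro u hu
    obtain ⟨_, hLeq⟩ := bliatom_atom_eq U ε z L hL
    rw [hLeq]
    intro h' hh'
    exact hstep h' hh'.1 hh'.2 ⟨u, hu, rfl⟩
  have hbot2 : ∀ u ∈ L, U g u = ε • u → u = 0 := by
    intro u hu hue
    have : u ∈ L ⊓ bliatom_E U ε g := ⟨hu, hue⟩
    rwa [hbot, Submodule.mem_bot] at this
  exact hnz (bliatom_orth_of_invariant' (U g) (hU g) ε hε1 L hinv hbot2 f₁ hf₁ u₁ hu₁)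

/-- distinct atoms are orthogonal -/
theorem bliatom_atoms_orth [Finite G] [FiniteDimensional ℂ V] (U : G →* (V →L[ℂ] V))
    (hU : ∀ g v, ‖U g v‖ = ‖v‖) (z : G) (ε : ℂ) (hε1 : ‖ε‖ = 1)
    (hclose : ‖U z - ε • (1 : V →L[ℂ] V)‖ < 1) (L L' : Submodule ℂ V)
    (hL : L ∈ bliatom_atoms U ε z) (hL' : L' ∈ bliatom_atoms U ε z) (hne : L ≠ L')
    (u : V) (hu : u ∈ L) (w : V) (hw : w ∈ L') : ⟪u, w⟫_ℂ = 0 := by
  obtain ⟨_, hLeq⟩ := bliatom_atom_eq U ε z L hL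
  obtain ⟨_, hLeq'⟩ := bliatom_atom_eq U ε z L' hL'
  by_cases hsub : ∀ h ∈ bliatom_C z, L ≤ bliatom_E U ε h → L' ≤ bliatom_E U ε h
  · exfalso
    have hle : L' ≤ L := by
      intro v hv
      rw [hLeq]
      intro h hh
      exact hsub h hh.1 hh.2 hv
    exact hne (le_antisymm (hL.2 hL'.1 hle) hle).symm.symm
  · push Not at hsub
    obtain ⟨h, hh, hLh, hnle⟩ := hsub
    have hbot : L' ⊓ bliatom_E U ε h = ⊥ := by
      rcases bliatom_dichotomy U ε z h hh L' hL' with h1 | h1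
      · exact absurd h1 hnle
      · exact h1
    by_contra hnz
    have hbad : (L', h) ∈ bliatom_bad U ε z := ⟨hL', hh, hbot, w, hw, u, hLh hu, hnz⟩
    rw [bliatom_no_bad U hU z ε hε1 hclose] at hbad
    exact hbad

end

/-- ATOM (Blichfeldt decomposition) -/
theorem bli_atoms {G : Type*} [Group G] [Finite G] {V : Type*} [NormedAddCommGroup V]
    [InnerProductSpace ℂ V] [FiniteDimensional ℂ V]
    (U : G →* (V →L[ℂ] V)) (hU : ∀ g v, ‖U g v‖ = ‖v‖) (z : G) (ε : ℂ)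
    (hε : ∃ v : V, v ≠ 0 ∧ U z v = ε • v) (hclose : ‖U z - ε • (1 : V →L[ℂ] V)‖ < 1) :
    ∃ 𝒜 : Set (Submodule ℂ V), 𝒜.Finite ∧ 𝒜.Nonempty ∧ (∀ L ∈ 𝒜, L ≠ ⊥) ∧
      (∀ L ∈ 𝒜, ∀ x : G, L.map ((U x : V →L[ℂ] V) : V →ₗ[ℂ] V) ∈ 𝒜) ∧
      (∀ L ∈ 𝒜, ∀ L' ∈ 𝒜, L ≠ L' → ∀ u ∈ L, ∀ w ∈ L', ⟪u, w⟫_ℂ = 0) ∧
      (∀ L ∈ 𝒜, ∃ x : G, ∀ u ∈ L, U (x * z * x⁻¹) u = ε • u) := by
  obtain ⟨v, hv0, hv⟩ := hε
  have hε1 : ‖ε‖ = 1 := by
    have h1 : ‖U z v‖ = ‖v‖ := hU z v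
    rw [hv, norm_smul] at h1
    have hvn : ‖v‖ ≠ 0 := norm_ne_zero_iff.mpr hv0
    field_simp at h1
    exact h1
  have hEz : bliatom_E U ε z ∈ bliatom_lat U ε z := by
    refine ⟨?_, {z}, ⟨z, rfl⟩, ?_, ?_⟩
    · intro hb
      have : v ∈ bliatom_E U ε z := hv
      rw [hb, Submodule.mem_bot] at this
      exact hv0 this
    · rintro _ rfl
      exact ⟨1, by group⟩
    · ext u
      rw [bliatom_mem_E, bliatom_mem_F]
      constructor
      · rintro h _ rfl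
        exact h
      · intro h
        exact h z rfl
  refine ⟨bliatom_atoms U ε z, bliatom_atoms_finite U ε z, ?_, ?_, ?_, ?_, ?_⟩
  · obtain ⟨L₀, hL₀, _⟩ := bliatom_exists_atom_le U ε z _ hEz
    exact ⟨L₀, hL₀⟩
  · intro L hL
    exact hL.1.1
  · intro L hL x
    exact bliatom_atoms_map U ε z x L hL
  · intro L hL L' hL' hne u hu w hw
    exact bliatom_atoms_orth U hU z ε hε1 hclose L L' hL hL' hne u hu w hw
  · intro L hL
    obtain ⟨⟨h, ⟨x, hx⟩, hLh⟩, _⟩ := bliatom_atom_eq U ε z L hL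
    refine ⟨x, fun u hu => ?_⟩
    rw [← hx]
    exact hLh hu

end Cfsg.Agent.Lib.Helper29.BLI
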