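import Mathlib
import Cfsg.Statements.S4484
import Cfsg.Agent.Lib.Helper24.JD6
import Cfsg.Agent.Lib.helper2.PModular2
import Cfsg.Agent.Lib.Helper25.DefectZeroCount
import Cfsg.Agent.Lib.Helper29.BLIATOM
import Cfsg.Agent.Lib.Helper26.BLISIMPLEcore
import Cfsg.Agent.Lib.Helper21.BLIPIGEON
import Cfsg.Agent.Lib.Helper9.BLINORM
import Cfsg.Agent.Lib.Helper11.BLICOUNT
import Cfsg.Agent.Lib.Helper24.BLIMULT
import Cfsg.Agent.Lib.Helper24.BLIZP
import Cfsg.Agent.Lib.Helper10.BLIEXIST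
import Cfsg.Agent.Lib.Helper10.BLIARITH
import Cfsg.Agent.Lib.Helper10.BLIREP

set_option autoImplicit false
set_option linter.unusedVariables false
set_option linter.style.haveILetI false

open scoped ComplexConjugate InnerProductSpace

namespace Cfsg.Agent.Lib.Helper29.BLI

open Cfsg.Agent.Lib.Helper24

/-- the analytic part: a faithful irreducible representation of a non-abelian simple group has no
element `z ≠ 1` all of whose eigenvalues are within `60°` of one of them -/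
theorem bli_rep_simple {G : Type*} [Group G] [Finite G] [IsSimpleGroup G]
    (hna : ∃ a b : G, a * b ≠ b * a) (n : ℕ) (ρ : Representation ℂ G (Fin n → ℂ))
    (hinj : Function.Injective ρ)
    (hirr : ∀ W : Submodule ℂ (Fin n → ℂ), (∀ g : G, W.map (ρ g) ≤ W) → W = ⊥ ∨ W = ⊤)
    (x : G) (k : ℕ) (hz : x ^ k ≠ 1) (lam1 : ℂ)
    (h1 : ∃ v : Fin n → ℂ, v ≠ 0 ∧ ρ x v = lam1 • v)
    (hall : ∀ lam : ℂ, (∃ v : Fin n → ℂ, v ≠ 0 ∧ ρ x v = lam • v) → ‖lam ^ k - lam1 ^ k‖ < 1) :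
    False := by
  haveI : Fintype G := Fintype.ofFinite G
  letI core : InnerProductSpace.Core ℂ (JdSpace n) := jdCore n ρ
  letI : NormedAddCommGroup (JdSpace n) :=
    @InnerProductSpace.Core.toNormedAddCommGroup ℂ (JdSpace n) _ _ _ core
  letI : InnerProductSpace ℂ (JdSpace n) := InnerProductSpace.ofCore _
  haveI : FiniteDimensional ℂ (JdSpace n) := jdSpaceFinite n
  have hinner : ∀ u v : JdSpace n, ⟪u, v⟫_ℂ = jdInner n ρ u v := fun u v => rfl
  let U : G →* (JdSpace n →L[ℂ] JdSpace n) :=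
    { toFun := fun g => LinearMap.toContinuousLinearMap
        (show JdSpace n →ₗ[ℂ] JdSpace n from ρ g)
      map_one' := by
        ext v
        show ρ 1 v = v
        rw [map_one]
        rfl
      map_mul' := by
        intro a b
        ext v
        show ρ (a * b) v = ρ a (ρ b v)
        rw [map_mul]
        rfl }
  have hUv : ∀ g (v : JdSpace n), U g v = ρ g v := fun g v => rfl
  have hU : ∀ g (v : JdSpace n), ‖U g v‖ = ‖v‖ := by
    intro g v
    have h1 : ‖U g v‖ ^ 2 = ‖v‖ ^ 2 := by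
      rw [← inner_self_eq_norm_sq (𝕜 := ℂ), ← inner_self_eq_norm_sq (𝕜 := ℂ), hinner, hinner, hUv,
        jd_inner_map]
    exact (sq_eq_sq₀ (norm_nonneg _) (norm_nonneg _)).mp h1
  have hUinj : Function.Injective U := by
    intro a b hab
    apply hinj
    refine LinearMap.ext (fun v => ?_)
    have h1 : U a v = U b v := congrArg (fun T : JdSpace n →L[ℂ] JdSpace n => T v) hab
    exact h1
  have hUirr : ∀ W : Submodule ℂ (JdSpace n),
      (∀ g : G, W.map ((U g : JdSpace n →L[ℂ] JdSpace n) : JdSpace n →ₗ[ℂ] JdSpace n) ≤ W) →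
        W = ⊥ ∨ W = ⊤ := by
    intro W hW
    exact hirr W hW
  -- the eigenvector of `U (x ^ k)`
  have hε : ∃ v : JdSpace n, v ≠ 0 ∧ U (x ^ k) v = (lam1 ^ k) • v := by
    obtain ⟨v0, hv0, hv⟩ := h1
    obtain ⟨v, hvdef⟩ : ∃ v : JdSpace n, v = v0 := ⟨v0, rfl⟩
    have hv' : U x v = lam1 • v := by
      rw [hvdef]
      exact hv
    refine ⟨v, by rw [hvdef]; exact hv0, ?_⟩
    have hpow : ∀ j : ℕ, U (x ^ j) v = (lam1 ^ j) • v := by
      intro j
      induction j with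
      | zero =>
        rw [pow_zero, map_one, pow_zero, one_smul]
        rfl
      | succ j ih =>
        rw [pow_succ, map_mul]
        show U (x ^ j) (U x v) = _
        rw [hv', (U (x ^ j)).map_smul, ih, smul_smul, pow_succ, mul_comm]
    exact hpow k
  have hclose : ‖U (x ^ k) - (lam1 ^ k) • (1 : JdSpace n →L[ℂ] JdSpace n)‖ < 1 :=
    bli_norm U hU x k (lam1 ^ k) 1 one_pos (fun lam hlam => hall lam hlam)
  exact blisimple_core hna U hU hUinj hUirr (x ^ k) hz (lam1 ^ k) hclose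
    (bli_atoms U hU (x ^ k) (lam1 ^ k) hε hclose)

open Cfsg.Agent.Lib.helper2 Cfsg.Agent.Lib.Helper25 in
/-- S4484 -/
theorem bli_main {G : Type*} [Group G] [Finite G] [IsSimpleGroup G] (p q a b g₀ : ℕ) (hp : p.Prime)
    (hq : q.Prime) (hpq : p ≠ q) (ha : 0 < a) (hg : Nat.card G = p ^ a * q ^ b * g₀) (hcop : ¬ p ∣ g₀)
    (hcoq : ¬ q ∣ g₀) (hne : Nat.card G ≠ p) : p < 6 ^ (g₀ - 1) := by
  have hpG : p ∣ Nat.card G := by
    rw [hg]
    exact dvd_mul_of_dvd_left (dvd_mul_of_dvd_left (dvd_pow_self p ha.ne') _) _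
  -- `G` is not abelian
  have hna : ∃ x y : G, x * y ≠ y * x := by
    by_contra hcon
    push Not at hcon
    letI : CommGroup G := { (inferInstance : Group G) with mul_comm := hcon }
    have hprime : (Nat.card G).Prime := IsSimpleGroup.prime_card
    exact hne ((Nat.prime_dvd_prime_iff_eq hp hprime).mp hpG).symm
  by_contra hlt
  push Not at hlt
  haveI : Fact p.Prime := ⟨hp⟩
  obtain ⟨M, hM⟩ := exists_isPModular p hp
  obtain ⟨χ, hχB, hχ1, hqχ⟩ := bli_exists (G := G) p q hq hpG M hM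
  obtain ⟨x, hxo, hxc⟩ := bli_central_elt (G := G) p hpG
  obtain ⟨n, ρ, hρχ, hn, hn0, hρinj, hρirr⟩ := bli_rep χ hχ1
  have hn_dvd : n ∣ p ^ a * q ^ b * g₀ := by
    rw [hn, ← hg]
    exact charDegree_dvd_card χ
  have hqn : ¬ q ∣ n := by rw [hn]; exact hqχ
  have hN : 0 < p ^ a * q ^ b * g₀ := by rw [← hg]; exact Nat.card_pos
  obtain ⟨hα, hs⟩ := bli_arith p q a b g₀ n hp hq hpq hN hn_dvd hqn
  have hxp : x ^ p = 1 := by rw [← hxo]; exact pow_orderOf_eq_one x
  have hdiv : ∀ lam : ℂ, lam ^ p = 1 → ∀ m : ℕ,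
      (p : ℂ) * (m : ℂ) = ∑ k ∈ Finset.range p, ρ.character (x ^ k) * (lam⁻¹) ^ k →
        p ^ (n.factorization p) ∣ m := by
    intro lam hl m hm
    refine bli_mult p M hM χ hχB x hxo hxc (n.factorization p) (by rw [← hn]; exact hα) lam hl m ?_
    rw [← hρχ]
    exact hm
  obtain ⟨S, hSiff, hSp, hSne, hScard⟩ := bli_count n ρ x p hp hxp (n.factorization p) hdiv
  have hle : S.card ≤ g₀ := hs S.card hScard
  obtain ⟨lam1, h1⟩ := hSne hn0
  have hcard : 6 ^ (S.card - 1) < p :=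
    bli_six p _ hp (le_trans (Nat.pow_le_pow_right (by norm_num) (Nat.sub_le_sub_right hle 1)) hlt)
  obtain ⟨k, hk0, hkp, hall⟩ := bli_pigeon p hp S hSp lam1 h1 hcard
  have hz : x ^ k ≠ 1 := pow_ne_one_of_lt_orderOf hk0.ne' (by rw [hxo]; exact hkp)
  exact bli_rep_simple hna n ρ hρinj hρirr x k hz lam1 ((hSiff lam1).mp h1)
    (fun lam hlam => hall lam ((hSiff lam).mpr hlam))

end Cfsg.Agent.Lib.Helper29.BLI

example : type_of% @Cfsg.CfsgFrozen.S4484 := @Cfsg.Agent.Lib.Helper29.BLI.bli_main
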