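import Mathlib
import Cfsg.Agent.Lib.Helper29.BSQ8Spec
import Cfsg.Agent.Lib.Helper24.BSQC9

/-!
# Repackaging helper24's `BsqHyp.main` into `CData`
-/

set_option autoImplicit false
open scoped ComplexConjugate

namespace Cfsg.Agent.Lib.Helper29.BSQ8

open Cfsg.Agent.Lib.Helper25 Cfsg.Agent.Lib.Helper24

universe u

theorem cdata_of_bsqHyp {K : Type u} [Group K] [Fintype K] [Fintype (Cfsg.IrrCharacter K)]
    (M : Ideal Cfsg.AlgInt) (z : K) (ψ : Fin 4 → Cfsg.IrrCharacter K) (s : Fin 4 → ℤ) (ε : ℤ)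
    (hε : ε = 1 ∨ ε = -1) (hs : s = ![1, 1, ε, -1]) (𝔹 : Finset (Cfsg.IrrCharacter K))
    (h𝔹 : ∀ χ, χ ∈ 𝔹 ↔ χ ∈ Cfsg.principalBlock M K) (h : BsqHyp z 𝔹 ψ s) :
    Nonempty (CData M z) := by
  classical
  obtain ⟨χ, κ, hχ, hinj, hall⟩ := h.main
  obtain ⟨h1B, h1n, h1κ, h1f⟩ := hχ 1 (by decide)
  obtain ⟨h2B, h2n, h2κ, h2f⟩ := hχ 2 (by decide)
  obtain ⟨h3B, h3n, h3κ, h3f⟩ := hχ 3 (by decide)
  have hs0 : s 0 = 1 := by rw [hs]; rfl
  have hs1 : s 1 = 1 := by rw [hs]; rfl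
  have hs2 : s 2 = ε := by rw [hs]; rfl
  have hs3 : s 3 = -1 := by rw [hs]; rfl
  have hψ0 : ∀ c, (ψ 0 : K → ℂ) c = 1 := by
    intro c
    rw [h.ψ0]
    rfl
  have hrel : ∀ y : K, Odd (orderOf y) →
      1 + (ψ 1 : K → ℂ) y + (ε : ℂ) * (ψ 2 : K → ℂ) y - (ψ 3 : K → ℂ) y = 0 := by
    intro y hy
    have := h.rel y hy
    rw [Fin.sum_univ_four, hs0, hs1, hs2, hs3, hψ0] at this
    push_cast at this
    linear_combination this
  have hκ1 : (κ 1 : ℂ) * (κ 1 : ℂ) = 1 := by exact_mod_cast h1κ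
  have hκ2 : (κ 2 : ℂ) * (κ 2 : ℂ) = 1 := by exact_mod_cast h2κ
  have hκ3 : (κ 3 : ℂ) * (κ 3 : ℂ) = 1 := by exact_mod_cast h3κ
  have pm : ∀ k : ℤ, k * k = 1 → k = 1 ∨ k = -1 := by
    intro k hk
    have : (k - 1) * (k + 1) = 0 := by ring_nf; linarith
    rcases mul_eq_zero.mp this with h | h
    · left; omega
    · right; omega
  refine ⟨{ ψ₂ := ψ 1, ψ₃ := ψ 2, ψ₄ := ψ 3, χ₁ := χ 1, χ₂ := χ 2, χ₃ := χ 3,
            ε := ε, s₁ := κ 1, s₂ := κ 2, s₃ := -κ 3, hε := hε,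
            hs₁ := pm _ h1κ, hs₂ := pm _ h2κ,
            hs₃ := by rcases pm _ h3κ with h | h <;> rw [h] <;> simp,
            nodup := ?_, block := ?_,
            ψ₂_z := by have := h.ψz 1 1; rwa [mul_one] at this,
            ψ₃_z := by have := h.ψz 2 1; rwa [mul_one] at this,
            ψ₄_z := by have := h.ψz 3 1; rwa [mul_one] at this,
            χ₁_z := by have := h.Fz (χ 1) h1B h1n 1; rwa [mul_one] at this,
            χ₂_z := by have := h.Fz (χ 2) h2B h2n 1; rwa [mul_one] at this,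
            χ₃_z := by have := h.Fz (χ 3) h3B h3n 1; rwa [mul_one] at this,
            odd₁ := ?_, odd₂ := ?_, odd₃ := ?_, odd₄ := hrel }⟩
  · -- nodup
    rw [← h.ψ0]
    have e01 : ψ 0 ≠ ψ 1 := fun e => by have := h.ψinj e; exact absurd this (by decide)
    have e02 : ψ 0 ≠ ψ 2 := fun e => by have := h.ψinj e; exact absurd this (by decide)
    have e03 : ψ 0 ≠ ψ 3 := fun e => by have := h.ψinj e; exact absurd this (by decide)
    have e12 : ψ 1 ≠ ψ 2 := fun e => by have := h.ψinj e; exact absurd this (by decide)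
    have e13 : ψ 1 ≠ ψ 3 := fun e => by have := h.ψinj e; exact absurd this (by decide)
    have e23 : ψ 2 ≠ ψ 3 := fun e => by have := h.ψinj e; exact absurd this (by decide)
    have c12 : χ 1 ≠ χ 2 := fun e => by
      have := hinj 1 2 (by decide) (by decide) e; exact absurd this (by decide)
    have c13 : χ 1 ≠ χ 3 := fun e => by
      have := hinj 1 3 (by decide) (by decide) e; exact absurd this (by decide)
    have c23 : χ 2 ≠ χ 3 := fun e => by
      have := hinj 2 3 (by decide) (by decide) e; exact absurd this (by decide)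
    simp only [List.nodup_cons, List.mem_cons, List.not_mem_nil, or_false, not_or,
      List.nodup_nil, and_true]
    refine ⟨⟨e01, e02, e03, (h1n 0).symm, (h2n 0).symm, (h3n 0).symm⟩,
      ⟨e12, e13, (h1n 1).symm, (h2n 1).symm, (h3n 1).symm⟩,
      ⟨e23, (h1n 2).symm, (h2n 2).symm, (h3n 2).symm⟩,
      ⟨(h1n 3).symm, (h2n 3).symm, (h3n 3).symm⟩, ⟨c12, c13⟩, c23, ?_⟩
    simp
  · -- block
    intro θ
    rw [← h𝔹 θ, ← h.ψ0]
    simp only [List.mem_cons, List.not_mem_nil, or_false]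
    constructor
    · intro hθ
      rcases hall θ hθ with ⟨j, rfl⟩ | ⟨i, hi, rfl⟩
      · fin_cases j <;> simp
      · fin_cases i
        · exact absurd rfl hi
        · simp
        · simp
        · simp
    · rintro (rfl | rfl | rfl | rfl | rfl | rfl | rfl)
      · exact h.ψmem 0
      · exact h.ψmem 1
      · exact h.ψmem 2
      · exact h.ψmem 3
      · exact h1B
      · exact h2B
      · exact h3B
  · intro y hy
    rw [h1f y hy, hψ0, hs1]
    push_cast
    linear_combination (-(1 + (ψ 1 : K → ℂ) y)) * hκ1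
  · intro y hy
    rw [h2f y hy, hψ0, hs2]
    linear_combination (-(1 + (ε : ℂ) * (ψ 2 : K → ℂ) y)) * hκ2
  · intro y hy
    rw [h3f y hy, hψ0, hs3]
    push_cast
    linear_combination (1 - (ψ 3 : K → ℂ) y) * hκ3 + hrel y hy

end Cfsg.Agent.Lib.Helper29.BSQ8
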