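import Mathlib
import Cfsg.Agent.Lib.Helper21.BSQ.Defs

/-! Project BSQ (designer helper21), row E2 `quat_odd_aut` (helper29): an automorphism of odd order of the
generalized quaternion group `QuaternionGroup (2 ^ k)`, `k ≥ 2` (order `≥ 16`), is trivial. -/

set_option autoImplicit false

namespace Cfsg.Agent.Lib.Helper21.BSQ

universe u

variable {G : Type u} [Group G]

open QuaternionGroup

/-- powers of `a j` -/
theorem bsqe2_a_pow (n : ℕ) (j : ZMod (2 * n)) (m : ℕ) :
    (a j : QuaternionGroup n) ^ m = a (j * (m : ZMod (2 * n))) := by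
  induction m with
  | zero => rw [pow_zero, Nat.cast_zero, mul_zero, QuaternionGroup.a_zero]
  | succ m ih =>
    rw [pow_succ, ih, a_mul_a]
    congr 1
    push_cast
    ring

/-- an automorphism with `φ (a 1) = a j` multiplies the index of every `a m` by `j` -/
theorem bsqe2_apply_a (n : ℕ) [NeZero n] (φ : MulAut (QuaternionGroup n)) (j : ZMod (2 * n))
    (hj : φ (a 1) = a j) (m : ZMod (2 * n)) : φ (a m) = a (j * m) := by
  have e : (a m : QuaternionGroup n) = (a 1) ^ m.val := by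
    rw [a_one_pow, ZMod.natCast_zmod_val]
  rw [e, map_pow, hj, bsqe2_a_pow, ZMod.natCast_zmod_val]

/-- number theory: an element of odd multiplicative order of `ZMod (2 * 2 ^ k)` is `1` -/
theorem bsqe2_unit (k : ℕ) (j : ZMod (2 * 2 ^ k)) (r : ℕ) (hr : Odd r) (h : j ^ r = 1) : j = 1 := by
  have hr0 : r ≠ 0 := by
    rintro rfl
    exact absurd hr (by decide)
  obtain ⟨u, rfl⟩ := IsUnit.of_pow_eq_one h hr0
  have hu : u ^ r = 1 := by
    apply Units.ext
    rw [Units.val_pow_eq_pow_val, h, Units.val_one]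
  have hcard : Fintype.card (ZMod (2 * 2 ^ k))ˣ = 2 ^ k := by
    rw [ZMod.card_units_eq_totient]
    have e : 2 * 2 ^ k = 2 ^ (k + 1) := by ring
    rw [e, Nat.totient_prime_pow_succ Nat.prime_two]
    simp
  have h2 : u ^ (2 ^ k) = 1 := by
    have h3 : u ^ Fintype.card (ZMod (2 * 2 ^ k))ˣ = 1 := pow_card_eq_one
    rw [hcard] at h3
    exact h3
  have d1 : orderOf u ∣ r := orderOf_dvd_of_pow_eq_one hu
  have d2 : orderOf u ∣ 2 ^ k := orderOf_dvd_of_pow_eq_one h2
  have hcop : Nat.Coprime r (2 ^ k) := by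
    apply Nat.Coprime.pow_right
    exact (Nat.coprime_two_left.2 hr).symm
  have h1 : orderOf u = 1 := Nat.eq_one_of_dvd_coprimes hcop d1 d2
  rw [orderOf_eq_one_iff] at h1
  rw [h1, Units.val_one]

/-- number theory: an odd number is a non-zero-divisor of `ZMod (2 * 2 ^ k)` -/
theorem bsqe2_odd_cancel (k : ℕ) (i : ZMod (2 * 2 ^ k)) (r : ℕ) (hr : Odd r)
    (h : (r : ZMod (2 * 2 ^ k)) * i = 0) : i = 0 := by
  have hcop : Nat.Coprime r (2 * 2 ^ k) := by
    have e : 2 * 2 ^ k = 2 ^ (k + 1) := by ring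
    rw [e]
    apply Nat.Coprime.pow_right
    exact (Nat.coprime_two_left.2 hr).symm
  have hu : IsUnit (r : ZMod (2 * 2 ^ k)) := (ZMod.isUnit_iff_coprime r (2 * 2 ^ k)).2 hcop
  exact (hu.mul_right_eq_zero).1 h

/-- E2 [M-L]. `n := 2 ^ k ≥ 4`.  `φ (a 1)` has order `2 n ≥ 8`, so it is `a j` (`orderOf (xa i) = 4`); `φ (a 1) = (a 1) ^ j'`;
`φ ^ r (a 1) = (a 1) ^ (j' ^ r)`; with `r := orderOf φ` odd: `j' ^ r ≡ 1 mod 2 n` forces `j' ≡ 1` (the unit group of
`ZMod (2 ^ (k + 1))` is a 2-group: `ZMod.card_units_eq_totient`, `Nat.totient_prime_pow`), so `φ (a 1) = a 1`.  `φ (xa 0) = xa i`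
(not in the image `⟨a 1⟩` of `⟨a 1⟩`) `= xa 0 * a i`, `φ ^ r (xa 0) = xa 0 * a (r i)`, so `r i = 0` in `ZMod (2 n)`, `i = 0` (`r` odd
is a unit).  `a 1` and `xa 0` generate. -/
theorem quat_odd_aut (k : ℕ) (hk : 2 ≤ k) (φ : MulAut (QuaternionGroup (2 ^ k)))
    (hφ : Odd (orderOf φ)) : φ = 1 := by
  set r := orderOf φ with hr
  have hpow : φ ^ r = 1 := pow_orderOf_eq_one φ
  have hn4 : 4 ≤ 2 ^ k := by
    calc 4 = 2 ^ 2 := by norm_num
      _ ≤ 2 ^ k := Nat.pow_le_pow_right (by norm_num) hk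
  -- step 1: `φ (a 1) = a j`
  obtain ⟨j, hj⟩ : ∃ j : ZMod (2 * 2 ^ k), φ (a 1) = a j := by
    have ho : orderOf (φ (a 1)) = 2 * 2 ^ k := by
      rw [MulEquiv.orderOf_eq, orderOf_a_one]
    cases hx : φ (a 1) with
    | a j => exact ⟨j, rfl⟩
    | xa i =>
      rw [hx, orderOf_xa] at ho
      omega
  -- step 2: powers of `φ` on `a 1`
  have hpa : ∀ s : ℕ, (φ ^ s) (a 1) = a (j ^ s) := by
    intro s
    induction s with
    | zero => simp
    | succ s ih =>
      rw [pow_succ', MulAut.mul_apply, ih, bsqe2_apply_a (2 ^ k) φ j hj, pow_succ']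
  have hj1 : j = 1 := by
    have h1 := hpa r
    rw [hpow, MulAut.one_apply] at h1
    have h2 : (1 : ZMod (2 * 2 ^ k)) = j ^ r := by
      injection h1
    exact bsqe2_unit k j r hφ h2.symm
  have hfa : ∀ m : ZMod (2 * 2 ^ k), φ (a m) = a m := by
    intro m
    rw [bsqe2_apply_a (2 ^ k) φ j hj, hj1, one_mul]
  -- step 3: `φ (xa 0) = xa i`
  obtain ⟨i, hi⟩ : ∃ i : ZMod (2 * 2 ^ k), φ (xa 0) = xa i := by
    cases hx : φ (xa 0) with
    | a l =>
      exfalso
      have h1 : φ (xa 0) = φ (a l) := by rw [hx, hfa]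
      have h2 := φ.injective h1
      cases h2
    | xa i => exact ⟨i, rfl⟩
  have hfx : ∀ m : ZMod (2 * 2 ^ k), φ (xa m) = xa (m + i) := by
    intro m
    have e : (xa m : QuaternionGroup (2 ^ k)) = xa 0 * a m := by
      rw [xa_mul_a, zero_add]
    rw [e, map_mul, hi, hfa, xa_mul_a, add_comm]
  have hpx : ∀ s : ℕ, (φ ^ s) (xa 0) = xa ((s : ZMod (2 * 2 ^ k)) * i) := by
    intro s
    induction s with
    | zero => simp
    | succ s ih =>
      rw [pow_succ', MulAut.mul_apply, ih, hfx]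
      congr 1
      push_cast
      ring
  have hi0 : i = 0 := by
    have h1 := hpx r
    rw [hpow, MulAut.one_apply] at h1
    have h2 : (0 : ZMod (2 * 2 ^ k)) = (r : ZMod (2 * 2 ^ k)) * i := by
      injection h1
    exact bsqe2_odd_cancel k i r hφ h2.symm
  -- conclusion
  ext x
  cases x with
  | a m => rw [hfa, MulAut.one_apply]
  | xa m => rw [hfx, hi0, add_zero, MulAut.one_apply]

end Cfsg.Agent.Lib.Helper21.BSQ
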