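import Mathlib
import Cfsg.Prelude.Def_ChevStructure
import Cfsg.Agent.Lib.helper8.BTT.Defs

/-!
Project BTT (S2154, designer helper8): row GEN8 (`fil_add`, `fil_smul`, `fil_zero_eq_one`, `filP_lev_eq_one`), by helper29.
-/

set_option autoImplicit false

namespace Cfsg.Agent.Lib.helper8.BTT

open Cfsg.Lie Cfsg.Lie.ChevalleyDatum

universe u

section gen
variable {ι : Type*} [Fintype ι] [DecidableEq ι] {F : Type*} [Field F]

/-- GEN8 [S] -/
theorem fil_add (ℓ₁ ℓ₂ : ι → ℝ) (c₁ c₂ : ℝ) (M : Matrix ι ι F) (h₁ : Fil ℓ₁ c₁ M)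
    (h₂ : Fil ℓ₂ c₂ M) : Fil (ℓ₁ + ℓ₂) (c₁ + c₂) M := by
  intro i j hij
  have a₁ := h₁ i j hij
  have a₂ := h₂ i j hij
  simp only [Pi.add_apply]
  linarith

theorem fil_smul (ℓ : ι → ℝ) (a c : ℝ) (ha : 0 ≤ a) (M : Matrix ι ι F) (h : Fil ℓ c M) :
    Fil (a • ℓ) (a * c) M := by
  intro i j hij
  have h1 := h i j hij
  have h2 := mul_le_mul_of_nonneg_left h1 ha
  simp only [Pi.smul_apply, smul_eq_mul]
  linarith

theorem fil_zero_eq_one (c : ℝ) (hc : 0 < c) (M : Matrix ι ι F)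
    (h : Fil (fun _ : ι => (0 : ℝ)) c M) : M = 1 := by
  have h0 : M - 1 = 0 := by
    ext i j
    by_contra hij
    have h1 := h i j hij
    simp only at h1
    linarith
  exact sub_eq_zero.mp h0

theorem filP_lev_eq_one (ℓ : ι → ℝ) (M : Matrix ι ι F) (h : FilP ℓ M) (h' : Lev ℓ ℓ M) :
    M = 1 := by
  have h0 : M - 1 = 0 := by
    ext i j
    by_contra hij
    have h1 : ℓ j < ℓ i := h i j hij
    by_cases hE : i = j
    · subst hE
      exact lt_irrefl _ h1
    · have h2 : M i j ≠ 0 := by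
        have h3 : (M - 1) i j = M i j := by
          rw [Matrix.sub_apply, Matrix.one_apply_ne hE, sub_zero]
        rw [← h3]
        exact hij
      have h4 := h' i j h2
      rw [h4] at h1
      exact lt_irrefl _ h1
  exact sub_eq_zero.mp h0

end gen

end Cfsg.Agent.Lib.helper8.BTT
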