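import Mathlib
import Cfsg.Prelude.Def_ChevStructure
import Cfsg.Agent.Lib.helper8.BTT.Defs

/-!
Project BTT (S2154, designer helper8): row ROOT0 (`lv_coe`, `lvl_add`, `lvl_smul`, `lvl_zero`), by helper29.
-/

set_option autoImplicit false

namespace Cfsg.Agent.Lib.helper8.BTT

open Cfsg.Lie Cfsg.Lie.ChevalleyDatum

universe u

section root
variable (D : ChevalleyDatum)

/-- ROOT0 [S]: bookkeeping. -/
theorem lv_coe (L : Fin D.nroots → ℝ) (r : Fin D.nroots) : lv D L r = L r := by
  unfold lv
  rw [dif_pos r.isLt]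

theorem lvl_add (L L' : Fin D.nroots → ℝ) : lvl D (L + L') = lvl D L + lvl D L' := by
  funext i
  cases i with
  | inl a => simp [lvl]
  | inr r => simp [lvl]

theorem lvl_smul (a : ℝ) (L : Fin D.nroots → ℝ) : lvl D (a • L) = a • lvl D L := by
  funext i
  cases i with
  | inl b => simp [lvl]
  | inr r => simp [lvl]

theorem lvl_zero : lvl D (0 : Fin D.nroots → ℝ) = fun _ => 0 := by
  funext i
  cases i with
  | inl b => simp [lvl]
  | inr r => simp [lvl]

end root

end Cfsg.Agent.Lib.helper8.BTT
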