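import Cfsg.Agent.Lib.Helper10.C3E.Defs

/-!
# S5975 (project C3E, helper10) row ORDS : spare copy `c3eords29_semi_order` (exact statement of `c3e_semi_order`)

`g` is `σ`-semilinear, `σ ≠ 1`, `g ^ r` the scalar `z` : then `σ ^ r = 1`, so `r = orderOf σ ∣ |Aut_F K| = finrank F K`.
-/

set_option autoImplicit false
set_option linter.unusedVariables false
set_option linter.unusedSectionVars false

namespace Cfsg.Agent.Lib.Helper10.C3E

open Module

variable {F K V : Type*} [Field F] [Field K] [Algebra F K] [AddCommGroup V] [Module F V] [Module K V]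
  [IsScalarTower F K V]

/-- powers of a `σ`-semilinear map are `σ ^ n`-semilinear -/
theorem c3eords29_pow (g : V ≃ₗ[F] V) (σ : K ≃ₐ[F] K)
    (hσ : ∀ (a : K) (x : V), g (a • x) = σ a • g x) (n : ℕ) (a : K) (x : V) :
    (g ^ n) (a • x) = (σ ^ n) a • (g ^ n) x := by
  induction n generalizing a x with
  | zero => simp
  | succ n ih =>
    rw [pow_succ', pow_succ']
    change g ((g ^ n) (a • x)) = σ ((σ ^ n) a) • g ((g ^ n) x)
    rw [ih, hσ]

/-- ORDS (spare copy, exact statement of `c3e_semi_order`) -/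
theorem c3eords29_semi_order [Finite K] [Nontrivial V] {r : ℕ} (hr : r.Prime) (hk : (finrank F K).Prime)
    (g : V ≃ₗ[F] V) (σ : K ≃ₐ[F] K) (hσ1 : σ ≠ 1) (hσ : ∀ (a : K) (x : V), g (a • x) = σ a • g x)
    (z : F) (hz : ∀ x : V, (g ^ r) x = z • x) : r = finrank F K := by
  obtain ⟨x, hx⟩ := exists_ne (0 : V)
  have hzx : z • x ≠ 0 := by
    rw [← hz x]
    intro h
    apply hx
    have := (g ^ r).injective (h.trans (map_zero (g ^ r)).symm)
    exact this
  have hpow : σ ^ r = 1 := by
    apply AlgEquiv.ext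
    intro a
    have h1 := c3eords29_pow g σ hσ r a x
    rw [hz, hz] at h1
    have h2 : z • a • x = a • z • x := smul_comm z a x
    rw [h2] at h1
    have h3 : (a - (σ ^ r) a) • z • x = 0 := by
      rw [sub_smul, h1, sub_self]
    rcases smul_eq_zero.mp h3 with h4 | h4
    · rw [AlgEquiv.one_apply]
      exact (sub_eq_zero.mp h4).symm
    · exact absurd h4 hzx
  have hord : orderOf σ = r := by
    have hdvd : orderOf σ ∣ r := orderOf_dvd_of_pow_eq_one hpow
    rcases (Nat.dvd_prime hr).mp hdvd with h | h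
    · exact absurd (orderOf_eq_one_iff.mp h) hσ1
    · exact h
  have hfd : FiniteDimensional F K := Module.Finite.of_finite
  have hcard : Nat.card (K ≃ₐ[F] K) = finrank F K := IsGalois.card_aut_eq_finrank F K
  have hdvd : r ∣ finrank F K := by
    rw [← hord, ← hcard]
    exact orderOf_dvd_natCard σ
  exact (Nat.prime_dvd_prime_iff_eq hr hk).mp hdvd

end Cfsg.Agent.Lib.Helper10.C3E
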