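import Mathlib
import Cfsg.Agent.Lib.Helper10.C6P.Defs

set_option autoImplicit false
set_option linter.unusedVariables false
set_option linter.unusedSectionVars false

/-!
# Project C6P (S6000), row BSTD (helper29): the conclusion of `c6p_std` gives `HasStd i R`.
-/

namespace Cfsg.Agent.Lib.Helper10.C6P

open Polynomial Matrix

variable {F : Type*} [Field F]

section fin

variable [Fintype F] {p : ℕ} [Fact p.Prime] [CharP F p]

/-- BSTD -/
theorem has_std (R : Subgroup (GL (Fin 4) F)) (i : F) (P : GL (Fin 4) F) (hi : i * i = -1)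
    (hstd : ∀ g : GL (Fin 4) F, g ∈ R ↔ ∃ a b c d e : ℕ,
        (g : Matrix (Fin 4) (Fin 4) F) =
          (P : Matrix (Fin 4) (Fin 4) F) * pauliM i a b c d e * ((P⁻¹ : GL (Fin 4) F) : Matrix (Fin 4) (Fin 4) F)) :
    HasStd i R := by
  have hPP : ((P⁻¹ : GL (Fin 4) F) : Matrix (Fin 4) (Fin 4) F) * (P : Matrix (Fin 4) (Fin 4) F) = 1 := by
    rw [← Matrix.GeneralLinearGroup.coe_mul, inv_mul_cancel]; rfl
  have hPP' : (P : Matrix (Fin 4) (Fin 4) F) * ((P⁻¹ : GL (Fin 4) F) : Matrix (Fin 4) (Fin 4) F) = 1 := by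
    rw [← Matrix.GeneralLinearGroup.coe_mul, mul_inv_cancel]; rfl
  refine ⟨P⁻¹, hi, ?_⟩
  intro g'
  have hmem : g' ∈ R.map (MulAut.conj P⁻¹).toMonoidHom ↔ P * g' * P⁻¹ ∈ R := by
    constructor
    · rintro ⟨g, hg, rfl⟩
      have : P * ((MulAut.conj P⁻¹).toMonoidHom g) * P⁻¹ = g := by
        show P * (P⁻¹ * g * P⁻¹⁻¹) * P⁻¹ = g
        group
      rw [this]
      exact hg
    · intro h
      refine ⟨P * g' * P⁻¹, h, ?_⟩
      show P⁻¹ * (P * g' * P⁻¹) * P⁻¹⁻¹ = g'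
      group
  rw [hmem, hstd]
  constructor
  · rintro ⟨a, b, c, d, e, h⟩
    refine ⟨a, b, c, d, e, ?_⟩
    simp only [Matrix.GeneralLinearGroup.coe_mul] at h
    have h2 := congrArg (fun Y : Matrix (Fin 4) (Fin 4) F =>
      ((P⁻¹ : GL (Fin 4) F) : Matrix (Fin 4) (Fin 4) F) * Y * (P : Matrix (Fin 4) (Fin 4) F)) h
    calc (g' : Matrix (Fin 4) (Fin 4) F)
        = (((P⁻¹ : GL (Fin 4) F) : Matrix (Fin 4) (Fin 4) F) * (P : Matrix (Fin 4) (Fin 4) F)) * (g' : Matrix (Fin 4) (Fin 4) F) *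
            (((P⁻¹ : GL (Fin 4) F) : Matrix (Fin 4) (Fin 4) F) * (P : Matrix (Fin 4) (Fin 4) F)) := by
          rw [hPP, Matrix.one_mul, Matrix.mul_one]
      _ = ((P⁻¹ : GL (Fin 4) F) : Matrix (Fin 4) (Fin 4) F) *
            ((P : Matrix (Fin 4) (Fin 4) F) * (g' : Matrix (Fin 4) (Fin 4) F) * ((P⁻¹ : GL (Fin 4) F) : Matrix (Fin 4) (Fin 4) F)) *
            (P : Matrix (Fin 4) (Fin 4) F) := by simp only [Matrix.mul_assoc]
      _ = ((P⁻¹ : GL (Fin 4) F) : Matrix (Fin 4) (Fin 4) F) *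
            ((P : Matrix (Fin 4) (Fin 4) F) * pauliM i a b c d e * ((P⁻¹ : GL (Fin 4) F) : Matrix (Fin 4) (Fin 4) F)) *
            (P : Matrix (Fin 4) (Fin 4) F) := h2
      _ = (((P⁻¹ : GL (Fin 4) F) : Matrix (Fin 4) (Fin 4) F) * (P : Matrix (Fin 4) (Fin 4) F)) * pauliM i a b c d e *
            (((P⁻¹ : GL (Fin 4) F) : Matrix (Fin 4) (Fin 4) F) * (P : Matrix (Fin 4) (Fin 4) F)) := by
          simp only [Matrix.mul_assoc]
      _ = pauliM i a b c d e := by rw [hPP, Matrix.one_mul, Matrix.mul_one]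
  · rintro ⟨a, b, c, d, e, h⟩
    refine ⟨a, b, c, d, e, ?_⟩
    simp only [Matrix.GeneralLinearGroup.coe_mul]
    rw [h]

end fin

end Cfsg.Agent.Lib.Helper10.C6P
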