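import Mathlib
import Cfsg.Agent.Lib.Helper1.Nilp

set_option autoImplicit false
set_option linter.unusedVariables false
set_option linter.unusedSectionVars false
set_option linter.style.haveILetI false

/-!
# Project C6P (S6000), PART S, row S1 (helper29): a 2-group of exponent 4 with centre of order 4 all of whose characteristic abelian
subgroups are cyclic has class two.  (Adaptation of `spxc6ord_class_two`, Helper1/SPXC6ORDa.lean.)
-/

namespace Cfsg.Agent.Lib.Helper10.C6P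

open Cfsg.Agent.Lib.Helper1

/-- S1 -/
theorem s_class_two {G : Type*} [Group G] [Finite G] (hG : IsPGroup 2 G)
    (hchar : ∀ A : Subgroup G, A.Characteristic → IsMulCommutative A → IsCyclic A)
    (hexp : ∀ x : G, x ^ 4 = 1) (hZ : Nat.card (Subgroup.center G) = 4) :
    ∀ x y : G, x * y * x⁻¹ * y⁻¹ ∈ Subgroup.center G := by
  classical
  haveI : Fact (Nat.Prime 2) := ⟨Nat.prime_two⟩
  have hmemT : ∀ x, x ∈ Subgroup.upperCentralSeries G 2 ↔
      ∀ y : G, x * y * x⁻¹ * y⁻¹ ∈ Subgroup.center G := by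
    intro x
    rw [show (2 : ℕ) = 1 + 1 from rfl, Subgroup.mem_upperCentralSeries_succ_iff,
      Subgroup.upperCentralSeries_one]
    rfl
  set T : Subgroup G := Subgroup.upperCentralSeries G 2 with hT
  have hZT : Subgroup.center G ≤ T := by
    intro x hx
    rw [hmemT]
    intro y
    have : x * y * x⁻¹ * y⁻¹ = 1 := by
      rw [Subgroup.mem_center_iff] at hx
      rw [← hx y]
      group
    rw [this]
    exact one_mem _
  set D : Subgroup G := Subgroup.centralizer (T : Set G) with hD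
  set A : Subgroup G := T ⊓ D with hA
  have hAchar : A.Characteristic := by
    rw [hA, hD, hT]
    infer_instance
  have hAcomm : IsMulCommutative A := by
    refine ⟨⟨fun a b => ?_⟩⟩
    apply Subtype.ext
    show (a : G) * b = b * a
    have ha : (a : G) ∈ T ⊓ D := a.2
    have hb : (b : G) ∈ T ⊓ D := b.2
    rw [Subgroup.mem_inf] at ha hb
    exact (Subgroup.mem_centralizer_iff.mp hb.2 a ha.1)
  haveI hAcyc : IsCyclic A := hchar A hAchar hAcomm
  have hZA : Subgroup.center G ≤ A := by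
    rw [hA]
    exact le_inf hZT (Subgroup.center_le_centralizer _)
  -- `A = Z`
  have hAcard : Nat.card A ≤ 4 := by
    obtain ⟨k, hk⟩ := IsCyclic.exists_generator (α := A)
    have h1 : Nat.card A = orderOf k := by
      rw [← Nat.card_zpowers k]
      have : Subgroup.zpowers k = ⊤ := by
        rw [Subgroup.eq_top_iff']
        exact hk
      rw [this]
      exact (Nat.card_congr (Subgroup.topEquiv (G := A)).toEquiv).symm
    rw [h1]
    apply Nat.le_of_dvd (by norm_num)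
    apply orderOf_dvd_of_pow_eq_one
    apply Subtype.ext
    have := hexp (k : G)
    simpa using this
  have hAZ : A ≤ Subgroup.center G := by
    have hcard : Nat.card (Subgroup.center G) = Nat.card A := by
      have h1 : Nat.card (Subgroup.center G) ≤ Nat.card A := Subgroup.card_le_of_le hZA
      omega
    have := Subgroup.eq_of_le_of_card_ge hZA (le_of_eq hcard.symm)
    rw [this]
  haveI hTn : T.Normal := by
    rw [hT]
    infer_instance
  haveI hDn : D.Normal := by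
    rw [hD]
    infer_instance
  have hDT : D ≤ T := by
    by_contra hnot
    obtain ⟨c, hc, hcT⟩ := SetLike.not_le_iff_exists.mp hnot
    haveI : Group.IsNilpotent (G ⧸ T) := by
      haveI : Group.IsNilpotent G := hG.isNilpotent
      infer_instance
    set Db : Subgroup (G ⧸ T) := D.map (QuotientGroup.mk' T) with hDb
    haveI : Db.Normal := Subgroup.Normal.map hDn _ (QuotientGroup.mk'_surjective _)
    have hDbne : Db ≠ ⊥ := by
      intro hbot
      have : (QuotientGroup.mk' T) c ∈ Db := Subgroup.mem_map_of_mem _ hc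
      rw [hbot, Subgroup.mem_bot] at this
      have h5 : c ∈ (QuotientGroup.mk' T).ker := this
      rw [QuotientGroup.ker_mk'] at h5
      exact hcT h5
    have hmeet := normal_inf_center_ne_bot Db hDbne
    obtain ⟨q, hq, hq1⟩ := (Subgroup.ne_bot_iff_exists_ne_one (H := Db ⊓ Subgroup.center (G ⧸ T))).mp hmeet |>
      fun ⟨q, hq⟩ => (⟨(q : G ⧸ T), q.2, fun h => hq (Subtype.ext h)⟩ :
        ∃ q : G ⧸ T, q ∈ Db ⊓ Subgroup.center (G ⧸ T) ∧ q ≠ 1)
    rw [Subgroup.mem_inf] at hq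
    obtain ⟨y, hy, rfl⟩ := hq.1
    have hyT : y ∉ T := by
      intro hyT
      apply hq1
      have : y ∈ (QuotientGroup.mk' T).ker := by
        rw [QuotientGroup.ker_mk']
        exact hyT
      exact this
    have hcT' : ∀ g : G, y * g * y⁻¹ * g⁻¹ ∈ T := by
      intro g
      have h6 := Subgroup.mem_center_iff.mp hq.2 ((QuotientGroup.mk' T) g)
      have h7 : (QuotientGroup.mk' T) (y * g * y⁻¹ * g⁻¹) = 1 := by
        rw [map_mul, map_mul, map_mul, map_inv, map_inv, ← h6]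
        group
      have h8 : y * g * y⁻¹ * g⁻¹ ∈ (QuotientGroup.mk' T).ker := h7
      rwa [QuotientGroup.ker_mk'] at h8
    have hcA : ∀ g : G, y * g * y⁻¹ * g⁻¹ ∈ A := by
      intro g
      rw [hA, Subgroup.mem_inf]
      refine ⟨hcT' g, ?_⟩
      have h1 : y * g * y⁻¹ * g⁻¹ = y * (g * y⁻¹ * g⁻¹) := by group
      rw [h1]
      exact D.mul_mem hy (hDn.conj_mem y⁻¹ (D.inv_mem hy) g)
    apply hyT
    rw [hmemT]
    intro g
    exact hAZ (hcA g)
  intro x y
  apply hAZ
  have hxyD : x * y * x⁻¹ * y⁻¹ ∈ D := by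
    rw [hD, Subgroup.mem_centralizer_iff]
    intro t ht
    have hφ := (hmemT t).mp ht
    have hx := Subgroup.mem_center_iff.mp (hφ x)
    have hy := Subgroup.mem_center_iff.mp (hφ y)
    set a := t * x * t⁻¹ * x⁻¹ with ha
    set b := t * y * t⁻¹ * y⁻¹ with hb
    have e1 : t * x = a * x * t := by rw [ha]; group
    have e2 : t * y = b * y * t := by rw [hb]; group
    have e3 : t * x⁻¹ = a⁻¹ * x⁻¹ * t := by
      have : x⁻¹ * t = a * (t * x⁻¹) := by
        rw [ha]
        have h := hx x⁻¹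
        calc x⁻¹ * t = x⁻¹ * (t * x * t⁻¹ * x⁻¹) * (x * t * x⁻¹) := by group
          _ = (t * x * t⁻¹ * x⁻¹) * x⁻¹ * (x * t * x⁻¹) := by rw [← ha, ← hx x⁻¹]
          _ = t * x * t⁻¹ * x⁻¹ * (t * x⁻¹) := by group
      calc t * x⁻¹ = a⁻¹ * (a * (t * x⁻¹)) := by group
        _ = a⁻¹ * (x⁻¹ * t) := by rw [this]
        _ = a⁻¹ * x⁻¹ * t := by group
    have e4 : t * y⁻¹ = b⁻¹ * y⁻¹ * t := by
      have : y⁻¹ * t = b * (t * y⁻¹) := by
        rw [hb]
        calc y⁻¹ * t = y⁻¹ * (t * y * t⁻¹ * y⁻¹) * (y * t * y⁻¹) := by group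
          _ = (t * y * t⁻¹ * y⁻¹) * y⁻¹ * (y * t * y⁻¹) := by rw [← hb, ← hy y⁻¹]
          _ = t * y * t⁻¹ * y⁻¹ * (t * y⁻¹) := by group
      calc t * y⁻¹ = b⁻¹ * (b * (t * y⁻¹)) := by group
        _ = b⁻¹ * (y⁻¹ * t) := by rw [this]
        _ = b⁻¹ * y⁻¹ * t := by group
    -- move `t` through the commutator
    calc t * (x * y * x⁻¹ * y⁻¹) = (t * x) * y * x⁻¹ * y⁻¹ := by group
      _ = a * x * (t * y) * x⁻¹ * y⁻¹ := by rw [e1]; group
      _ = a * x * (b * y * t) * x⁻¹ * y⁻¹ := by rw [e2]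
      _ = a * x * b * y * (t * x⁻¹) * y⁻¹ := by group
      _ = a * x * b * y * (a⁻¹ * x⁻¹ * t) * y⁻¹ := by rw [e3]
      _ = a * x * b * y * a⁻¹ * x⁻¹ * (t * y⁻¹) := by group
      _ = a * x * b * y * a⁻¹ * x⁻¹ * (b⁻¹ * y⁻¹ * t) := by rw [e4]
      _ = x * y * x⁻¹ * y⁻¹ * t := by
        have hb' : ∀ g, b * g = g * b := fun g => (hy g).symm
        have ha' : ∀ g, a * g = g * a := fun g => (hx g).symm
        have hai : ∀ g, a⁻¹ * g = g * a⁻¹ := by
          intro g
          have := ha' g⁻¹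
          calc a⁻¹ * g = (g⁻¹ * a)⁻¹ := by group
            _ = (a * g⁻¹)⁻¹ := by rw [this]
            _ = g * a⁻¹ := by group
        have hbi : ∀ g, b⁻¹ * g = g * b⁻¹ := by
          intro g
          have := hb' g⁻¹
          calc b⁻¹ * g = (g⁻¹ * b)⁻¹ := by group
            _ = (b * g⁻¹)⁻¹ := by rw [this]
            _ = g * b⁻¹ := by group
        calc a * x * b * y * a⁻¹ * x⁻¹ * (b⁻¹ * y⁻¹ * t)
            = a * (x * b) * y * a⁻¹ * x⁻¹ * b⁻¹ * y⁻¹ * t := by group
          _ = a * (b * x) * y * a⁻¹ * x⁻¹ * b⁻¹ * y⁻¹ * t := by rw [hb' x]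
          _ = a * b * x * (y * a⁻¹) * x⁻¹ * b⁻¹ * y⁻¹ * t := by group
          _ = a * b * x * (a⁻¹ * y) * x⁻¹ * b⁻¹ * y⁻¹ * t := by rw [hai y]
          _ = a * b * (x * a⁻¹) * y * x⁻¹ * b⁻¹ * y⁻¹ * t := by group
          _ = a * b * (a⁻¹ * x) * y * x⁻¹ * b⁻¹ * y⁻¹ * t := by rw [hai x]
          _ = a * (b * a⁻¹) * x * y * x⁻¹ * b⁻¹ * y⁻¹ * t := by group
          _ = a * (a⁻¹ * b) * x * y * x⁻¹ * b⁻¹ * y⁻¹ * t := by rw [hai b]
          _ = b * x * y * (x⁻¹ * b⁻¹) * y⁻¹ * t := by group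
          _ = b * x * y * (b⁻¹ * x⁻¹) * y⁻¹ * t := by rw [hbi x⁻¹]
          _ = b * x * (y * b⁻¹) * x⁻¹ * y⁻¹ * t := by group
          _ = b * x * (b⁻¹ * y) * x⁻¹ * y⁻¹ * t := by rw [hbi y]
          _ = b * (x * b⁻¹) * y * x⁻¹ * y⁻¹ * t := by group
          _ = b * (b⁻¹ * x) * y * x⁻¹ * y⁻¹ * t := by rw [hbi x]
          _ = x * y * x⁻¹ * y⁻¹ * t := by group
  rw [hA, Subgroup.mem_inf]
  exact ⟨hDT hxyD, hxyD⟩

end Cfsg.Agent.Lib.Helper10.C6P
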