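import Mathlib
import Cfsg.Agent.Lib.Helper29.C6PS1

set_option autoImplicit false
set_option linter.unusedVariables false
set_option linter.unusedSectionVars false
set_option linter.style.haveILetI false

/-!
# Project C6P (S6000), PART S, row S2 (helper29): the squares are central.
-/

namespace Cfsg.Agent.Lib.Helper10.C6P

/-- a cyclic subgroup of exponent dividing 4 that contains a subgroup of order 4 is equal to it -/
theorem c6ps2_cyclic_le {G : Type*} [Group G] [Finite G] (hexp : ∀ x : G, x ^ 4 = 1)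
    (Z A : Subgroup G) (hZ : Nat.card Z = 4) (hZA : Z ≤ A) (hA : IsCyclic A) : A ≤ Z := by
  have hAcard : Nat.card A ≤ 4 := by
    obtain ⟨k, hk⟩ := IsCyclic.exists_generator (α := A)
    have h1 : Nat.card A = orderOf k := by
      rw [← Nat.card_zpowers k]
      have : Subgroup.zpowers k = ⊤ := by
        rw [Subgroup.eq_top_iff']
        exact hk
      rw [this]
      exact (Nat.card_congr (Subgroup.topEquiv (G := A)).toEquiv).symm
    rw [h1]
    apply Nat.le_of_dvd (by norm_num)
    apply orderOf_dvd_of_pow_eq_one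
    apply Subtype.ext
    have := hexp (k : G)
    simpa using this
  have hcard : Nat.card Z = Nat.card A := by
    have h1 : Nat.card Z ≤ Nat.card A := Subgroup.card_le_of_le hZA
    omega
  have := Subgroup.eq_of_le_of_card_ge hZA (le_of_eq hcard.symm)
  rw [this]

/-- in a group of class two and exponent dividing 4 the squares commute -/
theorem c6ps2_sq_comm {G : Type*} [Group G] (hexp : ∀ x : G, x ^ 4 = 1)
    (hcl : ∀ x y : G, x * y * x⁻¹ * y⁻¹ ∈ Subgroup.center G) (x y : G) :
    x ^ 2 * y ^ 2 = y ^ 2 * x ^ 2 := by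
  obtain ⟨c, hc⟩ : ∃ c : G, c = x * y * x⁻¹ * y⁻¹ := ⟨_, rfl⟩
  have hcc : ∀ g, g * c = c * g := fun g => by
    rw [hc]; exact Subgroup.mem_center_iff.mp (hcl x y) g
  have e1 : x * y = c * y * x := by rw [hc]; group
  have e2 : x ^ 2 * y = c ^ 2 * y * x ^ 2 := by
    calc x ^ 2 * y = x * (x * y) := by rw [pow_two]; group
      _ = x * (c * y * x) := by rw [e1]
      _ = (x * c) * y * x := by group
      _ = (c * x) * y * x := by rw [hcc x]
      _ = c * (x * y) * x := by group
      _ = c * (c * y * x) * x := by rw [e1]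
      _ = c ^ 2 * y * x ^ 2 := by rw [pow_two, pow_two]; group
  have hc2 : ∀ g, g * c ^ 2 = c ^ 2 * g := by
    intro g
    calc g * c ^ 2 = (g * c) * c := by rw [pow_two]; group
      _ = (c * g) * c := by rw [hcc g]
      _ = c * (g * c) := by group
      _ = c * (c * g) := by rw [hcc g]
      _ = c ^ 2 * g := by rw [pow_two]; group
  calc x ^ 2 * y ^ 2 = (x ^ 2 * y) * y := by rw [pow_two y]; group
    _ = (c ^ 2 * y * x ^ 2) * y := by rw [e2]
    _ = c ^ 2 * y * (x ^ 2 * y) := by group
    _ = c ^ 2 * y * (c ^ 2 * y * x ^ 2) := by rw [e2]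
    _ = c ^ 2 * (y * c ^ 2) * y * x ^ 2 := by group
    _ = c ^ 2 * (c ^ 2 * y) * y * x ^ 2 := by rw [hc2 y]
    _ = c ^ 4 * y ^ 2 * x ^ 2 := by
        rw [show (4 : ℕ) = 2 + 2 from rfl, pow_add, pow_two y]; group
    _ = y ^ 2 * x ^ 2 := by rw [hexp c, one_mul]

/-- S2 -/
theorem s_sq_central {G : Type*} [Group G] [Finite G] (hG : IsPGroup 2 G)
    (hchar : ∀ A : Subgroup G, A.Characteristic → IsMulCommutative A → IsCyclic A)
    (hexp : ∀ x : G, x ^ 4 = 1) (hZ : Nat.card (Subgroup.center G) = 4) :
    ∀ x : G, x ^ 2 ∈ Subgroup.center G := by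
  classical
  have hcl := s_class_two hG hchar hexp hZ
  set S : Set G := {y | ∃ x : G, y = x ^ 2} ∪ (Subgroup.center G : Set G) with hS
  set K : Subgroup G := Subgroup.closure S with hK
  have hKchar : K.Characteristic := by
    rw [Subgroup.characteristic_iff_map_le]
    intro φ
    rw [hK, MonoidHom.map_closure]
    apply Subgroup.closure_mono
    rintro _ ⟨y, hy, rfl⟩
    rcases hy with ⟨x, rfl⟩ | hy
    · left
      exact ⟨φ x, by simp⟩
    · right
      show φ y ∈ Subgroup.center G
      rw [Subgroup.mem_center_iff]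
      intro g
      have h1 := Subgroup.mem_center_iff.mp hy (φ.symm g)
      have h2 := congrArg φ h1
      simpa using h2
  have hcomm : ∀ a ∈ S, ∀ b ∈ S, a * b = b * a := by
    intro a ha b hb
    rcases ha with ⟨x, rfl⟩ | ha
    · rcases hb with ⟨y, rfl⟩ | hb
      · exact c6ps2_sq_comm hexp hcl x y
      · exact Subgroup.mem_center_iff.mp hb _
    · exact (Subgroup.mem_center_iff.mp ha _).symm
  have hKcomm : IsMulCommutative K := by
    exact Subgroup.isMulCommutative_closure hcomm
  have hKcyc : IsCyclic K := hchar K hKchar hKcomm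
  have hZK : Subgroup.center G ≤ K := by
    intro z hz
    exact Subgroup.subset_closure (Or.inr hz)
  have hKZ := c6ps2_cyclic_le hexp _ K hZ hZK hKcyc
  intro x
  exact hKZ (Subgroup.subset_closure (Or.inl ⟨x, rfl⟩))

end Cfsg.Agent.Lib.Helper10.C6P
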