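import Mathlib
import Cfsg.Prelude.Def_GeometricClasses
import Cfsg.Agent.Lib.Helper29.C6P.DefsS
import Cfsg.Agent.Lib.Lead.C6PS3
import Cfsg.Agent.Lib.Lead.C6PS4
import Cfsg.Agent.Lib.helper2.C6PS6core2
import Cfsg.Agent.Lib.Helper11.C6PS7
import Cfsg.Agent.Lib.Helper11.C6PS8
import Cfsg.Agent.Lib.Helper29.C6PS9core

set_option autoImplicit false
set_option linter.unusedVariables false
set_option linter.unusedSectionVars false

/-!
# Project C6P (S6000), PART S, row S9 (helper29): `c6p_std`, the standard Pauli form of `R` = `c6ps9_core` + rows S3, S4, S5 (lead), the S6 core (helper2),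
S7, S8 (helper11).
-/

namespace Cfsg.Agent.Lib.Helper10.C6P

open Cfsg Cfsg.Geo
open scoped MatrixGroups

variable {F : Type*} [Field F] [Fintype F]

/-- S9 -/
theorem c6p_std {p : ℕ} [Fact p.Prime] [CharP F p] (hF : Fintype.card F = p) (hp4 : p % 4 = 1)
    (R : Subgroup (GL (Fin 4) F)) (hR : IsLinearSymplecticTypeData 2 R) (hR6 : Nat.card R = 2 ^ 6) :
    ∃ (i : F) (P : GL (Fin 4) F), i * i = -1 ∧
      ∀ g : GL (Fin 4) F, g ∈ R ↔ ∃ a b c d e : ℕ,
        (g : Matrix (Fin 4) (Fin 4) F) =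
          (P : Matrix (Fin 4) (Fin 4) F) * pauliM i a b c d e * ((P⁻¹ : GL (Fin 4) F) : Matrix (Fin 4) (Fin 4) F) :=
  c6ps9_core hF hp4 R hR hR6
    (fun hZ => s_center_scalar R hR.absIrred hZ)
    (fun hZ => s_pm R hR.symplecticType hR.absIrred hZ)
    (fun hZ => c6ps6_core R hZ hR6 (s_center_scalar R hR.absIrred hZ)
      (s_pm R hR.symplecticType hR.absIrred hZ)
      (fun g hg hns => s_anti R hR.symplecticType hR.absIrred hZ g hg hns))
    (fun h2 G1 H1 G2 H2 h => s_frame h2 G1 H1 G2 H2 h)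
    (fun h2 M hd1 hx1 hd2 hx2 => s_comm_scalar h2 M hd1 hx1 hd2 hx2)

end Cfsg.Agent.Lib.Helper10.C6P
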