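import Mathlib
import Cfsg.Agent.Lib.helper3.C6U.Defs
import Cfsg.Agent.Lib.Helper29.C6PS9

set_option autoImplicit false
set_option linter.unusedVariables false
set_option linter.unusedSectionVars false
set_option linter.style.haveILetI false

/-!
# Project C6U (S6001; designer helper3), row B2 (`c6u_std`) (helper29): transplant of `c6ps9_core` (Helper29/C6PS9core.lean)
with `hZ` and `2 ≠ 0` given; the square root of `-1` comes from the four scalars in the centre.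
-/

namespace Cfsg.Agent.Lib.helper3.C6U

open Polynomial Matrix
open Cfsg.Agent.Lib.Helper10.C6P
open scoped MatrixGroups

variable {F : Type*} [Field F]

local notation "M4'" => Matrix (Fin 4) (Fin 4) F

/-- a square root of `-1` from the centre of order four consisting of scalars -/
theorem c6ub2_i (R : Subgroup (GL (Fin 4) F)) (hZ : Nat.card (Subgroup.center R) = 4)
    (hcen : ∀ g ∈ R, (∀ h ∈ R, g * h = h * g) ↔ ∃ c : F, (g : M4') = c • (1 : M4'))
    (hfour : ∀ g ∈ R, ∀ c : F, (g : M4') = c • (1 : M4') → c ^ 4 = 1) : ∃ i : F, i * i = -1 := by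
  classical
  by_contra hno
  have hroot : ∀ c : F, c ^ 4 = 1 → c = 1 ∨ c = -1 := by
    intro c hc
    have h : (c - 1) * (c + 1) * (c * c + 1) = 0 := by
      have : (c - 1) * (c + 1) * (c * c + 1) = c ^ 4 - 1 := by ring
      rw [this, hc]; ring
    rcases mul_eq_zero.mp h with h | h
    · rcases mul_eq_zero.mp h with h | h
      · left; exact sub_eq_zero.mp h
      · right; exact eq_neg_of_add_eq_zero_left h
    · exact absurd ⟨c, eq_neg_of_add_eq_zero_left h⟩ hno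
  have hsc : ∀ z : Subgroup.center R, ∃ c : F,
      (((z : R) : GL (Fin 4) F) : M4') = c • (1 : M4') ∧ (c = 1 ∨ c = -1) := by
    intro z
    have hzR : ((z : R) : GL (Fin 4) F) ∈ R := (z : R).2
    have hcomm : ∀ h ∈ R, ((z : R) : GL (Fin 4) F) * h = h * ((z : R) : GL (Fin 4) F) := by
      intro h hh
      have h1 := Subgroup.mem_center_iff.mp z.2 ⟨h, hh⟩
      have h2 := congrArg Subtype.val h1
      exact h2.symm
    obtain ⟨c, hc⟩ := (hcen _ hzR).mp hcomm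
    exact ⟨c, hc, hroot c (hfour _ hzR c hc)⟩
  let f : Subgroup.center R → Bool := fun z => decide ((((z : R) : GL (Fin 4) F) : M4') 0 0 = 1)
  have hf : Function.Injective f := by
    intro z w hzw
    obtain ⟨c, hc, hc1⟩ := hsc z
    obtain ⟨c', hc', hc1'⟩ := hsc w
    have hz00 : (((z : R) : GL (Fin 4) F) : M4') 0 0 = c := by rw [hc]; simp
    have hw00 : (((w : R) : GL (Fin 4) F) : M4') 0 0 = c' := by rw [hc']; simp
    have hcc : c = c' := by
      simp only [f, hz00, hw00, decide_eq_decide] at hzw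
      rcases hc1 with rfl | rfl
      · exact (hzw.mp rfl).symm
      · rcases hc1' with rfl | rfl
        · exact hzw.mpr rfl
        · rfl
    apply Subtype.ext; apply Subtype.ext; apply Units.ext
    rw [hc, hc', hcc]
  have hle := Nat.card_le_card_of_injective f hf
  rw [hZ, Nat.card_eq_fintype_card, Fintype.card_bool] at hle
  omega

/-- B2 core: the standard form from the conclusions of the rows S3, S4, S6, S7, S8 and a square root of `-1` -/
theorem c6ub2_core (R : Subgroup (GL (Fin 4) F)) (h2 : (2 : F) ≠ 0) (i : F) (hi : i * i = -1)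
    (hS3 : (∀ g ∈ R, (∀ h ∈ R, g * h = h * g) ↔ ∃ c : F, (g : M4') = c • (1 : M4')) ∧
      (∀ c : F, c ^ 4 = 1 → ∃ g ∈ R, (g : M4') = c • (1 : M4')) ∧
      (∀ g ∈ R, ∀ c : F, (g : M4') = c • (1 : M4') → c ^ 4 = 1))
    (hS4 : (∀ g ∈ R, (g : M4') * (g : M4') = 1 ∨ (g : M4') * (g : M4') = -1) ∧
      (∀ g ∈ R, ∀ h ∈ R, (g : M4') * (h : M4') = (h : M4') * g ∨ (g : M4') * (h : M4') = -((h : M4') * g)))
    (hS6 : ∃ g1 ∈ R, ∃ h1 ∈ R, ∃ g2 ∈ R, ∃ h2 ∈ R, PauliRel (g1 : M4') (h1 : M4') (g2 : M4') (h2 : M4'))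
    (hS7 : (2 : F) ≠ 0 → ∀ G1 H1 G2 H2 : M4', PauliRel G1 H1 G2 H2 →
      ∃ P : GL (Fin 4) F,
        G1 = (P : M4') * pD1 * ((P⁻¹ : GL (Fin 4) F) : M4') ∧ H1 = (P : M4') * pX1 * ((P⁻¹ : GL (Fin 4) F) : M4') ∧
        G2 = (P : M4') * pD2 * ((P⁻¹ : GL (Fin 4) F) : M4') ∧ H2 = (P : M4') * pX2 * ((P⁻¹ : GL (Fin 4) F) : M4'))
    (hS8 : (2 : F) ≠ 0 → ∀ M : M4', M * pD1 = pD1 * M → M * pX1 = pX1 * M → M * pD2 = pD2 * M → M * pX2 = pX2 * M →
      ∃ c : F, M = c • (1 : M4')) :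
    ∃ P : GL (Fin 4) F,
      ∀ g : GL (Fin 4) F, g ∈ R ↔ ∃ a b c d e : ℕ,
        (g : M4') = (P : M4') * pauliM i a b c d e * ((P⁻¹ : GL (Fin 4) F) : M4') := by
  classical
  obtain ⟨hcen, hroots, hfour⟩ := hS3
  obtain ⟨hsq, hpm⟩ := hS4
  obtain ⟨g1, hg1, h1, hh1, g2, hg2, h2', hh2, hrel⟩ := hS6
  obtain ⟨P, hG1, hH1, hG2, hH2⟩ := hS7 h2 _ _ _ _ hrel
  have hi4 : i ^ 4 = 1 := by
    rw [show (4 : ℕ) = 2 + 2 from rfl, pow_add, pow_two, hi]; ring
  obtain ⟨ι, hιR, hι⟩ := hroots i hi4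
  have hPP : ((P⁻¹ : GL (Fin 4) F) : M4') * (P : M4') = 1 := by
    rw [← Matrix.GeneralLinearGroup.coe_mul, inv_mul_cancel]; rfl
  have hPP' : (P : M4') * ((P⁻¹ : GL (Fin 4) F) : M4') = 1 := by
    rw [← Matrix.GeneralLinearGroup.coe_mul, mul_inv_cancel]; rfl
  -- the matrix of a word
  have hword : ∀ a b c d e : ℕ,
      ((ι ^ a * g1 ^ b * h1 ^ c * g2 ^ d * h2' ^ e : GL (Fin 4) F) : M4') =
        (P : M4') * pauliM i a b c d e * ((P⁻¹ : GL (Fin 4) F) : M4') := by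
    intro a b c d e
    simp only [Matrix.GeneralLinearGroup.coe_mul, Units.val_pow_eq_pow_val]
    rw [hι, hG1, hH1, hG2, hH2, c6ps9_conj_pow, c6ps9_conj_pow, c6ps9_conj_pow, c6ps9_conj_pow]
    unfold pauliM
    rw [_root_.smul_pow, one_pow, Matrix.smul_mul, Matrix.one_mul, Matrix.smul_mul, Matrix.smul_mul, Matrix.smul_mul,
      c6ps9_conj_mul, c6ps9_conj_mul, c6ps9_conj_mul, Matrix.mul_smul, Matrix.smul_mul]
  refine ⟨P, ?_⟩
  intro g
  constructor
  · intro hg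
    -- abbreviations for the four generator matrices
    have hG1sq := hrel.g1sq
    have hH1sq := hrel.h1sq
    have hG2sq := hrel.g2sq
    have hH2sq := hrel.h2sq
    -- step 1: `x₁ = g * h₂^e` commutes with `g₂`
    have hh2g2 : (h2' : M4') * (g2 : M4') = -((g2 : M4') * (h2' : M4')) := by
      rw [hrel.a2, neg_neg]
    obtain ⟨e, he⟩ := c6ps9_step (g : M4') (h2' : M4') (g2 : M4') hh2g2 (hpm g hg g2 hg2)
    have hx1R : g * h2' ^ e ∈ R := R.mul_mem hg (R.pow_mem hh2 e)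
    have hx1 : ((g * h2' ^ e : GL (Fin 4) F) : M4') = (g : M4') * (h2' : M4') ^ e := by
      simp only [Matrix.GeneralLinearGroup.coe_mul, Units.val_pow_eq_pow_val]
    -- step 2: `x₂ = x₁ * g₂^d` commutes with `h₂` and `g₂`
    obtain ⟨d, hd⟩ := c6ps9_step ((g : M4') * (h2' : M4') ^ e) (g2 : M4') (h2' : M4') hrel.a2
      (by rw [← hx1]; exact hpm _ hx1R h2' hh2)
    have hd' := c6ps9_keep ((g : M4') * (h2' : M4') ^ e) (g2 : M4') (g2 : M4') rfl he d
    have hx2R : g * h2' ^ e * g2 ^ d ∈ R := R.mul_mem hx1R (R.pow_mem hg2 d)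
    have hx2 : ((g * h2' ^ e * g2 ^ d : GL (Fin 4) F) : M4') = (g : M4') * (h2' : M4') ^ e * (g2 : M4') ^ d := by
      simp only [Matrix.GeneralLinearGroup.coe_mul, Units.val_pow_eq_pow_val]
    -- step 3: `x₃ = x₂ * h₁^c` commutes with `g₁`, `g₂`, `h₂`
    have hh1g1 : (h1 : M4') * (g1 : M4') = -((g1 : M4') * (h1 : M4')) := by
      rw [hrel.a1, neg_neg]
    obtain ⟨c, hc⟩ := c6ps9_step ((g : M4') * (h2' : M4') ^ e * (g2 : M4') ^ d) (h1 : M4') (g1 : M4') hh1g1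
      (by rw [← hx2]; exact hpm _ hx2R g1 hg1)
    have hc2 := c6ps9_keep ((g : M4') * (h2' : M4') ^ e * (g2 : M4') ^ d) (h1 : M4') (g2 : M4') hrel.ch12 hd' c
    have hc3 := c6ps9_keep ((g : M4') * (h2' : M4') ^ e * (g2 : M4') ^ d) (h1 : M4') (h2' : M4') hrel.chh hd c
    have hx3R : g * h2' ^ e * g2 ^ d * h1 ^ c ∈ R := R.mul_mem hx2R (R.pow_mem hh1 c)
    have hx3 : ((g * h2' ^ e * g2 ^ d * h1 ^ c : GL (Fin 4) F) : M4')
        = (g : M4') * (h2' : M4') ^ e * (g2 : M4') ^ d * (h1 : M4') ^ c := by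
      simp only [Matrix.GeneralLinearGroup.coe_mul, Units.val_pow_eq_pow_val]
    -- step 4: `x₄ = x₃ * g₁^b` commutes with all four
    obtain ⟨b, hb⟩ := c6ps9_step ((g : M4') * (h2' : M4') ^ e * (g2 : M4') ^ d * (h1 : M4') ^ c) (g1 : M4') (h1 : M4')
      hrel.a1 (by rw [← hx3]; exact hpm _ hx3R h1 hh1)
    have hb1 := c6ps9_keep ((g : M4') * (h2' : M4') ^ e * (g2 : M4') ^ d * (h1 : M4') ^ c) (g1 : M4') (g1 : M4') rfl hc b
    have hb2 := c6ps9_keep ((g : M4') * (h2' : M4') ^ e * (g2 : M4') ^ d * (h1 : M4') ^ c) (g1 : M4') (g2 : M4')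
      hrel.c12 hc2 b
    have hb3 := c6ps9_keep ((g : M4') * (h2' : M4') ^ e * (g2 : M4') ^ d * (h1 : M4') ^ c) (g1 : M4') (h2' : M4')
      hrel.c1h2 hc3 b
    have hx4R : g * h2' ^ e * g2 ^ d * h1 ^ c * g1 ^ b ∈ R := R.mul_mem hx3R (R.pow_mem hg1 b)
    have hx4 : ((g * h2' ^ e * g2 ^ d * h1 ^ c * g1 ^ b : GL (Fin 4) F) : M4')
        = (g : M4') * (h2' : M4') ^ e * (g2 : M4') ^ d * (h1 : M4') ^ c * (g1 : M4') ^ b := by
      simp only [Matrix.GeneralLinearGroup.coe_mul, Units.val_pow_eq_pow_val]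
    set X : M4' := (g : M4') * (h2' : M4') ^ e * (g2 : M4') ^ d * (h1 : M4') ^ c * (g1 : M4') ^ b with hX
    -- `X` is scalar
    have hconj : ∀ (U : M4') (S : M4'), U = (P : M4') * S * ((P⁻¹ : GL (Fin 4) F) : M4') → X * U = U * X →
        (((P⁻¹ : GL (Fin 4) F) : M4') * X * (P : M4')) * S = S * (((P⁻¹ : GL (Fin 4) F) : M4') * X * (P : M4')) := by
      intro U S hU hXU
      have h3 : S = ((P⁻¹ : GL (Fin 4) F) : M4') * U * (P : M4') := by
        rw [hU]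
        calc S = (((P⁻¹ : GL (Fin 4) F) : M4') * (P : M4')) * S * (((P⁻¹ : GL (Fin 4) F) : M4') * (P : M4')) := by
              rw [hPP, Matrix.one_mul, Matrix.mul_one]
          _ = _ := by simp only [Matrix.mul_assoc]
      rw [h3]
      calc ((P⁻¹ : GL (Fin 4) F) : M4') * X * (P : M4') * (((P⁻¹ : GL (Fin 4) F) : M4') * U * (P : M4'))
          = ((P⁻¹ : GL (Fin 4) F) : M4') * X * ((P : M4') * ((P⁻¹ : GL (Fin 4) F) : M4')) * U * (P : M4') := by
            simp only [Matrix.mul_assoc]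
        _ = ((P⁻¹ : GL (Fin 4) F) : M4') * (X * U) * (P : M4') := by
            rw [hPP', Matrix.mul_one]; simp only [Matrix.mul_assoc]
        _ = ((P⁻¹ : GL (Fin 4) F) : M4') * (U * X) * (P : M4') := by rw [hXU]
        _ = ((P⁻¹ : GL (Fin 4) F) : M4') * U * ((P : M4') * ((P⁻¹ : GL (Fin 4) F) : M4')) * X * (P : M4') := by
            rw [hPP', Matrix.mul_one]; simp only [Matrix.mul_assoc]
        _ = _ := by simp only [Matrix.mul_assoc]
    obtain ⟨z, hz⟩ := hS8 h2 (((P⁻¹ : GL (Fin 4) F) : M4') * X * (P : M4'))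
      (hconj _ _ hG1 hb1) (hconj _ _ hH1 hb) (hconj _ _ hG2 hb2) (hconj _ _ hH2 hb3)
    have hXz : X = z • (1 : M4') := by
      calc X = ((P : M4') * ((P⁻¹ : GL (Fin 4) F) : M4')) * X * ((P : M4') * ((P⁻¹ : GL (Fin 4) F) : M4')) := by
            rw [hPP', Matrix.one_mul, Matrix.mul_one]
        _ = (P : M4') * (((P⁻¹ : GL (Fin 4) F) : M4') * X * (P : M4')) * ((P⁻¹ : GL (Fin 4) F) : M4') := by
            simp only [Matrix.mul_assoc]
        _ = z • (1 : M4') := by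
            rw [hz, Matrix.mul_smul, Matrix.mul_one, Matrix.smul_mul, hPP']
    have hz4 : z ^ 4 = 1 := hfour _ hx4R z (by rw [hx4]; exact hXz)
    obtain ⟨a, ha⟩ := c6ps9_root i z hi hz4
    -- solve for `g`
    have hpow_inv : ∀ (U : M4'), U * U = 1 → ∀ k : ℕ, U ^ k * U ^ k = 1 := by
      intro U hU k
      rw [← (Commute.refl U).mul_pow k, hU, one_pow]
    have e1 : (g : M4') * (h2' : M4') ^ e * (g2 : M4') ^ d * (h1 : M4') ^ c = z • (g1 : M4') ^ b := by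
      have := congrArg (fun Y : M4' => Y * (g1 : M4') ^ b) hXz
      rw [hX, Matrix.mul_assoc _ ((g1 : M4') ^ b) ((g1 : M4') ^ b), hpow_inv _ hG1sq b, Matrix.mul_one,
        Matrix.smul_mul, Matrix.one_mul] at this
      exact this
    have e2 : (g : M4') * (h2' : M4') ^ e * (g2 : M4') ^ d = z • ((g1 : M4') ^ b * (h1 : M4') ^ c) := by
      have := congrArg (fun Y : M4' => Y * (h1 : M4') ^ c) e1
      rw [Matrix.mul_assoc _ ((h1 : M4') ^ c) ((h1 : M4') ^ c), hpow_inv _ hH1sq c, Matrix.mul_one,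
        Matrix.smul_mul] at this
      exact this
    have e3 : (g : M4') * (h2' : M4') ^ e = z • ((g1 : M4') ^ b * (h1 : M4') ^ c * (g2 : M4') ^ d) := by
      have := congrArg (fun Y : M4' => Y * (g2 : M4') ^ d) e2
      rw [Matrix.mul_assoc _ ((g2 : M4') ^ d) ((g2 : M4') ^ d), hpow_inv _ hG2sq d, Matrix.mul_one,
        Matrix.smul_mul] at this
      exact this
    have e4 : (g : M4') = z • ((g1 : M4') ^ b * (h1 : M4') ^ c * (g2 : M4') ^ d * (h2' : M4') ^ e) := by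
      have := congrArg (fun Y : M4' => Y * (h2' : M4') ^ e) e3
      rw [Matrix.mul_assoc _ ((h2' : M4') ^ e) ((h2' : M4') ^ e), hpow_inv _ hH2sq e, Matrix.mul_one,
        Matrix.smul_mul] at this
      exact this
    refine ⟨a, b, c, d, e, ?_⟩
    rw [← hword a b c d e, e4, ha]
    simp only [Matrix.GeneralLinearGroup.coe_mul, Units.val_pow_eq_pow_val]
    rw [hι, _root_.smul_pow, one_pow, Matrix.smul_mul, Matrix.one_mul, Matrix.smul_mul, Matrix.smul_mul, Matrix.smul_mul]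
  · rintro ⟨a, b, c, d, e, hge⟩
    have hmem : ι ^ a * g1 ^ b * h1 ^ c * g2 ^ d * h2' ^ e ∈ R :=
      R.mul_mem (R.mul_mem (R.mul_mem (R.mul_mem (R.pow_mem hιR a) (R.pow_mem hg1 b)) (R.pow_mem hh1 c))
        (R.pow_mem hg2 d)) (R.pow_mem hh2 e)
    have : g = ι ^ a * g1 ^ b * h1 ^ c * g2 ^ d * h2' ^ e := by
      apply Units.ext
      rw [hge, ← hword]
    rw [this]
    exact hmem

section fin

variable [Fintype F] {p : ℕ} [Fact p.Prime] [CharP F p]

/-- B2 [M] : the standard form. -/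
theorem c6u_std (R : Subgroup (GL (Fin 4) F)) (hS : Cfsg.Geo.IsSymplecticTypeGroup 2 R)
    (hA : Cfsg.Geo.ActsAbsolutelyIrreducibly (Cfsg.Geo.matrixSet R)) (hZ : Nat.card (Subgroup.center R) = 4)
    (hR6 : Nat.card R = 2 ^ 6) (h2 : (2 : F) ≠ 0) :
    ∃ (i : F) (P : GL (Fin 4) F), i * i = -1 ∧
      ∀ g : GL (Fin 4) F, g ∈ R ↔ ∃ a b c d e : ℕ,
        (g : Matrix (Fin 4) (Fin 4) F) =
          (P : Matrix (Fin 4) (Fin 4) F) * pauliM i a b c d e * ((P⁻¹ : GL (Fin 4) F) : Matrix (Fin 4) (Fin 4) F) := by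
  have h3 := s_center_scalar R hA hZ
  have h4 := s_pm R hS hA hZ
  obtain ⟨i, hi⟩ := c6ub2_i R hZ h3.1 h3.2.2
  obtain ⟨P, hP⟩ := c6ub2_core R h2 i hi h3 h4
    (c6ps6_core R hZ hR6 h3 h4 (fun g hg hns => s_anti R hS hA hZ g hg hns))
    (fun h2 G1 H1 G2 H2 h => s_frame h2 G1 H1 G2 H2 h)
    (fun h2 M hd1 hx1 hd2 hx2 => s_comm_scalar h2 M hd1 hx1 hd2 hx2)
  exact ⟨i, P, hi, hP⟩

end fin

end Cfsg.Agent.Lib.helper3.C6U
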