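import Mathlib
import Cfsg.Agent.Lib.helper7.CEU.Defs
import Cfsg.Agent.Lib.Helper27.STU.Defs3
import Cfsg.Agent.Lib.Helper19.CEUT1
import Cfsg.Agent.Lib.helper7.CEUT4
import Cfsg.Agent.Lib.Helper25.CEUT6a
import Cfsg.Agent.Lib.Helper13.CEUT6b
import Cfsg.Agent.Lib.Helper13.CEUT7a
import Cfsg.Agent.Lib.Helper29.CEUT10core

/-!
# CEU T10a (helper29): `HT_four`, `HT_three`, `HCe_three`, verbatim from helper7's `CEU/Skel1`

The cores of `Helper29.CEUT10core` at the rows T1 T2 T3 T5a (`Helper19.CEUT1`), T4 (`helper7.CEUT4`), T6a (`Helper25.CEUT6a`), T6b T7a (`Helper13`).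
-/

set_option autoImplicit false

namespace Cfsg.Agent.Lib.helper7.CEU

open Cfsg.Agent.Lib.helper15.St2 Cfsg.Agent.Lib.helper7.Ce Cfsg.Agent.Lib.helper3.STC Cfsg.Agent.Lib.Helper27.STU

open Cfsg.Agent.Lib.helper7.CEC (I2 I3 I4 U2 U3)

section T

variable {F : Type*} [Field F] [StarRing F] {od : Prop} {ι : Type*} {Γ G : Type*} [Group Γ] [Group G] {S : SysU F od ι G} {σ : Γ →* G}

/-- T10 [S-M]  `m ≥ 4`: `I3` from `I4`; `t1_milnor`, `t3r_milnor`, `t3c_milnor`, `t5_milnor`, `t6_milnor`, `t4_of_t6`. -/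
theorem HT_four (h : IsCE σ) (h4 : I4 ι) {ξ₀ : Lam F od} (hξ₀ : ξ₀.c ≠ 0) : HTs S σ ∧ HTl S σ :=
  ceut10_four_core (t1_milnor h (ceut10_I3_of_I4 h4)) (t3r_milnor h h4) (t3c_milnor h h4)
    (t5_milnor h (ceut10_I3_of_I4 h4)) (t6_milnor h h4) (fun h6 => t4_of_t6 h hξ₀ h6)

/-- T10 [S-M]  `m = 3`: `t1_milnor`, `t5_milnor`, `t3r_torus`, `t3c_torus`, `t6_torus`; `t4` is vacuous by `U3` (four indices with pairwise different `ab`). -/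
theorem HT_three [DecidableEq ι] (h : IsCE σ) (h3 : I3 ι) (u3 : U3 ι) (hH : S.HH) {ξ₁ ξ₂ : Lam F od} (h1 : ξ₁.c ≠ 0) (h2 : ξ₂.c ≠ 0)
    (hr : ξ₁.c ≠ ξ₂.c) {s : F} (hs0 : s ≠ 0) (hs2 : s ^ 2 ≠ 1) : HTs S σ ∧ HTl S σ :=
  ceut10_three_core u3 (t1_milnor h h3) (t3r_torus h hH h1 h2 hr) (t3c_torus h hH h1 h2 hr)
    (t5_milnor h h3) (t6_torus h hH hs0 hs2)

/-- T10 [S]  (even case) `I2` from `I3`; `t2_ssl`, `t7_ssl`. -/
theorem HCe_three (h : IsCE σ) (h3 : I3 ι) (hex : ∀ ζ : Lam F od, ∃ x : F, ζ = Lam.tr x) : HCe S σ :=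
  ceut10_HCe_core (t2_ssl h (ceut10_I2_of_I3 h3) hex) (t7_ssl h h3 hex)

end T

end Cfsg.Agent.Lib.helper7.CEU
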