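import Mathlib
import Cfsg.Agent.Lib.helper7.CEU.Defs
import Cfsg.Agent.Lib.Helper27.STU.Defs3
import Cfsg.Agent.Lib.helper15.CEUT5b
import Cfsg.Agent.Lib.Helper13.CEUT7a
import Cfsg.Agent.Lib.Helper18.CEUT7b
import Cfsg.Agent.Lib.Helper18.CEUT8
import Cfsg.Agent.Lib.Helper29.CEUT10core

/-!
# CEU T10b (helper29): `HT_two_even`, verbatim from helper7's `CEU/Skel1`

`ceut10_two_even_core` (`Helper29.CEUT10core`) at the rows T5b (`helper15.CEUT5b`), T7a (`Helper13.CEUT7a`), T7b T8 (`Helper18`).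
-/

set_option autoImplicit false

namespace Cfsg.Agent.Lib.helper7.CEU

open Cfsg.Agent.Lib.helper15.St2 Cfsg.Agent.Lib.helper7.Ce Cfsg.Agent.Lib.helper3.STC Cfsg.Agent.Lib.Helper27.STU

open Cfsg.Agent.Lib.helper7.CEC (I2 I3 I4 U2 U3)

section T

variable {F : Type*} [Field F] [StarRing F] {od : Prop} {ι : Type*} {Γ G : Type*} [Group Γ] [Group G] {S : SysU F od ι G} {σ : Γ →* G}

/-- T10 [M]  (even case) `m = 2`: `t5_torus` (`hr0` from `Lam.c_skew_of_even`: `star (c₁ / c₂) = (-c₁) / (-c₂)`; `hr` from `hN`), `t2_ssl`, `t7_torus`, `t1_of_t7`; `t3r`, `t3c`, `t4`, `t6` are vacuous by `U2`. -/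
theorem HT_two_even [DecidableEq ι] (h : IsCE σ) (h2 : I2 ι) (u2 : U2 ι) (hH : S.HH) (hev : ¬ od)
    (hex : ∀ ζ : Lam F od, ∃ x : F, ζ = Lam.tr x) {ξ₁ ξ₂ : Lam F od} (h1 : ξ₁.c ≠ 0) (h2' : ξ₂.c ≠ 0)
    (hN : (ξ₁.c / ξ₂.c) * star (ξ₁.c / ξ₂.c) ≠ 1) : HTs S σ ∧ HTl S σ ∧ HCe S σ :=
  ceut10_two_even_core u2
    (t5_torus h hH h1 h2' (ceut10_ratio hev h2' hN).1 (ceut10_ratio hev h2' hN).2)
    (t2_ssl h h2 hex) (t7_torus h hH hev hex h1 h2' hN)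
    (fun h5 h2s h7 => t1_of_t7 h h1 h5 h2s h7)

end T

end Cfsg.Agent.Lib.helper7.CEU
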