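import Mathlib
import Cfsg.Agent.Lib.helper14.CTA.Defs
import Cfsg.Agent.Lib.Helper22.CTATVAPI
import Cfsg.Agent.Lib.Lead.CTACOLMOD
import Cfsg.Agent.Lib.Helper25.CTASTABGEN
import Cfsg.Agent.Lib.Helper29.CTAXCOLcore

/-!
# Project CTA, piece XCOL: the new column root groups (`ctaxcol_core` + TVAPI + COLMOD + STABGEN).
-/

set_option autoImplicit false

namespace Cfsg.Agent.Lib.helper14.CTA

open Matrix Cfsg.Agent.Lib.helper14.CTE

universe u v w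

variable {F : Type u} [Field F] {G : Type v} [Group G] {ι : Type w} [Fintype ι] [DecidableEq ι]

/-- XCOL: the new column root groups. -/
theorem xcol [Fintype F] (h3 : 3 ≤ Fintype.card ι) (Φ : Matrix.SpecialLinearGroup ι F →* G)
    (ψ : SL2 F →* G) (Θ : SL3 F →* G) (l pl : ι) (hl : pl ≠ l)
    (a1 : ∀ t, Θ (e3 0 1 t) = Φ (tv pl l t)) (a2 : ∀ t, Θ (e3 1 0 t) = Φ (tv l pl t))
    (b1 : ∀ t, Θ (e3 1 2 t) = ψ (ux t))
    (c1 : ∀ (i j : ι) (t : F), i ≠ j → j ≠ l → Φ (tv i j t) * ψ (ux 1) = ψ (ux 1) * Φ (tv i j t)) :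
    ∃ X : (ι → F) → G, (∀ v w, X (v + w) = X v * X w) ∧
      (∀ (g : Matrix.SpecialLinearGroup ι F) (v : ι → F), X (g.1 *ᵥ v) = Φ g * X v * (Φ g)⁻¹) ∧
      (∀ t, X (Pi.single l t) = ψ (ux t)) ∧ (∀ t, X (Pi.single pl t) = Θ (e3 0 2 t)) :=
  ctaxcol_core Φ ψ Θ l pl hl a1 a2 b1 c1 tv_mulVec tv_diag tv_weyl (stabgen h3 l)
    (fun u => colmod h3 Φ u l pl hl)

end Cfsg.Agent.Lib.helper14.CTA
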