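import Mathlib
import Cfsg.Agent.Lib.helper14.CTA.Defs
import Cfsg.Agent.Lib.Helper29.CTAXCOL
import Cfsg.Agent.Lib.Helper29.CTAXROWcore

/-!
# Project CTA, piece XROW: the new row root groups (`ctaxrow_core` + `xcol`).
-/

set_option autoImplicit false

namespace Cfsg.Agent.Lib.helper14.CTA

open Matrix Cfsg.Agent.Lib.helper14.CTE

universe u v w

variable {F : Type u} [Field F] {G : Type v} [Group G] {ι : Type w} [Fintype ι] [DecidableEq ι]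

/-- XROW: the new row root groups (apply XCOL to `Φ ∘ tinvN`, `ψ ∘ tinv`, `Θ ∘ tinv3`). -/
theorem xrow [Fintype F] (h3 : 3 ≤ Fintype.card ι) (Φ : Matrix.SpecialLinearGroup ι F →* G)
    (ψ : SL2 F →* G) (Θ : SL3 F →* G) (l pl : ι) (hl : pl ≠ l)
    (a1 : ∀ t, Θ (e3 0 1 t) = Φ (tv pl l t)) (a2 : ∀ t, Θ (e3 1 0 t) = Φ (tv l pl t))
    (b2 : ∀ t, Θ (e3 2 1 t) = ψ (uy t))
    (c2 : ∀ (i j : ι) (t : F), i ≠ j → i ≠ l → Φ (tv i j t) * ψ (uy 1) = ψ (uy 1) * Φ (tv i j t)) :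
    ∃ X' : (ι → F) → G, (∀ v w, X' (v + w) = X' v * X' w) ∧
      (∀ (g : Matrix.SpecialLinearGroup ι F) (r : ι → F), X' (r ᵥ* (g⁻¹).1) = Φ g * X' r * (Φ g)⁻¹) ∧
      (∀ t, X' (Pi.single l t) = ψ (uy t)) ∧ (∀ t, X' (Pi.single pl t) = Θ (e3 2 0 t)) :=
  ctaxrow_core Φ ψ Θ l pl hl a1 a2 b2 c2 (fun Φ' ψ' Θ' => xcol h3 Φ' ψ' Θ' l pl hl)

end Cfsg.Agent.Lib.helper14.CTA
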