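import Mathlib
import Cfsg.Agent.Lib.helper14.CTE.Defs
import Cfsg.Agent.Lib.Helper29.CTEAUTcore
import Cfsg.Agent.Lib.Helper21.CTEAUTU

/-!
# Project CTE, piece AUT: an automorphism of `SL2 F` commuting with `iota` is standard
(`aut_U` + `cteaut_core`).
-/

set_option autoImplicit false

namespace Cfsg.Agent.Lib.helper14.CTE

open Matrix

universe u v w

variable {F : Type u} [Field F] {G : Type v} [Group G] {ι : Type w}

/-- AUT: an automorphism of `SL2 F` commuting with `iota` is standard. -/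
theorem aut_std [Fintype F] (h2 : (2 : F) ≠ 0) (α : SL2 F ≃* SL2 F) (hα : ∀ g, α (iota g) = iota (α g)) :
    ∃ (c : Fˣ) (σ : F ≃+* F) (ε : Bool), α = stdAut c σ ε :=
  cteaut_core h2 α (aut_U h2 α hα)

end Cfsg.Agent.Lib.helper14.CTE
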