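import Mathlib
import Cfsg.Agent.Lib.helper14.CTE.Defs
import Cfsg.Agent.Lib.Helper29.CTEAUTF

/-!
# Project CTE, piece AUTU (core): `aut_U` with the statement of `aut_S` as a hypothesis.
An automorphism of `SL2 F` commuting with `iota` preserves the set `{g : g ^ p = 1 ∧ iota g = g⁻¹} = U⁺ ∪ U⁻`;
`ux s * uy s' ∈ U⁺ ∪ U⁻` forces `s s' = 0`, so all `α (ux t)` have the type of `α (ux 1)`; `ux 1`, `uy 1` do not
commute, so the two types differ.
-/

set_option autoImplicit false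

namespace Cfsg.Agent.Lib.helper14.CTE

open Matrix

universe u v w

variable {F : Type u} [Field F] {G : Type v} [Group G] {ι : Type w}

theorem cteautu_prod (s s' : F)
    (h : (∃ t, ux s * uy s' = ux t) ∨ (∃ t, ux s * uy s' = uy t)) : s = 0 ∨ s' = 0 := by
  have key : ((ux s * uy s' : SL2 F).1 0 0) = 1 := by
    rcases h with ⟨t, ht⟩ | ⟨t, ht⟩ <;> rw [ht] <;> simp [ux_coe, uy_coe]
  simpa [Matrix.SpecialLinearGroup.coe_mul, ux_coe, uy_coe, Matrix.mul_apply, Fin.sum_univ_two] using key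

theorem cteautu_prod' (s s' : F)
    (h : (∃ t, uy s * ux s' = ux t) ∨ (∃ t, uy s * ux s' = uy t)) : s = 0 ∨ s' = 0 := by
  have key : ((uy s * ux s' : SL2 F).1 1 1) = 1 := by
    rcases h with ⟨t, ht⟩ | ⟨t, ht⟩ <;> rw [ht] <;> simp [ux_coe, uy_coe]
  simpa [Matrix.SpecialLinearGroup.coe_mul, ux_coe, uy_coe, Matrix.mul_apply, Fin.sum_univ_two] using key

theorem cteautu_ux_zero : ux (0 : F) = 1 := by
  apply cteautf_ext <;> simp [ux_coe]

theorem cteautu_uy_zero : uy (0 : F) = 1 := by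
  apply cteautf_ext <;> simp [uy_coe]

theorem cteautu_ux_ne_one {s : F} (hs : s ≠ 0) : ux s ≠ 1 := by
  intro h
  rw [← cteautu_ux_zero] at h
  exact hs (cteautf_ux_inj h)

theorem cteautu_uy_ne_one {s : F} (hs : s ≠ 0) : uy s ≠ 1 := by
  intro h
  rw [← cteautu_uy_zero] at h
  exact hs (cteautf_uy_inj h)

theorem cteautu_nc : ux (1 : F) * uy 1 ≠ uy 1 * ux 1 := by
  intro h
  have := congrArg (fun g : SL2 F => g.1 0 0) h
  simp [Matrix.SpecialLinearGroup.coe_mul, ux_coe, uy_coe, Matrix.mul_apply, Fin.sum_univ_two] at this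

/-- uniformity, `U⁺` type -/
theorem cteautu_unifX (u : F → SL2 F) (hu : ∀ s t, u (s + t) = u s * u t)
    (hin : ∀ t, (∃ s, u t = ux s) ∨ (∃ s, u t = uy s)) (s₁ : F) (h1 : u 1 = ux s₁) (hs₁ : s₁ ≠ 0) :
    ∀ t, ∃ s, u t = ux s := by
  intro t
  rcases hin t with h | ⟨s', hs'⟩
  · exact h
  · have := hin (1 + t)
    rw [hu, h1, hs'] at this
    rcases cteautu_prod s₁ s' this with h | h
    · exact absurd h hs₁
    · exact ⟨0, by rw [hs', h, cteautu_uy_zero, cteautu_ux_zero]⟩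

/-- uniformity, `U⁻` type -/
theorem cteautu_unifY (u : F → SL2 F) (hu : ∀ s t, u (s + t) = u s * u t)
    (hin : ∀ t, (∃ s, u t = ux s) ∨ (∃ s, u t = uy s)) (s₁ : F) (h1 : u 1 = uy s₁) (hs₁ : s₁ ≠ 0) :
    ∀ t, ∃ s, u t = uy s := by
  intro t
  rcases hin t with ⟨s', hs'⟩ | h
  · have := hin (1 + t)
    rw [hu, h1, hs'] at this
    rcases cteautu_prod' s₁ s' this with h | h
    · exact absurd h hs₁
    · exact ⟨0, by rw [hs', h, cteautu_uy_zero, cteautu_ux_zero]⟩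
  · exact h

/-- AUTU (core): an automorphism commuting with `iota` preserves or swaps the two root groups, given the
description `aut_S` of `{g : g ^ p = 1 ∧ iota g = g⁻¹}` (for any fixed `p`). -/
theorem cteautu_core (p : ℕ) (α : SL2 F ≃* SL2 F) (hα : ∀ g, α (iota g) = iota (α g))
    (hS : ∀ g : SL2 F, (g ^ p = 1 ∧ iota g = g⁻¹) ↔ ((∃ t, g = ux t) ∨ (∃ t, g = uy t))) :
    ((∀ t, ∃ s, α (ux t) = ux s) ∧ (∀ t, ∃ s, α (uy t) = uy s)) ∨
    ((∀ t, ∃ s, α (ux t) = uy s) ∧ (∀ t, ∃ s, α (uy t) = ux s)) := by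
  have hpres : ∀ g, ((∃ t, g = ux t) ∨ (∃ t, g = uy t)) →
      ((∃ t, α g = ux t) ∨ (∃ t, α g = uy t)) := by
    intro g hg
    rw [← hS] at hg ⊢
    obtain ⟨h1, h2⟩ := hg
    exact ⟨by rw [← map_pow, h1, map_one], by rw [← hα, h2, map_inv]⟩
  have hX : ∀ t, (∃ s, α (ux t) = ux s) ∨ (∃ s, α (ux t) = uy s) :=
    fun t => hpres _ (Or.inl ⟨t, rfl⟩)
  have hY : ∀ t, (∃ s, α (uy t) = ux s) ∨ (∃ s, α (uy t) = uy s) :=
    fun t => hpres _ (Or.inr ⟨t, rfl⟩)
  have huX : ∀ s t, α (ux (s + t)) = α (ux s) * α (ux t) := by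
    intro s t
    rw [← cteautf_ux_mul, map_mul]
  have huY : ∀ s t, α (uy (s + t)) = α (uy s) * α (uy t) := by
    intro s t
    rw [← cteautf_uy_mul, map_mul]
  have hx1 : α (ux 1) ≠ 1 := by
    intro h
    exact cteautu_ux_ne_one (one_ne_zero (α := F)) (α.injective (h.trans (map_one α).symm))
  have hy1 : α (uy 1) ≠ 1 := by
    intro h
    exact cteautu_uy_ne_one (one_ne_zero (α := F)) (α.injective (h.trans (map_one α).symm))
  have hnc : α (ux 1) * α (uy 1) ≠ α (uy 1) * α (ux 1) := by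
    intro h
    rw [← map_mul, ← map_mul] at h
    exact cteautu_nc (α.injective h)
  rcases hX 1 with ⟨s₁, h1⟩ | ⟨s₁, h1⟩
  · have hs₁ : s₁ ≠ 0 := by
      rintro rfl
      exact hx1 (h1.trans cteautu_ux_zero)
    rcases hY 1 with ⟨r, hr⟩ | ⟨r, hr⟩
    · exfalso
      apply hnc
      rw [h1, hr, cteautf_ux_mul, cteautf_ux_mul, add_comm]
    · have hr0 : r ≠ 0 := by
        rintro rfl
        exact hy1 (hr.trans cteautu_uy_zero)
      exact Or.inl ⟨cteautu_unifX (fun t => α (ux t)) huX hX s₁ h1 hs₁,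
        cteautu_unifY (fun t => α (uy t)) huY hY r hr hr0⟩
  · have hs₁ : s₁ ≠ 0 := by
      rintro rfl
      exact hx1 (h1.trans cteautu_uy_zero)
    rcases hY 1 with ⟨r, hr⟩ | ⟨r, hr⟩
    · have hr0 : r ≠ 0 := by
        rintro rfl
        exact hy1 (hr.trans cteautu_ux_zero)
      exact Or.inr ⟨cteautu_unifY (fun t => α (ux t)) huX hX s₁ h1 hs₁,
        cteautu_unifX (fun t => α (uy t)) huY hY r hr hr0⟩
    · exfalso
      apply hnc
      rw [h1, hr, cteautf_uy_mul, cteautf_uy_mul, add_comm]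

end Cfsg.Agent.Lib.helper14.CTE
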