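import Mathlib

/-!
# Combinatorial core of the cyclic TI isometry theorem (Peterfalvi (3.5))

An `I × J` array of 3-element sets `D i j` of "signed" elements, any two cells in a common
row or column sharing exactly one element (and no opposite pair), cells in general position
having as many common elements as opposite pairs.
-/

set_option autoImplicit false

namespace Cfsg.Agent.Lib.Helper29.CTI

variable {E I J : Type*}

structure Cfg (neg : E → E) (D : I → J → Set E) : Prop where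
  neg_neg : ∀ x, neg (neg x) = x
  three : ∀ i j, ∃ a b c, a ≠ b ∧ a ≠ c ∧ b ≠ c ∧ ∀ x, x ∈ D i j ↔ (x = a ∨ x = b ∨ x = c)
  nopp : ∀ i j x, x ∈ D i j → neg x ∉ D i j
  row_ex : ∀ i j j', j ≠ j' → ∃ x, x ∈ D i j ∧ x ∈ D i j'
  row_un : ∀ i j j' x y, j ≠ j' → x ∈ D i j → x ∈ D i j' → y ∈ D i j → y ∈ D i j' → x = y
  row_no : ∀ i j j' x, j ≠ j' → x ∈ D i j → neg x ∉ D i j'
  col_ex : ∀ i i' j, i ≠ i' → ∃ x, x ∈ D i j ∧ x ∈ D i' j
  col_un : ∀ i i' j x y, i ≠ i' → x ∈ D i j → x ∈ D i' j → y ∈ D i j → y ∈ D i' j → x = y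
  col_no : ∀ i i' j x, i ≠ i' → x ∈ D i j → neg x ∉ D i' j
  cr_co : ∀ i i' j j' x, i ≠ i' → j ≠ j' → x ∈ D i j → x ∈ D i' j' →
    ∃ y, y ∈ D i j ∧ neg y ∈ D i' j'
  cr_oc : ∀ i i' j j' y, i ≠ i' → j ≠ j' → y ∈ D i j → neg y ∈ D i' j' →
    ∃ x, x ∈ D i j ∧ x ∈ D i' j'

/-- no element lies in a cell, a second cell of the same row and a second cell of the same
column -/
def NoL (D : I → J → Set E) : Prop :=
  ∀ i i' j₀ j₁ x, i ≠ i' → j₀ ≠ j₁ → x ∈ D i j₀ → x ∈ D i j₁ → x ∈ D i' j₀ → False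

theorem Cfg.transpose {neg : E → E} {D : I → J → Set E} (C : Cfg neg D) :
    Cfg neg (fun j i => D i j) where
  neg_neg := C.neg_neg
  three := fun j i => C.three i j
  nopp := fun j i => C.nopp i j
  row_ex := fun j i i' h => C.col_ex i i' j h
  row_un := fun j i i' x y h => C.col_un i i' j x y h
  row_no := fun j i i' x h => C.col_no i i' j x h
  col_ex := fun j j' i h => C.row_ex i j j' h
  col_un := fun j j' i x y h => C.row_un i j j' x y h
  col_no := fun j j' i x h => C.row_no i j j' x h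
  cr_co := fun j j' i i' x h h' => C.cr_co i i' j j' x h' h
  cr_oc := fun j j' i i' y h h' => C.cr_oc i i' j j' y h' h

theorem NoL.transpose {D : I → J → Set E} (h : NoL (fun j i => D i j)) : NoL D :=
  fun i i' j₀ j₁ x hi hj h1 h2 h3 => h j₀ j₁ i i' x hj hi h1 h3 h2

section
variable {neg : E → E} {D : I → J → Set E}

theorem Cfg.neg_inj (C : Cfg neg D) {x y : E} (h : neg x = neg y) : x = y := by
  rw [← C.neg_neg x, h, C.neg_neg]

/-- three distinct members of a cell exhaust it -/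
theorem Cfg.mem_three (C : Cfg neg D) {i : I} {j : J} {p q r e : E}
    (hp : p ∈ D i j) (hq : q ∈ D i j) (hr : r ∈ D i j) (hpq : p ≠ q) (hpr : p ≠ r) (hqr : q ≠ r)
    (he : e ∈ D i j) : e = p ∨ e = q ∨ e = r := by
  obtain ⟨a, b, c, hab, hac, hbc, hm⟩ := C.three i j
  rcases (hm p).1 hp with rfl | rfl | rfl <;> rcases (hm q).1 hq with rfl | rfl | rfl <;>
    rcases (hm r).1 hr with rfl | rfl | rfl <;> rcases (hm e).1 he with rfl | rfl | rfl <;>
    simp_all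

/-- the third element of a cell -/
theorem Cfg.exists_third (C : Cfg neg D) {i : I} {j : J} {p q : E}
    (hp : p ∈ D i j) (hq : q ∈ D i j) (hpq : p ≠ q) :
    ∃ r, r ∈ D i j ∧ r ≠ p ∧ r ≠ q ∧ ∀ e, e ∈ D i j → e = p ∨ e = q ∨ e = r := by
  obtain ⟨a, b, c, hab, hac, hbc, hm⟩ := C.three i j
  have ha : a ∈ D i j := (hm a).2 (Or.inl rfl)
  have hb : b ∈ D i j := (hm b).2 (Or.inr (Or.inl rfl))
  have hc : c ∈ D i j := (hm c).2 (Or.inr (Or.inr rfl))
  rcases (hm p).1 hp with rfl | rfl | rfl <;> rcases (hm q).1 hq with rfl | rfl | rfl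
  · exact absurd rfl hpq
  · exact ⟨c, hc, fun h => hac h.symm, fun h => hbc h.symm, fun e he => (hm e).1 he⟩
  · exact ⟨b, hb, fun h => hab h.symm, hbc, fun e he => by
      rcases (hm e).1 he with h | h | h <;> simp [h]⟩
  · exact ⟨c, hc, fun h => hbc h.symm, fun h => hac h.symm, fun e he => by
      rcases (hm e).1 he with h | h | h <;> simp [h]⟩
  · exact absurd rfl hpq
  · exact ⟨a, ha, hab, hac, fun e he => by
      rcases (hm e).1 he with h | h | h <;> simp [h]⟩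
  · exact ⟨b, hb, hbc, fun h => hab h.symm, fun e he => by
      rcases (hm e).1 he with h | h | h <;> simp [h]⟩
  · exact ⟨a, ha, hac, hab, fun e he => by
      rcases (hm e).1 he with h | h | h <;> simp [h]⟩
  · exact absurd rfl hpq


/-- the context of an `L`-shape: `x` lies in the cells `(i,j₀)`, `(i,j₁)`, `(i',j₀)` -/
structure LCtx (neg : E → E) (D : I → J → Set E) (i i' : I) (j₀ j₁ : J) (x a b w s t : E) :
    Prop where
  hi : i ≠ i'
  hj : j₀ ≠ j₁
  x0 : x ∈ D i j₀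
  x1 : x ∈ D i j₁
  xB : x ∈ D i' j₀
  aB : a ∈ D i' j₀
  bB : b ∈ D i' j₀
  ax : a ≠ x
  bx : b ≠ x
  ab : a ≠ b
  B_mem : ∀ e, e ∈ D i' j₀ → e = x ∨ e = a ∨ e = b
  na1 : neg a ∈ D i j₁
  w1 : w ∈ D i j₁
  wx : w ≠ x
  wna : w ≠ neg a
  nax : neg a ≠ x
  A1_mem : ∀ e, e ∈ D i j₁ → e = x ∨ e = neg a ∨ e = w
  s0 : s ∈ D i j₀
  t0 : t ∈ D i j₀
  sx : s ≠ x
  tx : t ≠ x
  st : s ≠ t
  A0_mem : ∀ e, e ∈ D i j₀ → e = x ∨ e = s ∨ e = t

theorem Cfg.exists_LCtx (C : Cfg neg D) {i i' : I} {j₀ j₁ : J} {x : E} (hi : i ≠ i')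
    (hj : j₀ ≠ j₁) (h0 : x ∈ D i j₀) (h1 : x ∈ D i j₁) (h2 : x ∈ D i' j₀) :
    ∃ a b w s t, LCtx neg D i i' j₀ j₁ x a b w s t := by
  obtain ⟨y, hy1, hy2⟩ := C.cr_co i i' j₁ j₀ x hi hj.symm h1 h2
  have hna : neg (neg y) = y := C.neg_neg y
  have hax : neg y ≠ x := by
    intro h
    have : y = neg x := by rw [← h, hna]
    rw [this] at hy1
    exact C.nopp i j₁ x h1 hy1
  have hyx : y ≠ x := by
    intro h
    rw [h] at hy2
    exact C.nopp i' j₀ x h2 hy2
  obtain ⟨b, hb, hbx, hba, hB⟩ := C.exists_third h2 hy2 (Ne.symm hax)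
  obtain ⟨w, hw, hwx, hwy, hA1⟩ := C.exists_third h1 hy1 (Ne.symm hyx)
  obtain ⟨a₀, b₀, c₀, hab₀, hac₀, hbc₀, hm⟩ := C.three i j₀
  -- pick s, t as the two elements other than x
  have hx' := (hm x).1 h0
  have ha₀ : a₀ ∈ D i j₀ := (hm a₀).2 (Or.inl rfl)
  have hb₀ : b₀ ∈ D i j₀ := (hm b₀).2 (Or.inr (Or.inl rfl))
  have hc₀ : c₀ ∈ D i j₀ := (hm c₀).2 (Or.inr (Or.inr rfl))
  have key : ∃ s t, s ∈ D i j₀ ∧ t ∈ D i j₀ ∧ s ≠ x ∧ t ≠ x ∧ s ≠ t ∧
      ∀ e, e ∈ D i j₀ → e = x ∨ e = s ∨ e = t := by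
    rcases hx' with rfl | rfl | rfl
    · exact ⟨b₀, c₀, hb₀, hc₀, hab₀.symm, hac₀.symm, hbc₀, fun e he => (hm e).1 he⟩
    · exact ⟨a₀, c₀, ha₀, hc₀, hab₀, hbc₀.symm, hac₀, fun e he => by
        rcases (hm e).1 he with h | h | h <;> simp [h]⟩
    · exact ⟨a₀, b₀, ha₀, hb₀, hac₀, hbc₀, hab₀, fun e he => by
        rcases (hm e).1 he with h | h | h <;> simp [h]⟩
  obtain ⟨s, t, hs, ht, hsx, htx, hst, hA0⟩ := key
  refine ⟨neg y, b, w, s, t, ⟨hi, hj, h0, h1, h2, hy2, hb, hax, hbx, Ne.symm hba, hB, ?_, hw, hwx,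
    ?_, ?_, ?_, hs, ht, hsx, htx, hst, hA0⟩⟩
  · rw [hna]; exact hy1
  · rw [hna]; exact hwy
  · rw [hna]; exact hyx
  · rw [hna]; exact hA1

section LShape
variable {i i' : I} {j₀ j₁ : J} {x a b w s t : E}

/-- the three possible types of a further column in the row of an `L`-shape -/
def TX (D : I → J → Set E) (neg : E → E) (i : I) (x b : E) (j : J) : Prop :=
  x ∈ D i j ∧ neg b ∈ D i j

def TY (D : I → J → Set E) (neg : E → E) (i : I) (a b : E) (j : J) : Prop :=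
  neg a ∈ D i j ∧ b ∈ D i j

def TW (D : I → J → Set E) (neg : E → E) (i : I) (x a b w : E) (j : J) : Prop :=
  w ∈ D i j ∧ x ∉ D i j ∧ neg a ∉ D i j ∧ neg b ∉ D i j ∧ b ∉ D i j

theorem LCtx.types (C : Cfg neg D) (L : LCtx neg D i i' j₀ j₁ x a b w s t) (j : J)
    (hj0 : j ≠ j₀) (hj1 : j ≠ j₁) :
    TX D neg i x b j ∨ TY D neg i a b j ∨ TW D neg i x a b w j := by
  obtain ⟨e, he, he1⟩ := C.row_ex i j j₁ hj1
  have hxna : ¬ (x ∈ D i j ∧ neg a ∈ D i j) := fun h =>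
    L.nax (C.row_un i j j₁ _ _ hj1 h.2 L.na1 h.1 L.x1)
  rcases L.A1_mem e he1 with rfl | rfl | rfl
  · -- x ∈ D i j
    left
    obtain ⟨y, hy, hyB⟩ := C.cr_co i i' j j₀ e L.hi hj0 he L.xB
    have hny : neg (neg y) = y := C.neg_neg y
    rcases L.B_mem _ hyB with h | h | h
    · exfalso
      have : y = neg e := by rw [← h, hny]
      rw [this] at hy
      exact C.nopp i j e he hy
    · exfalso
      have : y = neg a := by rw [← h, hny]
      rw [this] at hy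
      exact hxna ⟨he, hy⟩
    · have : y = neg b := by rw [← h, hny]
      rw [this] at hy
      exact ⟨he, hy⟩
  · -- neg a ∈ D i j
    right; left
    have haB : neg (neg a) ∈ D i' j₀ := by rw [C.neg_neg]; exact L.aB
    obtain ⟨e', he', he'B⟩ := C.cr_oc i i' j j₀ (neg a) L.hi hj0 he haB
    rcases L.B_mem _ he'B with rfl | rfl | rfl
    · exact absurd ⟨he', he⟩ hxna
    · exact absurd he (C.nopp i j _ he')
    · exact ⟨he, he'⟩
  · -- w ∈ D i j
    right; right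
    have hx : x ∉ D i j := fun h => L.wx (C.row_un i j j₁ _ _ hj1 he L.w1 h L.x1)
    have hna : neg a ∉ D i j := fun h => L.wna (C.row_un i j j₁ _ _ hj1 he L.w1 h L.na1)
    have ha : a ∉ D i j := fun h => C.row_no i j j₁ a hj1 h L.na1
    have hnb : neg b ∉ D i j := by
      intro h
      have hbB : neg (neg b) ∈ D i' j₀ := by rw [C.neg_neg]; exact L.bB
      obtain ⟨e', he', he'B⟩ := C.cr_oc i i' j j₀ (neg b) L.hi hj0 h hbB
      rcases L.B_mem _ he'B with rfl | rfl | rfl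
      · exact hx he'
      · exact ha he'
      · exact C.nopp i j _ he' h
    refine ⟨he, hx, hna, hnb, ?_⟩
    intro hb
    obtain ⟨y, hy, hyB⟩ := C.cr_co i i' j j₀ b L.hi hj0 hb L.bB
    have hny : neg (neg y) = y := C.neg_neg y
    rcases L.B_mem _ hyB with h | h | h
    · have : y = neg x := by rw [← h, hny]
      rw [this] at hy
      exact C.row_no i j₀ j x (Ne.symm hj0) L.x0 hy
    · have : y = neg a := by rw [← h, hny]
      rw [this] at hy
      exact hna hy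
    · have : y = neg b := by rw [← h, hny]
      rw [this] at hy
      exact hnb hy

theorem LCtx.not_TX_TX (C : Cfg neg D) (L : LCtx neg D i i' j₀ j₁ x a b w s t) {j j' : J}
    (hjj : j ≠ j') (h : TX D neg i x b j) (h' : TX D neg i x b j') : False := by
  have e := C.row_un i j j' _ _ hjj h.1 h'.1 h.2 h'.2
  -- x = neg b, so neg x = b ∈ B
  have : neg x = b := by rw [e, C.neg_neg]
  exact C.nopp i' j₀ x L.xB (this ▸ L.bB)

theorem LCtx.not_TY_TY (C : Cfg neg D) (L : LCtx neg D i i' j₀ j₁ x a b w s t) {j j' : J}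
    (hjj : j ≠ j') (h : TY D neg i a b j) (h' : TY D neg i a b j') : False := by
  have e := C.row_un i j j' _ _ hjj h.1 h'.1 h.2 h'.2
  -- neg a = b
  exact C.nopp i' j₀ a L.aB (e ▸ L.bB)

theorem LCtx.not_TX_TY (C : Cfg neg D) (_L : LCtx neg D i i' j₀ j₁ x a b w s t) {j j' : J}
    (hjj : j ≠ j') (h : TX D neg i x b j) (h' : TY D neg i a b j') : False :=
  C.row_no i j' j b (Ne.symm hjj) h'.2 h.2

/-- two distinct further columns cannot both be of a type other than `TW` -/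
theorem LCtx.nonW_unique (C : Cfg neg D) (L : LCtx neg D i i' j₀ j₁ x a b w s t) {j j' : J}
    (hjj : j ≠ j') (h : TX D neg i x b j ∨ TY D neg i a b j)
    (h' : TX D neg i x b j' ∨ TY D neg i a b j') : False := by
  rcases h with h | h <;> rcases h' with h' | h'
  · exact L.not_TX_TX C hjj h h'
  · exact L.not_TX_TY C hjj h h'
  · exact L.not_TX_TY C (Ne.symm hjj) h' h
  · exact L.not_TY_TY C hjj h h'

/-- a `TW` column contains `s` or `t` -/
theorem LCtx.TW_st (C : Cfg neg D) (L : LCtx neg D i i' j₀ j₁ x a b w s t) {j : J}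
    (hj0 : j ≠ j₀) (h : TW D neg i x a b w j) : s ∈ D i j ∨ t ∈ D i j := by
  obtain ⟨e, he, he0⟩ := C.row_ex i j j₀ hj0
  rcases L.A0_mem e he0 with rfl | rfl | rfl
  · exact absurd he h.2.1
  · exact Or.inl he
  · exact Or.inr he

theorem LCtx.w_not0 (C : Cfg neg D) (L : LCtx neg D i i' j₀ j₁ x a b w s t) : w ∉ D i j₀ :=
  fun h => L.wx (C.row_un i j₀ j₁ _ _ L.hj h L.w1 L.x0 L.x1)

theorem LCtx.na_not0 (C : Cfg neg D) (L : LCtx neg D i i' j₀ j₁ x a b w s t) : neg a ∉ D i j₀ :=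
  C.col_no i' i j₀ a (Ne.symm L.hi) L.aB

theorem LCtx.b_not0 (C : Cfg neg D) (L : LCtx neg D i i' j₀ j₁ x a b w s t) : b ∉ D i j₀ :=
  fun h => L.bx (C.col_un i i' j₀ _ _ L.hi h L.bB L.x0 L.xB)

/-- a `TY` column contains `s` or `t`, and consists of `neg a`, `b` and that element -/
theorem LCtx.TY_st (C : Cfg neg D) (L : LCtx neg D i i' j₀ j₁ x a b w s t) {j : J}
    (hj0 : j ≠ j₀) (hj1 : j ≠ j₁) (h : TY D neg i a b j) :
    ∃ u, (u = s ∨ u = t) ∧ u ∈ D i j ∧ ∀ e, e ∈ D i j → e = neg a ∨ e = b ∨ e = u := by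
  obtain ⟨e, he, he0⟩ := C.row_ex i j j₀ hj0
  have hnab : neg a ≠ b := fun hh => C.nopp i' j₀ a L.aB (hh ▸ L.bB)
  have hex : e ≠ x := by
    rintro rfl
    exact L.nax (C.row_un i j j₁ _ _ hj1 h.1 L.na1 he L.x1)
  have hena : neg a ≠ e := fun hh => L.na_not0 C (hh ▸ he0)
  have heb : b ≠ e := fun hh => L.b_not0 C (hh ▸ he0)
  refine ⟨e, ?_, he, fun e' he' => C.mem_three h.1 h.2 he hnab hena heb he'⟩
  rcases L.A0_mem e he0 with h1 | h1 | h1
  · exact absurd h1 hex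
  · exact Or.inl h1
  · exact Or.inr h1

/-- two `TW` columns, one through `s` and one through `t`, leave no room for a third column -/
theorem LCtx.W2_aux (C : Cfg neg D) (L : LCtx neg D i i' j₀ j₁ x a b w s t) {j j' j'' : J}
    (hj0 : j ≠ j₀) (hj'0 : j' ≠ j₀) (hj''0 : j'' ≠ j₀) (hj''1 : j'' ≠ j₁)
    (hjj' : j ≠ j') (hjj'' : j ≠ j'') (hj'j'' : j' ≠ j'')
    (h : TW D neg i x a b w j) (h' : TW D neg i x a b w j')
    (hs : s ∈ D i j) (ht : t ∈ D i j') : False := by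
  have hws : w ≠ s := fun hh => L.w_not0 C (hh ▸ L.s0)
  have hwt : w ≠ t := fun hh => L.w_not0 C (hh ▸ L.t0)
  rcases L.types C j'' hj''0 hj''1 with hX | hY | hW
  · -- type X
    obtain ⟨p, hp, hpw, hps, hjm⟩ := C.exists_third h.1 hs hws
    obtain ⟨p', hp', hp'w, hp't, hj'm⟩ := C.exists_third h'.1 ht hwt
    have hp2 : p ∈ D i j'' := by
      obtain ⟨e, he, hej⟩ := C.row_ex i j'' j (Ne.symm hjj'')
      rcases hjm e hej with rfl | rfl | rfl
      · exact absurd (C.row_un i j'' j₁ _ _ hj''1 he L.w1 hX.1 L.x1) L.wx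
      · exact absurd (C.row_un i j'' j₀ _ _ hj''0 he L.s0 hX.1 L.x0) L.sx
      · exact he
    have hp'2 : p' ∈ D i j'' := by
      obtain ⟨e, he, hej⟩ := C.row_ex i j'' j' (Ne.symm hj'j'')
      rcases hj'm e hej with rfl | rfl | rfl
      · exact absurd (C.row_un i j'' j₁ _ _ hj''1 he L.w1 hX.1 L.x1) L.wx
      · exact absurd (C.row_un i j'' j₀ _ _ hj''0 he L.t0 hX.1 L.x0) L.tx
      · exact he
    have hxnb : x ≠ neg b := by
      intro hh
      have : neg x = b := by rw [hh, C.neg_neg]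
      exact C.nopp i' j₀ x L.xB (this ▸ L.bB)
    have hxp : x ≠ p := fun hh => h.2.1 (hh ▸ hp)
    have hnbp : neg b ≠ p := fun hh => h.2.2.2.1 (hh ▸ hp)
    rcases C.mem_three hX.1 hX.2 hp2 hxnb hxp hnbp hp'2 with e | e | e
    · exact h'.2.1 (e ▸ hp')
    · exact h'.2.2.2.1 (e ▸ hp')
    · -- p' = p: then w, p both in j and j'
      have : w = p := C.row_un i j j' _ _ hjj' h.1 h'.1 hp (e ▸ hp')
      exact hpw this.symm
  · -- type Y
    obtain ⟨u, hu, huj, hm⟩ := L.TY_st C hj''0 hj''1 hY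
    rcases hu with rfl | rfl
    · -- u = s : look at column j'
      obtain ⟨e, he, hej⟩ := C.row_ex i j'' j' (Ne.symm hj'j'')
      rcases hm e he with rfl | rfl | rfl
      · exact h'.2.2.1 hej
      · exact h'.2.2.2.2 hej
      · exact L.st (C.row_un i j' j₀ _ _ hj'0 hej L.s0 ht L.t0)
    · obtain ⟨e, he, hej⟩ := C.row_ex i j'' j (Ne.symm hjj'')
      rcases hm e he with rfl | rfl | rfl
      · exact h.2.2.1 hej
      · exact h.2.2.2.2 hej
      · exact L.st (C.row_un i j j₀ _ _ hj0 hs L.s0 hej L.t0)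
  · -- type W
    rcases L.TW_st C hj''0 hW with hs'' | ht''
    · exact hws (C.row_un i j j'' _ _ hjj'' h.1 hW.1 hs hs'')
    · exact hwt (C.row_un i j' j'' _ _ hj'j'' h'.1 hW.1 ht ht'')

/-- two `TW` columns leave no room for a third column -/
theorem LCtx.W2 (C : Cfg neg D) (L : LCtx neg D i i' j₀ j₁ x a b w s t) {j j' j'' : J}
    (hj0 : j ≠ j₀) (hj'0 : j' ≠ j₀) (hj''0 : j'' ≠ j₀) (hj''1 : j'' ≠ j₁)
    (hjj' : j ≠ j') (hjj'' : j ≠ j'') (hj'j'' : j' ≠ j'')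
    (h : TW D neg i x a b w j) (h' : TW D neg i x a b w j') : False := by
  have hws : w ≠ s := fun hh => L.w_not0 C (hh ▸ L.s0)
  have hwt : w ≠ t := fun hh => L.w_not0 C (hh ▸ L.t0)
  rcases L.TW_st C hj0 h with hs | ht <;> rcases L.TW_st C hj'0 h' with hs' | ht'
  · exact hws (C.row_un i j j' _ _ hjj' h.1 h'.1 hs hs')
  · exact L.W2_aux C hj0 hj'0 hj''0 hj''1 hjj' hjj'' hj'j'' h h' hs ht'
  · exact L.W2_aux C hj'0 hj0 hj''0 hj''1 (Ne.symm hjj') hj'j'' hjj'' h' h hs' ht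
  · exact hwt (C.row_un i j j' _ _ hjj' h.1 h'.1 ht ht')

end LShape

/-- with at least five columns there is no `L`-shape -/
theorem Cfg.noL_of_five (C : Cfg neg D) [Fintype J] [DecidableEq J] (h5 : 5 ≤ Fintype.card J) :
    NoL D := by
  intro i i' j₀ j₁ x hi hj h0 h1 h2
  obtain ⟨a, b, w, s, t, L⟩ := C.exists_LCtx hi hj h0 h1 h2
  -- three further columns
  have hcard : 2 < ((Finset.univ : Finset J) \ {j₀, j₁}).card := by
    have h1 : ((Finset.univ : Finset J) \ {j₀, j₁}).card =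
        Fintype.card J - ({j₀, j₁} : Finset J).card := by
      rw [Finset.card_sdiff_of_subset (Finset.subset_univ _), Finset.card_univ]
    have h2 : ({j₀, j₁} : Finset J).card = 2 := Finset.card_pair hj
    omega
  obtain ⟨j₂, j₃, j₄, m2, m3, m4, h23, h24, h34⟩ := Finset.two_lt_card_iff.mp hcard
  simp only [Finset.mem_sdiff, Finset.mem_univ, true_and, Finset.mem_insert,
    Finset.mem_singleton, not_or] at m2 m3 m4
  have T2 := L.types C j₂ m2.1 m2.2
  have T3 := L.types C j₃ m3.1 m3.2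
  have T4 := L.types C j₄ m4.1 m4.2
  have T2' : (TX D neg i x b j₂ ∨ TY D neg i a b j₂) ∨ TW D neg i x a b w j₂ :=
    or_assoc.mpr T2
  have T3' : (TX D neg i x b j₃ ∨ TY D neg i a b j₃) ∨ TW D neg i x a b w j₃ :=
    or_assoc.mpr T3
  have T4' : (TX D neg i x b j₄ ∨ TY D neg i a b j₄) ∨ TW D neg i x a b w j₄ :=
    or_assoc.mpr T4
  rcases T2' with n2 | w2 <;> rcases T3' with n3 | w3 <;> rcases T4' with n4 | w4
  · exact L.nonW_unique C h23 n2 n3
  · exact L.nonW_unique C h23 n2 n3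
  · exact L.nonW_unique C h24 n2 n4
  · exact L.W2 C m3.1 m4.1 m2.1 m2.2 h34 (Ne.symm h23) (Ne.symm h24) w3 w4
  · exact L.nonW_unique C h34 n3 n4
  · exact L.W2 C m2.1 m4.1 m3.1 m3.2 h24 h23 (Ne.symm h34) w2 w4
  · exact L.W2 C m2.1 m3.1 m4.1 m4.2 h23 h24 h34 w2 w3
  · exact L.W2 C m2.1 m3.1 m4.1 m4.2 h23 h24 h34 w2 w3

/-- with exactly four columns there is no `L`-shape, provided no element of a row misses
exactly one cell of that row -/
theorem Cfg.noL_of_four (C : Cfg neg D) [Fintype J] [DecidableEq J] (h4 : Fintype.card J = 4)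
    (hNT : ∀ i z j₀, z ∉ D i j₀ → ∃ j₁, j₁ ≠ j₀ ∧ z ∉ D i j₁) :
    NoL D := by
  intro i i' j₀ j₁ x hi hj h0 h1 h2
  obtain ⟨a, b, w, s, t, L⟩ := C.exists_LCtx hi hj h0 h1 h2
  have hcard : ((Finset.univ : Finset J) \ {j₀, j₁}).card = 2 := by
    have h1 : ((Finset.univ : Finset J) \ {j₀, j₁}).card =
        Fintype.card J - ({j₀, j₁} : Finset J).card := by
      rw [Finset.card_sdiff_of_subset (Finset.subset_univ _), Finset.card_univ]
    have h2 : ({j₀, j₁} : Finset J).card = 2 := Finset.card_pair hj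
    omega
  obtain ⟨j₂, j₃, h23, hS⟩ := Finset.card_eq_two.mp hcard
  have m2 : j₂ ∈ (Finset.univ : Finset J) \ {j₀, j₁} := by rw [hS]; simp
  have m3 : j₃ ∈ (Finset.univ : Finset J) \ {j₀, j₁} := by rw [hS]; simp
  have hall : ∀ j : J, j = j₀ ∨ j = j₁ ∨ j = j₂ ∨ j = j₃ := by
    intro j
    by_cases hj0 : j = j₀
    · exact Or.inl hj0
    by_cases hj1 : j = j₁
    · exact Or.inr (Or.inl hj1)
    have : j ∈ (Finset.univ : Finset J) \ {j₀, j₁} := by simp [hj0, hj1]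
    rw [hS] at this
    simp only [Finset.mem_insert, Finset.mem_singleton] at this
    tauto
  simp only [Finset.mem_sdiff, Finset.mem_univ, true_and, Finset.mem_insert,
    Finset.mem_singleton, not_or] at m2 m3
  have T2 := L.types C j₂ m2.1 m2.2
  have T3 := L.types C j₃ m3.1 m3.2
  have T2' : (TX D neg i x b j₂ ∨ TY D neg i a b j₂) ∨ TW D neg i x a b w j₂ :=
    or_assoc.mpr T2
  have T3' : (TX D neg i x b j₃ ∨ TY D neg i a b j₃) ∨ TW D neg i x a b w j₃ :=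
    or_assoc.mpr T3
  -- the case of one `TW` column `jw` and one other column `jn`
  have mixed : ∀ jw jn : J, jw ≠ j₀ → jw ≠ j₁ → jn ≠ j₀ → jn ≠ j₁ → jw ≠ jn →
      (∀ j : J, j = j₀ ∨ j = j₁ ∨ j = jw ∨ j = jn) →
      TW D neg i x a b w jw → (TX D neg i x b jn ∨ TY D neg i a b jn) → False := by
    intro jw jn hw0 hw1 hn0 hn1 hwn hall' hW hN
    rcases hN with hX | hY
    · obtain ⟨j', hj', hxj'⟩ := hNT i x jw hW.2.1
      rcases hall' j' with rfl | rfl | rfl | rfl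
      · exact hxj' L.x0
      · exact hxj' L.x1
      · exact hj' rfl
      · exact hxj' hX.1
    · obtain ⟨u, hu, huj, hm⟩ := L.TY_st C hn0 hn1 hY
      have hu0 : u ∈ D i j₀ := by rcases hu with rfl | rfl; exacts [L.s0, L.t0]
      have hux : u ≠ x := by rcases hu with rfl | rfl; exacts [L.sx, L.tx]
      have huw : u ∈ D i jw := by
        obtain ⟨e, he, hen⟩ := C.row_ex i jw jn hwn
        rcases hm e hen with rfl | rfl | rfl
        · exact absurd he hW.2.2.1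
        · exact absurd he hW.2.2.2.2
        · exact he
      have hu1 : u ∉ D i j₁ := fun h => hux (C.row_un i j₀ j₁ _ _ L.hj hu0 h L.x0 L.x1)
      obtain ⟨j', hj', huj'⟩ := hNT i u j₁ hu1
      rcases hall' j' with rfl | rfl | rfl | rfl
      · exact huj' hu0
      · exact hj' rfl
      · exact huj' huw
      · exact huj' huj
  rcases T2' with n2 | w2 <;> rcases T3' with n3 | w3
  · exact L.nonW_unique C h23 n2 n3
  · refine mixed j₃ j₂ m3.1 m3.2 m2.1 m2.2 (Ne.symm h23) ?_ w3 n2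
    intro j; rcases hall j with h | h | h | h <;> tauto
  · exact mixed j₂ j₃ m2.1 m2.2 m3.1 m3.2 h23 hall w2 n3
  · -- both `TW`: `w` misses exactly the cell `j₀`
    obtain ⟨j', hj', hwj'⟩ := hNT i w j₀ (L.w_not0 C)
    rcases hall j' with rfl | rfl | rfl | rfl
    · exact hj' rfl
    · exact hwj' L.w1
    · exact hwj' w2.1
    · exact hwj' w3.1

/-- given a second row and no `L`-shapes, a row of length two or at least four has an element
common to all its cells -/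
theorem Cfg.row_center (C : Cfg neg D) (hL : NoL D) [Fintype J] [DecidableEq J]
    (hJ : Fintype.card J = 2 ∨ 4 ≤ Fintype.card J) (i i' : I) (hi : i ≠ i') :
    ∃ x, ∀ j, x ∈ D i j := by
  rcases hJ with h2 | h4
  · obtain ⟨j₁, j₂, h12, hS⟩ := Finset.card_eq_two.mp (by rw [Finset.card_univ]; exact h2 :
      (Finset.univ : Finset J).card = 2)
    obtain ⟨x, hx1, hx2⟩ := C.row_ex i j₁ j₂ h12
    refine ⟨x, fun j => ?_⟩
    have : j ∈ (Finset.univ : Finset J) := Finset.mem_univ j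
    rw [hS] at this
    simp only [Finset.mem_insert, Finset.mem_singleton] at this
    rcases this with rfl | rfl
    · exact hx1
    · exact hx2
  · have h1 : 1 < (Finset.univ : Finset J).card := by rw [Finset.card_univ]; omega
    obtain ⟨j₁, -, j₂, -, h12⟩ := Finset.one_lt_card.mp h1
    obtain ⟨r, hr1, hr2⟩ := C.row_ex i j₁ j₂ h12
    refine ⟨r, fun j₃ => ?_⟩
    by_contra hr3
    have h31 : j₃ ≠ j₁ := fun h => hr3 (h ▸ hr1)
    have h32 : j₃ ≠ j₂ := fun h => hr3 (h ▸ hr2)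
    obtain ⟨p₁, hp₁1, hp₁3⟩ := C.row_ex i j₁ j₃ (Ne.symm h31)
    obtain ⟨p₂, hp₂2, hp₂3⟩ := C.row_ex i j₂ j₃ (Ne.symm h32)
    have hp₁r : p₁ ≠ r := fun h => hr3 (h ▸ hp₁3)
    have hp₂r : p₂ ≠ r := fun h => hr3 (h ▸ hp₂3)
    -- column-common elements are not shared within the row
    obtain ⟨c₁, hc₁, hc₁'⟩ := C.col_ex i i' j₁ hi
    obtain ⟨c₂, hc₂, hc₂'⟩ := C.col_ex i i' j₂ hi
    obtain ⟨c₃, hc₃, hc₃'⟩ := C.col_ex i i' j₃ hi
    have unsh : ∀ (j j' : J) (c : E), j ≠ j' → c ∈ D i j → c ∈ D i' j → c ∉ D i j' :=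
      fun j j' c hjj hc hc' h => hL i i' j j' c hi hjj hc h hc'
    -- a fourth column
    have hcard : 0 < ((Finset.univ : Finset J) \ {j₁, j₂, j₃}).card := by
      have e1 : ((Finset.univ : Finset J) \ {j₁, j₂, j₃}).card =
          Fintype.card J - ({j₁, j₂, j₃} : Finset J).card := by
        rw [Finset.card_sdiff_of_subset (Finset.subset_univ _), Finset.card_univ]
      have e2 : ({j₁, j₂, j₃} : Finset J).card ≤ 3 := Finset.card_le_three
      omega
    obtain ⟨j₄, m4⟩ := Finset.card_pos.mp hcard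
    simp only [Finset.mem_sdiff, Finset.mem_univ, true_and, Finset.mem_insert,
      Finset.mem_singleton, not_or] at m4
    obtain ⟨h41, h42, h43⟩ := m4
    -- the cells j₁, j₂, j₃
    have hc₁r : r ≠ c₁ := fun h => unsh j₁ j₂ c₁ h12 hc₁ hc₁' (h ▸ hr2)
    have hc₁p : p₁ ≠ c₁ := fun h => unsh j₁ j₃ c₁ (Ne.symm h31) hc₁ hc₁' (h ▸ hp₁3)
    have hc₂r : r ≠ c₂ := fun h => unsh j₂ j₁ c₂ (Ne.symm h12) hc₂ hc₂' (h ▸ hr1)
    have hc₂p : p₂ ≠ c₂ := fun h => unsh j₂ j₃ c₂ (Ne.symm h32) hc₂ hc₂' (h ▸ hp₂3)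
    have hc₃p₁ : p₁ ≠ c₃ := fun h => unsh j₃ j₁ c₃ h31 hc₃ hc₃' (h ▸ hp₁1)
    have hc₃p₂ : p₂ ≠ c₃ := fun h => unsh j₃ j₂ c₃ h32 hc₃ hc₃' (h ▸ hp₂2)
    have hp₁₂ : p₁ ≠ p₂ := by
      intro h
      exact hp₁r (C.row_un i j₁ j₂ _ _ h12 hp₁1 (h ▸ hp₂2) hr1 hr2)
    obtain ⟨e₁, he₁4, he₁1⟩ := C.row_ex i j₄ j₁ h41
    obtain ⟨e₂, he₂4, he₂2⟩ := C.row_ex i j₄ j₂ h42
    obtain ⟨e₃, he₃4, he₃3⟩ := C.row_ex i j₄ j₃ h43
    have E1 : e₁ = r ∨ e₁ = p₁ := by
      rcases C.mem_three hr1 hp₁1 hc₁ (Ne.symm hp₁r) hc₁r hc₁p he₁1 with h | h | h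
      · exact Or.inl h
      · exact Or.inr h
      · exact absurd (h ▸ he₁4) (unsh j₁ j₄ c₁ (Ne.symm h41) hc₁ hc₁')
    have E2 : e₂ = r ∨ e₂ = p₂ := by
      rcases C.mem_three hr2 hp₂2 hc₂ (Ne.symm hp₂r) hc₂r hc₂p he₂2 with h | h | h
      · exact Or.inl h
      · exact Or.inr h
      · exact absurd (h ▸ he₂4) (unsh j₂ j₄ c₂ (Ne.symm h42) hc₂ hc₂')
    have E3 : e₃ = p₁ ∨ e₃ = p₂ := by
      rcases C.mem_three hp₁3 hp₂3 hc₃ hp₁₂ hc₃p₁ hc₃p₂ he₃3 with h | h | h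
      · exact Or.inl h
      · exact Or.inr h
      · exact absurd (h ▸ he₃4) (unsh j₃ j₄ c₃ (Ne.symm h43) hc₃ hc₃')
    rcases E1 with rfl | rfl
    · rcases E3 with rfl | rfl
      · exact hp₁r (C.row_un i j₄ j₁ _ _ h41 he₃4 hp₁1 he₁4 hr1)
      · exact hp₂r (C.row_un i j₄ j₂ _ _ h42 he₃4 hp₂2 he₁4 hr2)
    · rcases E2 with rfl | rfl
      · exact hp₁r (C.row_un i j₄ j₁ _ _ h41 he₁4 hp₁1 he₂4 hr1)
      · exact hp₁₂ (C.row_un i j₄ j₃ _ _ h43 he₁4 hp₁3 he₂4 hp₂3)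

/-- the "pivots": given no `L`-shapes, each row and each column has an element lying in exactly the
cells of that row (column), and whose opposite lies in no cell of any other row (column) -/
theorem Cfg.pivots (C : Cfg neg D) (hL : NoL D) [Fintype I] [DecidableEq I] [Fintype J]
    [DecidableEq J] (hI : Fintype.card I = 2 ∨ 4 ≤ Fintype.card I)
    (hJ : Fintype.card J = 2 ∨ 4 ≤ Fintype.card J) :
    ∃ (x : I → E) (y : J → E), (∀ i j, x i ∈ D i j) ∧ (∀ i j, y j ∈ D i j) ∧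
      (∀ i i' j, i' ≠ i → x i ∉ D i' j ∧ neg (x i) ∉ D i' j) ∧
      (∀ i j j', j' ≠ j → y j ∉ D i j' ∧ neg (y j) ∉ D i j') := by
  have hI2 : ∀ i : I, ∃ i', i ≠ i' := by
    intro i
    have h1 : 1 < (Finset.univ : Finset I).card := by rw [Finset.card_univ]; omega
    obtain ⟨i₁, -, i₂, -, h12⟩ := Finset.one_lt_card.mp h1
    by_cases h : i = i₁
    · exact ⟨i₂, h ▸ h12⟩
    · exact ⟨i₁, h⟩
  have hJ2 : ∀ j : J, ∃ j', j ≠ j' := by
    intro j
    have h1 : 1 < (Finset.univ : Finset J).card := by rw [Finset.card_univ]; omega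
    obtain ⟨j₁, -, j₂, -, h12⟩ := Finset.one_lt_card.mp h1
    by_cases h : j = j₁
    · exact ⟨j₂, h ▸ h12⟩
    · exact ⟨j₁, h⟩
  have hrow : ∀ i, ∃ x, ∀ j, x ∈ D i j := by
    intro i
    obtain ⟨i', hi⟩ := hI2 i
    exact C.row_center hL hJ i i' hi
  have hLT : NoL (fun j i => D i j) :=
    fun j j' i₀ i₁ x hj hi h1 h2 h3 => hL i₀ i₁ j j' x hi hj h1 h3 h2
  have hcol : ∀ j, ∃ y, ∀ i, y ∈ D i j := by
    intro j
    obtain ⟨j', hj⟩ := hJ2 j
    exact C.transpose.row_center hLT hI j j' hj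
  choose x hx using hrow
  choose y hy using hcol
  refine ⟨x, y, hx, fun i j => hy j i, ?_, ?_⟩
  · intro i i' j hii
    obtain ⟨j', hj⟩ := hJ2 j
    refine ⟨fun h => hL i i' j j' (x i) (Ne.symm hii) hj (hx i j) (hx i j') h, ?_⟩
    exact C.col_no i i' j (x i) (Ne.symm hii) (hx i j)
  · intro i j j' hjj
    obtain ⟨i', hi⟩ := hI2 i
    refine ⟨fun h => hL i i' j j' (y j) hi (Ne.symm hjj) (hy j i) h (hy j i'), ?_⟩
    exact C.row_no i j j' (y j) (Ne.symm hjj) (hy j i)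

/-- if the columns of a configuration with four columns are permuted transitively by symmetries
fixing the rows, then no element of a row misses exactly one cell of that row -/
theorem Cfg.noTriple_of_symm (C : Cfg neg D) [Fintype J] [DecidableEq J]
    (h4 : Fintype.card J = 4)
    (hsym : ∀ j₀ j₁ : J, ∃ (g : E → E) (π : J → J), Function.Injective π ∧ π j₁ = j₀ ∧
      ∀ i j z, z ∈ D i j → g z ∈ D i (π j)) :
    ∀ i z j₀, z ∉ D i j₀ → ∃ j₁, j₁ ≠ j₀ ∧ z ∉ D i j₁ := by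
  intro i z j₀ hz
  by_contra hcon
  push Not at hcon
  -- some other column
  have h1 : 1 < (Finset.univ : Finset J).card := by rw [Finset.card_univ]; omega
  obtain ⟨ja, -, jb, -, hab⟩ := Finset.one_lt_card.mp h1
  obtain ⟨j₁, hj₁⟩ : ∃ j₁, j₁ ≠ j₀ := by
    by_cases h : ja = j₀
    · exact ⟨jb, fun h' => hab (h.trans h'.symm)⟩
    · exact ⟨ja, h⟩
  obtain ⟨g, π, hπ, hπ1, hg⟩ := hsym j₀ j₁
  have hπ0 : π j₀ ≠ j₀ := fun h => hj₁ (hπ (hπ1.trans h.symm))
  have hgz0 : g z ∈ D i j₀ := hπ1 ▸ hg i j₁ z (hcon j₁ hj₁)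
  have hgz : g z ≠ z := fun h => hz (h ▸ hgz0)
  -- two further columns
  have hcard : ((Finset.univ : Finset J) \ {j₀, π j₀}).card = 2 := by
    have e1 : ((Finset.univ : Finset J) \ {j₀, π j₀}).card =
        Fintype.card J - ({j₀, π j₀} : Finset J).card := by
      rw [Finset.card_sdiff_of_subset (Finset.subset_univ _), Finset.card_univ]
    have e2 : ({j₀, π j₀} : Finset J).card = 2 := Finset.card_pair (Ne.symm hπ0)
    omega
  obtain ⟨j₂, j₃, h23, hS⟩ := Finset.card_eq_two.mp hcard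
  have m2 : j₂ ∈ (Finset.univ : Finset J) \ {j₀, π j₀} := by rw [hS]; simp
  have m3 : j₃ ∈ (Finset.univ : Finset J) \ {j₀, π j₀} := by rw [hS]; simp
  simp only [Finset.mem_sdiff, Finset.mem_univ, true_and, Finset.mem_insert,
    Finset.mem_singleton, not_or] at m2 m3
  -- `g z` lies in every cell except possibly `π j₀`
  have hgall : ∀ j, j ≠ π j₀ → g z ∈ D i j := by
    intro j hj
    have hsurj : Function.Surjective π := Finite.surjective_of_injective hπ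
    obtain ⟨j', rfl⟩ := hsurj j
    have : j' ≠ j₀ := fun h => hj (h ▸ rfl)
    exact hg i j' z (hcon j' this)
  exact hgz (C.row_un i j₂ j₃ _ _ h23 (hgall j₂ m2.2) (hgall j₃ m3.2) (hcon j₂ m2.1)
    (hcon j₃ m3.1))

end

end Cfsg.Agent.Lib.Helper29.CTI
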