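import Mathlib
import Cfsg.Agent.Lib.Helper29.CTICore
import Cfsg.Agent.Lib.Helper11.CyclicTIUnique
import Cfsg.Agent.Lib.Helper11.CyclicTI
import Cfsg.Agent.Lib.Helper11.Coherence
import Cfsg.Agent.Lib.helper7.BSCore

/-!
# From virtual characters of norm 3 to the combinatorial configuration
-/

set_option autoImplicit false
open scoped ComplexConjugate

namespace Cfsg.Agent.Lib.Helper29.CTI

open Cfsg.Agent.Lib.Helper11 Cfsg.Agent.Lib.helper7 Cfsg.Agent.Lib.Helper25 Cfsg.Agent.Lib.helper2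

variable {G : Type*} [Group G] [Fintype G]

/-- `θ` is the sum of three pairwise orthogonal signed irreducibles -/
structure Dec3 (θ a b c : G → ℂ) : Prop where
  ha : IsSignedIrr G a
  hb : IsSignedIrr G b
  hc : IsSignedIrr G c
  ab : Cfsg.classInner a b = 0
  ac : Cfsg.classInner a c = 0
  bc : Cfsg.classInner b c = 0
  eq : θ = a + b + c

theorem signedIrr_of_irr {χ : G → ℂ} (h : Cfsg.IsIrrCharacter G χ) : IsSignedIrr G χ := Or.inl h

theorem signedIrr_smul_int {χ : G → ℂ} (h : Cfsg.IsIrrCharacter G χ) {c : ℤ}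
    (hc : c = 1 ∨ c = -1) : IsSignedIrr G ((c : ℂ) • χ) := by
  rcases hc with rfl | rfl
  · left; simpa using h
  · right; simpa using h

theorem signedIrr_genChar {e : G → ℂ} (h : IsSignedIrr G e) : Cfsg.IsGeneralizedCharacter G e := by
  rcases h with h | h
  · exact ⟨e, 0, h7_irr_isCharacter h, isCharacter_zero G, by simp⟩
  · exact ⟨0, -e, isCharacter_zero G, h7_irr_isCharacter h, by simp⟩

theorem signedIrr_one_ne_zero {e : G → ℂ} (h : IsSignedIrr G e) : e 1 ≠ 0 := by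
  rcases h with h | h
  · exact irr_one_ne_zero ⟨e, h⟩
  · have := irr_one_ne_zero ⟨-e, h⟩
    simpa using this

theorem signedIrr_inner_swap {a b : G → ℂ} (h : Cfsg.classInner a b = 0) :
    Cfsg.classInner b a = 0 := by
  rw [Helper11.classInner_conj_symm, h, map_zero]

/-- a generalized character of norm 3 is a sum of three orthogonal signed irreducibles -/
theorem exists_dec3 (θ : G → ℂ) (hθ : Cfsg.IsGeneralizedCharacter G θ)
    (h3 : Cfsg.classInner θ θ = 3) : ∃ a b c, Dec3 θ a b c := by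
  classical
  have : Fintype (Cfsg.IrrCharacter G) := Fintype.ofFinite _
  have hcl := genChar_classFunction θ hθ
  have hc := fun η => genChar_inner_int θ hθ η
  choose c hc using hc
  have hpar := classInner_parseval θ hcl
  rw [h3] at hpar
  simp only [hc, map_intCast] at hpar
  have hpar' : ∑ η : Cfsg.IrrCharacter G, c η * c η = 3 := by
    have : ((∑ η : Cfsg.IrrCharacter G, c η * c η : ℤ) : ℂ) = 3 := by
      rw [hpar]
      push_cast
      rfl
    exact_mod_cast this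
  have hex : ∃ η₁, c η₁ ≠ 0 := by
    by_contra hcon
    push Not at hcon
    simp only [hcon, mul_zero, Finset.sum_const_zero] at hpar'
    exact absurd hpar' (by norm_num)
  obtain ⟨η₁, hη₁⟩ := hex
  have hsplit : c η₁ * c η₁ + ∑ η ∈ Finset.univ.erase η₁, c η * c η = 3 :=
    (Finset.add_sum_erase _ (fun η => c η * c η) (Finset.mem_univ η₁)).trans hpar'
  have hnn : 0 ≤ ∑ η ∈ Finset.univ.erase η₁, c η * c η :=
    Finset.sum_nonneg (fun i _ => mul_self_nonneg _)
  have hc1 : c η₁ = 1 ∨ c η₁ = -1 := by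
    have hle : c η₁ * c η₁ ≤ 3 := by omega
    have : c η₁ < 2 ∧ -2 < c η₁ := by constructor <;> nlinarith
    omega
  -- subtract the first constituent
  set θ' : G → ℂ := θ - (c η₁ : ℂ) • (η₁ : G → ℂ) with hθ'
  have hs1 : IsSignedIrr G ((c η₁ : ℂ) • (η₁ : G → ℂ)) := signedIrr_smul_int η₁.2 hc1
  have hθ'gen : Cfsg.IsGeneralizedCharacter G θ' := genChar_sub hθ (signedIrr_genChar hs1)
  have hcc : (c η₁ : ℂ) * (c η₁ : ℂ) = 1 := by
    rcases hc1 with h | h <;> rw [h] <;> norm_num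
  have hconj : conj (c η₁ : ℂ) = (c η₁ : ℂ) := by simp
  have hin1 : Cfsg.classInner θ ((c η₁ : ℂ) • (η₁ : G → ℂ)) = 1 := by
    rw [h7_classInner_smul_right, hc, hconj, hcc]
  have hin2 : Cfsg.classInner ((c η₁ : ℂ) • (η₁ : G → ℂ)) θ = 1 := by
    rw [Helper11.classInner_conj_symm, hin1, map_one]
  have hθ'norm : Cfsg.classInner θ' θ' = 2 := by
    rw [hθ', classInner_sub_left', classInner_sub_right', classInner_sub_right', h3, hin1, hin2,
      signedIrr_norm hs1]
    norm_num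
  obtain ⟨η₂, η₃, c₂, c₃, hne, hc₂, hc₃, hsum⟩ := h7_genChar_norm_two θ' hθ'gen hθ'norm
  have hθ'η₁ : Cfsg.classInner θ' (η₁ : G → ℂ) = 0 := by
    rw [hθ', classInner_sub_left', hc, classInner_smul_left', irr_classInner, if_pos rfl]
    ring
  have hη₁₂ : η₁ ≠ η₂ ∧ η₁ ≠ η₃ := by
    rw [hsum, classInner_add_left', classInner_smul_left', classInner_smul_left',
      irr_classInner, irr_classInner] at hθ'η₁
    have hc₂' : (c₂ : ℂ) ≠ 0 := by rcases hc₂ with h | h <;> rw [h] <;> norm_num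
    have hc₃' : (c₃ : ℂ) ≠ 0 := by rcases hc₃ with h | h <;> rw [h] <;> norm_num
    constructor
    · intro h
      have h31 : ¬ η₃ = η₁ := fun h' => hne (h.symm.trans h'.symm)
      rw [if_pos h.symm, if_neg h31] at hθ'η₁
      simp at hθ'η₁
      exact hc₂' (by exact_mod_cast hθ'η₁)
    · intro h
      have h21 : ¬ η₂ = η₁ := fun h' => hne (h'.trans h)
      rw [if_pos h.symm, if_neg h21] at hθ'η₁
      simp at hθ'η₁
      exact hc₃' (by exact_mod_cast hθ'η₁)
  refine ⟨(c η₁ : ℂ) • (η₁ : G → ℂ), (c₂ : ℂ) • (η₂ : G → ℂ), (c₃ : ℂ) • (η₃ : G → ℂ),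
    ⟨hs1, signedIrr_smul_int η₂.2 hc₂, signedIrr_smul_int η₃.2 hc₃, ?_, ?_, ?_, ?_⟩⟩
  · rw [classInner_smul_left', h7_classInner_smul_right, irr_classInner, if_neg hη₁₂.1]; ring
  · rw [classInner_smul_left', h7_classInner_smul_right, irr_classInner, if_neg hη₁₂.2]; ring
  · rw [classInner_smul_left', h7_classInner_smul_right, irr_classInner, if_neg hne]; ring
  · have : θ = (c η₁ : ℂ) • (η₁ : G → ℂ) + θ' := by rw [hθ']; ring
    rw [this, hsum]; ring

theorem Dec3.inner_left {θ a b c : G → ℂ} (h : Dec3 θ a b c) (f : G → ℂ) :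
    Cfsg.classInner θ f = Cfsg.classInner a f + Cfsg.classInner b f + Cfsg.classInner c f := by
  rw [h.eq, classInner_add_left', classInner_add_left']

theorem Dec3.inner_right {θ a b c : G → ℂ} (h : Dec3 θ a b c) (f : G → ℂ) :
    Cfsg.classInner f θ = Cfsg.classInner f a + Cfsg.classInner f b + Cfsg.classInner f c := by
  rw [h.eq, classInner_add_right', classInner_add_right']

theorem Dec3.norm {θ a b c : G → ℂ} (h : Dec3 θ a b c) : Cfsg.classInner θ θ = 3 := by
  rw [h.inner_left, h.inner_right, h.inner_right, h.inner_right, signedIrr_norm h.ha,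
    signedIrr_norm h.hb, signedIrr_norm h.hc, h.ab, h.ac, h.bc, signedIrr_inner_swap h.ab,
    signedIrr_inner_swap h.ac, signedIrr_inner_swap h.bc]
  norm_num

theorem Dec3.swap23 {θ a b c : G → ℂ} (h : Dec3 θ a b c) : Dec3 θ a c b :=
  ⟨h.ha, h.hc, h.hb, h.ac, h.ab, signedIrr_inner_swap h.bc, by rw [h.eq]; ring⟩

theorem Dec3.swap13 {θ a b c : G → ℂ} (h : Dec3 θ a b c) : Dec3 θ c b a :=
  ⟨h.hc, h.hb, h.ha, signedIrr_inner_swap h.bc, signedIrr_inner_swap h.ac,
    signedIrr_inner_swap h.ab, by rw [h.eq]; ring⟩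

theorem Dec3.genChar {θ a b c : G → ℂ} (h : Dec3 θ a b c) : Cfsg.IsGeneralizedCharacter G θ := by
  rw [h.eq]
  exact genChar_add (genChar_add (signedIrr_genChar h.ha) (signedIrr_genChar h.hb))
    (signedIrr_genChar h.hc)

theorem ne_of_inner_zero {u e : G → ℂ} (hu : IsSignedIrr G u) (h : Cfsg.classInner u e = 0) :
    e ≠ u ∧ e ≠ -u := by
  constructor
  · rintro rfl
    rw [signedIrr_norm hu] at h
    exact one_ne_zero h
  · rintro rfl
    rw [classInner_neg_right, signedIrr_norm hu] at h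
    norm_num at h

/-- the inner product of a sum of three orthogonal signed irreducibles with a signed irreducible -/
theorem Dec3.trit {θ a b c : G → ℂ} (h : Dec3 θ a b c) {e : G → ℂ} (he : IsSignedIrr G e) :
    (Cfsg.classInner θ e = 1 ∧ (e = a ∨ e = b ∨ e = c)) ∨
    (Cfsg.classInner θ e = -1 ∧ (e = -a ∨ e = -b ∨ e = -c)) ∨
    (Cfsg.classInner θ e = 0 ∧ e ≠ a ∧ e ≠ b ∧ e ≠ c ∧ e ≠ -a ∧ e ≠ -b ∧ e ≠ -c) := by
  have hab := signedIrr_atmost he h.ha h.hb h.ab
  have hac := signedIrr_atmost he h.ha h.hc h.ac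
  have hbc := signedIrr_atmost he h.hb h.hc h.bc
  have ea := signedIrr_inner h.ha he
  have eb := signedIrr_inner h.hb he
  have ec := signedIrr_inner h.hc he
  rw [h.inner_left]
  by_cases ta : Cfsg.classInner a e = 0
  · by_cases tb : Cfsg.classInner b e = 0
    · by_cases tc : Cfsg.classInner c e = 0
      · right; right
        obtain ⟨h1, h2⟩ := ne_of_inner_zero h.ha ta
        obtain ⟨h3, h4⟩ := ne_of_inner_zero h.hb tb
        obtain ⟨h5, h6⟩ := ne_of_inner_zero h.hc tc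
        exact ⟨by rw [ta, tb, tc]; norm_num, h1, h3, h5, h2, h4, h6⟩
      · rcases ec with h0 | ⟨h1, h2⟩ | ⟨h1, h2⟩
        · exact absurd h0 tc
        · left; exact ⟨by rw [ta, tb, h1]; norm_num, Or.inr (Or.inr h2.symm)⟩
        · right; left
          exact ⟨by rw [ta, tb, h1]; norm_num, Or.inr (Or.inr (by rw [h2, neg_neg]))⟩
    · have tc : Cfsg.classInner c e = 0 := hbc.resolve_left tb
      rcases eb with h0 | ⟨h1, h2⟩ | ⟨h1, h2⟩
      · exact absurd h0 tb
      · left; exact ⟨by rw [ta, tc, h1]; norm_num, Or.inr (Or.inl h2.symm)⟩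
      · right; left
        exact ⟨by rw [ta, tc, h1]; norm_num, Or.inr (Or.inl (by rw [h2, neg_neg]))⟩
  · have tb : Cfsg.classInner b e = 0 := hab.resolve_left ta
    have tc : Cfsg.classInner c e = 0 := hac.resolve_left ta
    rcases ea with h0 | ⟨h1, h2⟩ | ⟨h1, h2⟩
    · exact absurd h0 ta
    · left; exact ⟨by rw [tb, tc, h1]; norm_num, Or.inl h2.symm⟩
    · right; left
      exact ⟨by rw [tb, tc, h1]; norm_num, Or.inl (by rw [h2, neg_neg])⟩

theorem Dec3.trit_val {θ a b c : G → ℂ} (h : Dec3 θ a b c) {e : G → ℂ} (he : IsSignedIrr G e) :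
    Cfsg.classInner θ e = 1 ∨ Cfsg.classInner θ e = 0 ∨ Cfsg.classInner θ e = -1 := by
  rcases h.trit he with h | h | h
  · exact Or.inl h.1
  · exact Or.inr (Or.inr h.1)
  · exact Or.inr (Or.inl h.1)

theorem Dec3.mem_iff {θ a b c : G → ℂ} (h : Dec3 θ a b c) {e : G → ℂ} (he : IsSignedIrr G e) :
    Cfsg.classInner θ e = 1 ↔ (e = a ∨ e = b ∨ e = c) := by
  constructor
  · intro h1
    rcases h.trit he with h' | h' | h'
    · exact h'.2
    · rw [h'.1] at h1; norm_num at h1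
    · rw [h'.1] at h1; norm_num at h1
  · intro h1
    rcases h.trit he with h' | h' | h'
    · exact h'.1
    · exfalso
      have hne : ∀ {u v : G → ℂ}, IsSignedIrr G u → Cfsg.classInner u v = 0 → u ≠ -v := by
        intro u v hu huv huv'
        rw [huv', classInner_neg_left] at huv
        have := signedIrr_norm (G := G) (α := v) (by
          rcases hu with hu | hu
          · right; rw [huv'] at hu; exact hu
          · left; rw [huv', neg_neg] at hu; exact hu)
        rw [this] at huv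
        norm_num at huv
      have hself : ∀ {u : G → ℂ}, IsSignedIrr G u → u ≠ -u := by
        intro u hu huu
        have := signedIrr_one_ne_zero hu
        have h1 := congrFun huu 1
        simp only [Pi.neg_apply] at h1
        apply this
        linear_combination (1/2 : ℂ) * h1
      rcases h1 with rfl | rfl | rfl <;> rcases h'.2 with h2 | h2 | h2
      · exact hself h.ha h2
      · exact hne h.ha h.ab h2
      · exact hne h.ha h.ac h2
      · exact hne h.hb (signedIrr_inner_swap h.ab) h2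
      · exact hself h.hb h2
      · exact hne h.hb h.bc h2
      · exact hne h.hc (signedIrr_inner_swap h.ac) h2
      · exact hne h.hc (signedIrr_inner_swap h.bc) h2
      · exact hself h.hc h2
    · exfalso
      rcases h1 with rfl | rfl | rfl
      · exact h'.2.1 rfl
      · exact h'.2.2.1 rfl
      · exact h'.2.2.2.1 rfl

/-- three values in `{1, 0, -1}` with sum `1` -/
theorem trits_sum_one {x y z : ℂ} (hx : x = 1 ∨ x = 0 ∨ x = -1) (hy : y = 1 ∨ y = 0 ∨ y = -1)
    (hz : z = 1 ∨ z = 0 ∨ z = -1) (hs : x + y + z = 1) :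
    (x = 1 ∧ y = 0 ∧ z = 0) ∨ (x = 0 ∧ y = 1 ∧ z = 0) ∨ (x = 0 ∧ y = 0 ∧ z = 1) ∨
      (x = 1 ∧ y = 1 ∧ z = -1) ∨ (x = 1 ∧ y = -1 ∧ z = 1) ∨ (x = -1 ∧ y = 1 ∧ z = 1) := by
  rcases hx with rfl | rfl | rfl <;> rcases hy with rfl | rfl | rfl <;>
    rcases hz with rfl | rfl | rfl <;> first | (exfalso; norm_num at hs; done) | norm_num

/-- three values in `{1, 0, -1}` with sum `0` -/
theorem trits_sum_zero {x y z : ℂ} (hx : x = 1 ∨ x = 0 ∨ x = -1) (hy : y = 1 ∨ y = 0 ∨ y = -1)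
    (hz : z = 1 ∨ z = 0 ∨ z = -1) (hs : x + y + z = 0) :
    (x = 0 ∧ y = 0 ∧ z = 0) ∨ (x = 1 ∧ y = -1 ∧ z = 0) ∨ (x = -1 ∧ y = 1 ∧ z = 0) ∨
      (x = 1 ∧ y = 0 ∧ z = -1) ∨ (x = -1 ∧ y = 0 ∧ z = 1) ∨ (x = 0 ∧ y = 1 ∧ z = -1) ∨
      (x = 0 ∧ y = -1 ∧ z = 1) := by
  rcases hx with rfl | rfl | rfl <;> rcases hy with rfl | rfl | rfl <;>
    rcases hz with rfl | rfl | rfl <;> first | (exfalso; norm_num at hs; done) | norm_num

/-- two norm-3 virtual characters of the same degree cannot share two constituents and have a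
third one with opposite signs -/
theorem Dec3.degree_absurd {θ a b c θ' : G → ℂ} (h : Dec3 θ a b c)
    (h3 : Cfsg.classInner θ' θ' = 3) (ha : Cfsg.classInner θ' a = 1)
    (hb : Cfsg.classInner θ' b = 1) (hc : Cfsg.classInner θ' c = -1) (hdeg : θ 1 = θ' 1) :
    False := by
  have hd : Dec3 (a + b + -c) a b (-c) :=
    ⟨h.ha, h.hb, signedIrr_neg h.hc, h.ab, by rw [classInner_neg_right, h.ac, neg_zero],
      by rw [classInner_neg_right, h.bc, neg_zero], rfl⟩
  have h1 : Cfsg.classInner θ' (a + b + -c) = 3 := by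
    rw [hd.inner_right, ha, hb, classInner_neg_right, hc]; norm_num
  have h2 : Cfsg.classInner (a + b + -c) θ' = 3 := by
    rw [Helper11.classInner_conj_symm, h1]; exact map_ofNat _ 3
  have h0 : Cfsg.classInner (θ' - (a + b + -c)) (θ' - (a + b + -c)) = 0 := by
    rw [classInner_sub_left', classInner_sub_right', classInner_sub_right', h3, h1, h2, hd.norm]
    norm_num
  have hz := eq_zero_of_classInner_self _ h0
  have he : θ' = a + b + -c := sub_eq_zero.mp hz
  have h1' := congrFun he 1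
  have h2' := congrFun h.eq 1
  simp only [Pi.add_apply, Pi.neg_apply] at h1' h2'
  apply signedIrr_one_ne_zero h.hc
  linear_combination (1/2 : ℂ) * hdeg + (1/2 : ℂ) * h1' - (1/2 : ℂ) * h2'

/-- the type of signed irreducible characters -/
abbrev SIrr (G : Type*) [Group G] := {e : G → ℂ // IsSignedIrr G e}

/-- the opposite of a signed irreducible character -/
def sneg (e : SIrr G) : SIrr G := ⟨-e.1, signedIrr_neg e.2⟩

/-- the signed irreducible constituents of a virtual character of norm 3 -/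
def cell (θ : G → ℂ) : Set (SIrr G) := {e | Cfsg.classInner θ e.1 = 1}

theorem mem_cell (θ : G → ℂ) (e : SIrr G) : e ∈ cell θ ↔ Cfsg.classInner θ e.1 = 1 := Iff.rfl

theorem sneg_mem_cell (θ : G → ℂ) (e : SIrr G) :
    sneg e ∈ cell θ ↔ Cfsg.classInner θ e.1 = -1 := by
  rw [mem_cell]
  show Cfsg.classInner θ (-e.1) = 1 ↔ _
  rw [classInner_neg_right, neg_eq_iff_eq_neg]

/-- the constituents of two norm-3 virtual characters of the same degree with inner product 1 -/
theorem line_cfg {θ θ' : G → ℂ} (hθ : ∃ a b c, Dec3 θ a b c) (hθ' : ∃ a b c, Dec3 θ' a b c)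
    (hin : Cfsg.classInner θ θ' = 1) (hdeg : θ 1 = θ' 1) :
    (∃ x, x ∈ cell θ ∧ x ∈ cell θ') ∧
    (∀ x y, x ∈ cell θ → x ∈ cell θ' → y ∈ cell θ → y ∈ cell θ' → x = y) ∧
    (∀ x, x ∈ cell θ → sneg x ∉ cell θ') := by
  obtain ⟨a, b, c, h⟩ := hθ
  obtain ⟨a', b', c', h'⟩ := hθ'
  have hin' : Cfsg.classInner θ' θ = 1 := by rw [Helper11.classInner_conj_symm, hin, map_one]
  have hs : Cfsg.classInner θ' a + Cfsg.classInner θ' b + Cfsg.classInner θ' c = 1 := by
    rw [← h.inner_right, hin']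
  have hma : (⟨a, h.ha⟩ : SIrr G) ∈ cell θ := (h.mem_iff h.ha).2 (Or.inl rfl)
  have hmb : (⟨b, h.hb⟩ : SIrr G) ∈ cell θ := (h.mem_iff h.hb).2 (Or.inr (Or.inl rfl))
  have hmc : (⟨c, h.hc⟩ : SIrr G) ∈ cell θ := (h.mem_iff h.hc).2 (Or.inr (Or.inr rfl))
  -- the pattern
  have pat : (Cfsg.classInner θ' a = 1 ∧ Cfsg.classInner θ' b = 0 ∧ Cfsg.classInner θ' c = 0) ∨
      (Cfsg.classInner θ' a = 0 ∧ Cfsg.classInner θ' b = 1 ∧ Cfsg.classInner θ' c = 0) ∨
      (Cfsg.classInner θ' a = 0 ∧ Cfsg.classInner θ' b = 0 ∧ Cfsg.classInner θ' c = 1) := by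
    rcases trits_sum_one (h'.trit_val h.ha) (h'.trit_val h.hb) (h'.trit_val h.hc) hs with
      p | p | p | p | p | p
    · exact Or.inl p
    · exact Or.inr (Or.inl p)
    · exact Or.inr (Or.inr p)
    · exact (h.degree_absurd h'.norm p.1 p.2.1 p.2.2 hdeg).elim
    · exact (h.swap23.degree_absurd h'.norm p.1 p.2.2 p.2.1 hdeg).elim
    · exact (h.swap13.degree_absurd h'.norm p.2.2 p.2.1 p.1 hdeg).elim
  have key : ∀ x : SIrr G, x ∈ cell θ → (Cfsg.classInner θ' x.1 = Cfsg.classInner θ' a ∧ x.1 = a) ∨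
      (Cfsg.classInner θ' x.1 = Cfsg.classInner θ' b ∧ x.1 = b) ∨
      (Cfsg.classInner θ' x.1 = Cfsg.classInner θ' c ∧ x.1 = c) := by
    intro x hx
    rcases (h.mem_iff x.2).1 hx with e | e | e
    · exact Or.inl ⟨by rw [e], e⟩
    · exact Or.inr (Or.inl ⟨by rw [e], e⟩)
    · exact Or.inr (Or.inr ⟨by rw [e], e⟩)
  refine ⟨?_, ?_, ?_⟩
  · rcases pat with p | p | p
    · exact ⟨⟨a, h.ha⟩, hma, p.1⟩
    · exact ⟨⟨b, h.hb⟩, hmb, p.2.1⟩
    · exact ⟨⟨c, h.hc⟩, hmc, p.2.2⟩
  · intro x y hx hx' hy hy'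
    rw [mem_cell] at hx' hy'
    apply Subtype.ext
    rcases pat with p | p | p <;> rcases key x hx with ⟨e, ex⟩ | ⟨e, ex⟩ | ⟨e, ex⟩ <;>
      rcases key y hy with ⟨f, fy⟩ | ⟨f, fy⟩ | ⟨f, fy⟩ <;>
      first
        | (rw [ex, fy]; done)
        | (exfalso; rw [e] at hx'; rw [p.1] at hx'; norm_num at hx'; done)
        | (exfalso; rw [e] at hx'; rw [p.2.1] at hx'; norm_num at hx'; done)
        | (exfalso; rw [e] at hx'; rw [p.2.2] at hx'; norm_num at hx'; done)
        | (exfalso; rw [f] at hy'; rw [p.1] at hy'; norm_num at hy'; done)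
        | (exfalso; rw [f] at hy'; rw [p.2.1] at hy'; norm_num at hy'; done)
        | (exfalso; rw [f] at hy'; rw [p.2.2] at hy'; norm_num at hy'; done)
  · intro x hx hx'
    rw [sneg_mem_cell] at hx'
    rcases pat with p | p | p <;> rcases key x hx with ⟨e, -⟩ | ⟨e, -⟩ | ⟨e, -⟩ <;>
      first
        | (rw [e] at hx'; rw [p.1] at hx'; norm_num at hx'; done)
        | (rw [e] at hx'; rw [p.2.1] at hx'; norm_num at hx'; done)
        | (rw [e] at hx'; rw [p.2.2] at hx'; norm_num at hx'; done)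

/-- the constituents of two orthogonal norm-3 virtual characters -/
theorem cross_cfg {θ θ' : G → ℂ} (hθ : ∃ a b c, Dec3 θ a b c) (hθ' : ∃ a b c, Dec3 θ' a b c)
    (hin : Cfsg.classInner θ θ' = 0) :
    (∀ x, x ∈ cell θ → x ∈ cell θ' → ∃ y, y ∈ cell θ ∧ sneg y ∈ cell θ') ∧
    (∀ y, y ∈ cell θ → sneg y ∈ cell θ' → ∃ x, x ∈ cell θ ∧ x ∈ cell θ') := by
  obtain ⟨a, b, c, h⟩ := hθ
  obtain ⟨a', b', c', h'⟩ := hθ'
  have hin' : Cfsg.classInner θ' θ = 0 := by rw [Helper11.classInner_conj_symm, hin, map_zero]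
  have hs : Cfsg.classInner θ' a + Cfsg.classInner θ' b + Cfsg.classInner θ' c = 0 := by
    rw [← h.inner_right, hin']
  have hma : (⟨a, h.ha⟩ : SIrr G) ∈ cell θ := (h.mem_iff h.ha).2 (Or.inl rfl)
  have hmb : (⟨b, h.hb⟩ : SIrr G) ∈ cell θ := (h.mem_iff h.hb).2 (Or.inr (Or.inl rfl))
  have hmc : (⟨c, h.hc⟩ : SIrr G) ∈ cell θ := (h.mem_iff h.hc).2 (Or.inr (Or.inr rfl))
  have pat := trits_sum_zero (h'.trit_val h.ha) (h'.trit_val h.hb) (h'.trit_val h.hc) hs
  have key : ∀ x : SIrr G, x ∈ cell θ → Cfsg.classInner θ' x.1 = Cfsg.classInner θ' a ∨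
      Cfsg.classInner θ' x.1 = Cfsg.classInner θ' b ∨
      Cfsg.classInner θ' x.1 = Cfsg.classInner θ' c := by
    intro x hx
    rcases (h.mem_iff x.2).1 hx with e | e | e
    · exact Or.inl (by rw [e])
    · exact Or.inr (Or.inl (by rw [e]))
    · exact Or.inr (Or.inr (by rw [e]))
  have na : Cfsg.classInner θ' a = -1 → sneg (⟨a, h.ha⟩ : SIrr G) ∈ cell θ' :=
    fun hh => (sneg_mem_cell θ' _).2 hh
  have nb : Cfsg.classInner θ' b = -1 → sneg (⟨b, h.hb⟩ : SIrr G) ∈ cell θ' :=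
    fun hh => (sneg_mem_cell θ' _).2 hh
  have nc : Cfsg.classInner θ' c = -1 → sneg (⟨c, h.hc⟩ : SIrr G) ∈ cell θ' :=
    fun hh => (sneg_mem_cell θ' _).2 hh
  constructor
  · intro x hx hx'
    rw [mem_cell] at hx'
    rcases pat with p | p | p | p | p | p | p
    · exfalso
      rcases key x hx with e | e | e <;> rw [e] at hx'
      · rw [p.1] at hx'; norm_num at hx'
      · rw [p.2.1] at hx'; norm_num at hx'
      · rw [p.2.2] at hx'; norm_num at hx'
    · exact ⟨_, hmb, nb p.2.1⟩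
    · exact ⟨_, hma, na p.1⟩
    · exact ⟨_, hmc, nc p.2.2⟩
    · exact ⟨_, hma, na p.1⟩
    · exact ⟨_, hmc, nc p.2.2⟩
    · exact ⟨_, hmb, nb p.2.1⟩
  · intro y hy hy'
    rw [sneg_mem_cell] at hy'
    rcases pat with p | p | p | p | p | p | p
    · exfalso
      rcases key y hy with e | e | e <;> rw [e] at hy'
      · rw [p.1] at hy'; norm_num at hy'
      · rw [p.2.1] at hy'; norm_num at hy'
      · rw [p.2.2] at hy'; norm_num at hy'
    · exact ⟨_, hma, p.1⟩
    · exact ⟨_, hmb, p.2.1⟩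
    · exact ⟨_, hma, p.1⟩
    · exact ⟨_, hmc, p.2.2⟩
    · exact ⟨_, hmb, p.2.1⟩
    · exact ⟨_, hmc, p.2.2⟩

/-- the combinatorial configuration attached to an array of virtual characters with the Gram
matrix of Peterfalvi (3.5) -/
theorem cfg_of_gram {I J : Type*} [DecidableEq I] [DecidableEq J] (β : I → J → G → ℂ)
    (hgen : ∀ i j, Cfsg.IsGeneralizedCharacter G (β i j))
    (hgram : ∀ i j i' j', Cfsg.classInner (β i j) (β i' j') =
      (if i = i' then 1 else 0) + (if j = j' then 1 else 0) +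
        (if i = i' then 1 else 0) * (if j = j' then 1 else 0))
    (hdeg : ∀ i j i' j', β i j 1 = β i' j' 1) :
    Cfg (sneg (G := G)) (fun i j => cell (β i j)) := by
  have hdec : ∀ i j, ∃ a b c, Dec3 (β i j) a b c := by
    intro i j
    apply exists_dec3 _ (hgen i j)
    rw [hgram, if_pos rfl, if_pos rfl]; norm_num
  have hline : ∀ i j i' j', (i = i' ∧ j ≠ j') ∨ (i ≠ i' ∧ j = j') →
      Cfsg.classInner (β i j) (β i' j') = 1 := by
    intro i j i' j' hh
    rw [hgram]
    rcases hh with ⟨h1, h2⟩ | ⟨h1, h2⟩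
    · rw [if_pos h1, if_neg h2]; norm_num
    · rw [if_neg h1, if_pos h2]; norm_num
  have hcross : ∀ i j i' j', i ≠ i' → j ≠ j' → Cfsg.classInner (β i j) (β i' j') = 0 := by
    intro i j i' j' h1 h2
    rw [hgram, if_neg h1, if_neg h2]; norm_num
  refine ⟨?_, ?_, ?_, ?_, ?_, ?_, ?_, ?_, ?_, ?_, ?_⟩
  · intro x
    apply Subtype.ext
    show - - x.1 = x.1
    rw [neg_neg]
  · intro i j
    obtain ⟨a, b, c, h⟩ := hdec i j
    have hne : ∀ {u v : G → ℂ}, IsSignedIrr G u → Cfsg.classInner u v = 0 → u ≠ v := by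
      intro u v hu huv e
      rw [← e, signedIrr_norm hu] at huv
      exact one_ne_zero huv
    refine ⟨⟨a, h.ha⟩, ⟨b, h.hb⟩, ⟨c, h.hc⟩, ?_, ?_, ?_, ?_⟩
    · intro e; exact hne h.ha h.ab (congrArg Subtype.val e)
    · intro e; exact hne h.ha h.ac (congrArg Subtype.val e)
    · intro e; exact hne h.hb h.bc (congrArg Subtype.val e)
    · intro x
      rw [mem_cell, h.mem_iff x.2]
      simp only [Subtype.ext_iff]
  · intro i j x hx hx'
    rw [sneg_mem_cell] at hx'
    rw [mem_cell] at hx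
    rw [hx] at hx'
    norm_num at hx'
  · intro i j j' hj
    exact (line_cfg (hdec i j) (hdec i j') (hline i j i j' (Or.inl ⟨rfl, hj⟩)) (hdeg _ _ _ _)).1
  · intro i j j' x y hj
    exact (line_cfg (hdec i j) (hdec i j') (hline i j i j' (Or.inl ⟨rfl, hj⟩))
      (hdeg _ _ _ _)).2.1 x y
  · intro i j j' x hj
    exact (line_cfg (hdec i j) (hdec i j') (hline i j i j' (Or.inl ⟨rfl, hj⟩))
      (hdeg _ _ _ _)).2.2 x
  · intro i i' j hi
    exact (line_cfg (hdec i j) (hdec i' j) (hline i j i' j (Or.inr ⟨hi, rfl⟩)) (hdeg _ _ _ _)).1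
  · intro i i' j x y hi
    exact (line_cfg (hdec i j) (hdec i' j) (hline i j i' j (Or.inr ⟨hi, rfl⟩))
      (hdeg _ _ _ _)).2.1 x y
  · intro i i' j x hi
    exact (line_cfg (hdec i j) (hdec i' j) (hline i j i' j (Or.inr ⟨hi, rfl⟩))
      (hdeg _ _ _ _)).2.2 x
  · intro i i' j j' x hi hj
    exact (cross_cfg (hdec i j) (hdec i' j') (hcross i j i' j' hi hj)).1 x
  · intro i i' j j' y hi hj
    exact (cross_cfg (hdec i j) (hdec i' j') (hcross i j i' j' hi hj)).2 y

end Cfsg.Agent.Lib.Helper29.CTI
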