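import Mathlib
import Cfsg.Agent.Lib.Helper29.CTIGlue
import Cfsg.Agent.Lib.Helper29.BSQ8Norm3
import Cfsg.Agent.Lib.Helper11.CyclicTIGalois
import Cfsg.Agent.Lib.helper7.Gallagher
import Cfsg.Agent.S1505

/-!
# The virtual characters `Ind((1-φ)(1-ψ)) - 1` of a self-normalising cyclic subgroup
-/

set_option autoImplicit false
open scoped ComplexConjugate

namespace Cfsg.Agent.Lib.Helper29.CTI

open Cfsg.Agent.Lib.Helper11 Cfsg.Agent.Lib.helper7 Cfsg.Agent.Lib.Helper25 Cfsg.Agent.Lib.helper2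

section
variable {G : Type*} [Group G] [Fintype G] (W₁ W₂ : Subgroup G)

/-- `β φ ψ = Ind((1-φ)(1-ψ)) - 1` -/
noncomputable def beta (φ ψ : ↥(W₁ ⊔ W₂) →* ℂˣ) : G → ℂ :=
  Cfsg.indFun (W₁ ⊔ W₂) (betaFun φ ψ) - fun _ => 1

theorem genChar_one' : Cfsg.IsGeneralizedCharacter G (fun _ : G => (1 : ℂ)) := by
  refine ⟨fun _ => 1, 0, ?_, isCharacter_zero G, by simp⟩
  have := (h7_linear_of_hom (1 : G →* ℂˣ)).1
  simpa using this

theorem betaFun_genChar {W : Type*} [Group W] (φ ψ : W →* ℂˣ) :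
    Cfsg.IsGeneralizedCharacter W (betaFun φ ψ) := by
  refine ⟨(fun w => ((1 : W →* ℂˣ) w : ℂ)) + (fun w => ((φ * ψ) w : ℂ)),
    (fun w => (φ w : ℂ)) + (fun w => (ψ w : ℂ)), isCharacter_add (h7_linear_of_hom _).1
      (h7_linear_of_hom _).1, isCharacter_add (h7_linear_of_hom _).1 (h7_linear_of_hom _).1, ?_⟩
  funext w
  simp only [betaFun, Pi.add_apply, Pi.sub_apply, MonoidHom.one_apply, Units.val_one,
    MonoidHom.mul_apply, Units.val_mul]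
  ring

theorem beta_genChar (φ ψ : ↥(W₁ ⊔ W₂) →* ℂˣ) :
    Cfsg.IsGeneralizedCharacter G (beta W₁ W₂ φ ψ) :=
  genChar_sub (Cfsg.Agent.Lib.Helper29.BSQ8.q8_genChar_indFun _ _ (betaFun_genChar φ ψ))
    genChar_one'

theorem beta_apply_one (φ ψ : ↥(W₁ ⊔ W₂) →* ℂˣ) : beta W₁ W₂ φ ψ 1 = -1 := by
  unfold beta
  rw [Pi.sub_apply, h7_indFun_one]
  have : betaFun φ ψ (1 : ↥(W₁ ⊔ W₂)) = 0 := by
    unfold betaFun
    simp
  rw [this]
  ring

variable {W₁ W₂}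

theorem beta_inner_one (hW : Cfsg.IsSelfNormalizingCyclic W₁ W₂)
    {φ ψ : ↥(W₁ ⊔ W₂) →* ℂˣ} (hφ : φ ≠ 1) (hψ : ψ ≠ 1)
    (hφ₂ : ∀ w : ↥(W₁ ⊔ W₂), (w : G) ∈ W₂ → φ w = 1)
    (hψ₁ : ∀ w : ↥(W₁ ⊔ W₂), (w : G) ∈ W₁ → ψ w = 1) :
    Cfsg.classInner (beta W₁ W₂ φ ψ) (fun _ => 1) = 0 := by
  have h := (Cfsg.Agent.S1505.result W₁ W₂ hW φ φ ψ ψ hφ hφ hψ hψ
    (fun w hw => ⟨hφ₂ w hw, hφ₂ w hw⟩) (fun w hw => ⟨hψ₁ w hw, hψ₁ w hw⟩)).1
  unfold beta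
  rw [classInner_sub_left']
  change Cfsg.classInner (Cfsg.indFun (W₁ ⊔ W₂) (betaFun φ ψ)) (fun _ => 1) = 1 at h
  rw [h, Cfsg.Agent.Lib.Helper29.BSQ8.q8_triv_norm, sub_self]

open Classical in
theorem beta_gram (hW : Cfsg.IsSelfNormalizingCyclic W₁ W₂)
    {φ φ' ψ ψ' : ↥(W₁ ⊔ W₂) →* ℂˣ} (hφ : φ ≠ 1) (hφ' : φ' ≠ 1) (hψ : ψ ≠ 1) (hψ' : ψ' ≠ 1)
    (hφ₂ : ∀ w : ↥(W₁ ⊔ W₂), (w : G) ∈ W₂ → φ w = 1)
    (hφ₂' : ∀ w : ↥(W₁ ⊔ W₂), (w : G) ∈ W₂ → φ' w = 1)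
    (hψ₁ : ∀ w : ↥(W₁ ⊔ W₂), (w : G) ∈ W₁ → ψ w = 1)
    (hψ₁' : ∀ w : ↥(W₁ ⊔ W₂), (w : G) ∈ W₁ → ψ' w = 1) :
    Cfsg.classInner (beta W₁ W₂ φ ψ) (beta W₁ W₂ φ' ψ') =
      (if φ = φ' then 1 else 0) + (if ψ = ψ' then 1 else 0) +
        (if φ = φ' then 1 else 0) * (if ψ = ψ' then 1 else 0) := by
  have h := (Cfsg.Agent.S1505.result W₁ W₂ hW φ φ' ψ ψ' hφ hφ' hψ hψ'
    (fun w hw => ⟨hφ₂ w hw, hφ₂' w hw⟩) (fun w hw => ⟨hψ₁ w hw, hψ₁' w hw⟩))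
  have h' := (Cfsg.Agent.S1505.result W₁ W₂ hW φ' φ' ψ' ψ' hφ' hφ' hψ' hψ'
    (fun w hw => ⟨hφ₂' w hw, hφ₂' w hw⟩) (fun w hw => ⟨hψ₁' w hw, hψ₁' w hw⟩)).1
  obtain ⟨h1, h2⟩ := h
  change Cfsg.classInner (Cfsg.indFun (W₁ ⊔ W₂) (betaFun φ ψ)) (fun _ => 1) = 1 at h1
  change Cfsg.classInner (Cfsg.indFun (W₁ ⊔ W₂) (betaFun φ' ψ')) (fun _ => 1) = 1 at h'
  change Cfsg.classInner (Cfsg.indFun (W₁ ⊔ W₂) (betaFun φ ψ))
    (Cfsg.indFun (W₁ ⊔ W₂) (betaFun φ' ψ')) = _ at h2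
  have h3 : Cfsg.classInner (fun _ : G => (1 : ℂ)) (Cfsg.indFun (W₁ ⊔ W₂) (betaFun φ' ψ')) = 1 := by
    rw [Helper11.classInner_conj_symm, h', map_one]
  unfold beta
  rw [classInner_sub_left', classInner_sub_right', classInner_sub_right', h1, h2, h3,
    Cfsg.Agent.Lib.Helper29.BSQ8.q8_triv_norm]
  ring

theorem beta_galois (τ : ℂ ≃+* ℂ) (φ ψ : ↥(W₁ ⊔ W₂) →* ℂˣ) :
    beta W₁ W₂ (twist τ φ) (twist τ ψ) = fun g => τ (beta W₁ W₂ φ ψ g) := by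
  have e3 : betaFun (twist τ φ) (twist τ ψ) = fun w => τ (betaFun φ ψ w) := by
    funext w
    simp only [betaFun, twist_apply, map_add, map_sub, map_mul, map_one]
  unfold beta
  rw [e3, indFun_ringAut]
  funext g
  simp only [Pi.sub_apply, map_sub, map_one]

end

/-- a field automorphism acts on the linear characters of a group of exponent dividing `N`
by a power map -/
theorem twist_apply_pow {W : Type*} [Group W] (N m : ℕ) (hN : ∀ w : W, w ^ N = 1)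
    (τ : ℂ ≃+* ℂ) (hτ : ∀ z : ℂ, z ^ N = 1 → τ z = z ^ m) (η : W →* ℂˣ) (w : W) :
    twist τ η w = (η w) ^ m := by
  apply Units.ext
  rw [twist_apply, Units.val_pow_eq_pow_val]
  apply hτ
  rw [← Units.val_pow_eq_pow_val, ← map_pow, hN w, map_one, Units.val_one]

/-- moving a nontrivial element of a subgroup of prime order of the dual group to another one by
a field automorphism fixing a subgroup of coprime order -/
theorem exists_galois_move {W : Type*} [Group W] [Finite W] (N : ℕ) (hNpos : 0 < N)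
    (hN : ∀ w : W, w ^ N = 1) (A B : Subgroup (W →* ℂˣ)) (p q : ℕ) [hp : Fact p.Prime]
    (hA : Nat.card A = p) (hB : Nat.card B = q) (hpq : Nat.Coprime p q) (hpN : p ∣ N)
    (hqN : q ∣ N) {a a' : W →* ℂˣ} (ha : a ∈ A) (ha' : a' ∈ A) (ha1 : a ≠ 1) (ha'1 : a' ≠ 1) :
    ∃ τ : ℂ ≃+* ℂ, twist τ a = a' ∧ ∀ b ∈ B, twist τ b = b := by
  have hfinA : Finite ↥A := Nat.finite_of_card_ne_zero (by rw [hA]; exact hp.out.ne_zero)
  have hane : (⟨a, ha⟩ : ↥A) ≠ 1 := fun h => ha1 (congrArg Subtype.val h)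
  have htop := zpowers_eq_top_of_prime_card (G := ↥A) hA hane
  have hmem : (⟨a', ha'⟩ : ↥A) ∈ Subgroup.zpowers (⟨a, ha⟩ : ↥A) := by rw [htop]; trivial
  rw [← mem_powers_iff_mem_zpowers, Submonoid.mem_powers_iff] at hmem
  obtain ⟨k, hk⟩ := hmem
  have hk' : ∀ w, (a w) ^ k = a' w := by
    intro w
    have := congrArg (fun f : ↥A => (f : W →* ℂˣ) w) hk
    exact this
  have hap : ∀ w, (a w) ^ p = 1 := by
    intro w
    have h1 : (⟨a, ha⟩ : ↥A) ^ p = 1 := by rw [← hA]; exact pow_card_eq_one'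
    have := congrArg (fun f : ↥A => (f : W →* ℂˣ) w) h1
    exact this
  have hkp : Nat.Coprime k p := by
    rw [Nat.coprime_comm, Nat.Prime.coprime_iff_not_dvd hp.out]
    rintro ⟨c, rfl⟩
    apply ha'1
    ext w
    rw [← hk' w, pow_mul, hap w, one_pow, MonoidHom.one_apply]
  obtain ⟨m₁, hm₁N, hm₁p, hm₁q⟩ := exists_coprime_lift N p q k hNpos hpN hqN hpq hkp
  obtain ⟨τ, hτ⟩ := exists_ringAut_pow N m₁ hNpos hm₁N
  refine ⟨τ, ?_, ?_⟩
  · refine MonoidHom.ext fun w => ?_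
    rw [twist_apply_pow N m₁ hN τ hτ, ← hk' w, pow_eq_pow_iff_modEq]
    exact hm₁p.of_dvd (orderOf_dvd_of_pow_eq_one (hap w))
  · intro b hb
    have hbq : ∀ w, (b w) ^ q = 1 := by
      intro w
      have hfinB : Finite ↥B := Finite.of_injective (fun x : ↥B => (x : W →* ℂˣ))
        Subtype.val_injective
      have h1 : (⟨b, hb⟩ : ↥B) ^ q = 1 := by rw [← hB]; exact pow_card_eq_one'
      have := congrArg (fun f : ↥B => (f : W →* ℂˣ) w) h1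
      exact this
    refine MonoidHom.ext fun w => ?_
    rw [twist_apply_pow N m₁ hN τ hτ]
    conv_rhs => rw [← pow_one (b w)]
    rw [pow_eq_pow_iff_modEq]
    exact hm₁q.of_dvd (orderOf_dvd_of_pow_eq_one (hbq w))

section Galois
variable {G : Type*} [Group G] [Fintype G]

theorem signedIrr_ringAut (τ : ℂ ≃+* ℂ) {e : G → ℂ} (he : IsSignedIrr G e) :
    IsSignedIrr G (fun g => τ (e g)) := by
  rcases he with h | h
  · exact Or.inl (isIrrCharacter_ringAut τ h)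
  · right
    have := isIrrCharacter_ringAut τ h
    have e1 : (fun g => τ ((-e) g)) = -fun g => τ (e g) := by
      funext g; simp
    rw [e1] at this
    exact this

theorem ringAut_comp_injective (τ : ℂ ≃+* ℂ) {a b : G → ℂ}
    (h : (fun g => τ (a g)) = fun g => τ (b g)) : a = b := by
  funext g
  exact τ.injective (congrFun h g)

theorem orth_ringAut (τ : ℂ ≃+* ℂ) {a b : G → ℂ} (ha : IsSignedIrr G a) (hb : IsSignedIrr G b)
    (hab : Cfsg.classInner a b = 0) :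
    Cfsg.classInner (fun g => τ (a g)) (fun g => τ (b g)) = 0 := by
  rcases signedIrr_inner (signedIrr_ringAut τ ha) (signedIrr_ringAut τ hb) with h | ⟨-, h⟩ | ⟨-, h⟩
  · exact h
  · exfalso
    have := ringAut_comp_injective τ h
    rw [this, signedIrr_norm hb] at hab
    exact one_ne_zero hab
  · exfalso
    have h' : (fun g => τ (a g)) = fun g => τ ((-b) g) := by
      rw [h]; funext g; simp
    have := ringAut_comp_injective τ h'
    rw [this, classInner_neg_left, signedIrr_norm hb] at hab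
    norm_num at hab

theorem Dec3.ringAut (τ : ℂ ≃+* ℂ) {θ a b c : G → ℂ} (h : Dec3 θ a b c) :
    Dec3 (fun g => τ (θ g)) (fun g => τ (a g)) (fun g => τ (b g)) (fun g => τ (c g)) :=
  ⟨signedIrr_ringAut τ h.ha, signedIrr_ringAut τ h.hb, signedIrr_ringAut τ h.hc,
    orth_ringAut τ h.ha h.hb h.ab, orth_ringAut τ h.ha h.hc h.ac, orth_ringAut τ h.hb h.hc h.bc, by
      funext g
      rw [h.eq]
      simp⟩

/-- the action of a field automorphism on signed irreducibles -/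
noncomputable def sAut (τ : ℂ ≃+* ℂ) (z : SIrr G) : SIrr G :=
  ⟨fun g => τ (z.1 g), signedIrr_ringAut τ z.2⟩

theorem sAut_mem_cell (τ : ℂ ≃+* ℂ) {θ : G → ℂ} (hθ : ∃ a b c, Dec3 θ a b c) {z : SIrr G}
    (hz : z ∈ cell θ) : sAut τ z ∈ cell (fun g => τ (θ g)) := by
  obtain ⟨a, b, c, h⟩ := hθ
  rw [mem_cell, (h.ringAut τ).mem_iff (sAut τ z).2]
  rcases (h.mem_iff z.2).1 hz with e | e | e
  · left; show (fun g => τ (z.1 g)) = _; rw [e]
  · right; left; show (fun g => τ (z.1 g)) = _; rw [e]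
  · right; right; show (fun g => τ (z.1 g)) = _; rw [e]

/-- the symmetry hypothesis of `Cfg.noTriple_of_symm`, from Galois theory -/
theorem hsym_of_galois {W : Type*} [Group W] [Finite W] (N : ℕ) (hNpos : 0 < N)
    (hN : ∀ w : W, w ^ N = 1) (A B : Subgroup (W →* ℂˣ)) (p q : ℕ) [hp : Fact p.Prime]
    (hA : Nat.card A = p) (hB : Nat.card B = q) (hpq : Nat.Coprime p q) (hpN : p ∣ N)
    (hqN : q ∣ N) (hAτ : ∀ (τ : ℂ ≃+* ℂ) (a : W →* ℂˣ), a ∈ A → twist τ a ∈ A)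
    (F : (W →* ℂˣ) → (W →* ℂˣ) → G → ℂ)
    (hF : ∀ (τ : ℂ ≃+* ℂ) (b a : W →* ℂˣ), F (twist τ b) (twist τ a) = fun g => τ (F b a g))
    (hdec : ∀ (i : {b : ↥B // b ≠ 1}) (j : {a : ↥A // a ≠ 1}),
      ∃ a b c, Dec3 (F (i.1 : W →* ℂˣ) (j.1 : W →* ℂˣ)) a b c)
    (j₀ j₁ : {a : ↥A // a ≠ 1}) :
    ∃ (g : SIrr G → SIrr G) (π : {a : ↥A // a ≠ 1} → {a : ↥A // a ≠ 1}),
      Function.Injective π ∧ π j₁ = j₀ ∧
      ∀ (i : {b : ↥B // b ≠ 1}) (j : {a : ↥A // a ≠ 1}) (z : SIrr G),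
        z ∈ cell (F (i.1 : W →* ℂˣ) (j.1 : W →* ℂˣ)) →
          g z ∈ cell (F (i.1 : W →* ℂˣ) ((π j).1 : W →* ℂˣ)) := by
  have hne : ∀ j : {a : ↥A // a ≠ 1}, ((j.1 : ↥A) : W →* ℂˣ) ≠ 1 :=
    fun j h => j.2 (Subtype.ext h)
  obtain ⟨τ, hτ1, hτB⟩ := exists_galois_move N hNpos hN A B p q hA hB hpq hpN hqN
    j₁.1.2 j₀.1.2 (hne j₁) (hne j₀)
  have hπne : ∀ j : {a : ↥A // a ≠ 1},
      (⟨twist τ (j.1 : W →* ℂˣ), hAτ τ _ j.1.2⟩ : ↥A) ≠ 1 := by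
    intro j h
    have h1 : twist τ ((j.1 : ↥A) : W →* ℂˣ) = 1 := congrArg Subtype.val h
    rw [← twist_one τ] at h1
    exact hne j (twist_injective τ h1)
  refine ⟨sAut τ, fun j => ⟨⟨twist τ (j.1 : W →* ℂˣ), hAτ τ _ j.1.2⟩, hπne j⟩, ?_, ?_, ?_⟩
  · intro j j' h
    have h1 : twist τ ((j.1 : ↥A) : W →* ℂˣ) = twist τ ((j'.1 : ↥A) : W →* ℂˣ) :=
      congrArg (fun x : {a : ↥A // a ≠ 1} => ((x.1 : ↥A) : W →* ℂˣ)) h
    exact Subtype.ext (Subtype.ext (twist_injective τ h1))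
  · exact Subtype.ext (Subtype.ext hτ1)
  · intro i j z hz
    have h1 := hF τ (i.1 : W →* ℂˣ) (j.1 : W →* ℂˣ)
    rw [hτB _ i.1.2] at h1
    show sAut τ z ∈ cell (F (i.1 : W →* ℂˣ) (twist τ (j.1 : W →* ℂˣ)))
    rw [h1]
    exact sAut_mem_cell τ (hdec i j) hz

end Galois

section Pivots
variable {G : Type*} [Group G] [Fintype G] {W₁ W₂ : Subgroup G}

/-- the orders of the two factors of a cyclic direct product are coprime -/
theorem coprime_card_of_cyclic {W : Type*} [Group W] [Finite W] (hc : IsCyclic W)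
    (H₁ H₂ : Subgroup W) (hd : H₁ ⊓ H₂ = ⊥) (hs : H₁ ⊔ H₂ = ⊤) :
    Nat.Coprime (Nat.card H₁) (Nat.card H₂) := by
  have hcomm : ∀ a b : W, a * b = b * a := by
    have := @IsCyclic.isMulCommutative _ _ hc
    exact mul_comm'
  let _ : CommGroup W := { (inferInstance : Group W) with mul_comm := hcomm }
  have h3 := card_eq_mul_of_disjoint_sup hcomm H₁ H₂ hd hs
  have hexp : Monoid.exponent W = Nat.card W := IsCyclic.exponent_eq_card
  have hdvd : Monoid.exponent W ∣ Nat.lcm (Nat.card H₁) (Nat.card H₂) := by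
    apply Monoid.exponent_dvd_of_forall_pow_eq_one
    intro w
    have hw : w ∈ H₁ ⊔ H₂ := by rw [hs]; trivial
    obtain ⟨y, hy, z, hz, rfl⟩ := Subgroup.mem_sup.mp hw
    rw [mul_pow]
    have h1 : y ^ Nat.lcm (Nat.card H₁) (Nat.card H₂) = 1 := by
      obtain ⟨c, hc⟩ := Nat.dvd_lcm_left (Nat.card H₁) (Nat.card H₂)
      rw [hc, pow_mul]
      have : (⟨y, hy⟩ : ↥H₁) ^ Nat.card H₁ = 1 := pow_card_eq_one'
      have := congrArg Subtype.val this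
      simp only [Subgroup.coe_pow, Subgroup.coe_one] at this
      rw [this, one_pow]
    have h2 : z ^ Nat.lcm (Nat.card H₁) (Nat.card H₂) = 1 := by
      obtain ⟨c, hc⟩ := Nat.dvd_lcm_right (Nat.card H₁) (Nat.card H₂)
      rw [hc, pow_mul]
      have : (⟨z, hz⟩ : ↥H₂) ^ Nat.card H₂ = 1 := pow_card_eq_one'
      have := congrArg Subtype.val this
      simp only [Subgroup.coe_pow, Subgroup.coe_one] at this
      rw [this, one_pow]
    rw [h1, h2, one_mul]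
  rw [hexp, ← h3, ← Nat.gcd_mul_lcm (Nat.card H₁) (Nat.card H₂)] at hdvd
  have hpos : 0 < Nat.lcm (Nat.card H₁) (Nat.card H₂) :=
    Nat.lcm_pos Nat.card_pos Nat.card_pos
  have := Nat.le_of_dvd hpos hdvd
  have hg : 0 < Nat.gcd (Nat.card H₁) (Nat.card H₂) := Nat.gcd_pos_of_pos_left _ Nat.card_pos
  show Nat.gcd _ _ = 1
  nlinarith

theorem card_ne_one_subtype {A : Type*} [Group A] [Fintype A] [DecidableEq A]
    [Fintype {a : A // a ≠ 1}] : Fintype.card {a : A // a ≠ 1} = Fintype.card A - 1 := by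
  rw [Fintype.card_subtype_compl, Fintype.card_subtype_eq]

open Classical in
/-- the pivots of the array `β φ ψ` -/
theorem exists_pivots (hW : Cfsg.IsSelfNormalizingCyclic W₁ W₂)
    (hodd : Odd (Nat.card ↥(W₁ ⊔ W₂))) :
    ∃ (x : {a : ↥(annih (W₂.subgroupOf (W₁ ⊔ W₂))) // a ≠ 1} → G → ℂ)
      (y : {b : ↥(annih (W₁.subgroupOf (W₁ ⊔ W₂))) // b ≠ 1} → G → ℂ),
      (∀ i, IsSignedIrr G (x i)) ∧ (∀ j, IsSignedIrr G (y j)) ∧
      (∀ (i i' : {a : ↥(annih (W₂.subgroupOf (W₁ ⊔ W₂))) // a ≠ 1})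
        (j : {b : ↥(annih (W₁.subgroupOf (W₁ ⊔ W₂))) // b ≠ 1}),
        Cfsg.classInner (beta W₁ W₂ (i'.1 : ↥(W₁ ⊔ W₂) →* ℂˣ) (j.1 : ↥(W₁ ⊔ W₂) →* ℂˣ))
        (x i) = if i' = i then 1 else 0) ∧
      (∀ (i : {a : ↥(annih (W₂.subgroupOf (W₁ ⊔ W₂))) // a ≠ 1})
        (j j' : {b : ↥(annih (W₁.subgroupOf (W₁ ⊔ W₂))) // b ≠ 1}),
        Cfsg.classInner (beta W₁ W₂ (i.1 : ↥(W₁ ⊔ W₂) →* ℂˣ) (j'.1 : ↥(W₁ ⊔ W₂) →* ℂˣ))
        (y j) = if j' = j then 1 else 0) := by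
  classical
  obtain ⟨hne1, hne2, hdisjW, -, hcyc, -⟩ := id hW
  have hcomm : ∀ a b : ↥(W₁ ⊔ W₂), a * b = b * a := by
    have := @IsCyclic.isMulCommutative _ _ hcyc
    exact mul_comm'
  set H₁ := W₁.subgroupOf (W₁ ⊔ W₂) with hH₁
  set H₂ := W₂.subgroupOf (W₁ ⊔ W₂) with hH₂
  have hd : H₁ ⊓ H₂ = ⊥ := by
    rw [eq_bot_iff]
    intro x hx
    have h1 : (x : G) ∈ W₁ ⊓ W₂ := ⟨Subgroup.mem_subgroupOf.mp hx.1, Subgroup.mem_subgroupOf.mp hx.2⟩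
    rw [hdisjW, Subgroup.mem_bot] at h1
    rw [Subgroup.mem_bot]
    exact Subtype.ext h1
  have hs : H₁ ⊔ H₂ = ⊤ := by
    rw [hH₁, hH₂, ← Subgroup.subgroupOf_sup le_sup_left le_sup_right, Subgroup.subgroupOf_self]
  obtain ⟨hcΦ, hcΨ⟩ := card_annih_eq hcomm H₁ H₂ hd hs
  have hcH₁ : Nat.card H₁ = Nat.card W₁ :=
    Nat.card_congr (Subgroup.subgroupOfEquivOfLe le_sup_left).toEquiv
  have hcH₂ : Nat.card H₂ = Nat.card W₂ :=
    Nat.card_congr (Subgroup.subgroupOfEquivOfLe le_sup_right).toEquiv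
  have hodd1 : Odd (Nat.card W₁) :=
    Odd.of_dvd_nat hodd (Subgroup.card_dvd_of_le (le_sup_left : W₁ ≤ W₁ ⊔ W₂))
  have hodd2 : Odd (Nat.card W₂) :=
    Odd.of_dvd_nat hodd (Subgroup.card_dvd_of_le (le_sup_right : W₂ ≤ W₁ ⊔ W₂))
  have hn₁ : 3 ≤ Nat.card W₁ := by
    have h1 : Nat.card W₁ ≠ 1 := fun h => hne1 (Subgroup.card_eq_one.mp h)
    have h0 : 0 < Nat.card W₁ := Nat.card_pos
    obtain ⟨k, hk⟩ := hodd1
    omega
  have hn₂ : 3 ≤ Nat.card W₂ := by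
    have h1 : Nat.card W₂ ≠ 1 := fun h => hne2 (Subgroup.card_eq_one.mp h)
    have h0 : 0 < Nat.card W₂ := Nat.card_pos
    obtain ⟨k, hk⟩ := hodd2
    omega
  have hcop : Nat.Coprime (Nat.card W₁) (Nat.card W₂) := by
    rw [← hcH₁, ← hcH₂]
    exact coprime_card_of_cyclic hcyc H₁ H₂ hd hs
  have hWcard : Nat.card ↥(W₁ ⊔ W₂) = Nat.card W₁ * Nat.card W₂ := by
    rw [← hcH₁, ← hcH₂]
    exact (card_eq_mul_of_disjoint_sup hcomm H₁ H₂ hd hs).symm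
  -- index types
  have : Fintype ↥(annih H₂) := Fintype.ofFinite _
  have : Fintype ↥(annih H₁) := Fintype.ofFinite _
  have : Fintype {a : ↥(annih H₂) // a ≠ 1} := Fintype.ofFinite _
  have : Fintype {b : ↥(annih H₁) // b ≠ 1} := Fintype.ofFinite _
  have hcI : Fintype.card {a : ↥(annih H₂) // a ≠ 1} = Nat.card W₁ - 1 := by
    rw [card_ne_one_subtype, ← Nat.card_eq_fintype_card, hcΦ, hcH₁]
  have hcJ : Fintype.card {b : ↥(annih H₁) // b ≠ 1} = Nat.card W₂ - 1 := by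
    rw [card_ne_one_subtype, ← Nat.card_eq_fintype_card, hcΨ, hcH₂]
  have hφtriv : ∀ φ : ↥(annih H₂), ∀ w : ↥(W₁ ⊔ W₂), (w : G) ∈ W₂ →
      (φ : ↥(W₁ ⊔ W₂) →* ℂˣ) w = 1 := fun φ w hw => φ.2 w (Subgroup.mem_subgroupOf.mpr hw)
  have hψtriv : ∀ ψ : ↥(annih H₁), ∀ w : ↥(W₁ ⊔ W₂), (w : G) ∈ W₁ →
      (ψ : ↥(W₁ ⊔ W₂) →* ℂˣ) w = 1 := fun ψ w hw => ψ.2 w (Subgroup.mem_subgroupOf.mpr hw)
  have hneI : ∀ i : {a : ↥(annih H₂) // a ≠ 1}, ((i.1 : ↥(annih H₂)) : ↥(W₁ ⊔ W₂) →* ℂˣ) ≠ 1 :=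
    fun i h => i.2 (Subtype.ext h)
  have hneJ : ∀ j : {b : ↥(annih H₁) // b ≠ 1}, ((j.1 : ↥(annih H₁)) : ↥(W₁ ⊔ W₂) →* ℂˣ) ≠ 1 :=
    fun j h => j.2 (Subtype.ext h)
  -- the configuration
  set β : {a : ↥(annih H₂) // a ≠ 1} → {b : ↥(annih H₁) // b ≠ 1} → G → ℂ :=
    fun i j => beta W₁ W₂ (i.1 : ↥(W₁ ⊔ W₂) →* ℂˣ) (j.1 : ↥(W₁ ⊔ W₂) →* ℂˣ) with hβ
  have hgram : ∀ i j i' j', Cfsg.classInner (β i j) (β i' j') =
      (if i = i' then 1 else 0) + (if j = j' then 1 else 0) +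
        (if i = i' then 1 else 0) * (if j = j' then 1 else 0) := by
    intro i j i' j'
    have h := beta_gram hW (hneI i) (hneI i') (hneJ j) (hneJ j') (hφtriv i.1) (hφtriv i'.1)
      (hψtriv j.1) (hψtriv j'.1)
    rw [hβ]
    simp only
    rw [h]
    have e1 : (((i.1 : ↥(annih H₂)) : ↥(W₁ ⊔ W₂) →* ℂˣ) = ((i'.1 : ↥(annih H₂)) : ↥(W₁ ⊔ W₂) →* ℂˣ))
        ↔ i = i' := by
      constructor
      · intro h; exact Subtype.ext (Subtype.ext h)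
      · intro h; rw [h]
    have e2 : (((j.1 : ↥(annih H₁)) : ↥(W₁ ⊔ W₂) →* ℂˣ) = ((j'.1 : ↥(annih H₁)) : ↥(W₁ ⊔ W₂) →* ℂˣ))
        ↔ j = j' := by
      constructor
      · intro h; exact Subtype.ext (Subtype.ext h)
      · intro h; rw [h]
    by_cases hi : i = i' <;> by_cases hj : j = j'
    · rw [if_pos (e1.2 hi), if_pos (e2.2 hj), if_pos hi, if_pos hj]
    · rw [if_pos (e1.2 hi), if_neg (fun h => hj (e2.1 h)), if_pos hi, if_neg hj]
    · rw [if_neg (fun h => hi (e1.1 h)), if_pos (e2.2 hj), if_neg hi, if_pos hj]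
    · rw [if_neg (fun h => hi (e1.1 h)), if_neg (fun h => hj (e2.1 h)), if_neg hi, if_neg hj]
  have hgen : ∀ i j, Cfsg.IsGeneralizedCharacter G (β i j) := fun i j => beta_genChar W₁ W₂ _ _
  have hdeg : ∀ i j i' j', β i j 1 = β i' j' 1 := by
    intro i j i' j'
    rw [hβ]
    simp only
    rw [beta_apply_one, beta_apply_one]
  have hdec : ∀ i j, ∃ a b c, Dec3 (β i j) a b c := by
    intro i j
    apply exists_dec3 _ (hgen i j)
    rw [hgram, if_pos rfl, if_pos rfl]; norm_num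
  have C := cfg_of_gram β hgen hgram hdeg
  have hI : Fintype.card {a : ↥(annih H₂) // a ≠ 1} = 2 ∨
      4 ≤ Fintype.card {a : ↥(annih H₂) // a ≠ 1} := by
    rw [hcI]
    obtain ⟨k, hk⟩ := hodd1
    omega
  have hJ : Fintype.card {b : ↥(annih H₁) // b ≠ 1} = 2 ∨
      4 ≤ Fintype.card {b : ↥(annih H₁) // b ≠ 1} := by
    rw [hcJ]
    obtain ⟨k, hk⟩ := hodd2
    omega
  have hpowW : ∀ w : ↥(W₁ ⊔ W₂), w ^ (Nat.card W₁ * Nat.card W₂) = 1 := by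
    intro w
    rw [← hWcard]
    exact pow_card_eq_one'
  have hAτ1 : ∀ (τ : ℂ ≃+* ℂ) (a : ↥(W₁ ⊔ W₂) →* ℂˣ), a ∈ annih H₁ → twist τ a ∈ annih H₁ :=
    fun τ a ha w hw => (twist_apply_eq_one_iff τ a w).mpr (ha w hw)
  have hAτ2 : ∀ (τ : ℂ ≃+* ℂ) (a : ↥(W₁ ⊔ W₂) →* ℂˣ), a ∈ annih H₂ → twist τ a ∈ annih H₂ :=
    fun τ a ha w hw => (twist_apply_eq_one_iff τ a w).mpr (ha w hw)
  -- no L-shapes
  have hL : NoL (fun i j => cell (β i j)) := by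
    by_cases h5 : 6 ≤ Nat.card W₂
    · exact C.noL_of_five (by rw [hcJ]; omega)
    by_cases h5' : 6 ≤ Nat.card W₁
    · exact NoL.transpose (C.transpose.noL_of_five (by rw [hcI]; omega))
    have hw1 : Nat.card W₁ = 3 ∨ Nat.card W₁ = 5 := by
      obtain ⟨k, hk⟩ := hodd1
      omega
    have hw2 : Nat.card W₂ = 3 ∨ Nat.card W₂ = 5 := by
      obtain ⟨k, hk⟩ := hodd2
      omega
    rcases hw1 with e1 | e1 <;> rcases hw2 with e2 | e2
    · rw [e1, e2] at hcop; norm_num at hcop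
    · -- (3, 5)
      have : Fact (Nat.Prime 5) := ⟨by norm_num⟩
      refine C.noL_of_four (by rw [hcJ, e2]) (C.noTriple_of_symm (by rw [hcJ, e2]) ?_)
      intro j₀ j₁
      exact hsym_of_galois (Nat.card W₁ * Nat.card W₂) (by rw [e1, e2]; norm_num) hpowW
        (annih H₁) (annih H₂) 5 3 (by rw [hcΨ, hcH₂, e2]) (by rw [hcΦ, hcH₁, e1]) (by norm_num)
        (by rw [e1, e2]; norm_num) (by rw [e1, e2]; norm_num) hAτ1
        (fun φ ψ => beta W₁ W₂ φ ψ) (fun τ b a => beta_galois τ b a) hdec j₀ j₁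
    · -- (5, 3)
      have : Fact (Nat.Prime 5) := ⟨by norm_num⟩
      refine NoL.transpose (C.transpose.noL_of_four (by rw [hcI, e1])
        (C.transpose.noTriple_of_symm (by rw [hcI, e1]) ?_))
      intro i₀ i₁
      exact hsym_of_galois (Nat.card W₁ * Nat.card W₂) (by rw [e1, e2]; norm_num) hpowW
        (annih H₂) (annih H₁) 5 3 (by rw [hcΦ, hcH₁, e1]) (by rw [hcΨ, hcH₂, e2]) (by norm_num)
        (by rw [e1, e2]; norm_num) (by rw [e1, e2]; norm_num) hAτ2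
        (fun ψ φ => beta W₁ W₂ φ ψ) (fun τ b a => beta_galois τ a b) (fun j i => hdec i j) i₀ i₁
    · rw [e1, e2] at hcop; norm_num at hcop
  obtain ⟨x, y, hx, hy, hx', hy'⟩ := C.pivots hL hI hJ
  have hI2 : ∀ i : {a : ↥(annih H₂) // a ≠ 1}, ∃ i', i' ≠ i := by
    intro i
    have h1 : 1 < (Finset.univ : Finset {a : ↥(annih H₂) // a ≠ 1}).card := by
      rw [Finset.card_univ]; omega
    obtain ⟨i₁, -, i₂, -, h12⟩ := Finset.one_lt_card.mp h1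
    by_cases h : i₁ = i
    · exact ⟨i₂, fun h' => h12 (h.trans h'.symm)⟩
    · exact ⟨i₁, h⟩
  refine ⟨fun i => (x i).1, fun j => (y j).1, fun i => (x i).2, fun j => (y j).2, ?_, ?_⟩
  · intro i i' j
    by_cases h : i' = i
    · rw [if_pos h, h]
      exact hx i j
    · rw [if_neg h]
      obtain ⟨a, b, c, hd3⟩ := hdec i' j
      obtain ⟨h1, h2⟩ := hx' i i' j h
      rcases hd3.trit_val (x i).2 with t | t | t
      · exact absurd t h1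
      · exact t
      · exact absurd ((sneg_mem_cell _ _).2 t) h2
  · intro i j j'
    by_cases h : j' = j
    · rw [if_pos h, h]
      exact hy i j
    · rw [if_neg h]
      obtain ⟨a, b, c, hd3⟩ := hdec i j'
      obtain ⟨h1, h2⟩ := hy' i j j' h
      rcases hd3.trit_val (y j).2 with t | t | t
      · exact absurd t h1
      · exact t
      · exact absurd ((sneg_mem_cell _ _).2 t) h2

end Pivots

end Cfsg.Agent.Lib.Helper29.CTI
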