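import Mathlib
import Cfsg.Agent.Lib.Helper29.CTIMain

/-!
# Assembling the cyclic TI family from the pivots
-/

set_option autoImplicit false
open scoped ComplexConjugate

namespace Cfsg.Agent.Lib.Helper29.CTI

open Cfsg.Agent.Lib.Helper11 Cfsg.Agent.Lib.helper7 Cfsg.Agent.Lib.Helper25 Cfsg.Agent.Lib.helper2

section Abstract
variable {G : Type*} [Group G] [Fintype G] {I J : Type*}

/-- the family `1`, `-x i`, `-y j`, `b i j - x i - y j` -/
noncomputable def famE (x : I → G → ℂ) (y : J → G → ℂ) (b : I → J → G → ℂ) :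
    Option I → Option J → G → ℂ
  | none, none => fun _ => 1
  | some i, none => -x i
  | none, some j => -y j
  | some i, some j => b i j - x i - y j

variable [DecidableEq I] [DecidableEq J]

/-- the table of inner products needed for the orthonormality of `famE` -/
structure Table (x : I → G → ℂ) (y : J → G → ℂ) (b : I → J → G → ℂ) : Prop where
  h11 : Cfsg.classInner (fun _ : G => (1 : ℂ)) (fun _ => 1) = 1
  hx1 : ∀ i, Cfsg.classInner (x i) (fun _ => 1) = 0
  hy1 : ∀ j, Cfsg.classInner (y j) (fun _ => 1) = 0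
  hb1 : ∀ i j, Cfsg.classInner (b i j) (fun _ => 1) = 0
  hxx : ∀ i i', Cfsg.classInner (x i) (x i') = if i = i' then 1 else 0
  hyy : ∀ j j', Cfsg.classInner (y j) (y j') = if j = j' then 1 else 0
  hxy : ∀ i j, Cfsg.classInner (x i) (y j) = 0
  hbx : ∀ i j i', Cfsg.classInner (b i j) (x i') = if i = i' then 1 else 0
  hby : ∀ i j j', Cfsg.classInner (b i j) (y j') = if j = j' then 1 else 0
  hbb : ∀ i j i' j', Cfsg.classInner (b i j) (b i' j') =
    (if i = i' then 1 else 0) + (if j = j' then 1 else 0) +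
      (if i = i' then 1 else 0) * (if j = j' then 1 else 0)

theorem conj_ite_one_zero (p : Prop) [Decidable p] :
    conj (if p then (1 : ℂ) else 0) = if p then 1 else 0 := by
  split_ifs <;> simp

variable {x : I → G → ℂ} {y : J → G → ℂ} {b : I → J → G → ℂ}

theorem Table.h1x (T : Table x y b) (i : I) : Cfsg.classInner (fun _ : G => (1 : ℂ)) (x i) = 0 := by
  rw [Helper11.classInner_conj_symm, T.hx1, map_zero]

theorem Table.h1y (T : Table x y b) (j : J) : Cfsg.classInner (fun _ : G => (1 : ℂ)) (y j) = 0 := by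
  rw [Helper11.classInner_conj_symm, T.hy1, map_zero]

theorem Table.h1b (T : Table x y b) (i : I) (j : J) :
    Cfsg.classInner (fun _ : G => (1 : ℂ)) (b i j) = 0 := by
  rw [Helper11.classInner_conj_symm, T.hb1, map_zero]

theorem Table.hyx (T : Table x y b) (i : I) (j : J) : Cfsg.classInner (y j) (x i) = 0 := by
  rw [Helper11.classInner_conj_symm, T.hxy, map_zero]

theorem Table.hxb (T : Table x y b) (i : I) (j : J) (i' : I) :
    Cfsg.classInner (x i') (b i j) = if i = i' then 1 else 0 := by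
  rw [Helper11.classInner_conj_symm, T.hbx, conj_ite_one_zero]

theorem Table.hyb (T : Table x y b) (i : I) (j : J) (j' : J) :
    Cfsg.classInner (y j') (b i j) = if j = j' then 1 else 0 := by
  rw [Helper11.classInner_conj_symm, T.hby, conj_ite_one_zero]

theorem famE_orthonormal (T : Table x y b) (p p' : Option I) (q q' : Option J) :
    Cfsg.classInner (famE x y b p q) (famE x y b p' q') =
      if p = p' ∧ q = q' then 1 else 0 := by
  rcases p with _ | i <;> rcases q with _ | j <;> rcases p' with _ | i' <;> rcases q' with _ | j'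
  all_goals
    simp only [famE, classInner_sub_left', classInner_sub_right', classInner_neg_left,
      classInner_neg_right, T.h11, T.hx1, T.hy1, T.hb1, T.h1x, T.h1y, T.h1b, T.hxx, T.hyy, T.hxy,
      T.hyx, T.hbx, T.hby, T.hxb, T.hyb, T.hbb, Option.some.injEq, reduceCtorEq, and_true,
      true_and, and_false, false_and, if_true, if_false, neg_zero, sub_zero, neg_neg, and_self]
  all_goals (split_ifs <;> first | (exfalso; subst_vars; contradiction) | (exfalso; subst_vars; tauto) | norm_num)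

end Abstract

section Concrete
variable {G : Type*} [Group G] [Fintype G] {W₁ W₂ : Subgroup G}

theorem signedIrr_one : IsSignedIrr G (fun _ : G => (1 : ℂ)) := Or.inl (trivIrr G).2

/-- the third constituent of a norm-3 virtual character -/
theorem Dec3.third_signed {θ a b c x y : G → ℂ} (h : Dec3 θ a b c) (hx : IsSignedIrr G x)
    (hy : IsSignedIrr G y) (hθx : Cfsg.classInner θ x = 1) (hθy : Cfsg.classInner θ y = 1)
    (hxy : Cfsg.classInner x y = 0) : IsSignedIrr G (θ - x - y) := by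
  have hne : x ≠ y := by
    rintro rfl
    rw [signedIrr_norm hx] at hxy
    exact one_ne_zero hxy
  rcases (h.mem_iff hx).1 hθx with rfl | rfl | rfl <;>
    rcases (h.mem_iff hy).1 hθy with rfl | rfl | rfl
  · exact absurd rfl hne
  · have : θ - x - y = c := by rw [h.eq]; abel
    rw [this]; exact h.hc
  · have : θ - x - y = b := by rw [h.eq]; abel
    rw [this]; exact h.hb
  · have : θ - x - y = c := by rw [h.eq]; abel
    rw [this]; exact h.hc
  · exact absurd rfl hne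
  · have : θ - x - y = a := by rw [h.eq]; abel
    rw [this]; exact h.ha
  · have : θ - x - y = b := by rw [h.eq]; abel
    rw [this]; exact h.hb
  · have : θ - x - y = a := by rw [h.eq]; abel
    rw [this]; exact h.ha
  · exact absurd rfl hne

/-- the index of a linear character: `none` for the trivial one -/
noncomputable def optIdx {A : Type*} [Group A] (a : A) : Option {a : A // a ≠ 1} :=
  open Classical in if h : a = 1 then none else some ⟨a, h⟩

theorem optIdx_one {A : Type*} [Group A] : optIdx (1 : A) = none := by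
  unfold optIdx
  rw [dif_pos rfl]

theorem optIdx_of_ne {A : Type*} [Group A] {a : A} (h : a ≠ 1) : optIdx a = some ⟨a, h⟩ := by
  unfold optIdx
  rw [dif_neg h]

theorem optIdx_injective {A : Type*} [Group A] : Function.Injective (optIdx (A := A)) := by
  intro a a' h
  by_cases ha : a = 1 <;> by_cases ha' : a' = 1
  · rw [ha, ha']
  · rw [ha, optIdx_one, optIdx_of_ne ha'] at h
    exact absurd h (by simp)
  · rw [ha', optIdx_one, optIdx_of_ne ha] at h
    exact absurd h (by simp)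
  · rw [optIdx_of_ne ha, optIdx_of_ne ha'] at h
    have := Option.some.inj h
    exact congrArg Subtype.val this

open Classical in
/-- the orthonormal family of signed irreducibles attached to a self-normalising cyclic subgroup,
indexed by pairs `(φ, ψ)` -/
theorem exists_family (hW : Cfsg.IsSelfNormalizingCyclic W₁ W₂)
    (hodd : Odd (Nat.card ↥(W₁ ⊔ W₂))) :
    ∃ η : ↥(annih (W₂.subgroupOf (W₁ ⊔ W₂))) → ↥(annih (W₁.subgroupOf (W₁ ⊔ W₂))) → G → ℂ,
      (∀ φ ψ, IsSignedIrr G (η φ ψ)) ∧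
      (∀ φ ψ φ' ψ', Cfsg.classInner (η φ ψ) (η φ' ψ') = if φ = φ' ∧ ψ = ψ' then 1 else 0) ∧
      (η 1 1 = fun _ => 1) ∧
      (∀ (φ : ↥(annih (W₂.subgroupOf (W₁ ⊔ W₂)))) (ψ : ↥(annih (W₁.subgroupOf (W₁ ⊔ W₂)))),
        Cfsg.indFun (W₁ ⊔ W₂) (betaFun (φ : ↥(W₁ ⊔ W₂) →* ℂˣ) (ψ : ↥(W₁ ⊔ W₂) →* ℂˣ)) =
        η 1 1 - η φ 1 - η 1 ψ + η φ ψ) := by
  obtain ⟨hne1, hne2, hdisjW, -, hcyc, -⟩ := id hW
  set H₁ := W₁.subgroupOf (W₁ ⊔ W₂) with hH₁
  set H₂ := W₂.subgroupOf (W₁ ⊔ W₂) with hH₂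
  obtain ⟨x, y, hxs, hys, hpx, hpy⟩ := exists_pivots hW hodd
  have hφtriv : ∀ φ : ↥(annih H₂), ∀ w : ↥(W₁ ⊔ W₂), (w : G) ∈ W₂ →
      (φ : ↥(W₁ ⊔ W₂) →* ℂˣ) w = 1 := fun φ w hw => φ.2 w (Subgroup.mem_subgroupOf.mpr hw)
  have hψtriv : ∀ ψ : ↥(annih H₁), ∀ w : ↥(W₁ ⊔ W₂), (w : G) ∈ W₁ →
      (ψ : ↥(W₁ ⊔ W₂) →* ℂˣ) w = 1 := fun ψ w hw => ψ.2 w (Subgroup.mem_subgroupOf.mpr hw)
  have hneI : ∀ i : {a : ↥(annih H₂) // a ≠ 1}, ((i.1 : ↥(annih H₂)) : ↥(W₁ ⊔ W₂) →* ℂˣ) ≠ 1 :=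
    fun i h => i.2 (Subtype.ext h)
  have hneJ : ∀ j : {b : ↥(annih H₁) // b ≠ 1}, ((j.1 : ↥(annih H₁)) : ↥(W₁ ⊔ W₂) →* ℂˣ) ≠ 1 :=
    fun j h => j.2 (Subtype.ext h)
  -- nontrivial characters exist
  have hcomm : ∀ a b : ↥(W₁ ⊔ W₂), a * b = b * a := by
    have := @IsCyclic.isMulCommutative _ _ hcyc
    exact mul_comm'
  have hd : H₁ ⊓ H₂ = ⊥ := by
    rw [eq_bot_iff]
    intro u hu
    have h1 : (u : G) ∈ W₁ ⊓ W₂ := ⟨Subgroup.mem_subgroupOf.mp hu.1, Subgroup.mem_subgroupOf.mp hu.2⟩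
    rw [hdisjW, Subgroup.mem_bot] at h1
    rw [Subgroup.mem_bot]
    exact Subtype.ext h1
  have hs : H₁ ⊔ H₂ = ⊤ := by
    rw [hH₁, hH₂, ← Subgroup.subgroupOf_sup le_sup_left le_sup_right, Subgroup.subgroupOf_self]
  obtain ⟨hcΦ, hcΨ⟩ := card_annih_eq hcomm H₁ H₂ hd hs
  have hcH₁ : Nat.card H₁ = Nat.card W₁ :=
    Nat.card_congr (Subgroup.subgroupOfEquivOfLe le_sup_left).toEquiv
  have hcH₂ : Nat.card H₂ = Nat.card W₂ :=
    Nat.card_congr (Subgroup.subgroupOfEquivOfLe le_sup_right).toEquiv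
  have hodd1 : Odd (Nat.card W₁) :=
    Odd.of_dvd_nat hodd (Subgroup.card_dvd_of_le (le_sup_left : W₁ ≤ W₁ ⊔ W₂))
  have hodd2 : Odd (Nat.card W₂) :=
    Odd.of_dvd_nat hodd (Subgroup.card_dvd_of_le (le_sup_right : W₂ ≤ W₁ ⊔ W₂))
  have hn₁ : 3 ≤ Nat.card W₁ := by
    have h1 : Nat.card W₁ ≠ 1 := fun h => hne1 (Subgroup.card_eq_one.mp h)
    have h0 : 0 < Nat.card W₁ := Nat.card_pos
    obtain ⟨k, hk⟩ := hodd1
    omega
  have hn₂ : 3 ≤ Nat.card W₂ := by
    have h1 : Nat.card W₂ ≠ 1 := fun h => hne2 (Subgroup.card_eq_one.mp h)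
    have h0 : 0 < Nat.card W₂ := Nat.card_pos
    obtain ⟨k, hk⟩ := hodd2
    omega
  obtain ⟨φa, φb, hφa, hφb, hφab⟩ := exists_two_ne_one (A := ↥(annih H₂))
    (by rw [hcΦ, hcH₁]; exact hn₁)
  obtain ⟨ψa, ψb, hψa, hψb, hψab⟩ := exists_two_ne_one (A := ↥(annih H₁))
    (by rw [hcΨ, hcH₂]; exact hn₂)
  have hIother : ∀ i : {a : ↥(annih H₂) // a ≠ 1}, ∃ i', i' ≠ i := by
    intro i
    by_cases h : (⟨φa, hφa⟩ : {a : ↥(annih H₂) // a ≠ 1}) = i
    · refine ⟨⟨φb, hφb⟩, fun h' => hφab ?_⟩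
      have := h.trans h'.symm
      exact congrArg Subtype.val this
    · exact ⟨_, h⟩
  have hJother : ∀ j : {b : ↥(annih H₁) // b ≠ 1}, ∃ j', j' ≠ j := by
    intro j
    by_cases h : (⟨ψa, hψa⟩ : {b : ↥(annih H₁) // b ≠ 1}) = j
    · refine ⟨⟨ψb, hψb⟩, fun h' => hψab ?_⟩
      have := h.trans h'.symm
      exact congrArg Subtype.val this
    · exact ⟨_, h⟩
  set b : {a : ↥(annih H₂) // a ≠ 1} → {b : ↥(annih H₁) // b ≠ 1} → G → ℂ :=
    fun i j => beta W₁ W₂ (i.1 : ↥(W₁ ⊔ W₂) →* ℂˣ) (j.1 : ↥(W₁ ⊔ W₂) →* ℂˣ) with hb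
  have hb1 : ∀ i j, Cfsg.classInner (b i j) (fun _ => 1) = 0 := fun i j =>
    beta_inner_one hW (hneI i) (hneJ j) (hφtriv i.1) (hψtriv j.1)
  have hgram : ∀ i j i' j', Cfsg.classInner (b i j) (b i' j') =
      (if i = i' then 1 else 0) + (if j = j' then 1 else 0) +
        (if i = i' then 1 else 0) * (if j = j' then 1 else 0) := by
    intro i j i' j'
    have h := beta_gram hW (hneI i) (hneI i') (hneJ j) (hneJ j') (hφtriv i.1) (hφtriv i'.1)
      (hψtriv j.1) (hψtriv j'.1)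
    rw [hb]
    simp only
    rw [h]
    have e1 : (((i.1 : ↥(annih H₂)) : ↥(W₁ ⊔ W₂) →* ℂˣ) = ((i'.1 : ↥(annih H₂)) : ↥(W₁ ⊔ W₂) →* ℂˣ))
        ↔ i = i' := by
      constructor
      · intro h; exact Subtype.ext (Subtype.ext h)
      · intro h; rw [h]
    have e2 : (((j.1 : ↥(annih H₁)) : ↥(W₁ ⊔ W₂) →* ℂˣ) = ((j'.1 : ↥(annih H₁)) : ↥(W₁ ⊔ W₂) →* ℂˣ))
        ↔ j = j' := by
      constructor
      · intro h; exact Subtype.ext (Subtype.ext h)
      · intro h; rw [h]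
    by_cases hi : i = i' <;> by_cases hj : j = j'
    · rw [if_pos (e1.2 hi), if_pos (e2.2 hj), if_pos hi, if_pos hj]
    · rw [if_pos (e1.2 hi), if_neg (fun h => hj (e2.1 h)), if_pos hi, if_neg hj]
    · rw [if_neg (fun h => hi (e1.1 h)), if_pos (e2.2 hj), if_neg hi, if_pos hj]
    · rw [if_neg (fun h => hi (e1.1 h)), if_neg (fun h => hj (e2.1 h)), if_neg hi, if_neg hj]
  -- a signed irreducible with a known nonzero coefficient differs from another with zero one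
  have orth_of : ∀ {u v θ : G → ℂ}, IsSignedIrr G u → IsSignedIrr G v →
      Cfsg.classInner θ u = 1 → Cfsg.classInner θ v = 0 → Cfsg.classInner u v = 0 := by
    intro u v θ hu hv h1 h0
    rcases signedIrr_inner hu hv with h | ⟨-, h⟩ | ⟨-, h⟩
    · exact h
    · rw [h, h0] at h1; exact absurd h1 (by norm_num)
    · rw [h, classInner_neg_right, h0] at h1; exact absurd h1 (by norm_num)
  have T : Table x y b := by
    refine ⟨Cfsg.Agent.Lib.Helper29.BSQ8.q8_triv_norm, ?_, ?_, hb1, ?_, ?_, ?_, ?_, ?_, hgram⟩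
    · intro i
      have h1 := hpx i i ⟨ψa, hψa⟩
      rw [if_pos rfl] at h1
      exact orth_of (hxs i) signedIrr_one h1 (hb1 i ⟨ψa, hψa⟩)
    · intro j
      have h1 := hpy ⟨φa, hφa⟩ j j
      rw [if_pos rfl] at h1
      exact orth_of (hys j) signedIrr_one h1 (hb1 ⟨φa, hφa⟩ j)
    · intro i i'
      by_cases h : i = i'
      · rw [if_pos h, h]; exact signedIrr_norm (hxs i')
      · rw [if_neg h]
        have h1 := hpx i i ⟨ψa, hψa⟩
        rw [if_pos rfl] at h1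
        have h0 := hpx i' i ⟨ψa, hψa⟩
        rw [if_neg h] at h0
        exact orth_of (hxs i) (hxs i') h1 h0
    · intro j j'
      by_cases h : j = j'
      · rw [if_pos h, h]; exact signedIrr_norm (hys j')
      · rw [if_neg h]
        have h1 := hpy ⟨φa, hφa⟩ j j
        rw [if_pos rfl] at h1
        have h0 := hpy ⟨φa, hφa⟩ j' j
        rw [if_neg h] at h0
        exact orth_of (hys j) (hys j') h1 h0
    · intro i j
      obtain ⟨i', hi'⟩ := hIother i
      have h1 := hpy i' j j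
      rw [if_pos rfl] at h1
      have h0 := hpx i i' j
      rw [if_neg hi'] at h0
      rw [Helper11.classInner_conj_symm, orth_of (hys j) (hxs i) h1 h0, map_zero]
    · intro i j i'
      exact hpx i' i j
    · intro i j j'
      exact hpy i j' j
  refine ⟨fun φ ψ => famE x y b (optIdx φ) (optIdx ψ), ?_, ?_, ?_, ?_⟩
  · intro φ ψ
    show IsSignedIrr G (famE x y b (optIdx φ) (optIdx ψ))
    by_cases hφ : φ = 1 <;> by_cases hψ : ψ = 1
    · rw [hφ, hψ, optIdx_one, optIdx_one]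
      exact signedIrr_one
    · rw [hφ, optIdx_one, optIdx_of_ne hψ]
      exact signedIrr_neg (hys _)
    · rw [hψ, optIdx_one, optIdx_of_ne hφ]
      exact signedIrr_neg (hxs _)
    · rw [optIdx_of_ne hφ, optIdx_of_ne hψ]
      show IsSignedIrr G (b ⟨φ, hφ⟩ ⟨ψ, hψ⟩ - x ⟨φ, hφ⟩ - y ⟨ψ, hψ⟩)
      obtain ⟨a', b', c', hd3⟩ : ∃ a' b' c', Dec3 (b ⟨φ, hφ⟩ ⟨ψ, hψ⟩) a' b' c' := by
        apply exists_dec3 _ (beta_genChar W₁ W₂ _ _)
        rw [hgram, if_pos rfl, if_pos rfl]; norm_num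
      have h1 := hpx ⟨φ, hφ⟩ ⟨φ, hφ⟩ ⟨ψ, hψ⟩
      rw [if_pos rfl] at h1
      have h2 := hpy ⟨φ, hφ⟩ ⟨ψ, hψ⟩ ⟨ψ, hψ⟩
      rw [if_pos rfl] at h2
      exact hd3.third_signed (hxs _) (hys _) h1 h2 (T.hxy _ _)
  · intro φ ψ φ' ψ'
    show Cfsg.classInner (famE x y b (optIdx φ) (optIdx ψ)) (famE x y b (optIdx φ') (optIdx ψ')) = _
    rw [famE_orthonormal T]
    by_cases h : φ = φ' ∧ ψ = ψ'
    · rw [if_pos h, if_pos ⟨by rw [h.1], by rw [h.2]⟩]
    · rw [if_neg h, if_neg]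
      rintro ⟨h1, h2⟩
      exact h ⟨optIdx_injective h1, optIdx_injective h2⟩
  · show famE x y b (optIdx 1) (optIdx 1) = _
    rw [optIdx_one, optIdx_one]
    rfl
  · intro φ ψ
    show _ = famE x y b (optIdx 1) (optIdx 1) - famE x y b (optIdx φ) (optIdx 1) -
      famE x y b (optIdx 1) (optIdx ψ) + famE x y b (optIdx φ) (optIdx ψ)
    by_cases hφ : φ = 1
    · have e : betaFun ((φ : ↥(annih H₂)) : ↥(W₁ ⊔ W₂) →* ℂˣ) (ψ : ↥(W₁ ⊔ W₂) →* ℂˣ) =
          fun _ => 0 := by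
        funext w
        apply betaFun_eq_zero_left
        rw [hφ]; rfl
      rw [e, Helper11.indFun_zero, hφ]
      funext g
      simp
    by_cases hψ : ψ = 1
    · have e : betaFun ((φ : ↥(annih H₂)) : ↥(W₁ ⊔ W₂) →* ℂˣ) (ψ : ↥(W₁ ⊔ W₂) →* ℂˣ) =
          fun _ => 0 := by
        funext w
        apply betaFun_eq_zero_right
        rw [hψ]; rfl
      rw [e, Helper11.indFun_zero, hψ]
      funext g
      simp
    rw [optIdx_one, optIdx_one, optIdx_of_ne hφ, optIdx_of_ne hψ]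
    show _ = (fun _ => 1) - -x ⟨φ, hφ⟩ - -y ⟨ψ, hψ⟩ +
      (beta W₁ W₂ (φ : ↥(W₁ ⊔ W₂) →* ℂˣ) (ψ : ↥(W₁ ⊔ W₂) →* ℂˣ) - x ⟨φ, hφ⟩ - y ⟨ψ, hψ⟩)
    unfold beta
    funext g
    simp only [Pi.sub_apply, Pi.add_apply, Pi.neg_apply]
    ring

end Concrete

end Cfsg.Agent.Lib.Helper29.CTI
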