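import Cfsg.Agent.Lib.helper14.CT.Defs
import Cfsg.Agent.Lib.Helper29.CTLOC5core

/-!
# Project CT, piece LOC4 (helper29): core

`ctloc4s_core`: `loc_self` with the statements of `ct_comm` and `loc_nonself` as hypotheses
(Steinberg's commutator trick inside an `A₂` neighbour, chosen by a `decide` certificate).
-/

set_option autoImplicit false
set_option linter.unusedVariables false

namespace Cfsg.Agent.Lib.helper14.CT

open Cfsg.Lie Cfsg.Lie.ChevalleyDatum Cfsg.Agent.Lib.helper8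

universe u

variable {D : ChevalleyDatum} {K : Type u} [Field K]

/-- `r, s ∈ Φ_ik \ {±α_i}` with `[x_s, x_r] = x_p(±tu)` and `[x_{s_i s}, x_{s_i r}] = x_{p'}(±tu)` -/
def ctloc4s_pair (D : ChevalleyDatum) (i k p p' r s : ℕ) : Prop :=
  D.InRankTwoSub i k r ∧ D.InRankTwoSub i k s ∧ r ≠ D.simple i ∧ r ≠ D.neg (D.simple i) ∧
  s ≠ D.simple i ∧ s ≠ D.neg (D.simple i) ∧ s ≠ r ∧ s ≠ D.neg r ∧
  (D.commTerms r s = [(p, 1, 1, 1)] ∨ D.commTerms r s = [(p, -1, 1, 1)]) ∧
  D.InRankTwoSub i k (D.reflectRoot i r) ∧ D.InRankTwoSub i k (D.reflectRoot i s) ∧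
  D.reflectRoot i s ≠ D.reflectRoot i r ∧ D.reflectRoot i s ≠ D.neg (D.reflectRoot i r) ∧
  (D.commTerms (D.reflectRoot i r) (D.reflectRoot i s) = [(p', 1, 1, 1)] ∨
    D.commTerms (D.reflectRoot i r) (D.reflectRoot i s) = [(p', -1, 1, 1)])

instance ctloc4s_decPair (D : ChevalleyDatum) (i k p p' r s : ℕ) :
    Decidable (ctloc4s_pair D i k p p' r s) := by
  unfold ctloc4s_pair
  infer_instance

/-- the certificate for the node `i`: an `A₂` neighbour `k` and the two pairs -/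
def ctloc4s_cert (D : ChevalleyDatum) (i : ℕ) : Prop :=
  ∃ k < D.rank,
    (∃ r ∈ ctloc5_phi D i k, ∃ s ∈ ctloc5_phi D i k,
      ctloc4s_pair D i k (D.simple i) (D.neg (D.simple i)) r s) ∧
    (∃ r ∈ ctloc5_phi D i k, ∃ s ∈ ctloc5_phi D i k,
      ctloc4s_pair D i k (D.neg (D.simple i)) (D.simple i) r s)

instance ctloc4s_decCert (D : ChevalleyDatum) (i : ℕ) : Decidable (ctloc4s_cert D i) := by
  unfold ctloc4s_cert
  infer_instance

set_option maxRecDepth 100000 in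
theorem ctloc4s_cert_D4 : ∀ i < chevD4.rank, ctloc4s_cert chevD4 i := by
  decide +kernel

set_option maxRecDepth 100000 in
theorem ctloc4s_cert_F4 : ∀ i < chevF4.rank, ctloc4s_cert chevF4 i := by
  decide +kernel

set_option maxRecDepth 100000 in
theorem ctloc4s_cert_E6 : ∀ i < chevE6.rank, ctloc4s_cert chevE6 i := by
  decide +kernel

set_option maxRecDepth 100000 in
theorem ctloc4s_cert_E7 : ∀ i < chevE7.rank, ctloc4s_cert chevE7 i := by
  decide +kernel

set_option maxRecDepth 100000 in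
theorem ctloc4s_cert_E8 : ∀ i < chevE8.rank, ctloc4s_cert chevE8 i := by
  decide +kernel

theorem ctloc4s_cert_all (hD : D ∈ [chevD4, chevF4, chevE6, chevE7, chevE8]) :
    ∀ i < D.rank, ctloc4s_cert D i := by
  simp only [List.mem_cons, List.not_mem_nil, or_false] at hD
  rcases hD with rfl | rfl | rfl | rfl | rfl
  · exact ctloc4s_cert_D4
  · exact ctloc4s_cert_F4
  · exact ctloc4s_cert_E6
  · exact ctloc4s_cert_E7
  · exact ctloc4s_cert_E8

/-- the commutator word of a pair with a single term `(p, C, 1, 1)` -/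
theorem ctloc4s_commWord (r s p : ℕ) (C : ℤ) (h : D.commTerms r s = [(p, C, 1, 1)]) (t u : K) :
    h8wX (xh D K) (D.commWord K r s t u) = xh D K p ((C : K) * (-t) * u) := by
  unfold ChevalleyDatum.commWord
  rw [h]
  simp [h8wX]

/-- pure group theory: transporting a commutator relation `[x_s(u), x_r(t)] = x_p(C(-t)u)` along `y` -/
theorem ctloc4s_transport {Γ : Type*} [Group Γ] (X : ℕ → K → Γ) (y : Γ) (r s p r' s' p' : ℕ) (C C' a b : K)
    (hC : C * C = 1)
    (h1 : ∀ t u : K, X s u * X r t = X r t * X s u * X p (C * (-t) * u))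
    (h2 : ∀ t u : K, X s' u * X r' t = X r' t * X s' u * X p' (C' * (-t) * u))
    (hr : ∀ t : K, y * X r t * y⁻¹ = X r' (a * t)) (hs : ∀ t : K, y * X s t * y⁻¹ = X s' (b * t)) :
    ∀ t : K, y * X p t * y⁻¹ = X p' (C * C' * a * b * t) := by
  intro t
  have e1 : X p t = (X r (-(C * t)) * X s 1)⁻¹ * (X s 1 * X r (-(C * t))) := by
    have := h1 (-(C * t)) 1
    have ht : C * (-(-(C * t))) * 1 = t := by
      rw [neg_neg, mul_one, ← mul_assoc, hC, one_mul]
    rw [ht] at this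
    rw [this]
    group
  have e2 : X p' (C * C' * a * b * t) =
      (X r' (a * (-(C * t))) * X s' (b * 1))⁻¹ * (X s' (b * 1) * X r' (a * (-(C * t)))) := by
    have := h2 (a * (-(C * t))) (b * 1)
    have ht : C' * (-(a * (-(C * t)))) * (b * 1) = C * C' * a * b * t := by ring
    rw [ht] at this
    rw [this]
    group
  rw [e2, ← hr, ← hs, e1]
  group

/-- one half of `loc_self` from a pair -/
theorem ctloc4s_step
    (Hcomm : ∀ (i j r s : ℕ), D.InRankTwoSub i j r → D.InRankTwoSub i j s → s ≠ r → s ≠ D.neg r →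
      ∀ t u : K, xh D K s u * xh D K r t =
        xh D K r t * xh D K s u * h8wX (xh D K) (D.commWord K r s t u))
    (Hnon : ∀ (i k : ℕ), i < D.rank → k < D.rank → ∀ (r : ℕ), D.InRankTwoSub i k r →
      (r ≠ D.simple i ∧ r ≠ D.neg (D.simple i)) → ∀ (c : K), c ≠ 0 →
      H8ActX (xh D K) (h8nS D (xh D K) (D.simple i) c) r (D.reflectRoot i r))
    (i k : ℕ) (hi : i < D.rank) (hk : k < D.rank) (p p' r s : ℕ) (h : ctloc4s_pair D i k p p' r s)
    (c : K) (hc : c ≠ 0) :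
    H8ActX (xh D K) (h8nS D (xh D K) (D.simple i) c) p p' := by
  obtain ⟨hr, hs, hr1, hr2, hs1, hs2, hsr, hsnr, hct, hr', hs', hsr', hsnr', hct'⟩ := h
  obtain ⟨a, ha, hra⟩ := Hnon i k hi hk r hr ⟨hr1, hr2⟩ c hc
  obtain ⟨b, hb, hsb⟩ := Hnon i k hi hk s hs ⟨hs1, hs2⟩ c hc
  -- the two signs
  obtain ⟨C, hC, hCt⟩ : ∃ C : ℤ, (C = 1 ∨ C = -1) ∧ D.commTerms r s = [(p, C, 1, 1)] := by
    rcases hct with h | h
    · exact ⟨1, Or.inl rfl, h⟩
    · exact ⟨-1, Or.inr rfl, h⟩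
  obtain ⟨C', hC', hCt'⟩ : ∃ C' : ℤ, (C' = 1 ∨ C' = -1) ∧
      D.commTerms (D.reflectRoot i r) (D.reflectRoot i s) = [(p', C', 1, 1)] := by
    rcases hct' with h | h
    · exact ⟨1, Or.inl rfl, h⟩
    · exact ⟨-1, Or.inr rfl, h⟩
  have hCK : (C : K) * (C : K) = 1 := by
    rcases hC with rfl | rfl <;> simp
  have hC0 : (C : K) ≠ 0 := by
    intro h0
    rw [h0, zero_mul] at hCK
    exact zero_ne_one hCK
  have hC'0 : (C' : K) ≠ 0 := by
    rcases hC' with rfl | rfl <;> simp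
  have h1 : ∀ t u : K, xh D K s u * xh D K r t =
      xh D K r t * xh D K s u * xh D K p ((C : K) * (-t) * u) := by
    intro t u
    rw [Hcomm i k r s hr hs hsr hsnr t u, ctloc4s_commWord r s p C hCt]
  have h2 : ∀ t u : K, xh D K (D.reflectRoot i s) u * xh D K (D.reflectRoot i r) t =
      xh D K (D.reflectRoot i r) t * xh D K (D.reflectRoot i s) u *
        xh D K p' ((C' : K) * (-t) * u) := by
    intro t u
    rw [Hcomm i k _ _ hr' hs' hsr' hsnr' t u, ctloc4s_commWord _ _ p' C' hCt']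
  refine ⟨(C : K) * (C' : K) * a * b, ?_, ?_⟩
  · exact mul_ne_zero (mul_ne_zero (mul_ne_zero hC0 hC'0) ha) hb
  · exact ctloc4s_transport (xh D K) _ r s p _ _ p' (C : K) (C' : K) a b hCK h1 h2 hra hsb

/-- `loc_self` with the statements of `ct_comm` and `loc_nonself` as hypotheses -/
theorem ctloc4s_core (hD : D ∈ [chevD4, chevF4, chevE6, chevE7, chevE8])
    (Hcomm : ∀ (i j r s : ℕ), D.InRankTwoSub i j r → D.InRankTwoSub i j s → s ≠ r → s ≠ D.neg r →
      ∀ t u : K, xh D K s u * xh D K r t =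
        xh D K r t * xh D K s u * h8wX (xh D K) (D.commWord K r s t u))
    (Hnon : ∀ (i k : ℕ), i < D.rank → k < D.rank → ∀ (r : ℕ), D.InRankTwoSub i k r →
      (r ≠ D.simple i ∧ r ≠ D.neg (D.simple i)) → ∀ (c : K), c ≠ 0 →
      H8ActX (xh D K) (h8nS D (xh D K) (D.simple i) c) r (D.reflectRoot i r))
    (i : ℕ) (hi : i < D.rank) (c : K) (hc : c ≠ 0) :
    H8ActX (xh D K) (h8nS D (xh D K) (D.simple i) c) (D.simple i) (D.neg (D.simple i)) ∧
    H8ActX (xh D K) (h8nS D (xh D K) (D.simple i) c) (D.neg (D.simple i)) (D.simple i) := by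
  obtain ⟨k, hk, ⟨r, _, s, _, h1⟩, ⟨r₂, _, s₂, _, h2⟩⟩ := ctloc4s_cert_all hD i hi
  exact ⟨ctloc4s_step Hcomm Hnon i k hi hk _ _ r s h1 c hc,
    ctloc4s_step Hcomm Hnon i k hi hk _ _ r₂ s₂ h2 c hc⟩

end Cfsg.Agent.Lib.helper14.CT
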