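import Mathlib

/-!
# Core module computation for S4407

Operators `α β τ γ` on an `𝔽₂`-module satisfying the relations of `3² : D₈`
(`α, β` generators of `3²`, `τ` a reflection, `γ` a rotation of order 4), with
`M = Fix α + Fix β`, `Fix α ∩ Fix β = 0`, and irreducibility.
-/

set_option autoImplicit false

namespace Cfsg.Agent.Lib.Helper29.D8Mod

theorem add_self_two {M : Type*} [AddCommGroup M] [Module (ZMod 2) M] (x : M) : x + x = 0 := by
  have h : (2 : ZMod 2) • x = 0 := by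
    have : (2 : ZMod 2) = 0 := by decide
    rw [this, zero_smul]
  rwa [two_smul] at h

theorem neg_self_two {M : Type*} [AddCommGroup M] [Module (ZMod 2) M] (x : M) : -x = x :=
  neg_eq_of_add_eq_zero_left (add_self_two x)

theorem eq_of_add_eq_zero_two {M : Type*} [AddCommGroup M] [Module (ZMod 2) M] {x y : M}
    (h : x + y = 0) : x = y := by
  have := eq_neg_of_add_eq_zero_left h
  rwa [neg_self_two] at this

theorem zmod2_cases (x : ZMod 2) : x = 0 ∨ x = 1 := by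
  revert x; decide

structure Rel (M : Type*) [AddCommGroup M] [Module (ZMod 2) M] where
  α : M →ₗ[ZMod 2] M
  β : M →ₗ[ZMod 2] M
  τ : M →ₗ[ZMod 2] M
  γ : M →ₗ[ZMod 2] M
  α3 : ∀ m, α (α (α m)) = m
  β3 : ∀ m, β (β (β m)) = m
  αβ : ∀ m, α (β m) = β (α m)
  τ2 : ∀ m, τ (τ m) = m
  γ4 : ∀ m, γ (γ (γ (γ m))) = m
  τα : ∀ m, τ (α m) = α (τ m)
  τβ : ∀ m, τ (β m) = β (β (τ m))
  γα : ∀ m, γ (α m) = β (γ m)
  γβ : ∀ m, γ (β m) = α (α (γ m))
  τγ : ∀ m, τ (γ m) = γ (γ (γ (τ m)))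
  fix0 : ∀ m, α m = m → β m = m → m = 0
  irr : ∀ N : Submodule (ZMod 2) M, (∀ m ∈ N, α m ∈ N) → (∀ m ∈ N, β m ∈ N) →
    (∀ m ∈ N, τ m ∈ N) → (∀ m ∈ N, γ m ∈ N) → N = ⊥ ∨ N = ⊤

structure Ops (M : Type*) [AddCommGroup M] [Module (ZMod 2) M] extends Rel M where
  sum : ∀ m, ∃ m1 m2, α m1 = m1 ∧ β m2 = m2 ∧ m = m1 + m2

namespace Rel

variable {M : Type*} [AddCommGroup M] [Module (ZMod 2) M] (R : Rel M)

theorem γ_inj {x y : M} (h : R.γ x = R.γ y) : x = y := by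
  have := congrArg (fun z => R.γ (R.γ (R.γ z))) h
  simpa [R.γ4] using this

theorem β_inj {x y : M} (h : R.β x = R.β y) : x = y := by
  have := congrArg (fun z => R.β (R.β z)) h
  simpa [R.β3] using this

/-- `α γ = γ β²`. -/
theorem αγ (m : M) : R.α (R.γ m) = R.γ (R.β (R.β m)) := by
  simp only [R.γβ, R.α3]

/-- `β γ = γ α`. -/
theorem βγ (m : M) : R.β (R.γ m) = R.γ (R.α m) := (R.γα m).symm

/-- `τ` commutes with `γ²`. -/
theorem τγγ (m : M) : R.τ (R.γ (R.γ m)) = R.γ (R.γ (R.τ m)) := by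
  simp only [R.τγ, R.γ4]

/-- `γ² β = β² γ²`. -/
theorem γγβ (m : M) : R.γ (R.γ (R.β m)) = R.β (R.β (R.γ (R.γ m))) := by
  simp only [R.γβ, R.γα]

/-- relabelled generators `(ab, a²b, ct, c)`. -/
def relabel : Rel M where
  α := R.α ∘ₗ R.β
  β := R.α ∘ₗ R.α ∘ₗ R.β
  τ := R.γ ∘ₗ R.τ
  γ := R.γ
  α3 := by
    intro m
    simp only [LinearMap.coe_comp, Function.comp_apply, R.αβ, R.α3, R.β3]
  β3 := by
    intro m
    simp only [LinearMap.coe_comp, Function.comp_apply, R.αβ, R.α3, R.β3]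
  αβ := by
    intro m
    simp only [LinearMap.coe_comp, Function.comp_apply, R.αβ, R.α3, R.β3]
  τ2 := by
    intro m
    simp only [LinearMap.coe_comp, Function.comp_apply, R.τγ, R.γ4, R.τ2]
  γ4 := R.γ4
  τα := by
    intro m
    simp only [LinearMap.coe_comp, Function.comp_apply, R.τα, R.τβ, R.γα, R.γβ, R.αβ, R.α3, R.β3]
  τβ := by
    intro m
    simp only [LinearMap.coe_comp, Function.comp_apply, R.τα, R.τβ, R.γα, R.γβ, R.αβ, R.α3, R.β3]
  γα := by
    intro m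
    simp only [LinearMap.coe_comp, Function.comp_apply, R.τα, R.τβ, R.γα, R.γβ, R.αβ, R.α3, R.β3]
  γβ := by
    intro m
    simp only [LinearMap.coe_comp, Function.comp_apply, R.τα, R.τβ, R.γα, R.γβ, R.αβ, R.α3, R.β3]
  τγ := by
    intro m
    simp only [LinearMap.coe_comp, Function.comp_apply, R.τγ, R.γ4]
  fix0 := by
    intro m h1 h2
    simp only [LinearMap.coe_comp, Function.comp_apply] at h1 h2
    have hα : R.α m = m := by rw [h1] at h2; exact h2
    have hβ : R.β m = m := by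
      have := congrArg (fun x => R.α (R.α x)) h1
      simp only [R.α3, hα] at this
      exact this
    exact R.fix0 m hα hβ
  irr := by
    intro N h1 h2 h3 h4
    have hββ : ∀ m ∈ N, R.β (R.β m) ∈ N := by
      intro m hm
      have := h2 _ (h1 m hm)
      simp only [LinearMap.coe_comp, Function.comp_apply, R.αβ, R.α3] at this
      exact this
    have hβ : ∀ m ∈ N, R.β m ∈ N := by
      intro m hm
      have := hββ _ (hββ m hm)
      simp only [R.β3] at this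
      exact this
    have hα : ∀ m ∈ N, R.α m ∈ N := by
      intro m hm
      have := h1 _ (hββ m hm)
      simp only [LinearMap.coe_comp, Function.comp_apply, R.β3] at this
      exact this
    have hτ : ∀ m ∈ N, R.τ m ∈ N := by
      intro m hm
      have := h4 _ (h4 _ (h4 _ (h3 m hm)))
      simp only [LinearMap.coe_comp, Function.comp_apply, R.γ4] at this
      exact this
    exact R.irr N hα hβ hτ h4

end Rel

namespace Ops

variable {M : Type*} [AddCommGroup M] [Module (ZMod 2) M] (O : Ops M)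

/-- trace of `β` vanishes on `Fix α`. -/
theorem trβ (m : M) (hm : O.α m = m) : O.β (O.β m) = m + O.β m := by
  have h0 : m + O.β m + O.β (O.β m) = 0 := by
    apply O.fix0
    · simp only [map_add, O.αβ, hm]
    · simp only [map_add, O.β3]; abel
  have h1 : O.β (O.β m) = -(m + O.β m) := eq_neg_of_add_eq_zero_right h0
  rw [h1, neg_self_two]


/-- Key invariance lemma. -/
theorem sup_eq_top (U : Submodule (ZMod 2) M) (u1 : ∀ u ∈ U, O.α u = u)
    (u2 : ∀ u ∈ U, O.β u ∈ U) (u3 : ∀ u ∈ U, O.τ u ∈ U)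
    (u4 : ∀ u ∈ U, O.γ (O.γ u) = O.τ u) (hU : U ≠ ⊥) : U ⊔ U.map O.γ = ⊤ := by
  have hα : ∀ m ∈ U ⊔ U.map O.γ, O.α m ∈ U ⊔ U.map O.γ := by
    intro m hm
    obtain ⟨u, hu, w, hw, rfl⟩ := Submodule.mem_sup.1 hm
    obtain ⟨u', hu', rfl⟩ := Submodule.mem_map.1 hw
    rw [map_add]
    refine Submodule.add_mem _ (Submodule.mem_sup_left ?_) (Submodule.mem_sup_right ?_)
    · rw [u1 u hu]; exact hu
    · rw [O.αγ]; exact Submodule.mem_map.2 ⟨_, u2 _ (u2 _ hu'), rfl⟩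
  have hβ : ∀ m ∈ U ⊔ U.map O.γ, O.β m ∈ U ⊔ U.map O.γ := by
    intro m hm
    obtain ⟨u, hu, w, hw, rfl⟩ := Submodule.mem_sup.1 hm
    obtain ⟨u', hu', rfl⟩ := Submodule.mem_map.1 hw
    rw [map_add]
    refine Submodule.add_mem _ (Submodule.mem_sup_left (u2 u hu)) (Submodule.mem_sup_right ?_)
    rw [O.βγ, u1 u' hu']; exact Submodule.mem_map.2 ⟨_, hu', rfl⟩
  have hτ : ∀ m ∈ U ⊔ U.map O.γ, O.τ m ∈ U ⊔ U.map O.γ := by
    intro m hm
    obtain ⟨u, hu, w, hw, rfl⟩ := Submodule.mem_sup.1 hm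
    obtain ⟨u', hu', rfl⟩ := Submodule.mem_map.1 hw
    rw [map_add]
    refine Submodule.add_mem _ (Submodule.mem_sup_left (u3 u hu)) (Submodule.mem_sup_right ?_)
    rw [O.τγ, u4 _ (u3 _ hu'), O.τ2]; exact Submodule.mem_map.2 ⟨_, hu', rfl⟩
  have hγ : ∀ m ∈ U ⊔ U.map O.γ, O.γ m ∈ U ⊔ U.map O.γ := by
    intro m hm
    obtain ⟨u, hu, w, hw, rfl⟩ := Submodule.mem_sup.1 hm
    obtain ⟨u', hu', rfl⟩ := Submodule.mem_map.1 hw
    rw [map_add]
    rw [add_comm]
    refine Submodule.add_mem _ (Submodule.mem_sup_left ?_) (Submodule.mem_sup_right ?_)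
    · rw [u4 _ hu']; exact u3 _ hu'
    · exact Submodule.mem_map.2 ⟨_, hu, rfl⟩
  rcases O.irr _ hα hβ hτ hγ with h | h
  · exfalso; apply hU; rw [eq_bot_iff]; exact le_sup_left.trans h.le
  · exact h

/-- directness of `Fix α + γ (Fix α)`. -/
theorem direct {u u' v v' : M} (hu : O.α u = u) (hu' : O.α u' = u') (hv : O.α v = v)
    (hv' : O.α v' = v') (h : u + O.γ v = u' + O.γ v') : u = u' ∧ v = v' := by
  have h1 : u - u' = O.γ (v' - v) := by
    rw [map_sub]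
    have : u - u' = (u + O.γ v) - O.γ v - u' := by abel
    rw [this, h]; abel
  have h2 : u - u' = 0 := by
    apply O.fix0
    · rw [map_sub, hu, hu']
    · rw [h1, O.βγ, map_sub, hv, hv']
  refine ⟨sub_eq_zero.1 h2, ?_⟩
  rw [h2] at h1
  have : O.γ (v' - v) = O.γ 0 := by rw [← h1, map_zero]
  have := O.γ_inj this
  exact (sub_eq_zero.1 this).symm

theorem le_of_sup (U : Submodule (ZMod 2) M) (u1 : ∀ u ∈ U, O.α u = u)
    (hU : U ⊔ U.map O.γ = ⊤) (m : M) (hm : O.α m = m) : m ∈ U := by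
  have : m ∈ U ⊔ U.map O.γ := by rw [hU]; trivial
  obtain ⟨u, hu, w, hw, hsum⟩ := Submodule.mem_sup.1 this
  obtain ⟨u', hu', rfl⟩ := Submodule.mem_map.1 hw
  have := O.direct hm (u1 u hu) (show O.α 0 = 0 by simp) (u1 u' hu') (by rw [map_zero, add_zero]; exact hsum.symm)
  rw [this.1]; exact hu

/-- `Fix α` is nonzero. -/
theorem exists_fixα [Nontrivial M] : ∃ m, m ≠ 0 ∧ O.α m = m := by
  obtain ⟨m, hm⟩ := exists_ne (0 : M)
  obtain ⟨m1, m2, h1, h2, rfl⟩ := O.sum m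
  by_cases h : m1 = 0
  · refine ⟨O.γ m2, ?_, ?_⟩
    · intro h0
      have : O.γ m2 = O.γ 0 := by rw [h0, map_zero]
      have := O.γ_inj this
      apply hm; rw [h, this, add_zero]
    · rw [O.αγ, h2, h2]
  · exact ⟨m1, h, h1⟩

/-- an involution commuting appropriately has a nonzero fixed vector in an invariant subspace. -/
theorem exists_fix_invol (f : M →ₗ[ZMod 2] M) (hf : ∀ m, f (f m) = m) (P : M → Prop)
    (hP0 : ∀ m, P m → P (f m)) (hPadd : ∀ m n, P m → P n → P (m + n))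
    (h : ∃ m, m ≠ 0 ∧ P m) : ∃ m, m ≠ 0 ∧ P m ∧ f m = m := by
  obtain ⟨m, hm, hPm⟩ := h
  by_cases h0 : m + f m = 0
  · exact ⟨m, hm, hPm, (eq_of_add_eq_zero_two h0).symm⟩
  · refine ⟨m + f m, h0, hPadd _ _ hPm (hP0 _ hPm), ?_⟩
    rw [map_add, hf, add_comm]

/-- C1: `γ² τ` acts trivially on `Fix α`. -/
theorem γγτ_fix [Nontrivial M] (m : M) (hm : O.α m = m) : O.γ (O.γ (O.τ m)) = m := by
  let U : Submodule (ZMod 2) M :=
    LinearMap.eqLocus O.α LinearMap.id ⊓ LinearMap.eqLocus (O.γ ∘ₗ O.γ ∘ₗ O.τ) LinearMap.id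
  have hmem : ∀ u, u ∈ U ↔ O.α u = u ∧ O.γ (O.γ (O.τ u)) = u := by
    intro u
    simp only [U, Submodule.mem_inf, LinearMap.mem_eqLocus, LinearMap.id_coe, id_eq,
      LinearMap.coe_comp, Function.comp_apply]
  have hγγ : ∀ u, O.γ (O.γ (O.τ u)) = u → O.γ (O.γ u) = O.τ u := by
    intro u hu
    have := congrArg (fun x => O.γ (O.γ x)) hu
    simp only [O.γ4] at this
    exact this.symm
  have u1 : ∀ u ∈ U, O.α u = u := fun u hu => ((hmem u).1 hu).1
  have u2 : ∀ u ∈ U, O.β u ∈ U := by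
    intro u hu
    obtain ⟨h1, h2⟩ := (hmem u).1 hu
    refine (hmem _).2 ⟨by rw [O.αβ, h1], ?_⟩
    rw [O.τβ, O.γγβ, O.γγβ, O.β3, h2]
  have u3 : ∀ u ∈ U, O.τ u ∈ U := by
    intro u hu
    obtain ⟨h1, h2⟩ := (hmem u).1 hu
    refine (hmem _).2 ⟨by rw [← O.τα, h1], ?_⟩
    rw [O.τ2, hγγ u h2]
  have u4 : ∀ u ∈ U, O.γ (O.γ u) = O.τ u := fun u hu => hγγ u ((hmem u).1 hu).2
  have hU : U ≠ ⊥ := by
    obtain ⟨m0, hm0, hP, hfix⟩ := exists_fix_invol (O.γ ∘ₗ O.γ ∘ₗ O.τ)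
      (by intro x; simp only [LinearMap.coe_comp, Function.comp_apply]; rw [O.τγγ, O.τ2, O.γ4])
      (fun x => O.α x = x)
      (by
        intro x hx
        simp only [LinearMap.coe_comp, Function.comp_apply]
        rw [O.αγ, O.βγ, O.βγ, ← O.τα, ← O.τα, hx, hx])
      (by intro x y hx hy; rw [map_add, hx, hy]) O.exists_fixα
    intro hbot
    apply hm0
    have : m0 ∈ U := (hmem m0).2 ⟨hP, by simpa using hfix⟩
    rw [hbot] at this
    simpa using this
  have htop := O.sup_eq_top U u1 u2 u3 u4 hU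
  exact ((hmem m).1 (O.le_of_sup U u1 htop m hm)).2


/-- on `Fix α`, `γ² = τ`. -/
theorem γγ_fix [Nontrivial M] (m : M) (hm : O.α m = m) : O.γ (O.γ m) = O.τ m := by
  have := congrArg (fun x => O.γ (O.γ x)) (O.γγτ_fix m hm)
  simp only [O.γ4] at this
  exact this.symm

/-- `τ` fixes `γ (Fix α)` pointwise. -/
theorem τγ_fix [Nontrivial M] (m : M) (hm : O.α m = m) : O.τ (O.γ m) = O.γ m := by
  rw [O.τγ, O.γγτ_fix m hm]

theorem main [Nontrivial M] :
    Nat.card M = 16 ∧ Nat.card {m : M // O.γ (O.γ m) = m ∧ O.τ m = m} = 4 ∧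
      Nat.card {m : M // O.γ (O.γ m) = m ∧ O.γ (O.τ m) = m} = 2 := by
  obtain ⟨m0, hm0, hα0, hτ0⟩ := exists_fix_invol O.τ O.τ2 (fun x => O.α x = x)
    (by intro x hx; rw [← O.τα, hx]) (by intro x y hx hy; rw [map_add, hx, hy]) O.exists_fixα
  have hαβ0 : O.α (O.β m0) = O.β m0 := by rw [O.αβ, hα0]
  have hββ0 : O.β (O.β m0) = m0 + O.β m0 := O.trβ m0 hα0
  let w : ZMod 2 × ZMod 2 → M := fun p => p.1 • m0 + p.2 • O.β m0
  let σ : ZMod 2 × ZMod 2 → ZMod 2 × ZMod 2 := fun p => (p.1 + p.2, p.2)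
  have hw : ∀ p, w p = p.1 • m0 + p.2 • O.β m0 := fun p => rfl
  have hwα : ∀ p, O.α (w p) = w p := by
    intro p; rw [hw, map_add, map_smul, map_smul, hα0, hαβ0]
  have hwβ : ∀ p, O.β (w p) = w (p.2, p.1 + p.2) := by
    intro p; rw [hw, hw, map_add, map_smul, map_smul, hββ0]
    simp only [smul_add, add_smul]; abel
  have hwτ : ∀ p, O.τ (w p) = w (σ p) := by
    intro p; rw [hw, hw, map_add, map_smul, map_smul, O.τβ, hτ0, hββ0]
    simp only [σ, smul_add, add_smul]; abel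
  have hwadd : ∀ p q, w p - w q = w (p - q) := by
    intro p q; simp only [hw, Prod.fst_sub, Prod.snd_sub, sub_smul]; abel
  have hw0 : ∀ d, w d = 0 → d = 0 := by
    rintro ⟨x, y⟩ hd
    rw [hw] at hd
    simp only at hd
    rcases zmod2_cases x with rfl | rfl <;> rcases zmod2_cases y with rfl | rfl
    · rfl
    · exfalso; apply hm0
      simp only [zero_smul, one_smul, zero_add] at hd
      have : O.β m0 = O.β 0 := by rw [hd, map_zero]
      exact O.β_inj this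
    · exfalso; apply hm0
      simpa using hd
    · exfalso; apply hm0
      simp only [one_smul] at hd
      have h1 := eq_of_add_eq_zero_two hd
      exact O.fix0 m0 hα0 h1.symm
  have hwinj : ∀ p q, w p = w q → p = q := by
    intro p q h
    have := hw0 (p - q) (by rw [← hwadd, h, sub_self])
    exact sub_eq_zero.1 this
  let W : Submodule (ZMod 2) M := Submodule.span (ZMod 2) {m0, O.β m0}
  have hW : ∀ u, u ∈ W ↔ ∃ p, w p = u := by
    intro u
    simp only [W, Submodule.mem_span_pair]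
    constructor
    · rintro ⟨a, b, h⟩; exact ⟨(a, b), h⟩
    · rintro ⟨p, h⟩; exact ⟨p.1, p.2, h⟩
  have u1 : ∀ u ∈ W, O.α u = u := by
    intro u hu; obtain ⟨p, rfl⟩ := (hW u).1 hu; exact hwα p
  have u2 : ∀ u ∈ W, O.β u ∈ W := by
    intro u hu; obtain ⟨p, rfl⟩ := (hW u).1 hu; exact (hW _).2 ⟨_, (hwβ p).symm⟩
  have u3 : ∀ u ∈ W, O.τ u ∈ W := by
    intro u hu; obtain ⟨p, rfl⟩ := (hW u).1 hu; exact (hW _).2 ⟨_, (hwτ p).symm⟩
  have u4 : ∀ u ∈ W, O.γ (O.γ u) = O.τ u := fun u hu => O.γγ_fix u (u1 u hu)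
  have hWne : W ≠ ⊥ := by
    intro h
    have : m0 ∈ W := (hW m0).2 ⟨(1, 0), by simp [hw]⟩
    rw [h] at this
    exact hm0 (by simpa using this)
  have htop := O.sup_eq_top W u1 u2 u3 u4 hWne
  let Φ : (ZMod 2 × ZMod 2) × (ZMod 2 × ZMod 2) → M := fun pq => w pq.1 + O.γ (w pq.2)
  have hΦ : ∀ p q, Φ (p, q) = w p + O.γ (w q) := fun p q => rfl
  have hΦinj : ∀ p q p' q', Φ (p, q) = Φ (p', q') → p = p' ∧ q = q' := by
    intro p q p' q' h
    have := O.direct (hwα p) (hwα p') (hwα q) (hwα q') h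
    exact ⟨hwinj _ _ this.1, hwinj _ _ this.2⟩
  have hΦsurj : ∀ m, ∃ p q, Φ (p, q) = m := by
    intro m
    have : m ∈ W ⊔ W.map O.γ := by rw [htop]; trivial
    obtain ⟨u, hu, v, hv, rfl⟩ := Submodule.mem_sup.1 this
    obtain ⟨u', hu', rfl⟩ := Submodule.mem_map.1 hv
    obtain ⟨p, rfl⟩ := (hW u).1 hu
    obtain ⟨q, rfl⟩ := (hW u').1 hu'
    exact ⟨p, q, rfl⟩
  have hΦτ : ∀ p q, O.τ (Φ (p, q)) = Φ (σ p, q) := by
    intro p q; rw [hΦ, hΦ, map_add, hwτ, O.τγ_fix _ (hwα q)]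
  have hΦζ : ∀ p q, O.γ (O.γ (Φ (p, q))) = Φ (σ p, σ q) := by
    intro p q
    rw [hΦ, hΦ, map_add, map_add, O.γγ_fix _ (hwα p), hwτ]
    congr 1
    have := O.γγ_fix _ (hwα q)
    rw [hwτ] at this
    rw [← this]
  have hΦγτ : ∀ p q, O.γ (O.τ (Φ (p, q))) = Φ (σ q, σ p) := by
    intro p q
    rw [hΦτ, hΦ, hΦ, map_add, O.γγ_fix _ (hwα q), hwτ, add_comm]
  have hσ : ∀ p : ZMod 2 × ZMod 2, σ p = p → p.2 = 0 := by
    rintro ⟨x, y⟩ h
    simp only [σ, Prod.mk.injEq] at h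
    simpa using h.1
  have hσ0 : ∀ x : ZMod 2, σ (x, 0) = (x, 0) := by
    intro x; simp [σ]
  refine ⟨?_, ?_, ?_⟩
  · have hbij : Function.Bijective Φ := by
      constructor
      · rintro ⟨p, q⟩ ⟨p', q'⟩ h
        obtain ⟨h1, h2⟩ := hΦinj p q p' q' h
        rw [h1, h2]
      · intro m; obtain ⟨p, q, h⟩ := hΦsurj m; exact ⟨(p, q), h⟩
    rw [← Nat.card_eq_of_bijective Φ hbij]
    simp
  · let f : ZMod 2 × ZMod 2 → {m : M // O.γ (O.γ m) = m ∧ O.τ m = m} := fun x =>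
      ⟨Φ ((x.1, 0), (x.2, 0)), by rw [hΦζ, hσ0, hσ0], by rw [hΦτ, hσ0]⟩
    have hbij : Function.Bijective f := by
      constructor
      · rintro ⟨x1, x2⟩ ⟨y1, y2⟩ h
        have h' : Φ ((x1, 0), (x2, 0)) = Φ ((y1, 0), (y2, 0)) := congrArg Subtype.val h
        obtain ⟨h1, h2⟩ := hΦinj _ _ _ _ h'
        simp only [Prod.mk.injEq, and_true] at h1 h2
        rw [h1, h2]
      · rintro ⟨m, hm1, hm2⟩
        obtain ⟨p, q, rfl⟩ := hΦsurj m
        rw [hΦζ] at hm1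
        obtain ⟨h1, h2⟩ := hΦinj _ _ _ _ hm1
        have hp := hσ p h1
        have hq := hσ q h2
        obtain ⟨p1, p2⟩ := p
        obtain ⟨q1, q2⟩ := q
        simp only at hp hq
        subst hp hq
        exact ⟨(p1, q1), rfl⟩
    rw [← Nat.card_eq_of_bijective f hbij]
    simp
  · let f : ZMod 2 → {m : M // O.γ (O.γ m) = m ∧ O.γ (O.τ m) = m} := fun x =>
      ⟨Φ ((x, 0), (x, 0)), by rw [hΦζ, hσ0], by rw [hΦγτ, hσ0]⟩
    have hbij : Function.Bijective f := by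
      constructor
      · intro x y h
        have h' : Φ ((x, 0), (x, 0)) = Φ ((y, 0), (y, 0)) := congrArg Subtype.val h
        obtain ⟨h1, -⟩ := hΦinj _ _ _ _ h'
        simpa using h1
      · rintro ⟨m, hm1, hm2⟩
        obtain ⟨p, q, rfl⟩ := hΦsurj m
        rw [hΦζ] at hm1
        obtain ⟨h1, h2⟩ := hΦinj _ _ _ _ hm1
        rw [hΦγτ, h1, h2] at hm2
        obtain ⟨h3, -⟩ := hΦinj _ _ _ _ hm2
        have hp := hσ p h1
        obtain ⟨p1, p2⟩ := p
        simp only at hp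
        subst hp h3
        exact ⟨p1, rfl⟩
    rw [← Nat.card_eq_of_bijective f hbij]
    simp

end Ops


namespace Rel

variable {M : Type*} [AddCommGroup M] [Module (ZMod 2) M] (R : Rel M)

theorem case_split : (∃ O : Ops M, O.toRel = R) ∨ (∃ O : Ops M, O.toRel = R.relabel) := by
  let N1 : Submodule (ZMod 2) M :=
    LinearMap.eqLocus R.α LinearMap.id ⊔ LinearMap.eqLocus R.β LinearMap.id
  have hFa : ∀ m, m ∈ LinearMap.eqLocus R.α LinearMap.id ↔ R.α m = m := by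
    intro m; simp only [LinearMap.mem_eqLocus, LinearMap.id_coe, id_eq]
  have hFb : ∀ m, m ∈ LinearMap.eqLocus R.β LinearMap.id ↔ R.β m = m := by
    intro m; simp only [LinearMap.mem_eqLocus, LinearMap.id_coe, id_eq]
  have hα : ∀ m ∈ N1, R.α m ∈ N1 := by
    intro m hm
    obtain ⟨u, hu, v, hv, rfl⟩ := Submodule.mem_sup.1 hm
    rw [map_add]
    refine Submodule.add_mem _ (Submodule.mem_sup_left ?_) (Submodule.mem_sup_right ?_)
    · rw [(hFa u).1 hu]; exact hu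
    · rw [hFb, ← R.αβ, (hFb v).1 hv]
  have hβ : ∀ m ∈ N1, R.β m ∈ N1 := by
    intro m hm
    obtain ⟨u, hu, v, hv, rfl⟩ := Submodule.mem_sup.1 hm
    rw [map_add]
    refine Submodule.add_mem _ (Submodule.mem_sup_left ?_) (Submodule.mem_sup_right ?_)
    · rw [hFa, R.αβ, (hFa u).1 hu]
    · rw [(hFb v).1 hv]; exact hv
  have hτ : ∀ m ∈ N1, R.τ m ∈ N1 := by
    intro m hm
    obtain ⟨u, hu, v, hv, rfl⟩ := Submodule.mem_sup.1 hm
    rw [map_add]
    refine Submodule.add_mem _ (Submodule.mem_sup_left ?_) (Submodule.mem_sup_right ?_)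
    · rw [hFa, ← R.τα, (hFa u).1 hu]
    · rw [hFb]
      have h1 := R.τβ v
      rw [(hFb v).1 hv] at h1
      have h2 := congrArg R.β h1
      rw [R.β3] at h2
      exact h2
  have hγ : ∀ m ∈ N1, R.γ m ∈ N1 := by
    intro m hm
    obtain ⟨u, hu, v, hv, rfl⟩ := Submodule.mem_sup.1 hm
    rw [map_add, add_comm]
    refine Submodule.add_mem _ (Submodule.mem_sup_left ?_) (Submodule.mem_sup_right ?_)
    · rw [hFa, R.αγ, (hFb v).1 hv, (hFb v).1 hv]
    · rw [hFb, R.βγ, (hFa u).1 hu]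
  rcases R.irr N1 hα hβ hτ hγ with h | h
  · right
    have hA0 : ∀ v, v + R.α v + R.α (R.α v) = 0 := by
      intro v
      have : v + R.α v + R.α (R.α v) ∈ N1 := by
        apply Submodule.mem_sup_left
        rw [hFa]; simp only [map_add, R.α3]; abel
      rw [h] at this
      simpa using this
    have hB0 : ∀ v, v + R.β v + R.β (R.β v) = 0 := by
      intro v
      have : v + R.β v + R.β (R.β v) ∈ N1 := by
        apply Submodule.mem_sup_right
        rw [hFb]; simp only [map_add, R.β3]; abel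
      rw [h] at this
      simpa using this
    refine ⟨{ R.relabel with sum := ?_ }, rfl⟩
    intro v
    refine ⟨v + R.α (R.β v) + R.α (R.α (R.β (R.β v))),
      v + R.α (R.α (R.β v)) + R.α (R.β (R.β v)), ?_, ?_, ?_⟩
    · show R.α (R.β (v + R.α (R.β v) + R.α (R.α (R.β (R.β v))))) = _
      simp only [map_add, R.αβ, R.α3, R.β3]; abel
    · show R.α (R.α (R.β (v + R.α (R.α (R.β v)) + R.α (R.β (R.β v))))) = _
      simp only [map_add, R.αβ, R.α3, R.β3]; abel
    · have h1 : R.β v + R.β (R.β v) = v := by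
        have := hB0 v
        rw [add_assoc] at this
        exact (eq_of_add_eq_zero_two this).symm
      have h2 := hA0 (R.β v + R.β (R.β v))
      rw [h1] at h2
      have h3 : R.α v + R.α (R.α v) = v := by
        rw [add_assoc] at h2
        exact (eq_of_add_eq_zero_two h2).symm
      have h4 : R.α v = R.α (R.β v) + R.α (R.β (R.β v)) := by
        rw [← map_add, h1]
      have h5 : R.α (R.α v) = R.α (R.α (R.β v)) + R.α (R.α (R.β (R.β v))) := by
        rw [← map_add, ← map_add, h1]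
      have h6 : v + v = 0 := add_self_two v
      calc v = R.α v + R.α (R.α v) := h3.symm
        _ = (v + v) + (R.α v + R.α (R.α v)) := by rw [h6, zero_add]
        _ = _ := by rw [h5, h4]; abel
  · left
    refine ⟨{ R with sum := ?_ }, rfl⟩
    intro m
    have : m ∈ N1 := by rw [h]; trivial
    obtain ⟨u, hu, v, hv, rfl⟩ := Submodule.mem_sup.1 this
    exact ⟨u, v, (hFa u).1 hu, (hFb v).1 hv, rfl⟩

end Rel


theorem Rel.final {M : Type*} [AddCommGroup M] [Module (ZMod 2) M] [Nontrivial M] (R : Rel M) :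
    Nat.card M = 16 ∧
    ((Nat.card {m : M // R.γ (R.γ m) = m ∧ R.τ m = m} = 4 ∧
        Nat.card {m : M // R.γ (R.γ m) = m ∧ R.γ (R.τ m) = m} = 2) ∨
     (Nat.card {m : M // R.γ (R.γ m) = m ∧ R.τ m = m} = 2 ∧
        Nat.card {m : M // R.γ (R.γ m) = m ∧ R.γ (R.τ m) = m} = 4)) := by
  rcases R.case_split with ⟨O, hO⟩ | ⟨O, hO⟩
  · obtain ⟨h1, h2, h3⟩ := O.main
    rw [hO] at h2 h3
    exact ⟨h1, Or.inl ⟨h2, h3⟩⟩
  · obtain ⟨h1, h2, h3⟩ := O.main
    rw [hO] at h2 h3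
    refine ⟨h1, Or.inr ⟨?_, ?_⟩⟩
    · refine Eq.trans ?_ h3
      apply Nat.card_congr
      apply Equiv.subtypeEquivRight
      intro m
      show _ ↔ (R.γ (R.γ m) = m ∧ R.γ (R.γ (R.τ m)) = m)
      constructor
      · rintro ⟨ha, hb⟩
        refine ⟨ha, ?_⟩
        rw [← R.τγγ, ha, hb]
      · rintro ⟨ha, hb⟩
        refine ⟨ha, ?_⟩
        rw [← R.τγγ, ha] at hb
        exact hb
    · exact h2

end Cfsg.Agent.Lib.Helper29.D8Mod
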