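import Mathlib

/-!
# Group-side lemmas for S4407: `D₈` acting faithfully on `3²`.
-/

set_option autoImplicit false

namespace Cfsg.Agent.Lib.Helper29.D8Mod

theorem pow_reduce3 {H : Type*} [Group H] (g : H) (hg : g ^ 3 = 1) (k : ℤ) :
    ∃ i : Fin 3, g ^ k = g ^ (i : ℕ) := by
  refine ⟨⟨(k % 3).toNat, by omega⟩, ?_⟩
  have h1 : k = 3 * (k / 3) + k % 3 := (Int.mul_ediv_add_emod k 3).symm
  have h2 : ((k % 3).toNat : ℤ) = k % 3 := Int.toNat_of_nonneg (by omega)
  show g ^ k = g ^ (k % 3).toNat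
  rw [← zpow_natCast, h2]
  conv_lhs => rw [h1]
  rw [zpow_add, zpow_mul]
  have : g ^ (3 : ℤ) = 1 := by exact_mod_cast hg
  rw [this, one_zpow, one_mul]

theorem eq_one_of_inv_eq_self3 {H : Type*} [Group H] (x : H) (h3 : x ^ 3 = 1) (h : x⁻¹ = x) :
    x = 1 := by
  have h2 : x * x = 1 := by
    nth_rewrite 1 [← h]; exact inv_mul_cancel x
  have : x ^ 3 = x := by rw [pow_succ, pow_two, h2, one_mul]
  rw [← this, h3]

theorem enum9 {H : Type*} [CommGroup H] (h3 : ∀ x : H, x ^ 3 = 1) (h9 : Nat.card H = 9)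
    (u v : H) (hu : u ≠ 1) (hv1 : v ≠ 1) (hvu : v ≠ u) (hvu2 : v ≠ u ^ 2) :
    ∀ x : H, ∃ i j : Fin 3, x = u ^ (i : ℕ) * v ^ (j : ℕ) := by
  have hfin : Finite H := Nat.finite_of_card_ne_zero (by omega)
  have hou : orderOf u = 3 := orderOf_eq_prime (h3 u) hu
  have hK : Nat.card (Subgroup.zpowers u) = 3 := by rw [Nat.card_zpowers, hou]
  have hvK : v ∉ Subgroup.zpowers u := by
    intro hv
    obtain ⟨k, hk⟩ := Subgroup.mem_zpowers_iff.1 hv
    obtain ⟨i, hi⟩ := pow_reduce3 u (h3 u) k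
    rw [hi] at hk
    fin_cases i
    · apply hv1; rw [← hk]; simp
    · apply hvu; rw [← hk]; simp
    · apply hvu2; rw [← hk]
  have hL : Subgroup.zpowers u ⊔ Subgroup.zpowers v = ⊤ := by
    set L := Subgroup.zpowers u ⊔ Subgroup.zpowers v with hLdef
    have h1 : Nat.card L ∣ 9 := h9 ▸ Subgroup.card_subgroup_dvd_card L
    have h2 : 3 ∣ Nat.card L := hK ▸ Subgroup.card_dvd_of_le (le_sup_left : Subgroup.zpowers u ≤ L)
    have h3' : Nat.card L ≠ 3 := by
      intro h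
      have : Subgroup.zpowers u = L :=
        Subgroup.eq_of_le_of_card_ge le_sup_left (by rw [h, hK])
      apply hvK; rw [this]; exact Subgroup.mem_sup_right (Subgroup.mem_zpowers v)
    have h4 : Nat.card L = 9 := by
      have hle : Nat.card L ≤ 9 := Nat.le_of_dvd (by norm_num) h1
      have hpos : 0 < Nat.card L := Nat.card_pos
      interval_cases hc : Nat.card L <;> omega
    exact (Subgroup.card_eq_iff_eq_top L).1 (h4.trans h9.symm)
  intro x
  have hx : x ∈ Subgroup.zpowers u ⊔ Subgroup.zpowers v := hL ▸ Subgroup.mem_top x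
  obtain ⟨y, hy, z, hz, rfl⟩ := Subgroup.mem_sup.1 hx
  obtain ⟨k, rfl⟩ := Subgroup.mem_zpowers_iff.1 hy
  obtain ⟨l, rfl⟩ := Subgroup.mem_zpowers_iff.1 hz
  obtain ⟨i, hi⟩ := pow_reduce3 u (h3 u) k
  obtain ⟨j, hj⟩ := pow_reduce3 v (h3 v) l
  exact ⟨i, j, by rw [hi, hj]⟩


theorem groupSide {H : Type*} [CommGroup H] (h3 : ∀ x : H, x ^ 3 = 1) (h9 : Nat.card H = 9)
    (γ τ : MulAut H) (hγ4 : γ ^ 4 = 1) (hγ2 : γ ^ 2 ≠ 1) (hτ2 : τ ^ 2 = 1)
    (hτγ : τ * γ * τ⁻¹ = γ⁻¹) :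
    ∃ a : H, a ≠ 1 ∧ τ a = a ∧ τ (γ a) = (γ a)⁻¹ ∧ γ (γ a) = a⁻¹ ∧
      (∀ x : H, ∃ i j : Fin 3, x = a ^ (i : ℕ) * (γ a) ^ (j : ℕ)) := by
  have hγ4' : ∀ x, γ (γ (γ (γ x))) = x := by
    intro x
    have := DFunLike.congr_fun hγ4 x
    simpa [pow_succ, MulAut.mul_apply] using this
  have hττ : ∀ x, τ (τ x) = x := by
    intro x
    have := DFunLike.congr_fun hτ2 x
    simpa [pow_succ, MulAut.mul_apply] using this
  have hτγ' : ∀ x, τ (γ x) = γ⁻¹ (τ x) := by
    intro x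
    have h : τ * γ = γ⁻¹ * τ := mul_inv_eq_iff_eq_mul.1 hτγ
    have := DFunLike.congr_fun h x
    simpa [MulAut.mul_apply] using this
  -- (1) γ² is inversion
  have hinv : ∀ u, γ (γ u) = u⁻¹ := by
    by_contra hcon
    push Not at hcon
    obtain ⟨u, hu⟩ := hcon
    set w := u * γ (γ u) with hw
    have hw1 : w ≠ 1 := by
      intro h; apply hu; exact (eq_inv_of_mul_eq_one_right h)
    have hwfix : γ (γ w) = w := by
      rw [hw, map_mul, map_mul, hγ4', mul_comm]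
    have hex : ∃ u', γ (γ u') ≠ u' := by
      by_contra h
      push Not at h
      apply hγ2
      ext x
      simp [pow_succ, MulAut.mul_apply, h x]
    obtain ⟨u', hu'⟩ := hex
    set v := u'⁻¹ * γ (γ u') with hv
    have hv1 : v ≠ 1 := by
      intro h; apply hu'
      have := eq_inv_of_mul_eq_one_right h
      rw [inv_inv] at this; exact this
    have hvinv : γ (γ v) = v⁻¹ := by
      rw [hv, map_mul, map_mul, map_inv, map_inv, hγ4', mul_inv_rev, inv_inv]
    have hvne : v⁻¹ ≠ v := fun h => hv1 (eq_one_of_inv_eq_self3 v (h3 v) h)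
    have hvw : v ≠ w := by
      intro h; apply hvne; rw [← hvinv, h, hwfix]
    have hvw2 : v ≠ w ^ 2 := by
      intro h; apply hvne; rw [← hvinv, h, map_pow, map_pow, hwfix]
    obtain ⟨i, j, hij⟩ := enum9 h3 h9 w v hw1 hv1 hvw hvw2 (γ v)
    have h1 : γ (γ (γ v)) = (γ v)⁻¹ := by
      rw [hvinv, map_inv]
    have h2 : γ (γ (γ v)) = w ^ (i : ℕ) * (v⁻¹) ^ (j : ℕ) := by
      rw [hij, map_mul, map_mul, map_pow, map_pow, map_pow, map_pow, hwfix, hvinv]
    have h4 : (w ^ (i : ℕ))⁻¹ = w ^ (i : ℕ) := by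
      have h5 : (w ^ (i : ℕ) * v ^ (j : ℕ))⁻¹ = w ^ (i : ℕ) * (v⁻¹) ^ (j : ℕ) := by
        rw [← hij, ← h1, h2]
      rw [mul_inv, inv_pow] at h5
      exact mul_right_cancel h5
    have h6 : w ^ (i : ℕ) = 1 := eq_one_of_inv_eq_self3 _ (h3 _) h4
    rw [h6, one_mul] at hij
    fin_cases j
    · simp only [pow_zero] at hij
      exact hv1 ((map_eq_one_iff γ (MulEquiv.injective γ)).1 hij)
    · simp only [pow_one] at hij
      apply hvne; rw [← hvinv, hij, hij]
    · have hij' : γ v = v ^ 2 := hij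
      apply hvne; rw [← hvinv, hij', map_pow, hij', ← pow_mul]
      have : v ^ (2 * 2) = v ^ 3 * v := by rw [← pow_succ]
      rw [this, h3, one_mul]
  -- (2) a nontrivial τ-fixed element
  have hfix : ∃ a : H, a ≠ 1 ∧ τ a = a := by
    by_contra hcon
    push Not at hcon
    have hτinv : ∀ u, τ u = u⁻¹ := by
      intro u
      have h1 : τ (u * τ u) = u * τ u := by rw [map_mul, hττ, mul_comm]
      have h2 : u * τ u = 1 := by
        by_contra hne
        exact hcon _ hne h1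
      exact (eq_inv_of_mul_eq_one_right h2)
    apply hγ2
    ext x
    have h1 := hτγ' x
    rw [hτinv, hτinv, map_inv, inv_inj] at h1
    have h2 : γ (γ x) = x := by
      have := congrArg γ h1
      rw [MulAut.apply_inv_self] at this
      exact this
    simp [pow_succ, MulAut.mul_apply, h2]
  obtain ⟨a, ha1, haτ⟩ := hfix
  have hb1 : γ a ≠ 1 := fun h => ha1 ((map_eq_one_iff γ (MulEquiv.injective γ)).1 h)
  have hγinv : γ⁻¹ a = (γ a)⁻¹ := by
    have h1 : γ (γ a⁻¹) = a := by rw [hinv, inv_inv]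
    have h2 : γ⁻¹ (γ (γ a⁻¹)) = γ⁻¹ a := by rw [h1]
    rw [MulAut.inv_apply_self, map_inv] at h2
    exact h2.symm
  have hτb : τ (γ a) = (γ a)⁻¹ := by rw [hτγ', haτ, hγinv]
  have hbne : (γ a)⁻¹ ≠ γ a := fun h => hb1 (eq_one_of_inv_eq_self3 _ (h3 _) h)
  have hba : γ a ≠ a := by
    intro h; apply hbne; rw [← hτb, h, haτ]
  have hba2 : γ a ≠ a ^ 2 := by
    intro h; apply hbne; rw [← hτb, h, map_pow, haτ]
  exact ⟨a, ha1, haτ, hτb, hinv a, enum9 h3 h9 a (γ a) ha1 hb1 hba hba2⟩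


open DihedralGroup in
/-- The four-group `{1, r², s, r²s}` of `D₈`. -/
def D1 : Subgroup (DihedralGroup 4) where
  carrier := {x | x = 1 ∨ x = r 2 ∨ x = sr 0 ∨ x = sr 2}
  one_mem' := Or.inl rfl
  mul_mem' := by
    intro a b ha hb
    simp only [Set.mem_ofPred_eq] at ha hb ⊢
    rcases ha with rfl | rfl | rfl | rfl <;> rcases hb with rfl | rfl | rfl | rfl <;> decide
  inv_mem' := by
    intro a ha
    simp only [Set.mem_ofPred_eq] at ha ⊢
    rcases ha with rfl | rfl | rfl | rfl <;> decide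

open DihedralGroup in
/-- The four-group `{1, r², rs, r³s}` of `D₈`. -/
def D2 : Subgroup (DihedralGroup 4) where
  carrier := {x | x = 1 ∨ x = r 2 ∨ x = sr 1 ∨ x = sr 3}
  one_mem' := Or.inl rfl
  mul_mem' := by
    intro a b ha hb
    simp only [Set.mem_ofPred_eq] at ha hb ⊢
    rcases ha with rfl | rfl | rfl | rfl <;> rcases hb with rfl | rfl | rfl | rfl <;> decide
  inv_mem' := by
    intro a ha
    simp only [Set.mem_ofPred_eq] at ha ⊢
    rcases ha with rfl | rfl | rfl | rfl <;> decide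

open DihedralGroup in
theorem mem_D1 (x : DihedralGroup 4) : x ∈ D1 ↔ x = 1 ∨ x = r 2 ∨ x = sr 0 ∨ x = sr 2 := Iff.rfl

open DihedralGroup in
theorem mem_D2 (x : DihedralGroup 4) : x ∈ D2 ↔ x = 1 ∨ x = r 2 ∨ x = sr 1 ∨ x = sr 3 := Iff.rfl

open DihedralGroup in
theorem dih_key : ∀ x y : DihedralGroup 4, x ^ 2 = 1 → y ^ 2 = 1 → (x * y) ^ 2 = 1 →
    ((x = 1 ∨ x = r 2 ∨ x = sr 0 ∨ x = sr 2) ∧ (y = 1 ∨ y = r 2 ∨ y = sr 0 ∨ y = sr 2)) ∨
    ((x = 1 ∨ x = r 2 ∨ x = sr 1 ∨ x = sr 3) ∧ (y = 1 ∨ y = r 2 ∨ y = sr 1 ∨ y = sr 3)) := by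
  decide

open DihedralGroup in
theorem card_D1 : Nat.card D1 = 4 := by
  have h : (D1 : Set (DihedralGroup 4)) = ↑({1, r 2, sr 0, sr 2} : Finset (DihedralGroup 4)) := by
    ext x
    simp only [SetLike.mem_coe, mem_D1, Finset.coe_insert, Finset.coe_singleton,
      Set.mem_insert_iff, Set.mem_singleton_iff]
  have : Nat.card D1 = Set.ncard (D1 : Set (DihedralGroup 4)) := rfl
  rw [this, h, Set.ncard_coe_finset]
  decide

open DihedralGroup in
theorem card_D2 : Nat.card D2 = 4 := by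
  have h : (D2 : Set (DihedralGroup 4)) = ↑({1, r 2, sr 1, sr 3} : Finset (DihedralGroup 4)) := by
    ext x
    simp only [SetLike.mem_coe, mem_D2, Finset.coe_insert, Finset.coe_singleton,
      Set.mem_insert_iff, Set.mem_singleton_iff]
  have : Nat.card D2 = Set.ncard (D2 : Set (DihedralGroup 4)) := rfl
  rw [this, h, Set.ncard_coe_finset]
  decide

theorem dih_four (D : Subgroup (DihedralGroup 4)) (h4 : Nat.card D = 4)
    (h2 : ∀ d ∈ D, d ^ 2 = 1) : D = D1 ∨ D = D2 := by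
  by_cases hD : ∀ x ∈ D, x ∈ D2
  · right
    exact Subgroup.eq_of_le_of_card_ge hD (by rw [h4, card_D2])
  · left
    push Not at hD
    obtain ⟨x0, hx0, hx0'⟩ := hD
    have hle : D ≤ D1 := by
      intro y hy
      rcases dih_key x0 y (h2 _ hx0) (h2 _ hy) (h2 _ (D.mul_mem hx0 hy)) with h | h
      · exact (mem_D1 y).2 h.2
      · exact absurd ((mem_D2 x0).2 h.1) hx0'
    exact Subgroup.eq_of_le_of_card_ge hle (by rw [h4, card_D1])


section lift

variable {S : Type*} [Group S] (X : Subgroup S) (e : ↥X ≃* DihedralGroup 4)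

/-- transport a subgroup of `D₈` to a subgroup of `S` inside `X`. -/
def liftD (D : Subgroup (DihedralGroup 4)) : Subgroup S :=
  D.map (X.subtype.comp e.symm.toMonoidHom)

theorem mem_liftD {D : Subgroup (DihedralGroup 4)} {s : S} :
    s ∈ liftD X e D ↔ ∃ d ∈ D, ((e.symm d : ↥X) : S) = s := by
  simp only [liftD, Subgroup.mem_map, MonoidHom.coe_comp, Subgroup.coe_subtype,
    MulEquiv.coe_toMonoidHom, Function.comp_apply]

theorem liftD_le (D : Subgroup (DihedralGroup 4)) : liftD X e D ≤ X := by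
  intro s hs
  obtain ⟨d, -, rfl⟩ := (mem_liftD X e).1 hs
  exact (e.symm d).2

theorem card_liftD (D : Subgroup (DihedralGroup 4)) : Nat.card (liftD X e D) = Nat.card D := by
  apply Subgroup.card_map_of_injective
  intro x y h
  simp only [MonoidHom.coe_comp, Subgroup.coe_subtype, MulEquiv.coe_toMonoidHom,
    Function.comp_apply] at h
  exact e.symm.injective (Subtype.ext h)

theorem eq_liftD (B : Subgroup S) (hB : B ≤ X) :
    B = liftD X e ((B.subgroupOf X).map e.toMonoidHom) := by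
  ext s
  rw [mem_liftD]
  constructor
  · intro hs
    refine ⟨e ⟨s, hB hs⟩, Subgroup.mem_map.2 ⟨⟨s, hB hs⟩, ?_, rfl⟩, ?_⟩
    · exact Subgroup.mem_subgroupOf.2 hs
    · simp
  · rintro ⟨d, hd, rfl⟩
    obtain ⟨x, hx, rfl⟩ := Subgroup.mem_map.1 hd
    have : e.symm (e.toMonoidHom x) = x := by simp
    rw [this]
    exact Subgroup.mem_subgroupOf.1 hx

theorem four_cases (B : Subgroup S) (hB : B ≤ X) (h4 : Nat.card B = 4)
    (h2 : ∀ b ∈ B, b ^ 2 = 1) : B = liftD X e D1 ∨ B = liftD X e D2 := by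
  have hD := eq_liftD X e B hB
  set D := (B.subgroupOf X).map e.toMonoidHom with hDdef
  have hc : Nat.card D = 4 := by
    rw [hDdef, Subgroup.card_map_of_injective (by exact e.injective),
      Nat.card_congr (Subgroup.subgroupOfEquivOfLe hB).toEquiv, h4]
  have hexp : ∀ d ∈ D, d ^ 2 = 1 := by
    intro d hd
    obtain ⟨x, hx, rfl⟩ := Subgroup.mem_map.1 hd
    have h1 : ((x : S)) ^ 2 = 1 := h2 _ (Subgroup.mem_subgroupOf.1 hx)
    have h2' : x ^ 2 = 1 := Subtype.ext (by simpa using h1)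
    show (e x) ^ 2 = 1
    rw [← map_pow, h2', map_one]
  rcases dih_four D hc hexp with h | h
  · left; rw [hD, h]
  · right; rw [hD, h]

end lift

end Cfsg.Agent.Lib.Helper29.D8Mod
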