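import Mathlib
import Cfsg.Agent.Lib.helper14.DBN.Defs

set_option autoImplicit false

/-!
# Project DBN (designer helper14), row ISO (`exists_fIsoP`), verbatim (helper29).
The reindexing `e : Fin m ⊕ Fin m ≃ Fin (2m)`, `inl i ↦ i`, `inr i ↦ 2m - 1 - i` carries `quadFormPlus m F` to `Qh (2m)`
and its polar form to `hJ (Sid F)`; conjugation of matrices by `e` (`Matrix.reindexAlgEquiv`) is the isomorphism.
Self-contained (does not use row QBASIC).
-/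

namespace Cfsg.Agent.Lib.helper14.DBN

open Matrix
open Cfsg.Agent.Lib.helper14.UBN Cfsg.Agent.Lib.helper14.OBN

universe u
variable {F : Type u} [Field F] {n : ℕ}

/-- the reindexing `Fin m ⊕ Fin m ≃ Fin (2m)` -/
def dbniso_e (m : ℕ) : Fin m ⊕ Fin m ≃ Fin (2 * m) :=
  (Equiv.sumCongr (Equiv.refl (Fin m)) Fin.revPerm).trans
    (finSumFinEquiv.trans (finCongr (two_mul m).symm))

theorem dbniso_e_inl (m : ℕ) (i : Fin m) : (dbniso_e m (Sum.inl i)).val = i.val := by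
  simp [dbniso_e]

theorem dbniso_e_inr (m : ℕ) (i : Fin m) : (dbniso_e m (Sum.inr i)).val = 2 * m - 1 - i.val := by
  have := i.2
  simp [dbniso_e]
  omega

theorem dbniso_rv_inl (m : ℕ) (i : Fin m) : rv (dbniso_e m (Sum.inl i)) = dbniso_e m (Sum.inr i) := by
  apply Fin.ext
  unfold rv
  rw [Fin.val_rev, dbniso_e_inl, dbniso_e_inr]
  have := i.2
  omega

theorem dbniso_rv_inr (m : ℕ) (i : Fin m) : rv (dbniso_e m (Sum.inr i)) = dbniso_e m (Sum.inl i) := by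
  rw [← dbniso_rv_inl, rv_rv]

/-- `Qh (2m)` is `quadFormPlus m F` in the new coordinates -/
theorem dbniso_Qh (m : ℕ) (u : Fin (2 * m) → F) :
    Qh (2 * m) u = Cfsg.quadFormPlus m F (u ∘ dbniso_e m) := by
  unfold Qh Cfsg.quadFormPlus
  have hm : 2 * m / 2 = m := Nat.mul_div_cancel_left m two_pos
  refine Fintype.sum_equiv (finCongr hm) _ _ ?_
  intro k
  have h1 : pa k = dbniso_e m (Sum.inl (finCongr hm k)) := by
    apply Fin.ext
    rw [dbniso_e_inl]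
    rfl
  rw [Function.comp_apply, Function.comp_apply, ← dbniso_rv_inl, ← h1]

/-- `hJ (Sid F)` is the polar form of `quadFormPlus m F` in the new coordinates -/
theorem dbniso_hJ (m : ℕ) (u v : Fin (2 * m) → F) :
    hJ (Sid F) u v = Cfsg.quadFormPlus m F (u ∘ dbniso_e m + v ∘ dbniso_e m) -
      Cfsg.quadFormPlus m F (u ∘ dbniso_e m) - Cfsg.quadFormPlus m F (v ∘ dbniso_e m) := by
  unfold hJ Cfsg.quadFormPlus
  rw [← Equiv.sum_comp (dbniso_e m), Fintype.sum_sum_type]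
  simp only [Sid_apply, dbniso_rv_inl, dbniso_rv_inr, Pi.add_apply, Function.comp_apply]
  rw [← Finset.sum_add_distrib, ← Finset.sum_sub_distrib, ← Finset.sum_sub_distrib]
  apply Finset.sum_congr rfl
  intro i _
  ring

/-- conjugation by the reindexing, on general linear groups -/
noncomputable def dbniso_Phi (m : ℕ) (F : Type u) [Field F] :
    GL (Fin m ⊕ Fin m) F ≃* GL (Fin (2 * m)) F :=
  Units.mapEquiv (Matrix.reindexAlgEquiv F F (dbniso_e m)).toMulEquiv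

theorem dbniso_Phi_val (m : ℕ) (g : GL (Fin m ⊕ Fin m) F) :
    ((dbniso_Phi m F g : GL (Fin (2 * m)) F) : Matrix (Fin (2 * m)) (Fin (2 * m)) F) =
      (g : Matrix (Fin m ⊕ Fin m) (Fin m ⊕ Fin m) F).submatrix (dbniso_e m).symm (dbniso_e m).symm :=
  rfl

theorem dbniso_Phi_mulVec (m : ℕ) (g : GL (Fin m ⊕ Fin m) F) (u : Fin (2 * m) → F) :
    (((dbniso_Phi m F g : GL (Fin (2 * m)) F) : Matrix (Fin (2 * m)) (Fin (2 * m)) F) *ᵥ u) ∘
      dbniso_e m = (g : Matrix (Fin m ⊕ Fin m) (Fin m ⊕ Fin m) F) *ᵥ (u ∘ dbniso_e m) := by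
  rw [dbniso_Phi_val, Matrix.submatrix_mulVec_equiv]
  funext a
  simp

theorem dbniso_mem_GJ (m : ℕ) (g : GL (Fin m ⊕ Fin m) F)
    (hg : g ∈ Cfsg.isometryGroup F (Cfsg.quadFormPlus m F)) :
    dbniso_Phi m F g ∈ GJ (2 * m) (Sid F) := by
  intro u v
  show hJ (Sid F) (((dbniso_Phi m F g : GL (Fin (2 * m)) F) :
      Matrix (Fin (2 * m)) (Fin (2 * m)) F) *ᵥ u)
    (((dbniso_Phi m F g : GL (Fin (2 * m)) F) : Matrix (Fin (2 * m)) (Fin (2 * m)) F) *ᵥ v) =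
      hJ (Sid F) u v
  have h1 : ∀ w : Fin m ⊕ Fin m → F, Cfsg.quadFormPlus m F
      ((g : Matrix (Fin m ⊕ Fin m) (Fin m ⊕ Fin m) F) *ᵥ w) = Cfsg.quadFormPlus m F w :=
    fun w => hg w w
  rw [dbniso_hJ, dbniso_hJ, dbniso_Phi_mulVec, dbniso_Phi_mulVec, ← Matrix.mulVec_add, h1, h1, h1]

theorem dbniso_mem_OQ (m : ℕ) (g : GL (Fin m ⊕ Fin m) F)
    (hg : g ∈ Cfsg.isometryGroup F (Cfsg.quadFormPlus m F)) :
    (⟨dbniso_Phi m F g, dbniso_mem_GJ m g hg⟩ : GS (2 * m) F) ∈ OQ (2 * m) F := by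
  intro u
  show Qh (2 * m) (((dbniso_Phi m F g : GL (Fin (2 * m)) F) :
    Matrix (Fin (2 * m)) (Fin (2 * m)) F) *ᵥ u) = Qh (2 * m) u
  rw [dbniso_Qh, dbniso_Qh, dbniso_Phi_mulVec]
  exact hg (u ∘ dbniso_e m) (u ∘ dbniso_e m)

theorem dbniso_symm_mem (m : ℕ) (x : GS (2 * m) F) (hx : x ∈ OQ (2 * m) F) :
    (dbniso_Phi m F).symm x.1 ∈ Cfsg.isometryGroup F (Cfsg.quadFormPlus m F) := by
  intro w _
  show Cfsg.quadFormPlus m F ((((dbniso_Phi m F).symm x.1 : GL (Fin m ⊕ Fin m) F) :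
    Matrix (Fin m ⊕ Fin m) (Fin m ⊕ Fin m) F) *ᵥ w) = Cfsg.quadFormPlus m F w
  have hw : w = (w ∘ (dbniso_e m).symm) ∘ dbniso_e m := by
    funext a
    simp
  have h1 := hx (w ∘ (dbniso_e m).symm)
  have h2 : mt x = ((dbniso_Phi m F ((dbniso_Phi m F).symm x.1) : GL (Fin (2 * m)) F) :
      Matrix (Fin (2 * m)) (Fin (2 * m)) F) := by
    rw [MulEquiv.apply_symm_apply]
    rfl
  rw [h2, dbniso_Qh, dbniso_Qh, dbniso_Phi_mulVec, ← hw] at h1
  exact h1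

/-- the isomorphism of the isometry group of `Σ x_i y_i` with `OQ (2m) F` -/
noncomputable def dbniso_fIsoP (m : ℕ) (F : Type u) [Field F] :
    ↥(Cfsg.isometryGroup F (Cfsg.quadFormPlus m F)) ≃* ↥(OQ (2 * m) F) where
  toFun a := ⟨⟨dbniso_Phi m F a.1, dbniso_mem_GJ m a.1 a.2⟩, dbniso_mem_OQ m a.1 a.2⟩
  invFun x := ⟨(dbniso_Phi m F).symm x.1.1, dbniso_symm_mem m x.1 x.2⟩
  left_inv _ := Subtype.ext ((dbniso_Phi m F).symm_apply_apply _)
  right_inv _ := Subtype.ext (Subtype.ext ((dbniso_Phi m F).apply_symm_apply _))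
  map_mul' _ _ := Subtype.ext (Subtype.ext (map_mul (dbniso_Phi m F) _ _))

/-- Row ISO [M] -/
theorem exists_fIsoP (m : ℕ) :
    Nonempty (↥(Cfsg.isometryGroup F (Cfsg.quadFormPlus m F)) ≃* ↥(OQ (2 * m) F)) :=
  ⟨dbniso_fIsoP m F⟩

end Cfsg.Agent.Lib.helper14.DBN
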