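import Mathlib
import Cfsg.Prelude.Def_GeometricClasses
import Cfsg.Agent.Lib.Helper27.ASC.Defs
import Cfsg.Agent.Lib.helper23.ASCO.Defs
import Cfsg.Agent.Lib.Helper19.ASG.Defs
import Cfsg.Agent.Lib.Helper1.ASGCLIF3
import Cfsg.Agent.Lib.Helper25.ASO.Defs
import Cfsg.Agent.Lib.helper23.ASE.Defs
import Cfsg.Agent.Lib.Helper27.E10P.Defs
import Cfsg.Agent.Lib.helper6.ASETENS2
import Cfsg.Agent.Lib.Helper18.ASCNOSYMP

set_option autoImplicit false
set_option linter.unusedVariables false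
set_option linter.unusedSectionVars false

/-!
# Project E10P (leader: helper27), piece T2ALT : a tensor decomposition `2 ⊗ d` with `d` odd forces odd characteristic and
symmetric Gram factors.
-/

namespace Cfsg.Agent.Lib.Helper27.E10P

open Cfsg Cfsg.Geo Cfsg.Agent.Lib.Helper27.ASC Cfsg.Agent.Lib.helper23.ASCO Cfsg.Agent.Lib.Helper19.ASG
  Cfsg.Agent.Lib.Helper25.ASO Cfsg.Agent.Lib.helper23.ASE
open scoped MatrixGroups Matrix Kronecker

variable {n : ℕ} {F : Type*} [Field F] [Fintype F]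

/-- a skew matrix of odd size with zero diagonal is singular (matrix form of `ascnosymp_det`) -/
theorem e10pt2alt_det {d : ℕ} {K : Type*} [Field K] (hd : Odd d) (B : Matrix (Fin d) (Fin d) K) (hB : Bᵀ = -B)
    (hdiag : ∀ i, B i i = 0) : B.det = 0 := by
  refine ascnosymp_det hd B (fun i j => ?_) hdiag
  have h := congrFun (congrFun hB j) i
  simpa only [Matrix.transpose_apply, Matrix.neg_apply] using h

/-- T2ALT -/
theorem tens2_odd_symm (Q : QuadraticForm F (Fin n → F)) (hQ : (QuadraticMap.polarBilin Q).Nondegenerate)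
    {G : Subgroup (GL (Fin n) F)} (hG : Irr G) (hGO : G ≤ isometryGroup F (⇑Q)) {d : ℕ} (hd : Odd d) (hd3 : 3 ≤ d)
    (e : Fin n ≃ Fin 2 × Fin d) (P : GL (Fin n) F) (hGT : G ≤ tensorProductSubgroup 2 d e P)
    (A : Matrix (Fin 2) (Fin 2) F) (B : Matrix (Fin d) (Fin d) F) (hA : IsUnit A.det) (hB : IsUnit B.det)
    (hsign : (Aᵀ = A ∧ Bᵀ = B) ∨ (Aᵀ = -A ∧ Bᵀ = -B)) (hAB : KronGram (QuadraticMap.polar (⇑Q)) e P A B) :
    (2 : F) ≠ 0 ∧ Aᵀ = A ∧ Bᵀ = B := by
  have hBdet : B.det ≠ 0 := hB.ne_zero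
  have h2 : (2 : F) ≠ 0 := by
    intro h2
    have hneg : ∀ {k : ℕ} (M : Matrix (Fin k) (Fin k) F), -M = M := by
      intro k M
      ext i j
      have h3 : (2 : F) * M i j = 0 := by rw [h2, zero_mul]
      simp only [Matrix.neg_apply]
      linear_combination -h3
    have hsym : Aᵀ = A ∧ Bᵀ = B := by
      rcases hsign with h | ⟨h1, h3⟩
      · exact h
      · exact ⟨by rw [h1, hneg], by rw [h3, hneg]⟩
    have hdiag := (etensor_alt_char2 h2 Q hQ hG hGO (le_refl 2) (by omega) e P hGT A B hA hB hsym.1 hsym.2 hAB).2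
    exact hBdet (e10pt2alt_det hd B (by rw [hsym.2, hneg]) hdiag)
  refine ⟨h2, ?_⟩
  rcases hsign with h | ⟨-, hBk⟩
  · exact h
  · exfalso
    refine hBdet (e10pt2alt_det hd B hBk (fun i => ?_))
    have h := congrFun (congrFun hBk i) i
    simp only [Matrix.transpose_apply, Matrix.neg_apply] at h
    have h3 : (2 : F) * B i i = 0 := by linear_combination h
    rcases mul_eq_zero.mp h3 with h4 | h4
    · exact absurd h4 h2
    · exact h4

end Cfsg.Agent.Lib.Helper27.E10P
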