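import Mathlib
import Cfsg.Prelude.Def_GeometricClasses
import Cfsg.Agent.Lib.Helper27.ASC.Defs
import Cfsg.Agent.Lib.helper23.ASCO.Defs
import Cfsg.Agent.Lib.Helper19.ASG.Defs
import Cfsg.Agent.Lib.Helper1.ASGCLIF3
import Cfsg.Agent.Lib.Helper25.ASO.Defs
import Cfsg.Agent.Lib.helper23.ASE.Defs
import Cfsg.Agent.Lib.Lead.E12M.Defs
import Cfsg.Agent.Lib.Helper25.ASOADJ
import Cfsg.Agent.Lib.Helper28.OTens
import Cfsg.Agent.Lib.Helper10.ASOCGRAMa
import Cfsg.Agent.Lib.Helper24.ElT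

/-!
# Project E12M, piece T3Q3 : `|F| = 3`: a group of isometries inside a tensor group `3 ⊗ d` with symmetric Gram factors
stabilises an orthogonal decomposition into three isometric `d`-spaces.

Built on `Helper28.OTens` (`frame3`, `tens_stab`, `tform`, `blk`): the frame `X` of the ternary factor gives the blocks
`D i = blk e P (X i) = {X i ⊗ w}`; `tens_stab` is the stabiliser statement; the blocks are pairwise orthogonal, non-degenerate
(`δ • B`), independent (orthogonality + non-degeneracy), of total dimension `3 d = n`, and `X i ⊗ w ↦ X j ⊗ w` is an isometry.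
-/

set_option autoImplicit false
set_option linter.unusedVariables false
set_option linter.unusedSectionVars false

namespace Cfsg.Agent.Lib.Lead.E12M

open Cfsg Cfsg.Geo Cfsg.Agent.Lib.Helper27.ASC Cfsg.Agent.Lib.helper23.ASCO Cfsg.Agent.Lib.Helper19.ASG
  Cfsg.Agent.Lib.Helper25.ASO Cfsg.Agent.Lib.helper23.ASE
open scoped MatrixGroups Matrix Kronecker

variable {n : ℕ} {F : Type*} [Field F] [Fintype F]

omit [Fintype F] in
/-- pairwise orthogonal subspaces, each non-degenerate, are independent -/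
theorem e12mt3q3_indep (Q : QuadraticForm F (Fin n → F)) {t : ℕ} (D : Fin t → Submodule F (Fin n → F))
    (hnd : ∀ i, IsNondegenerateOn (QuadraticMap.polar (⇑Q)) (D i))
    (horth : ∀ i j, i ≠ j → AreOrthogonalFor (QuadraticMap.polar (⇑Q)) (D i) (D j)) : iSupIndep D := by
  classical
  rw [iSupIndep_def]
  intro i
  rw [Submodule.disjoint_def]
  intro x hxi hx
  by_contra hx0
  obtain ⟨⟨y, hy, hyx⟩, _⟩ := hnd i x hxi hx0
  apply hyx
  -- `x` lies in the orthogonal complement of `y`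
  have hle : (⨆ j, ⨆ (_ : j ≠ i), D j) ≤ LinearMap.ker (QuadraticMap.polarBilin Q y) := by
    apply iSup_le
    intro j
    apply iSup_le
    intro hji z hz
    rw [LinearMap.mem_ker]
    exact horth i j (Ne.symm hji) y hy z hz
  have := hle hx
  rw [LinearMap.mem_ker] at this
  exact this

/-- T3Q3 -/
theorem tens3_q3 (hq : Fintype.card F = 3) (Q : QuadraticForm F (Fin n → F))
    (hQ : (QuadraticMap.polarBilin Q).Nondegenerate) {G : Subgroup (GL (Fin n) F)}
    (hGO : G ≤ isometryGroup F (⇑Q)) {d : ℕ} (hd : 0 < d) (e : Fin n ≃ Fin 3 × Fin d) (P : GL (Fin n) F)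
    (hGT : G ≤ tensorProductSubgroup 3 d e P)
    (A : Matrix (Fin 3) (Fin 3) F) (B : Matrix (Fin d) (Fin d) F) (hA : IsUnit A.det) (hB : IsUnit B.det)
    (hAs : Aᵀ = A) (hBs : Bᵀ = B) (hAB : KronGram (QuadraticMap.polar (⇑Q)) e P A B) :
    ∃ D : Fin 3 → Submodule F (Fin n → F), IsOrthogonalMDecomposition (⇑Q) d D ∧
      G ≤ decompositionStabilizer D := by
  classical
  have h2 : (2 : F) ≠ 0 := Cfsg.Agent.Lib.Helper28.OPlane.two_ne_zero3 hq
  have hn : n = 3 * d := by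
    have := Fintype.card_congr e
    rwa [Fintype.card_fin, Fintype.card_prod, Fintype.card_fin, Fintype.card_fin] at this
  obtain ⟨hf₁, hg₁⟩ := asocgram_form A hAs hA.ne_zero
  obtain ⟨hf₂, hg₂⟩ := asocgram_form B hBs hB.ne_zero
  obtain ⟨f₁, hf₁def⟩ : ∃ f₁ : (Fin 3 → F) → (Fin 3 → F) → F, f₁ = fun u v => u ⬝ᵥ A *ᵥ v := ⟨_, rfl⟩
  obtain ⟨f₂, hf₂def⟩ : ∃ f₂ : (Fin d → F) → (Fin d → F) → F, f₂ = fun u v => u ⬝ᵥ B *ᵥ v := ⟨_, rfl⟩
  rw [← hf₁def] at hf₁ hg₁
  rw [← hf₂def] at hf₂ hg₂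
  have hT' : ∀ x y : Fin 3 × Fin d → F,
      QuadraticMap.polar (⇑Q) ((P : Matrix (Fin n) (Fin n) F) *ᵥ (x ∘ e))
        ((P : Matrix (Fin n) (Fin n) F) *ᵥ (y ∘ e)) =
        (1 : F) * formOfGram id (gramMatrix f₁ ⊗ₖ gramMatrix f₂) x y := by
    intro x y
    rw [hg₁, hg₂, one_mul]
    exact hAB x y
  obtain ⟨X, δ, hδ, hXX, hXo, hXP⟩ := Cfsg.Agent.Lib.Helper28.OTens.frame3 hq hf₁
  have htf : ∀ (α α' : Fin 3 → F) (v v' : Fin d → F),
      QuadraticMap.polar (⇑Q) (Cfsg.Agent.Lib.Helper28.OTens.tau e P α v)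
        (Cfsg.Agent.Lib.Helper28.OTens.tau e P α' v') = f₁ α α' * f₂ v v' := by
    intro α α' v v'
    rw [Cfsg.Agent.Lib.Helper28.OTens.tform e P hf₁.bilinear hf₂.bilinear hT' α α' v v', one_mul]
  have hX0 : ∀ i, X i ≠ 0 := by
    intro i h0
    have := hXX i
    rw [h0, Cfsg.Agent.Lib.Helper28.OTens.bil_zero_left hf₁.bilinear] at this
    exact hδ this.symm
  -- the blocks
  obtain ⟨D, hD⟩ : ∃ D : Fin 3 → Submodule F (Fin n → F),
      ∀ i, D i = Cfsg.Agent.Lib.Helper28.OTens.blk e P (X i) := ⟨_, fun _ => rfl⟩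
  have hDfun : D = fun i => Cfsg.Agent.Lib.Helper28.OTens.blk e P (X i) := funext hD
  have hmem : ∀ i w, w ∈ D i ↔ ∃ v, Cfsg.Agent.Lib.Helper28.OTens.tau e P (X i) v = w := by
    intro i w
    rw [hD]
    exact Cfsg.Agent.Lib.Helper28.OTens.mem_blk e P (X i) w
  have hQtau : ∀ i v, Q (Cfsg.Agent.Lib.Helper28.OTens.tau e P (X i) v) = 2⁻¹ * (δ * f₂ v v) := by
    intro i v
    have h1 := QuadraticMap.polar_self Q (Cfsg.Agent.Lib.Helper28.OTens.tau e P (X i) v)
    rw [htf, hXX] at h1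
    rw [h1]
    simp only [nsmul_eq_mul, Nat.cast_ofNat]
    field_simp
  have hnd : ∀ i, IsNondegenerateOn (QuadraticMap.polar (⇑Q)) (D i) := by
    intro i w hw hw0
    obtain ⟨v, rfl⟩ := (hmem i w).1 hw
    have hv0 : v ≠ 0 := by
      intro h0
      apply hw0
      rw [h0]
      have := Cfsg.Agent.Lib.Helper28.OTens.tau_smul_right e P (0 : F) (X i) (0 : Fin d → F)
      rw [zero_smul, zero_smul] at this
      exact this
    obtain ⟨⟨x, hx⟩, ⟨x', hx'⟩⟩ := hf₂.nondegenerate v hv0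
    refine ⟨⟨Cfsg.Agent.Lib.Helper28.OTens.tau e P (X i) x, (hmem i _).2 ⟨x, rfl⟩, ?_⟩,
      ⟨Cfsg.Agent.Lib.Helper28.OTens.tau e P (X i) x', (hmem i _).2 ⟨x', rfl⟩, ?_⟩⟩
    · rw [htf, hXX]
      exact mul_ne_zero hδ hx
    · rw [htf, hXX]
      exact mul_ne_zero hδ hx'
  have horth : ∀ i j, i ≠ j → AreOrthogonalFor (QuadraticMap.polar (⇑Q)) (D i) (D j) := by
    intro i j hij u hu v hv
    obtain ⟨a, rfl⟩ := (hmem i u).1 hu
    obtain ⟨b, rfl⟩ := (hmem j v).1 hv
    rw [htf, hXo i j hij, zero_mul]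
  have hfr : ∀ i, Module.finrank F (D i) = d := by
    intro i
    rw [hD]
    exact Cfsg.Agent.Lib.Helper28.OTens.blk_finrank e P (hX0 i)
  have hind : iSupIndep D := e12mt3q3_indep Q D hnd horth
  have htop : iSup D = ⊤ := by
    apply Submodule.eq_top_of_finrank_eq
    rw [Cfsg.Agent.Lib.Helper24.el_finrank_iSup D hind, Module.finrank_fin_fun]
    simp only [hfr, Finset.sum_const, Finset.card_univ, Fintype.card_fin, smul_eq_mul]
    omega
  have hinj : ∀ i, Function.Injective (Cfsg.Agent.Lib.Helper28.OTens.tauLin e P (X i)) := by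
    intro i v v' h
    exact Cfsg.Agent.Lib.Helper28.OTens.tau_inj e P (hX0 i) h
  refine ⟨D, ⟨⟨⟨by norm_num, hd, hfr, hind, htop⟩, hnd, horth⟩, ?_⟩, ?_⟩
  · -- isometric blocks
    intro i j
    have hDi : D i = LinearMap.range (Cfsg.Agent.Lib.Helper28.OTens.tauLin e P (X i)) := hD i
    have hDj : D j = LinearMap.range (Cfsg.Agent.Lib.Helper28.OTens.tauLin e P (X j)) := hD j
    refine ⟨(LinearEquiv.ofEq _ _ hDi).trans
      (((LinearEquiv.ofInjective _ (hinj i)).symm.trans (LinearEquiv.ofInjective _ (hinj j))).trans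
        (LinearEquiv.ofEq _ _ hDj.symm)), fun x => ?_⟩
    obtain ⟨v, hv⟩ : ∃ v : Fin d → F, v = (LinearEquiv.ofInjective _ (hinj i)).symm
        (LinearEquiv.ofEq _ _ hDi x) := ⟨_, rfl⟩
    have hx : (x : Fin n → F) = Cfsg.Agent.Lib.Helper28.OTens.tau e P (X i) v := by
      have h1 : (LinearEquiv.ofInjective _ (hinj i)) v = LinearEquiv.ofEq _ _ hDi x := by
        rw [hv, LinearEquiv.apply_symm_apply]
      have h2 := congrArg (fun z : LinearMap.range (Cfsg.Agent.Lib.Helper28.OTens.tauLin e P (X i)) =>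
        (z : Fin n → F)) h1
      simp only [LinearEquiv.ofInjective_apply, LinearEquiv.coe_ofEq_apply] at h2
      exact h2.symm
    have hex : ((((LinearEquiv.ofEq _ _ hDi).trans
      (((LinearEquiv.ofInjective _ (hinj i)).symm.trans (LinearEquiv.ofInjective _ (hinj j))).trans
        (LinearEquiv.ofEq _ _ hDj.symm))) x : D j) : Fin n → F) =
        Cfsg.Agent.Lib.Helper28.OTens.tau e P (X j) v := by
      simp only [LinearEquiv.trans_apply, LinearEquiv.coe_ofEq_apply, ← hv, LinearEquiv.ofInjective_apply]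
      rfl
    rw [hex, hx, hQtau, hQtau]
  · -- the stabiliser
    intro g hg
    have hiso : ∀ x y, QuadraticMap.polar (⇑Q) ((g : Matrix (Fin n) (Fin n) F) *ᵥ x)
        ((g : Matrix (Fin n) (Fin n) F) *ᵥ y) = QuadraticMap.polar (⇑Q) x y :=
      fun x y => asoadj_iso_polar Q g (hGO hg) x y
    have hnd₂ : ∃ v v', f₂ v v' ≠ 0 := by
      have hv0 : (Pi.single (⟨0, hd⟩ : Fin d) (1 : F) : Fin d → F) ≠ 0 := by
        intro h
        have := congrFun h ⟨0, hd⟩
        simp at this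
      obtain ⟨⟨x, hx⟩, _⟩ := hf₂.nondegenerate _ hv0
      exact ⟨x, _, hx⟩
    have := Cfsg.Agent.Lib.Helper28.OTens.tens_stab hq e P hf₁ hf₂.bilinear hnd₂ one_ne_zero hT' X δ hδ hXX hXP hXo
      g (hGT hg) hiso
    rw [hDfun]
    exact this

end Cfsg.Agent.Lib.Lead.E12M
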