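import Mathlib

set_option autoImplicit false

namespace Cfsg.Agent.Lib.Helper29

open Subgroup

/-- Hypotheses of the "even subgroups are small" configuration (S4018), with simplicity. -/
structure Ev3 (G : Type*) [Group G] [Finite G] (P : Sylow 3 G) : Prop where
  simple : IsSimpleGroup G
  hab : ∀ x ∈ (P : Subgroup G), ∀ y ∈ (P : Subgroup G), x * y = y * x
  hN : Nat.card (Subgroup.normalizer ((P : Subgroup G) : Set G)) = 4 * Nat.card (P : Subgroup G)
  hC : Nat.card (Subgroup.centralizer ((P : Subgroup G) : Set G)) = 2 * Nat.card (P : Subgroup G)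
  heven : ∀ H : Subgroup G, H ≠ ⊤ → 2 ∣ Nat.card H → Nat.card H ∣ 4 * Nat.card (P : Subgroup G)

namespace Ev3

variable {G : Type*} [Group G] [Finite G] {P : Sylow 3 G}

theorem card_P_pos (_h : Ev3 G P) : 0 < Nat.card (P : Subgroup G) := Nat.card_pos

theorem P_le_C (h : Ev3 G P) : (P : Subgroup G) ≤ centralizer ((P : Subgroup G) : Set G) := by
  intro x hx
  rw [mem_centralizer_iff]
  intro y hy
  exact h.hab y hy x hx

theorem C_le_N (_h : Ev3 G P) :
    centralizer ((P : Subgroup G) : Set G) ≤ normalizer ((P : Subgroup G) : Set G) := by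
  intro g hg
  rw [mem_normalizer_iff]
  intro x
  rw [mem_centralizer_iff] at hg
  constructor
  · intro hx
    have := hg x hx
    have h2 : g * x * g⁻¹ = x := by rw [← this, mul_inv_cancel_right]
    rw [h2]; exact hx
  · intro hx
    have := hg _ hx
    -- g x g⁻¹ commutes with g, so g x g⁻¹ = x
    have h2 : g * x * g⁻¹ = x := by
      have h3 : g * x * g⁻¹ * g = g * (g * x * g⁻¹) := this
      have h4 : g * x = g * (g * x * g⁻¹) := by
        rw [← h3]; group
      have h5 := mul_left_cancel h4
      exact h5.symm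
    rw [h2] at hx; exact hx

/-- `G` is not commutative. -/
theorem not_comm (h : Ev3 G P) : ¬ (∀ a b : G, a * b = b * a) := by
  intro hc
  have h1 : centralizer ((P : Subgroup G) : Set G) = ⊤ := by
    rw [eq_top_iff]; intro g _
    rw [mem_centralizer_iff]; intro y _; exact hc y g
  have h2 : normalizer ((P : Subgroup G) : Set G) = ⊤ := by
    rw [eq_top_iff]; rw [← h1]; exact h.C_le_N
  have h3 := h.hN
  have h4 := h.hC
  rw [h1] at h4
  rw [h2] at h3
  have := h.card_P_pos
  omega

theorem center_eq_bot (h : Ev3 G P) : center G = ⊥ := by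
  haveI := h.simple
  rcases IsSimpleGroup.eq_bot_or_eq_top_of_normal (center G) inferInstance with h1 | h1
  · exact h1
  · exfalso
    apply h.not_comm
    intro a b
    have : a ∈ center G := by rw [h1]; exact mem_top a
    rw [mem_center_iff] at this
    exact (this b).symm

theorem centralizer_ne_top (h : Ev3 G P) {x : G} (hx : x ≠ 1) :
    centralizer ({x} : Set G) ≠ ⊤ := by
  intro h1
  apply hx
  have : x ∈ center G := by
    rw [mem_center_iff]
    intro g
    have hg : g ∈ centralizer ({x} : Set G) := by rw [h1]; exact mem_top g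
    rw [mem_centralizer_iff] at hg
    exact (hg x rfl).symm
  rw [h.center_eq_bot, mem_bot] at this
  exact this

/-- `P` is nontrivial: `3 ∣ |P|`. -/
theorem three_dvd_card_P (h : Ev3 G P) : 3 ∣ Nat.card (P : Subgroup G) := by
  haveI : Fact (Nat.Prime 3) := ⟨Nat.prime_three⟩
  by_contra hnd
  -- then |P| = 1
  have h1 : Nat.card (P : Subgroup G) = 3 ^ (Nat.card G).factorization 3 := P.card_eq_multiplicity
  have h2 : (Nat.card G).factorization 3 = 0 := by
    by_contra h0
    apply hnd
    rw [h1]
    exact dvd_pow_self 3 h0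
  rw [h2, pow_zero] at h1
  have h3 : (P : Subgroup G) = ⊥ := Subgroup.card_eq_one.mp h1
  have h4 : centralizer ((P : Subgroup G) : Set G) = ⊤ := by
    rw [h3]; simp
  have h5 : normalizer ((P : Subgroup G) : Set G) = ⊤ := by
    rw [eq_top_iff, ← h4]; exact h.C_le_N
  have h6 := h.hN
  have h7 := h.hC
  rw [h4] at h7
  rw [h5] at h6
  omega

theorem odd_card_P (_h : Ev3 G P) : Odd (Nat.card (P : Subgroup G)) := by
  haveI : Fact (Nat.Prime 3) := ⟨Nat.prime_three⟩
  rw [P.card_eq_multiplicity]
  exact Odd.pow (by decide)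

end Ev3

end Cfsg.Agent.Lib.Helper29
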