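import Mathlib
import Cfsg.Agent.Lib.Helper29.Ev3A
import Cfsg.Agent.S0992

set_option autoImplicit false

namespace Cfsg.Agent.Lib.Helper29

open Subgroup

namespace Ev3

variable {G : Type*} [Group G] [Finite G] {P : Sylow 3 G}

theorem four_dvd_card (h : Ev3 G P) : 4 ∣ Nat.card G := by
  have h1 : Nat.card (normalizer ((P : Subgroup G) : Set G)) ∣ Nat.card G :=
    Subgroup.card_subgroup_dvd_card _
  rw [h.hN] at h1
  exact dvd_trans (dvd_mul_right 4 _) h1

theorem three_dvd_card (h : Ev3 G P) : 3 ∣ Nat.card G :=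
  dvd_trans h.three_dvd_card_P (Subgroup.card_subgroup_dvd_card _)

/-- Every Sylow `2`-subgroup has order `4`. -/
theorem card_sylow2 (h : Ev3 G P) (S : Sylow 2 G) : Nat.card (S : Subgroup G) = 4 := by
  haveI : Fact (Nat.Prime 2) := ⟨Nat.prime_two⟩
  have h1 : Nat.card (S : Subgroup G) = 2 ^ (Nat.card G).factorization 2 := S.card_eq_multiplicity
  set k := (Nat.card G).factorization 2 with hk
  have hk2 : 2 ≤ k := by
    have h4 : 2 ^ 2 ∣ Nat.card G := h.four_dvd_card
    exact (Nat.Prime.pow_dvd_iff_le_factorization Nat.prime_two Nat.card_pos.ne').mp h4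
  have hne : (S : Subgroup G) ≠ ⊤ := by
    intro htop
    have h3 := h.three_dvd_card
    have : Nat.card G = 2 ^ k := by
      rw [← h1, htop, Subgroup.card_top]
    rw [this] at h3
    have := (Nat.Prime.dvd_of_dvd_pow Nat.prime_three h3)
    omega
  have hdvd : 2 ∣ Nat.card (S : Subgroup G) := by
    rw [h1]; exact dvd_pow_self 2 (by omega)
  have h5 := h.heven _ hne hdvd
  rw [h1] at h5
  -- 2^k ∣ 4 * |P| with |P| odd
  have hodd := h.odd_card_P
  have hcop : (2 ^ k).Coprime (Nat.card (P : Subgroup G)) := by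
    apply Nat.Coprime.pow_left
    exact (Nat.coprime_two_left).mpr hodd
  have h6 : 2 ^ k ∣ 4 := hcop.dvd_of_dvd_mul_right h5
  have h7 : 2 ^ k ∣ 2 ^ 2 := h6
  have h8 : k ≤ 2 := (Nat.pow_dvd_pow_iff_le_right (by norm_num)).mp h7
  have : k = 2 := le_antisymm h8 hk2
  rw [h1, this]; norm_num

theorem not_eight_dvd (h : Ev3 G P) : ¬ 8 ∣ Nat.card G := by
  haveI : Fact (Nat.Prime 2) := ⟨Nat.prime_two⟩
  intro h8
  obtain ⟨S⟩ : Nonempty (Sylow 2 G) := inferInstance
  have h1 : Nat.card (S : Subgroup G) = 2 ^ (Nat.card G).factorization 2 := S.card_eq_multiplicity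
  rw [h.card_sylow2 S] at h1
  have h3 : 2 ^ 3 ∣ Nat.card G := h8
  have h4 := (Nat.Prime.pow_dvd_iff_le_factorization Nat.prime_two Nat.card_pos.ne').mp h3
  have h5 : (2:ℕ) ^ 2 < 2 ^ (Nat.card G).factorization 2 :=
    Nat.pow_lt_pow_right (by norm_num) (by omega)
  omega

theorem sylow2_klein (h : Ev3 G P) (S : Sylow 2 G) :
    IsKleinFour ↥(S : Subgroup G) ∧
      (centralizer ((S : Subgroup G) : Set G)).relIndex (normalizer ((S : Subgroup G) : Set G)) = 3 := by
  haveI := h.simple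
  apply Cfsg.Agent.S0992.result
  · intro hc
    exact h.not_comm (fun a b => hc.is_comm.comm a b)
  · have := h.four_dvd_card
    exact (even_iff_two_dvd).mpr (dvd_trans (by norm_num) this)
  · exact h.not_eight_dvd

/-- Every element of a Sylow `2`-subgroup squares to one. -/
theorem sq_eq_one_of_mem_sylow2 (h : Ev3 G P) (S : Sylow 2 G) {x : G} (hx : x ∈ (S : Subgroup G)) :
    x * x = 1 := by
  haveI := (h.sylow2_klein S).1
  have := IsKleinFour.mul_self (⟨x, hx⟩ : (S : Subgroup G))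
  exact congrArg Subtype.val this

/-- A Sylow `2`-subgroup is commutative. -/
theorem comm_of_mem_sylow2 (h : Ev3 G P) (S : Sylow 2 G) {x y : G} (hx : x ∈ (S : Subgroup G))
    (hy : y ∈ (S : Subgroup G)) : x * y = y * x := by
  have h1 := h.sq_eq_one_of_mem_sylow2 S hx
  have h2 := h.sq_eq_one_of_mem_sylow2 S hy
  have h3 := h.sq_eq_one_of_mem_sylow2 S (mul_mem hx hy)
  -- (xy)(xy) = 1, so xy = y⁻¹ x⁻¹ = y x
  have hx' : x⁻¹ = x := inv_eq_of_mul_eq_one_left h1
  have hy' : y⁻¹ = y := inv_eq_of_mul_eq_one_left h2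
  have h4 : (x * y)⁻¹ = x * y := inv_eq_of_mul_eq_one_left h3
  rw [mul_inv_rev, hx', hy'] at h4
  exact h4.symm

/-- There is no element of order `4`. -/
theorem orderOf_ne_four (h : Ev3 G P) (x : G) : orderOf x ≠ 4 := by
  haveI : Fact (Nat.Prime 2) := ⟨Nat.prime_two⟩
  intro hx
  have hp : IsPGroup 2 (zpowers x) := by
    apply IsPGroup.of_card (n := 2)
    rw [Nat.card_zpowers, hx]; norm_num
  obtain ⟨S, hS⟩ := hp.exists_le_sylow
  have hxS : x ∈ (S : Subgroup G) := hS (mem_zpowers x)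
  have h1 := h.sq_eq_one_of_mem_sylow2 S hxS
  have h2 : orderOf x ∣ 2 := orderOf_dvd_of_pow_eq_one (by rw [pow_two]; exact h1)
  rw [hx] at h2
  omega

/-- Every involution lies in a Sylow `2`-subgroup. -/
theorem exists_sylow2_of_involution (_h : Ev3 G P) {z : G} (hz : orderOf z = 2) :
    ∃ S : Sylow 2 G, z ∈ (S : Subgroup G) := by
  haveI : Fact (Nat.Prime 2) := ⟨Nat.prime_two⟩
  have hp : IsPGroup 2 (zpowers z) := by
    apply IsPGroup.of_card (n := 1)
    rw [Nat.card_zpowers, hz, pow_one]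
  obtain ⟨S, hS⟩ := hp.exists_le_sylow
  exact ⟨S, hS (mem_zpowers z)⟩

end Ev3

end Cfsg.Agent.Lib.Helper29
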