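import Mathlib
import Cfsg.Agent.Lib.Helper29.Ev3B

set_option autoImplicit false

namespace Cfsg.Agent.Lib.Helper29

open Subgroup

/-- General: if `H ≤ K` then `|H| * relIndex = |K|`. -/
theorem ev3_card_mul_relIndex {G : Type*} [Group G] {H K : Subgroup G} (hle : H ≤ K) :
    Nat.card H * H.relIndex K = Nat.card K := by
  rw [← Subgroup.relIndex_bot_left, ← Subgroup.relIndex_bot_left (H := K)]
  exact Subgroup.relIndex_mul_relIndex ⊥ H K bot_le hle

theorem ev3_orderOf_conj {G : Type*} [Group G] (n x : G) : orderOf (n * x * n⁻¹) = orderOf x := by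
  have := orderOf_injective (MulAut.conj n).toMonoidHom (MulAut.conj n).injective x
  simpa using this

/-- An element of odd order subgroup with `x * x = 1` is trivial. -/
theorem ev3_eq_one_of_sq_of_odd {G : Type*} [Group G] [Finite G] {H : Subgroup G}
    (hodd : Odd (Nat.card H)) {x : G} (hx : x ∈ H) (hsq : x * x = 1) : x = 1 := by
  have h1 : orderOf x ∣ 2 := orderOf_dvd_of_pow_eq_one (by rw [pow_two]; exact hsq)
  have h2 : orderOf x ∣ Nat.card H := by
    have := orderOf_dvd_natCard (⟨x, hx⟩ : H)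
    rwa [← Subgroup.orderOf_coe] at this
  have h3 : (Nat.card H).Coprime 2 := Nat.coprime_two_right.mpr hodd
  have h4 : orderOf x ∣ Nat.gcd (Nat.card H) 2 := Nat.dvd_gcd h2 h1
  rw [h3] at h4
  exact orderOf_eq_one_iff.mp (Nat.dvd_one.mp h4)

namespace Ev3

variable {G : Type*} [Group G] [Finite G] {P : Sylow 3 G}

theorem exists_t (h : Ev3 G P) :
    ∃ t : G, orderOf t = 2 ∧ t ∈ centralizer ((P : Subgroup G) : Set G) := by
  haveI : Fact (Nat.Prime 2) := ⟨Nat.prime_two⟩
  have h1 : 2 ∣ Nat.card (centralizer ((P : Subgroup G) : Set G)) := by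
    rw [h.hC]; exact dvd_mul_right 2 _
  obtain ⟨x, hx⟩ := exists_prime_orderOf_dvd_card' 2 h1
  refine ⟨(x : G), ?_, x.2⟩
  rw [Subgroup.orderOf_coe]; exact hx

theorem not_mem_P_of_orderOf_two (h : Ev3 G P) {z : G} (hz : orderOf z = 2) :
    z ∉ (P : Subgroup G) := by
  intro hzP
  have h2 : orderOf z ∣ Nat.card (P : Subgroup G) := by
    have := orderOf_dvd_natCard (⟨z, hzP⟩ : (P : Subgroup G))
    rwa [← Subgroup.orderOf_coe] at this
  rw [hz] at h2
  obtain ⟨k, hk⟩ := h.odd_card_P
  omega

theorem relIndex_P_C (h : Ev3 G P) :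
    (P : Subgroup G).relIndex (centralizer ((P : Subgroup G) : Set G)) = 2 := by
  have h1 := ev3_card_mul_relIndex h.P_le_C
  rw [h.hC] at h1
  have := h.card_P_pos
  have h2 : Nat.card (P : Subgroup G) * (P : Subgroup G).relIndex (centralizer ((P : Subgroup G) : Set G))
      = Nat.card (P : Subgroup G) * 2 := by rw [h1]; ring
  exact Nat.eq_of_mul_eq_mul_left this h2

/-- The involution of `C_G(P)` is unique. -/
theorem invol_C_unique (h : Ev3 G P) {z t : G} (hz : orderOf z = 2) (ht : orderOf t = 2)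
    (hzC : z ∈ centralizer ((P : Subgroup G) : Set G))
    (htC : t ∈ centralizer ((P : Subgroup G) : Set G)) : z = t := by
  set C := centralizer ((P : Subgroup G) : Set G) with hCdef
  have hidx : ((P : Subgroup G).subgroupOf C).index = 2 := h.relIndex_P_C
  have hz' : (⟨z, hzC⟩ : C) ∉ (P : Subgroup G).subgroupOf C := by
    rw [mem_subgroupOf]; exact h.not_mem_P_of_orderOf_two hz
  have ht' : (⟨t, htC⟩ : C) ∉ (P : Subgroup G).subgroupOf C := by
    rw [mem_subgroupOf]; exact h.not_mem_P_of_orderOf_two ht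
  have hmul : (⟨z, hzC⟩ : C) * ⟨t, htC⟩ ∈ (P : Subgroup G).subgroupOf C := by
    rw [Subgroup.mul_mem_iff_of_index_two hidx]
    exact ⟨fun hh => absurd hh hz', fun hh => absurd hh ht'⟩
  rw [mem_subgroupOf] at hmul
  have hp : z * t ∈ (P : Subgroup G) := hmul
  -- t commutes with z * t ∈ P, and z commutes with z * t
  have hz2 : z * z = 1 := by
    have := pow_orderOf_eq_one z; rw [hz, pow_two] at this; exact this
  have ht2 : t * t = 1 := by
    have := pow_orderOf_eq_one t; rw [ht, pow_two] at this; exact this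
  have hc1 : (z * t) * t = t * (z * t) := by
    rw [mem_centralizer_iff] at htC
    exact htC _ hp
  -- so z * t * t = t * z * t, i.e. z = t * z * t ... hence z t = t z
  have hcomm : z * t = t * z := by
    have h3 : z * t * t = z := by rw [mul_assoc, ht2, mul_one]
    rw [h3] at hc1
    -- z = t * (z * t)
    calc z * t = t * (z * t) * t := by rw [← hc1]
      _ = t * z * (t * t) := by group
      _ = t * z := by rw [ht2, mul_one]
  have hsq : (z * t) * (z * t) = 1 := by
    calc (z * t) * (z * t) = z * (t * z) * t := by group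
      _ = z * (z * t) * t := by rw [hcomm]
      _ = (z * z) * (t * t) := by group
      _ = 1 := by rw [hz2, ht2, one_mul]
  have h1 := ev3_eq_one_of_sq_of_odd h.odd_card_P hp hsq
  -- z * t = 1 so z = t⁻¹ = t
  have : z = t⁻¹ := eq_inv_of_mul_eq_one_left h1
  rw [this]
  exact inv_eq_of_mul_eq_one_left ht2

/-- `N_G(P)` normalizes `C_G(P)`. -/
theorem conj_mem_C_of_mem_N (_h : Ev3 G P) {n c : G}
    (hn : n ∈ normalizer ((P : Subgroup G) : Set G))
    (hc : c ∈ centralizer ((P : Subgroup G) : Set G)) :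
    n * c * n⁻¹ ∈ centralizer ((P : Subgroup G) : Set G) := by
  rw [mem_centralizer_iff] at hc ⊢
  intro p hp
  have hp' : n⁻¹ * p * n ∈ (P : Subgroup G) := by
    rw [mem_normalizer_iff] at hn
    have := (hn (n⁻¹ * p * n)).mpr (by
      have : n * (n⁻¹ * p * n) * n⁻¹ = p := by group
      rw [this]; exact hp)
    exact this
  have h1 := hc _ hp'
  -- p * (n c n⁻¹) = n (n⁻¹ p n) c n⁻¹ = n c (n⁻¹ p n) n⁻¹ = (n c n⁻¹) p
  calc p * (n * c * n⁻¹) = n * ((n⁻¹ * p * n) * c) * n⁻¹ := by group
    _ = n * (c * (n⁻¹ * p * n)) * n⁻¹ := by rw [h1]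
    _ = n * c * n⁻¹ * p := by group

theorem N_le_centralizer_t (h : Ev3 G P) {t : G} (ht : orderOf t = 2)
    (htC : t ∈ centralizer ((P : Subgroup G) : Set G)) :
    normalizer ((P : Subgroup G) : Set G) ≤ centralizer ({t} : Set G) := by
  intro n hn
  rw [mem_centralizer_iff]
  intro x hx
  rw [Set.mem_singleton_iff] at hx
  subst hx
  have h1 := h.conj_mem_C_of_mem_N hn htC
  have h2 : orderOf (n * x * n⁻¹) = 2 := by
    rw [ev3_orderOf_conj]; exact ht
  have h3 := h.invol_C_unique h2 ht h1 htC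
  -- n x n⁻¹ = x
  calc x * n = (n * x * n⁻¹) * n := by rw [h3]
    _ = n * x := by group

theorem centralizer_t_eq_N (h : Ev3 G P) {t : G} (ht : orderOf t = 2)
    (htC : t ∈ centralizer ((P : Subgroup G) : Set G)) :
    centralizer ({t} : Set G) = normalizer ((P : Subgroup G) : Set G) := by
  symm
  apply Subgroup.eq_of_le_of_card_ge (h.N_le_centralizer_t ht htC)
  have hne : centralizer ({t} : Set G) ≠ ⊤ := by
    apply h.centralizer_ne_top
    intro h1; rw [h1, orderOf_one] at ht; omega
  have h2 : 2 ∣ Nat.card (centralizer ({t} : Set G)) := by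
    have hmem : t ∈ centralizer ({t} : Set G) := by
      rw [mem_centralizer_iff]; intro x hx; rw [Set.mem_singleton_iff] at hx; rw [hx]
    have := orderOf_dvd_natCard (⟨t, hmem⟩ : centralizer ({t} : Set G))
    rw [← Subgroup.orderOf_coe] at this
    simpa [ht] using this
  have h3 := h.heven _ hne h2
  rw [h.hN]
  exact Nat.le_of_dvd (by have := h.card_P_pos; omega) h3

end Ev3

end Cfsg.Agent.Lib.Helper29
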