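import Mathlib
import Cfsg.Agent.Lib.Helper29.Ev3C

set_option autoImplicit false

namespace Cfsg.Agent.Lib.Helper29

open Subgroup

theorem ev3_conj_mem_centralizer {G : Type*} [Group G] {H : Subgroup G} {n c : G}
    (hn : n ∈ normalizer (H : Set G)) (hc : c ∈ centralizer (H : Set G)) :
    n * c * n⁻¹ ∈ centralizer (H : Set G) := by
  rw [mem_centralizer_iff] at hc ⊢
  intro p hp
  have hp' : n⁻¹ * p * n ∈ H := by
    rw [mem_normalizer_iff] at hn
    exact (hn (n⁻¹ * p * n)).mpr (by
      have : n * (n⁻¹ * p * n) * n⁻¹ = p := by group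
      rw [this]; exact hp)
  have h1 := hc _ hp'
  calc p * (n * c * n⁻¹) = n * ((n⁻¹ * p * n) * c) * n⁻¹ := by group
    _ = n * (c * (n⁻¹ * p * n)) * n⁻¹ := by rw [h1]
    _ = n * c * n⁻¹ * p := by group

theorem ev3_centralizer_normal_in_normalizer {G : Type*} [Group G] (H : Subgroup G) :
    ((centralizer (H : Set G)).subgroupOf (normalizer (H : Set G))).Normal := by
  constructor
  intro c hc n
  rw [mem_subgroupOf] at hc ⊢
  exact ev3_conj_mem_centralizer n.2 hc

theorem ev3_centralizer_conj {G : Type*} [Group G] (y x g : G) :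
    g ∈ centralizer ({y * x * y⁻¹} : Set G) ↔ y⁻¹ * g * y ∈ centralizer ({x} : Set G) := by
  rw [mem_centralizer_iff, mem_centralizer_iff]
  constructor
  · intro h a ha
    rw [Set.mem_singleton_iff] at ha; subst ha
    have := h (y * a * y⁻¹) rfl
    calc a * (y⁻¹ * g * y) = y⁻¹ * ((y * a * y⁻¹) * g) * y := by group
      _ = y⁻¹ * (g * (y * a * y⁻¹)) * y := by rw [this]
      _ = y⁻¹ * g * y * a := by group
  · intro h a ha
    rw [Set.mem_singleton_iff] at ha; subst ha
    have := h x rfl
    calc y * x * y⁻¹ * g = y * (x * (y⁻¹ * g * y)) * y⁻¹ := by group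
      _ = y * ((y⁻¹ * g * y) * x) * y⁻¹ := by rw [this]
      _ = g * (y * x * y⁻¹) := by group

namespace Ev3

variable {G : Type*} [Group G] [Finite G] {P : Sylow 3 G}

/-- `3`-elements of `N_G(P)` lie in `P`. -/
theorem mem_P_of_mem_N (_h : Ev3 G P) {x : G} (hxN : x ∈ normalizer ((P : Subgroup G) : Set G))
    {k : ℕ} (hx : orderOf x = 3 ^ k) : x ∈ (P : Subgroup G) := by
  haveI : Fact (Nat.Prime 3) := ⟨Nat.prime_three⟩
  have hp : IsPGroup 3 (zpowers x) := by
    apply IsPGroup.of_card (n := k)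
    rw [Nat.card_zpowers, hx]
  have hle : zpowers x ≤ normalizer ((P : Subgroup G) : Set G) := by
    rw [zpowers_le]; exact hxN
  have h1 : IsPGroup 3 ((P : Subgroup G) ⊔ zpowers x : Subgroup G) :=
    IsPGroup.to_sup_of_normal_left' P.isPGroup' hp hle
  have h2 := P.is_maximal' h1 le_sup_left
  have : x ∈ ((P : Subgroup G) ⊔ zpowers x : Subgroup G) :=
    (le_sup_right : zpowers x ≤ _) (mem_zpowers x)
  rw [h2] at this
  exact this

theorem orderOf_of_mem_P (_h : Ev3 G P) {x : G} (hx : x ∈ (P : Subgroup G)) :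
    ∃ k : ℕ, orderOf x = 3 ^ k := by
  haveI : Fact (Nat.Prime 3) := ⟨Nat.prime_three⟩
  have h2 : orderOf x ∣ Nat.card (P : Subgroup G) := by
    have := orderOf_dvd_natCard (⟨x, hx⟩ : (P : Subgroup G))
    rwa [← Subgroup.orderOf_coe] at this
  rw [P.card_eq_multiplicity] at h2
  obtain ⟨k, _, hk⟩ := (Nat.dvd_prime_pow Nat.prime_three).mp h2
  exact ⟨k, hk⟩

/-- Elements of a Klein Sylow `2`-subgroup containing distinct involutions `t`, `z`. -/
theorem mem_sylow2_cases (h : Ev3 G P) (S : Sylow 2 G) {t z s : G}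
    (htS : t ∈ (S : Subgroup G)) (hzS : z ∈ (S : Subgroup G)) (hsS : s ∈ (S : Subgroup G))
    (ht1 : t ≠ 1) (hz1 : z ≠ 1) (htz : t ≠ z) : s = 1 ∨ s = t ∨ s = z ∨ s = t * z := by
  haveI := (h.sylow2_klein S).1
  by_cases h1 : s = 1
  · exact Or.inl h1
  by_cases h2 : s = t
  · exact Or.inr (Or.inl h2)
  by_cases h3 : s = z
  · exact Or.inr (Or.inr (Or.inl h3))
  right; right; right
  have := IsKleinFour.eq_mul_of_ne_all (G := (S : Subgroup G))
    (x := ⟨t, htS⟩) (y := ⟨z, hzS⟩) (z := ⟨s, hsS⟩)
    (by intro hh; exact ht1 (congrArg Subtype.val hh))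
    (by intro hh; exact hz1 (congrArg Subtype.val hh))
    (by intro hh; exact htz (congrArg Subtype.val hh))
    (by intro hh; exact h1 (congrArg Subtype.val hh))
    (by intro hh; exact h2 (congrArg Subtype.val hh))
    (by intro hh; exact h3 (congrArg Subtype.val hh))
  exact congrArg Subtype.val this

/-- Two distinct commuting involutions lie in a common Sylow `2`-subgroup. -/
theorem exists_sylow2_of_pair (_h : Ev3 G P) {t z : G} (ht : orderOf t = 2) (hz : orderOf z = 2)
    (hcomm : z * t = t * z) :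
    ∃ S : Sylow 2 G, t ∈ (S : Subgroup G) ∧ z ∈ (S : Subgroup G) := by
  haveI : Fact (Nat.Prime 2) := ⟨Nat.prime_two⟩
  have hp1 : IsPGroup 2 (zpowers t) := by
    apply IsPGroup.of_card (n := 1)
    rw [Nat.card_zpowers, ht, pow_one]
  have hp2 : IsPGroup 2 (zpowers z) := by
    apply IsPGroup.of_card (n := 1)
    rw [Nat.card_zpowers, hz, pow_one]
  have hle : zpowers z ≤ normalizer ((zpowers t : Subgroup G) : Set G) := by
    rw [zpowers_le]
    apply (centralizer_le_normalizer _)
    rw [mem_centralizer_iff]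
    intro x hx
    rw [SetLike.mem_coe, mem_zpowers_iff] at hx
    obtain ⟨k, rfl⟩ := hx
    have : Commute z t := hcomm
    exact ((this.zpow_right k).eq).symm
  have h1 : IsPGroup 2 (zpowers t ⊔ zpowers z : Subgroup G) :=
    IsPGroup.to_sup_of_normal_left' hp1 hp2 hle
  obtain ⟨S, hS⟩ := h1.exists_le_sylow
  exact ⟨S, hS ((le_sup_left : zpowers t ≤ _) (mem_zpowers t)),
    hS ((le_sup_right : zpowers z ≤ _) (mem_zpowers z))⟩

/-- An element of `N_G(S) ∖ C_G(S)` moves every involution `t ∈ S`. -/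
theorem moves_of_not_mem_centralizer (h : Ev3 G P) (S : Sylow 2 G) {t z y : G}
    (htS : t ∈ (S : Subgroup G)) (hzS : z ∈ (S : Subgroup G))
    (ht1 : t ≠ 1) (hz1 : z ≠ 1) (htz : t ≠ z)
    (hyN : y ∈ normalizer ((S : Subgroup G) : Set G))
    (hyC : y ∉ centralizer ((S : Subgroup G) : Set G)) : y * t * y⁻¹ ≠ t := by
  intro hfix
  have hcomm := h.comm_of_mem_sylow2 S htS hzS
  have ht2 := h.sq_eq_one_of_mem_sylow2 S htS
  have hz2 := h.sq_eq_one_of_mem_sylow2 S hzS
  -- y z y⁻¹ ∈ S
  have hyz : y * z * y⁻¹ ∈ (S : Subgroup G) := by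
    rw [mem_normalizer_iff] at hyN
    exact (hyN z).mp hzS
  have hyz1 : y * z * y⁻¹ ≠ 1 := by
    intro hh
    apply hz1
    have : z = y⁻¹ * (y * z * y⁻¹) * y := by group
    rw [this, hh]; group
  have hyzt : y * z * y⁻¹ ≠ t := by
    intro hh
    apply htz
    have : y * z * y⁻¹ = y * t * y⁻¹ := by rw [hh, hfix]
    have h3 := mul_right_cancel this
    exact (mul_left_cancel h3).symm
  -- centralizing criterion
  have hcent : ∀ w : G, w * t * w⁻¹ = t → w * z * w⁻¹ = z → w ∈ centralizer ((S : Subgroup G) : Set G) := by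
    intro w hwt hwz
    rw [mem_centralizer_iff]
    intro s hs
    have hwt' : t * w = w * t := by
      calc t * w = (w * t * w⁻¹) * w := by rw [hwt]
        _ = w * t := by group
    have hwz' : z * w = w * z := by
      calc z * w = (w * z * w⁻¹) * w := by rw [hwz]
        _ = w * z := by group
    rcases h.mem_sylow2_cases S htS hzS hs ht1 hz1 htz with rfl | rfl | rfl | rfl
    · simp
    · exact hwt'
    · exact hwz'
    · calc t * z * w = t * (z * w) := by group
        _ = t * (w * z) := by rw [hwz']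
        _ = (t * w) * z := by group
        _ = w * t * z := by rw [hwt']
        _ = w * (t * z) := by group
  rcases h.mem_sylow2_cases S htS hzS hyz ht1 hz1 htz with h1 | h1 | h1 | h1
  · exact hyz1 h1
  · exact hyzt h1
  · exact hyC (hcent y hfix h1)
  · -- y z y⁻¹ = t z; then y² centralizes
    have hy2 : y * y ∈ centralizer ((S : Subgroup G) : Set G) := by
      apply hcent
      · calc y * y * t * (y * y)⁻¹ = y * (y * t * y⁻¹) * y⁻¹ := by group
          _ = t := by rw [hfix, hfix]
      · calc y * y * z * (y * y)⁻¹ = y * (y * z * y⁻¹) * y⁻¹ := by group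
          _ = y * (t * z) * y⁻¹ := by rw [h1]
          _ = (y * t * y⁻¹) * (y * z * y⁻¹) := by group
          _ = t * (t * z) := by rw [hfix, h1]
          _ = (t * t) * z := by group
          _ = z := by rw [ht2, one_mul]
    have hy3 : y ^ 3 ∈ centralizer ((S : Subgroup G) : Set G) := by
      haveI := ev3_centralizer_normal_in_normalizer (S : Subgroup G)
      have hidx : ((centralizer ((S : Subgroup G) : Set G)).subgroupOf
          (normalizer ((S : Subgroup G) : Set G))).index = 3 := (h.sylow2_klein S).2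
      have := Subgroup.pow_index_mem ((centralizer ((S : Subgroup G) : Set G)).subgroupOf
          (normalizer ((S : Subgroup G) : Set G))) (⟨y, hyN⟩ : normalizer ((S : Subgroup G) : Set G))
      rw [hidx, mem_subgroupOf] at this
      simpa using this
    apply hyC
    have : y = y ^ 3 * (y * y)⁻¹ := by
      rw [pow_succ, pow_two]; group
    rw [this]
    exact mul_mem hy3 (inv_mem hy2)

theorem exists_mover (h : Ev3 G P) (S : Sylow 2 G) :
    ∃ y : G, y ∈ normalizer ((S : Subgroup G) : Set G) ∧ y ∉ centralizer ((S : Subgroup G) : Set G) := by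
  by_contra hcon
  push Not at hcon
  have hle : normalizer ((S : Subgroup G) : Set G) ≤ centralizer ((S : Subgroup G) : Set G) := hcon
  have := (Subgroup.relIndex_eq_one).mpr hle
  rw [(h.sylow2_klein S).2] at this
  omega

end Ev3

end Cfsg.Agent.Lib.Helper29
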