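import Mathlib
import Cfsg.Agent.Lib.Helper29.Ev3D

set_option autoImplicit false

namespace Cfsg.Agent.Lib.Helper29

open Subgroup

namespace Ev3

variable {G : Type*} [Group G] [Finite G] {P : Sylow 3 G}

theorem ne_one_of_orderOf_two {G : Type*} [Group G] {t : G} (ht : orderOf t = 2) : t ≠ 1 := by
  intro h1; rw [h1, orderOf_one] at ht; omega

theorem sq_of_orderOf_two {G : Type*} [Group G] {t : G} (ht : orderOf t = 2) : t * t = 1 := by
  have := pow_orderOf_eq_one t; rw [ht, pow_two] at this; exact this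

theorem inv_of_orderOf_two {G : Type*} [Group G] {t : G} (ht : orderOf t = 2) : t⁻¹ = t :=
  inv_eq_of_mul_eq_one_left (sq_of_orderOf_two ht)

/-- A Sylow `2`-subgroup containing `t` lies in `N = C_G(t)`. -/
theorem sylow2_le_N (h : Ev3 G P) {t : G} (ht : orderOf t = 2)
    (htC : t ∈ centralizer ((P : Subgroup G) : Set G)) (S : Sylow 2 G)
    (htS : t ∈ (S : Subgroup G)) :
    (S : Subgroup G) ≤ normalizer ((P : Subgroup G) : Set G) := by
  rw [← h.centralizer_t_eq_N ht htC]
  intro s hs
  rw [mem_centralizer_iff]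
  intro a ha
  rw [Set.mem_singleton_iff] at ha; subst ha
  exact h.comm_of_mem_sylow2 S htS hs

/-- If `x ∈ P` is nontrivial and commutes with the Sylow `2`-subgroup `S ∋ t`, then `C_G(x) = N`. -/
theorem centralizer_eq_N_of_fixed (h : Ev3 G P) {t : G} (ht : orderOf t = 2)
    (htC : t ∈ centralizer ((P : Subgroup G) : Set G)) (S : Sylow 2 G)
    (htS : t ∈ (S : Subgroup G)) {x : G} (hx : x ∈ (P : Subgroup G)) (hx1 : x ≠ 1)
    (hSx : ∀ s ∈ (S : Subgroup G), s * x = x * s) :
    centralizer ({x} : Set G) = normalizer ((P : Subgroup G) : Set G) := by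
  have hPx : (P : Subgroup G) ≤ centralizer ({x} : Set G) := by
    intro p hp
    rw [mem_centralizer_iff]
    intro a ha
    rw [Set.mem_singleton_iff] at ha; subst ha
    exact h.hab a hx p hp
  have hSx' : (S : Subgroup G) ≤ centralizer ({x} : Set G) := by
    intro s hs
    rw [mem_centralizer_iff]
    intro a ha
    rw [Set.mem_singleton_iff] at ha; subst ha
    exact (hSx s hs).symm
  set N := normalizer ((P : Subgroup G) : Set G) with hNdef
  have hSN : (S : Subgroup G) ≤ N := h.sylow2_le_N ht htC S htS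
  have hPN : (P : Subgroup G) ≤ N := le_normalizer
  -- K = N ⊓ C_G(x) has order divisible by 4 |P|
  have hK1 : Nat.card (P : Subgroup G) ∣ Nat.card (N ⊓ centralizer ({x} : Set G) : Subgroup G) :=
    Subgroup.card_dvd_of_le (le_inf hPN hPx)
  have hK2 : Nat.card (S : Subgroup G) ∣ Nat.card (N ⊓ centralizer ({x} : Set G) : Subgroup G) :=
    Subgroup.card_dvd_of_le (le_inf hSN hSx')
  rw [h.card_sylow2 S] at hK2
  have hcop : (4 : ℕ).Coprime (Nat.card (P : Subgroup G)) := by
    have : (2 : ℕ).Coprime (Nat.card (P : Subgroup G)) := (Nat.coprime_two_left).mpr h.odd_card_P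
    have h4 : (4 : ℕ) = 2 ^ 2 := by norm_num
    rw [h4]; exact Nat.Coprime.pow_left 2 this
  have hK3 : 4 * Nat.card (P : Subgroup G) ∣ Nat.card (N ⊓ centralizer ({x} : Set G) : Subgroup G) :=
    Nat.Coprime.mul_dvd_of_dvd_of_dvd hcop hK2 hK1
  have hK4 : N ⊓ centralizer ({x} : Set G) = N := by
    apply Subgroup.eq_of_le_of_card_ge inf_le_left
    rw [hNdef, h.hN]
    exact Nat.le_of_dvd Nat.card_pos hK3
  have hNx : N ≤ centralizer ({x} : Set G) := by
    rw [← hK4]; exact inf_le_right
  symm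
  apply Subgroup.eq_of_le_of_card_ge hNx
  have hne := h.centralizer_ne_top hx1
  have h2 : 2 ∣ Nat.card (centralizer ({x} : Set G)) := by
    have h4 : Nat.card (S : Subgroup G) ∣ Nat.card (centralizer ({x} : Set G)) :=
      Subgroup.card_dvd_of_le hSx'
    rw [h.card_sylow2 S] at h4
    exact dvd_trans (by norm_num) h4
  have h3 := h.heven _ hne h2
  rw [hNdef, h.hN]
  exact Nat.le_of_dvd (by have := h.card_P_pos; omega) h3

/-- Key lemma: an involution `z ≠ t` of `C_G(t)` has no nontrivial fixed point on `P`. -/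
theorem fixed_trivial (h : Ev3 G P) {t z : G} (ht : orderOf t = 2)
    (htC : t ∈ centralizer ((P : Subgroup G) : Set G)) (hz : orderOf z = 2) (hzt : z ≠ t)
    (hcomm : z * t = t * z) {x : G} (hx : x ∈ (P : Subgroup G)) (hfix : z * x * z⁻¹ = x) :
    x = 1 := by
  by_contra hx1
  obtain ⟨S, htS, hzS⟩ := h.exists_sylow2_of_pair ht hz hcomm
  have ht1 := ne_one_of_orderOf_two ht
  have hz1 := ne_one_of_orderOf_two hz
  have htz : t ≠ z := fun hh => hzt hh.symm
  have htx : t * x = x * t := by
    rw [mem_centralizer_iff] at htC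
    exact (htC x hx).symm
  have hzx : z * x = x * z := by
    calc z * x = (z * x * z⁻¹) * z := by group
      _ = x * z := by rw [hfix]
  -- S commutes with x
  have hSx : ∀ s ∈ (S : Subgroup G), s * x = x * s := by
    intro s hs
    rcases h.mem_sylow2_cases S htS hzS hs ht1 hz1 htz with rfl | rfl | rfl | rfl
    · simp
    · exact htx
    · exact hzx
    · calc t * z * x = t * (z * x) := by group
        _ = t * (x * z) := by rw [hzx]
        _ = (t * x) * z := by group
        _ = x * t * z := by rw [htx]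
        _ = x * (t * z) := by group
  have hCx := h.centralizer_eq_N_of_fixed ht htC S htS hx hx1 hSx
  obtain ⟨y, hyN, hyC⟩ := h.exists_mover S
  have hmove := h.moves_of_not_mem_centralizer S htS hzS ht1 hz1 htz hyN hyC
  -- x' = y x y⁻¹
  have hyinvN : y⁻¹ ∈ normalizer ((S : Subgroup G) : Set G) := inv_mem hyN
  have hSx' : ∀ s ∈ (S : Subgroup G), s * (y * x * y⁻¹) = (y * x * y⁻¹) * s := by
    intro s hs
    have hs' : y⁻¹ * s * y ∈ (S : Subgroup G) := by
      rw [mem_normalizer_iff] at hyinvN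
      have := (hyinvN s).mp hs
      simpa using this
    have := hSx _ hs'
    calc s * (y * x * y⁻¹) = y * ((y⁻¹ * s * y) * x) * y⁻¹ := by group
      _ = y * (x * (y⁻¹ * s * y)) * y⁻¹ := by rw [this]
      _ = y * x * y⁻¹ * s := by group
  have hx'N : y * x * y⁻¹ ∈ normalizer ((P : Subgroup G) : Set G) := by
    rw [← h.centralizer_t_eq_N ht htC, mem_centralizer_iff]
    intro a ha
    rw [Set.mem_singleton_iff] at ha; subst ha
    exact hSx' a htS
  obtain ⟨k, hk⟩ := h.orderOf_of_mem_P hx
  have hx'P : y * x * y⁻¹ ∈ (P : Subgroup G) := by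
    apply h.mem_P_of_mem_N hx'N (k := k)
    rw [ev3_orderOf_conj]; exact hk
  have hx'1 : y * x * y⁻¹ ≠ 1 := by
    intro hh
    apply hx1
    have : x = y⁻¹ * (y * x * y⁻¹) * y := by group
    rw [this, hh]; group
  have hCx' := h.centralizer_eq_N_of_fixed ht htC S htS hx'P hx'1 hSx'
  -- every p ∈ P commutes with t' = y t y⁻¹
  have ht'C : y * t * y⁻¹ ∈ centralizer ((P : Subgroup G) : Set G) := by
    rw [mem_centralizer_iff]
    intro p hp
    have hpN : p ∈ normalizer ((P : Subgroup G) : Set G) := le_normalizer hp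
    rw [← hCx', ev3_centralizer_conj, hCx, ← h.centralizer_t_eq_N ht htC, mem_centralizer_iff] at hpN
    have := hpN t rfl
    calc p * (y * t * y⁻¹) = y * ((y⁻¹ * p * y) * t) * y⁻¹ := by group
      _ = y * (t * (y⁻¹ * p * y)) * y⁻¹ := by rw [this]
      _ = y * t * y⁻¹ * p := by group
  have ht' : orderOf (y * t * y⁻¹) = 2 := by rw [ev3_orderOf_conj]; exact ht
  exact hmove (h.invol_C_unique ht' ht ht'C htC)

/-- Hence such a `z` inverts `P`. -/
theorem inverts (h : Ev3 G P) {t z : G} (ht : orderOf t = 2)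
    (htC : t ∈ centralizer ((P : Subgroup G) : Set G)) (hz : orderOf z = 2) (hzt : z ≠ t)
    (hcomm : z * t = t * z) {p : G} (hp : p ∈ (P : Subgroup G)) : z * p * z⁻¹ = p⁻¹ := by
  have hzN : z ∈ normalizer ((P : Subgroup G) : Set G) := by
    rw [← h.centralizer_t_eq_N ht htC, mem_centralizer_iff]
    intro a ha
    rw [Set.mem_singleton_iff] at ha; subst ha
    exact hcomm.symm
  have hp' : z * p * z⁻¹ ∈ (P : Subgroup G) := by
    rw [mem_normalizer_iff] at hzN
    exact (hzN p).mp hp
  have hz2 := sq_of_orderOf_two hz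
  have hzi := inv_of_orderOf_two hz
  have hq : p * (z * p * z⁻¹) ∈ (P : Subgroup G) := mul_mem hp hp'
  have hfix : z * (p * (z * p * z⁻¹)) * z⁻¹ = p * (z * p * z⁻¹) := by
    have hc := h.hab p hp _ hp'
    calc z * (p * (z * p * z⁻¹)) * z⁻¹ = (z * p * z⁻¹) * ((z * z) * p * (z * z)⁻¹) := by group
      _ = (z * p * z⁻¹) * p := by rw [hz2]; group
      _ = p * (z * p * z⁻¹) := hc.symm
  have := h.fixed_trivial ht htC hz hzt hcomm hq hfix
  exact (eq_inv_of_mul_eq_one_right this)

end Ev3

end Cfsg.Agent.Lib.Helper29
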