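import Mathlib
import Cfsg.Agent.Lib.Helper29.Ev3E

set_option autoImplicit false

namespace Cfsg.Agent.Lib.Helper29

open Subgroup

namespace Ev3

variable {G : Type*} [Group G] [Finite G] {P : Sylow 3 G}

/-- A Sylow `2`-subgroup containing `t` has a further involution. -/
theorem exists_third (h : Ev3 G P) (S : Sylow 2 G) (t : G) :
    ∃ u ∈ (S : Subgroup G), u ≠ 1 ∧ u ≠ t := by
  by_contra hcon
  push Not at hcon
  have hsub : ((S : Subgroup G) : Set G) ⊆ ({1, t} : Set G) := by
    intro s hs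
    by_cases h1 : s = 1
    · left; exact h1
    · right; exact hcon s hs h1
  have h1 : Nat.card (S : Subgroup G) ≤ 2 := by
    have h2 : (((S : Subgroup G) : Set G)).ncard ≤ ({1, t} : Set G).ncard :=
      Set.ncard_le_ncard hsub (Set.toFinite _)
    have h3 : ({1, t} : Set G).ncard ≤ 2 := Set.ncard_insert_le 1 {t} |>.trans (by simp)
    have h4 : (((S : Subgroup G) : Set G)).ncard = Nat.card (S : Subgroup G) := by
      rw [← Nat.card_coe_set_eq]; rfl
    omega
  rw [h.card_sylow2 S] at h1
  omega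

theorem orderOf_two_of_mem_sylow2 (h : Ev3 G P) (S : Sylow 2 G) {u : G}
    (hu : u ∈ (S : Subgroup G)) (hu1 : u ≠ 1) : orderOf u = 2 := by
  have h1 := h.sq_eq_one_of_mem_sylow2 S hu
  exact orderOf_eq_prime (by rw [pow_two]; exact h1) hu1

/-- `C_G(x) = C_G(P)` for `1 ≠ x ∈ P`. -/
theorem centralizer_eq_C (h : Ev3 G P) {x : G} (hx : x ∈ (P : Subgroup G)) (hx1 : x ≠ 1) :
    centralizer ({x} : Set G) = centralizer ((P : Subgroup G) : Set G) := by
  obtain ⟨t, ht, htC⟩ := h.exists_t
  set C := centralizer ((P : Subgroup G) : Set G) with hCdef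
  have hle : C ≤ centralizer ({x} : Set G) :=
    centralizer_le (by intro a ha; rw [Set.mem_singleton_iff] at ha; rw [ha]; exact hx)
  symm
  apply Subgroup.eq_of_le_of_card_ge hle
  have hne := h.centralizer_ne_top hx1
  have h2 : 2 ∣ Nat.card (centralizer ({x} : Set G)) := by
    have := Subgroup.card_dvd_of_le hle
    rw [hCdef, h.hC] at this
    exact dvd_trans (dvd_mul_right 2 _) this
  have h3 := h.heven _ hne h2
  have h4 := ev3_card_mul_relIndex hle
  rw [hCdef, h.hC] at h4
  rw [← hCdef] at h4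
  set r := C.relIndex (centralizer ({x} : Set G)) with hr
  rw [← h4] at h3
  have hpos := h.card_P_pos
  have h5 : r ∣ 2 := by
    have h6 : 2 * Nat.card (P : Subgroup G) * r ∣ 2 * Nat.card (P : Subgroup G) * 2 := by
      have : 2 * Nat.card (P : Subgroup G) * 2 = 4 * Nat.card (P : Subgroup G) := by ring
      rw [this]; exact h3
    exact (Nat.mul_dvd_mul_iff_left (by omega)).mp h6
  rcases (Nat.dvd_prime Nat.prime_two).mp h5 with h6 | h6
  · rw [← h4, h6, hCdef, h.hC]; omega
  · exfalso
    -- index 2: C is normal in C_G(x), hence C_G(x) ≤ C_G(t) = N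
    have hidx : (C.subgroupOf (centralizer ({x} : Set G))).index = 2 := h6
    have hnorm : (C.subgroupOf (centralizer ({x} : Set G))).Normal :=
      Subgroup.normal_of_index_eq_two hidx
    have hxN : centralizer ({x} : Set G) ≤ normalizer ((P : Subgroup G) : Set G) := by
      intro g hg
      rw [← h.centralizer_t_eq_N ht htC, mem_centralizer_iff]
      intro a ha
      rw [Set.mem_singleton_iff] at ha; subst ha
      have htx : a ∈ centralizer ({x} : Set G) := hle htC
      have h7 : (⟨g, hg⟩ : centralizer ({x} : Set G)) * ⟨a, htx⟩ * (⟨g, hg⟩)⁻¹ ∈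
          C.subgroupOf (centralizer ({x} : Set G)) :=
        hnorm.conj_mem _ (by rw [mem_subgroupOf]; exact htC) _
      rw [mem_subgroupOf] at h7
      have h8 : g * a * g⁻¹ ∈ C := h7
      have h9 : orderOf (g * a * g⁻¹) = 2 := by rw [ev3_orderOf_conj]; exact ht
      have h10 := h.invol_C_unique h9 ht h8 htC
      calc a * g = (g * a * g⁻¹) * g := by rw [h10]
        _ = g * a := by group
    -- pick a Sylow 2-subgroup S ∋ t and u ∈ S
    obtain ⟨S, htS⟩ := h.exists_sylow2_of_involution ht
    obtain ⟨u, huS, hu1, hut⟩ := h.exists_third S t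
    have hu := h.orderOf_two_of_mem_sylow2 S huS hu1
    have hcomm : u * t = t * u := h.comm_of_mem_sylow2 S huS htS
    -- C_G(x) = N since cards agree
    have hcard : Nat.card (centralizer ({x} : Set G)) = 4 * Nat.card (P : Subgroup G) := by
      rw [← h4, h6]; ring
    have hEq : centralizer ({x} : Set G) = normalizer ((P : Subgroup G) : Set G) := by
      apply Subgroup.eq_of_le_of_card_ge hxN
      rw [h.hN, hcard]
    have huN : u ∈ normalizer ((P : Subgroup G) : Set G) := h.sylow2_le_N ht htC S htS huS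
    rw [← hEq, mem_centralizer_iff] at huN
    have hux := huN x rfl
    have hfix : u * x * u⁻¹ = x := by
      calc u * x * u⁻¹ = (x * u) * u⁻¹ := by rw [hux]
        _ = x := by group
    exact hx1 (h.fixed_trivial ht htC hu hut hcomm hx hfix)

/-- Control of fusion: if `x ∈ P ∖ 1` and `g x g⁻¹ ∈ P` then `g` centralizes `t`. -/
theorem mem_centralizer_t_of_conj_mem (h : Ev3 G P) {t : G} (ht : orderOf t = 2)
    (htC : t ∈ centralizer ((P : Subgroup G) : Set G)) {x g : G} (hx : x ∈ (P : Subgroup G))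
    (hx1 : x ≠ 1) (hgx : g * x * g⁻¹ ∈ (P : Subgroup G)) : g ∈ centralizer ({t} : Set G) := by
  have hgx1 : g * x * g⁻¹ ≠ 1 := by
    intro hh
    apply hx1
    have : x = g⁻¹ * (g * x * g⁻¹) * g := by group
    rw [this, hh]; group
  have h1 := h.centralizer_eq_C hgx hgx1
  have h2 := h.centralizer_eq_C hx hx1
  have h3 : g * t * g⁻¹ ∈ centralizer ((P : Subgroup G) : Set G) := by
    rw [← h1, ev3_centralizer_conj, h2]
    have : g⁻¹ * (g * t * g⁻¹) * g = t := by group
    rw [this]; exact htC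
  have h4 : orderOf (g * t * g⁻¹) = 2 := by rw [ev3_orderOf_conj]; exact ht
  have h5 := h.invol_C_unique h4 ht h3 htC
  rw [mem_centralizer_iff]
  intro a ha
  rw [Set.mem_singleton_iff] at ha; subst ha
  calc a * g = (g * a * g⁻¹) * g := by rw [h5]
    _ = g * a := by group

/-- Normalizers of nontrivial subgroups of `P` lie in `C_G(t)`. -/
theorem normalizer_le_centralizer_t (h : Ev3 G P) {t : G} (ht : orderOf t = 2)
    (htC : t ∈ centralizer ((P : Subgroup G) : Set G)) (Y : Subgroup G)
    (hY : Y ≤ (P : Subgroup G)) (hY1 : Y ≠ ⊥) :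
    normalizer (Y : Set G) ≤ centralizer ({t} : Set G) := by
  intro g hg
  obtain ⟨y, hyY, hy1⟩ := (Subgroup.ne_bot_iff_exists_ne_one).mp hY1 |>.imp (fun y hy => hy) |> fun ⟨y, hy⟩ =>
    (⟨(y : G), y.2, fun hh => hy (Subtype.ext hh)⟩ : ∃ y : G, y ∈ Y ∧ y ≠ 1)
  have h1 : g * y * g⁻¹ ∈ Y := by
    rw [mem_normalizer_iff] at hg
    exact (hg y).mp hyY
  exact h.mem_centralizer_t_of_conj_mem ht htC (hY hyY) hy1 (hY h1)

end Ev3

end Cfsg.Agent.Lib.Helper29
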