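import Mathlib
import Cfsg.Agent.Lib.Helper29.Ev3F
import Cfsg.Agent.S0508

set_option autoImplicit false

namespace Cfsg.Agent.Lib.Helper29

open Subgroup

namespace Ev3

variable {G : Type*} [Group G] [Finite G] {P : Sylow 3 G}

/-- The odd core of `C_G(t)` is `P`. -/
theorem oddCore_eq (h : Ev3 G P) {t : G} (ht : orderOf t = 2)
    (htC : t ∈ centralizer ((P : Subgroup G) : Set G)) (S : Sylow 2 G)
    (htS : t ∈ (S : Subgroup G)) :
    (P : Subgroup G) = (Cfsg.oddCore (centralizer ({t} : Set G))).map
      (centralizer ({t} : Set G)).subtype := by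
  have hEq := h.centralizer_t_eq_N ht htC
  have hPK : (P : Subgroup G) ≤ centralizer ({t} : Set G) := by
    rw [hEq]; exact le_normalizer
  have hSC : (S : Subgroup G) ≤ centralizer ({t} : Set G) := by
    rw [hEq]; exact h.sylow2_le_N ht htC S htS
  have hnorm : ((P : Subgroup G).subgroupOf (centralizer ({t} : Set G))).Normal := by
    rw [hEq]; exact normal_in_normalizer
  have hcard : Nat.card ((P : Subgroup G).subgroupOf (centralizer ({t} : Set G))) =
      Nat.card (P : Subgroup G) :=
    Nat.card_congr (Subgroup.subgroupOfEquivOfLe hPK).toEquiv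
  have hodd : Odd (Nat.card ((P : Subgroup G).subgroupOf (centralizer ({t} : Set G)))) := by
    rw [hcard]; exact h.odd_card_P
  have hidx : ((P : Subgroup G).subgroupOf (centralizer ({t} : Set G))).index = 2 ^ 2 := by
    have h1 := ev3_card_mul_relIndex hPK
    rw [hEq, h.hN] at h1
    have hpos := h.card_P_pos
    have h2 : (P : Subgroup G).relIndex (normalizer ((P : Subgroup G) : Set G)) = 4 := by
      have : Nat.card (P : Subgroup G) * (P : Subgroup G).relIndex (normalizer ((P : Subgroup G) : Set G))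
          = Nat.card (P : Subgroup G) * 4 := by rw [h1]; ring
      exact Nat.eq_of_mul_eq_mul_left hpos this
    show (P : Subgroup G).relIndex (centralizer ({t} : Set G)) = 2 ^ 2
    rw [hEq, h2]; norm_num
  have h3 := (Cfsg.Agent.Lib.Helper24.bd_card_cent S t hSC _ hnorm hodd 2 hidx).1
  have hle : (P : Subgroup G).subgroupOf (centralizer ({t} : Set G)) ≤
      Cfsg.oddCore (centralizer ({t} : Set G)) :=
    Cfsg.Agent.Lib.Helper18.le_pPrimeCore_h18 hnorm (Nat.coprime_two_right.mpr hodd)
  have h4 : (P : Subgroup G).subgroupOf (centralizer ({t} : Set G)) =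
      Cfsg.oddCore (centralizer ({t} : Set G)) :=
    Subgroup.eq_of_le_of_card_ge hle (le_of_eq h3)
  rw [← h4, Subgroup.map_subgroupOf_eq_of_le hPK]

/-- `S ⊓ C_G(P) = ⟨t⟩`. -/
theorem sylow2_inf_C (h : Ev3 G P) {t : G} (ht : orderOf t = 2)
    (htC : t ∈ centralizer ((P : Subgroup G) : Set G)) (S : Sylow 2 G)
    (htS : t ∈ (S : Subgroup G)) :
    (S : Subgroup G) ⊓ centralizer ((P : Subgroup G) : Set G) = zpowers t := by
  apply le_antisymm
  · intro s hs
    obtain ⟨hsS, hsC⟩ := hs
    by_cases hs1 : s = 1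
    · rw [hs1]; exact one_mem _
    · have := h.orderOf_two_of_mem_sylow2 S hsS hs1
      rw [h.invol_C_unique this ht hsC htC]
      exact mem_zpowers t
  · rw [zpowers_le]
    exact ⟨htS, htC⟩

/-- The main structural consequence: `G ≅ PSL₂(F)` for a finite field `F` of odd order. -/
theorem iso_psl (h : Ev3 G P) :
    ∃ (F : Type) (_ : Field F) (_ : Fintype F), Odd (Fintype.card F) ∧
      Nonempty (G ≃* Matrix.ProjectiveSpecialLinearGroup (Fin 2) F) := by
  haveI := h.simple
  obtain ⟨t, ht, htC⟩ := h.exists_t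
  obtain ⟨S, htS⟩ := h.exists_sylow2_of_involution ht
  haveI := (h.sylow2_klein S).1
  have hS : Nonempty ((S : Subgroup G) ≃* DihedralGroup 2) := IsKleinFour.nonempty_mulEquiv
  have hPne : (P : Subgroup G) ≠ ⊥ := by
    intro hh
    have := h.three_dvd_card_P
    rw [hh, Subgroup.card_bot] at this
    omega
  apply Cfsg.Agent.S0508.result S 2 le_rfl hS t ht htS
    (fun s hs => h.comm_of_mem_sylow2 S hs htS) (P : Subgroup G) (h.oddCore_eq ht htC S htS)
  · intro _
    rw [h.sylow2_inf_C ht htC S htS]
    refine ⟨inferInstance, ?_⟩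
    have hle : zpowers t ≤ (S : Subgroup G) := by rw [zpowers_le]; exact htS
    have h1 := ev3_card_mul_relIndex hle
    rw [Nat.card_zpowers, ht, h.card_sylow2 S] at h1
    omega
  · intro s hsS hsC y hy
    have hs1 : s ≠ 1 := by
      intro hh; apply hsC; rw [hh]; exact one_mem _
    have hst : s ≠ t := by
      intro hh; apply hsC; rw [hh]; exact htC
    have hs := h.orderOf_two_of_mem_sylow2 S hsS hs1
    exact h.inverts ht htC hs hst (h.comm_of_mem_sylow2 S hsS htS) hy
  · intro Y hY hY1
    exact h.normalizer_le_centralizer_t ht htC Y hY hY1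

end Ev3

end Cfsg.Agent.Lib.Helper29
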