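import Cfsg.Agent.Lib.Helper29.Ev3F

set_option autoImplicit false

namespace Cfsg.Agent.Lib.Helper29

open Subgroup

theorem ev3_map_equiv_centralizer_eq {G : Type*} [Group G] (H : Subgroup G) (f : G ≃* G) :
    (centralizer (H : Set G)).map f.toMonoidHom
      = centralizer ((H.map f.toMonoidHom : Subgroup G) : Set G) := by
  ext x
  constructor
  · rintro ⟨c, hc, rfl⟩
    rw [mem_centralizer_iff]
    rintro _ ⟨y, hy, rfl⟩
    rw [SetLike.mem_coe, mem_centralizer_iff] at hc
    have := hc y hy
    change f y * f c = f c * f y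
    rw [← map_mul, ← map_mul, this]
  · intro hx
    rw [mem_centralizer_iff] at hx
    refine ⟨f.symm x, ?_, ?_⟩
    · rw [SetLike.mem_coe, mem_centralizer_iff]
      intro y hy
      have := hx (f y) ⟨y, hy, rfl⟩
      apply f.injective
      rw [map_mul, map_mul, MulEquiv.apply_symm_apply]
      exact this
    · change f (f.symm x) = x
      exact MulEquiv.apply_symm_apply f x

namespace Ev3

variable {G : Type*} [Group G] [Finite G] {P : Sylow 3 G}

/-- The hypotheses transfer to every Sylow `3`-subgroup. -/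
theorem of_sylow (h : Ev3 G P) (P' : Sylow 3 G) : Ev3 G P' := by
  haveI : Fact (Nat.Prime 3) := ⟨Nat.prime_three⟩
  obtain ⟨g, rfl⟩ := MulAction.exists_smul_eq G P P'
  have hmap : ((g • P : Sylow 3 G) : Subgroup G)
      = (P : Subgroup G).map (MulAut.conj g).toMonoidHom := rfl
  have hinj : Function.Injective (MulAut.conj g).toMonoidHom := (MulAut.conj g).injective
  have hcard : Nat.card ((g • P : Sylow 3 G) : Subgroup G) = Nat.card (P : Subgroup G) := by
    rw [hmap]; exact Subgroup.card_map_of_injective hinj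
  refine ⟨h.simple, ?_, ?_, ?_, ?_⟩
  · rw [hmap]
    rintro _ ⟨x, hx, rfl⟩ _ ⟨y, hy, rfl⟩
    rw [← map_mul, ← map_mul, h.hab x hx y hy]
  · rw [hcard, hmap, ← Subgroup.map_equiv_normalizer_eq, Subgroup.card_map_of_injective hinj]
    exact h.hN
  · rw [hcard, hmap, ← ev3_map_equiv_centralizer_eq, Subgroup.card_map_of_injective hinj]
    exact h.hC
  · rw [hcard]; exact h.heven

end Ev3

end Cfsg.Agent.Lib.Helper29
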