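import Cfsg.Agent.Lib.Helper29.Ev3H

set_option autoImplicit false

namespace Cfsg.Agent.Lib.Helper29

open Subgroup

namespace Ev3

variable {G : Type*} [Group G] [Finite G] {P : Sylow 3 G}

/-- Two involutions of a Sylow `2`-subgroup are conjugate. -/
theorem conj_in_sylow2 (h : Ev3 G P) (S : Sylow 2 G) {t s : G}
    (htS : t ∈ (S : Subgroup G)) (hsS : s ∈ (S : Subgroup G)) (ht1 : t ≠ 1) (hs1 : s ≠ 1) :
    ∃ y : G, y * t * y⁻¹ = s := by
  by_cases hts : t = s
  · exact ⟨1, by simp [hts]⟩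
  obtain ⟨y, hyN, hyC⟩ := h.exists_mover S
  have hyN' := hyN
  rw [mem_normalizer_iff] at hyN'
  have h1 : y * t * y⁻¹ ∈ (S : Subgroup G) := (hyN' t).mp htS
  have h2 : y * s * y⁻¹ ∈ (S : Subgroup G) := (hyN' s).mp hsS
  have h3 : y * t * y⁻¹ ≠ t := h.moves_of_not_mem_centralizer S htS hsS ht1 hs1 hts hyN hyC
  have h4 : y * s * y⁻¹ ≠ s :=
    h.moves_of_not_mem_centralizer S hsS htS hs1 ht1 (Ne.symm hts) hyN hyC
  have h5 : y * t * y⁻¹ ≠ 1 := by
    intro h5
    apply ht1
    have : y * t = y := by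
      have := congrArg (· * y) h5
      simpa using this
    exact mul_eq_left.mp this
  have h6 : y * s * y⁻¹ ≠ 1 := by
    intro h6
    apply hs1
    have : y * s = y := by
      have := congrArg (· * y) h6
      simpa using this
    exact mul_eq_left.mp this
  rcases h.mem_sylow2_cases S htS hsS h1 ht1 hs1 hts with h7 | h7 | h7 | h7
  · exact absurd h7 h5
  · exact absurd h7 h3
  · exact ⟨y, h7⟩
  · rcases h.mem_sylow2_cases S htS hsS h2 ht1 hs1 hts with h8 | h8 | h8 | h8
    · exact absurd h8 h6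
    · refine ⟨y⁻¹, ?_⟩
      rw [← h8]; group
    · exact absurd h8 h4
    · exfalso
      -- y t y⁻¹ = y s y⁻¹ forces t = s
      have : y * t * y⁻¹ = y * s * y⁻¹ := by rw [h7, h8]
      have h9 : y * t = y * s := mul_right_cancel this
      exact hts (mul_left_cancel h9)

/-- All involutions are conjugate to the involution of `C(P)`. -/
theorem conj_of_involution (h : Ev3 G P) {t s : G} (ht : orderOf t = 2) (hs : orderOf s = 2) :
    ∃ y : G, y * t * y⁻¹ = s := by
  haveI : Fact (Nat.Prime 2) := ⟨Nat.prime_two⟩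
  obtain ⟨S, htS⟩ := h.exists_sylow2_of_involution ht
  obtain ⟨S', hsS'⟩ := h.exists_sylow2_of_involution hs
  obtain ⟨g, hg⟩ := MulAction.exists_smul_eq G S' S
  -- g • S' = S, so g s g⁻¹ ∈ S
  have h1 : g * s * g⁻¹ ∈ (S : Subgroup G) := by
    rw [← hg]
    change g * s * g⁻¹ ∈ (S' : Subgroup G).map (MulAut.conj g).toMonoidHom
    exact ⟨s, hsS', by simp [MulAut.conj_apply]⟩
  have h2 : g * s * g⁻¹ ≠ 1 := by
    intro h2
    have h3 : orderOf (g * s * g⁻¹) = 2 := by rw [ev3_orderOf_conj]; exact hs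
    rw [h2, orderOf_one] at h3; omega
  obtain ⟨y, hy⟩ := h.conj_in_sylow2 S htS h1 (ne_one_of_orderOf_two ht) h2
  refine ⟨g⁻¹ * y, ?_⟩
  have : g⁻¹ * y * t * (g⁻¹ * y)⁻¹ = g⁻¹ * (y * t * y⁻¹) * g := by group
  rw [this, hy]; group

/-- Every involution centralizes some Sylow `3`-subgroup. -/
theorem exists_sylow3_of_involution (h : Ev3 G P) {s : G} (hs : orderOf s = 2) :
    ∃ P' : Sylow 3 G, s ∈ centralizer ((P' : Subgroup G) : Set G) := by
  obtain ⟨t, ht, htC⟩ := h.exists_t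
  obtain ⟨y, hy⟩ := h.conj_of_involution ht hs
  refine ⟨y • P, ?_⟩
  have hmap : ((y • P : Sylow 3 G) : Subgroup G)
      = (P : Subgroup G).map (MulAut.conj y).toMonoidHom := rfl
  rw [hmap, ← ev3_map_equiv_centralizer_eq]
  exact ⟨t, htC, by simp [MulAut.conj_apply, hy]⟩

/-- The centralizer of any involution has order `4 |P|`. -/
theorem card_centralizer_involution (h : Ev3 G P) {s : G} (hs : orderOf s = 2) :
    Nat.card (centralizer ({s} : Set G)) = 4 * Nat.card (P : Subgroup G) := by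
  obtain ⟨P', hP'⟩ := h.exists_sylow3_of_involution hs
  have h' := h.of_sylow P'
  rw [h'.centralizer_t_eq_N hs hP', h'.hN]
  congr 1
  haveI : Fact (Nat.Prime 3) := ⟨Nat.prime_three⟩
  rw [Sylow.card_eq_multiplicity, Sylow.card_eq_multiplicity]

end Ev3

end Cfsg.Agent.Lib.Helper29
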