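import Cfsg.Agent.Lib.Helper29.Ev3I

set_option autoImplicit false

namespace Cfsg.Agent.Lib.Helper29

open Subgroup

namespace Ev3

variable {G : Type*} [Group G] [Finite G] {P : Sylow 3 G}

theorem mem_P_or_mul_t (h : Ev3 G P) {t c : G} (ht : orderOf t = 2)
    (htC : t ∈ centralizer ((P : Subgroup G) : Set G))
    (hc : c ∈ centralizer ((P : Subgroup G) : Set G)) :
    c ∈ (P : Subgroup G) ∨ c * t ∈ (P : Subgroup G) := by
  by_cases hcP : c ∈ (P : Subgroup G)
  · exact Or.inl hcP
  right
  set C := centralizer ((P : Subgroup G) : Set G) with hCdef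
  have hidx : ((P : Subgroup G).subgroupOf C).index = 2 := h.relIndex_P_C
  have hc' : (⟨c, hc⟩ : C) ∉ (P : Subgroup G).subgroupOf C := by
    rw [mem_subgroupOf]; exact hcP
  have ht' : (⟨t, htC⟩ : C) ∉ (P : Subgroup G).subgroupOf C := by
    rw [mem_subgroupOf]; exact h.not_mem_P_of_orderOf_two ht
  have hmul : (⟨c, hc⟩ : C) * ⟨t, htC⟩ ∈ (P : Subgroup G).subgroupOf C := by
    rw [Subgroup.mul_mem_iff_of_index_two hidx]
    exact ⟨fun hh => absurd hh hc', fun hh => absurd hh ht'⟩
  rw [mem_subgroupOf] at hmul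
  exact hmul

/-- An involution `z ≠ t` commuting with `t` inverts all of `C(P)`. -/
theorem inverts_C (h : Ev3 G P) {t z : G} (ht : orderOf t = 2)
    (htC : t ∈ centralizer ((P : Subgroup G) : Set G)) (hz : orderOf z = 2) (hzt : z ≠ t)
    (hcomm : z * t = t * z) {c : G} (hc : c ∈ centralizer ((P : Subgroup G) : Set G)) :
    z * c * z⁻¹ = c⁻¹ := by
  rcases h.mem_P_or_mul_t ht htC hc with hcP | hctP
  · exact h.inverts ht htC hz hzt hcomm hcP
  · have h1 := h.inverts ht htC hz hzt hcomm hctP
    have htt : t * t = 1 := sq_of_orderOf_two ht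
    have htinv : t⁻¹ = t := inv_of_orderOf_two ht
    -- c commutes with t
    have hct : c * t = t * c := by
      have htC' := htC
      rw [mem_centralizer_iff] at htC'
      have h2 : c * t * t = t * (c * t) := htC' _ hctP
      have h3 : c * t * t = t * c * t := by rw [h2]; group
      exact mul_right_cancel h3
    have h4 : z * t⁻¹ * z⁻¹ = t⁻¹ := by
      rw [htinv, hcomm]; group
    calc z * c * z⁻¹ = (z * (c * t) * z⁻¹) * (z * t⁻¹ * z⁻¹) := by group
      _ = (c * t)⁻¹ * t⁻¹ := by rw [h1, h4]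
      _ = t * (c⁻¹ * t) := by rw [mul_inv_rev, htinv]; group
      _ = t * (t * c⁻¹) := by
          congr 1
          have : c⁻¹ * (c * t) * c⁻¹ = c⁻¹ * (t * c) * c⁻¹ := by rw [hct]
          calc c⁻¹ * t = c⁻¹ * (t * c) * c⁻¹ := by group
            _ = c⁻¹ * (c * t) * c⁻¹ := by rw [hct]
            _ = t * c⁻¹ := by group
      _ = (t * t) * c⁻¹ := by group
      _ = c⁻¹ := by rw [htt, one_mul]

/-- Two involutions `≠ t` commuting with `t` have their product in `C(P)`. -/
theorem mul_mem_C (h : Ev3 G P) {t z z' : G} (ht : orderOf t = 2)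
    (htC : t ∈ centralizer ((P : Subgroup G) : Set G))
    (hz : orderOf z = 2) (hzt : z ≠ t) (hcz : z * t = t * z)
    (hz' : orderOf z' = 2) (hz't : z' ≠ t) (hcz' : z' * t = t * z') :
    z * z' ∈ centralizer ((P : Subgroup G) : Set G) := by
  rw [mem_centralizer_iff]
  intro p hp
  have h1 := h.inverts ht htC hz' hz't hcz' hp
  have h2 := h.inverts ht htC hz hzt hcz (inv_mem hp)
  rw [inv_inv] at h2
  -- (z z') p (z z')⁻¹ = p
  have h3 : (z * z') * p * (z * z')⁻¹ = p := by
    calc (z * z') * p * (z * z')⁻¹ = z * (z' * p * z'⁻¹) * z⁻¹ := by group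
      _ = p := by rw [h1, h2]
  calc p * (z * z') = ((z * z') * p * (z * z')⁻¹) * (z * z') := by rw [h3]
    _ = z * z' * p := by group

/-- Common neighbours of two commuting involutions. -/
theorem common_of_comm (h : Ev3 G P) {s s' z : G} (hs : orderOf s = 2) (hs' : orderOf s' = 2)
    (hz : orderOf z = 2) (hne : s' ≠ s) (hcomm : s' * s = s * s')
    (hzs : z * s = s * z) (hzs' : z * s' = s' * z) : z = s ∨ z = s' ∨ z = s * s' := by
  by_cases hzs1 : z = s
  · exact Or.inl hzs1
  right
  obtain ⟨P', hP'⟩ := h.exists_sylow3_of_involution hs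
  have h' := h.of_sylow P'
  have h1 := h'.mul_mem_C hs hP' hz hzs1 hzs hs' hne hcomm
  have hzz : z * z = 1 := sq_of_orderOf_two hz
  have hss' : s' * s' = 1 := sq_of_orderOf_two hs'
  have hsq : (z * s') * (z * s') = 1 := by
    calc (z * s') * (z * s') = z * (s' * z) * s' := by group
      _ = z * (z * s') * s' := by rw [hzs']
      _ = (z * z) * (s' * s') := by group
      _ = 1 := by rw [hzz, hss', one_mul]
  by_cases h2 : z * s' = 1
  · left
    have : z = s'⁻¹ := eq_inv_of_mul_eq_one_left h2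
    rw [this]; exact inv_of_orderOf_two hs'
  · right
    have h3 : orderOf (z * s') = 2 := by
      apply orderOf_eq_prime
      · rw [pow_two]; exact hsq
      · exact h2
    have h4 := h'.invol_C_unique h3 hs h1 hP'
    calc z = (z * s') * s' := by rw [mul_assoc, hss', mul_one]
      _ = s * s' := by rw [h4]

end Ev3

end Cfsg.Agent.Lib.Helper29
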