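import Cfsg.Agent.Lib.Helper29.Ev3J

set_option autoImplicit false

namespace Cfsg.Agent.Lib.Helper29

open Subgroup

namespace Ev3

variable {G : Type*} [Group G] [Finite G] {P : Sylow 3 G}

/-- Characterisation of the involutions `≠ t` commuting with `t`: the coset `C(P) u`. -/
theorem nb_iff (h : Ev3 G P) {t u : G} (ht : orderOf t = 2)
    (htC : t ∈ centralizer ((P : Subgroup G) : Set G)) (hu : orderOf u = 2) (hut : u ≠ t)
    (hcu : u * t = t * u) (z : G) :
    (orderOf z = 2 ∧ z ≠ t ∧ z * t = t * z) ↔ z * u ∈ centralizer ((P : Subgroup G) : Set G) := by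
  have huu : u * u = 1 := sq_of_orderOf_two hu
  have huinv : u⁻¹ = u := inv_of_orderOf_two hu
  constructor
  · rintro ⟨hz, hzt, hcz⟩
    exact h.mul_mem_C ht htC hz hzt hcz hu hut hcu
  · intro hc
    set c := z * u with hcdef
    have hzc : z = c * u := by rw [hcdef, mul_assoc, huu, mul_one]
    have huC : u ∉ centralizer ((P : Subgroup G) : Set G) := fun hh =>
      hut (h.invol_C_unique hu ht hh htC)
    -- c commutes with t
    have hct : c * t = t * c := by
      have h1 : c ∈ centralizer ({t} : Set G) := h.N_le_centralizer_t ht htC (h.C_le_N hc)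
      exact mem_centralizer_singleton_iff.mp h1
    have hz1 : z ≠ 1 := by
      intro hz1
      apply huC
      have : u = c⁻¹ := by
        have h2 : c * u = 1 := by rw [← hzc]; exact hz1
        exact eq_inv_of_mul_eq_one_right h2
      rw [this]; exact inv_mem hc
    have hzt : z ≠ t := by
      intro hzt
      apply huC
      have : u = c⁻¹ * t := by
        rw [← hzt, hzc]; group
      rw [this]; exact mul_mem (inv_mem hc) htC
    have hzz : z * z = 1 := by
      have h3 := h.inverts_C ht htC hu hut hcu hc
      rw [huinv] at h3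
      calc z * z = c * (u * c * u) := by rw [hzc]; group
        _ = c * c⁻¹ := by rw [h3]
        _ = 1 := mul_inv_cancel c
    refine ⟨?_, hzt, ?_⟩
    · apply orderOf_eq_prime
      · rw [pow_two]; exact hzz
      · exact hz1
    · rw [hzc]
      calc c * u * t = c * (u * t) := by group
        _ = c * (t * u) := by rw [hcu]
        _ = (c * t) * u := by group
        _ = (t * c) * u := by rw [hct]
        _ = t * (c * u) := by group

/-- Each involution has exactly `2 |P|` commuting involutions other than itself. -/
theorem card_nb (h : Ev3 G P) {t : G} (ht : orderOf t = 2)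
    (htC : t ∈ centralizer ((P : Subgroup G) : Set G)) :
    Nat.card {z : G // orderOf z = 2 ∧ z ≠ t ∧ z * t = t * z}
      = 2 * Nat.card (P : Subgroup G) := by
  obtain ⟨S, htS⟩ := h.exists_sylow2_of_involution ht
  obtain ⟨u, huS, hu1, hut⟩ := h.exists_third S t
  have hu : orderOf u = 2 := h.orderOf_two_of_mem_sylow2 S huS hu1
  have hcu : u * t = t * u := h.comm_of_mem_sylow2 S huS htS
  have huu : u * u = 1 := sq_of_orderOf_two hu
  rw [← h.hC]
  apply Nat.card_congr
  refine
    { toFun := fun z => ⟨z.1 * u, (h.nb_iff ht htC hu hut hcu z.1).mp z.2⟩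
      invFun := fun c => ⟨c.1 * u, (h.nb_iff ht htC hu hut hcu (c.1 * u)).mpr (by
        rw [mul_assoc, huu, mul_one]; exact c.2)⟩
      left_inv := fun z => Subtype.ext (by
        change z.1 * u * u = z.1
        rw [mul_assoc, huu, mul_one])
      right_inv := fun c => Subtype.ext (by
        change c.1 * u * u = c.1
        rw [mul_assoc, huu, mul_one]) }

/-- General version: any involution has `2 |P|` neighbours. -/
theorem card_nb' (h : Ev3 G P) {s : G} (hs : orderOf s = 2) :
    Nat.card {z : G // orderOf z = 2 ∧ z ≠ s ∧ z * s = s * z}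
      = 2 * Nat.card (P : Subgroup G) := by
  obtain ⟨P', hP'⟩ := h.exists_sylow3_of_involution hs
  have h' := h.of_sylow P'
  rw [h'.card_nb hs hP']
  congr 1
  haveI : Fact (Nat.Prime 3) := ⟨Nat.prime_three⟩
  rw [Sylow.card_eq_multiplicity, Sylow.card_eq_multiplicity]

end Ev3

end Cfsg.Agent.Lib.Helper29
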