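import Cfsg.Agent.Lib.Helper29.Ev3K

set_option autoImplicit false

namespace Cfsg.Agent.Lib.Helper29

open Subgroup

theorem ev3_mem_normalizer_zpowers {G : Type*} [Group G] {s x : G} (hs : s * s = 1)
    (hinv : s * x * s⁻¹ = x⁻¹) : s ∈ normalizer ((zpowers x : Subgroup G) : Set G) := by
  have hsinv : s⁻¹ = s := inv_eq_of_mul_eq_one_left hs
  have key : ∀ y : G, y ∈ zpowers x → s * y * s⁻¹ ∈ zpowers x := by
    rintro _ ⟨k, rfl⟩
    change s * x ^ k * s⁻¹ ∈ zpowers x
    rw [← conj_zpow, hinv]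
    exact zpow_mem (inv_mem (mem_zpowers x)) k
  rw [mem_normalizer_iff]
  intro y
  constructor
  · exact key y
  · intro hy
    have h1 := key _ hy
    have h2 : s * (s * y * s⁻¹) * s⁻¹ = y := by
      rw [hsinv]
      calc s * (s * y * s) * s = (s * s) * y * (s * s) := by group
        _ = y := by rw [hs, one_mul, mul_one]
    rw [h2] at h1; exact h1

namespace Ev3

variable {G : Type*} [Group G] [Finite G] {P : Sylow 3 G}

/-- `s` inverts `s * s'` when `s, s'` are involutions. -/
theorem conj_mul_invol {G : Type*} [Group G] {s s' : G} (hs : orderOf s = 2)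
    (hs' : orderOf s' = 2) : s * (s * s') * s⁻¹ = (s * s')⁻¹ := by
  have h1 : s⁻¹ = s := inv_of_orderOf_two hs
  have h2 : s'⁻¹ = s' := inv_of_orderOf_two hs'
  have h3 : s * s = 1 := sq_of_orderOf_two hs
  rw [mul_inv_rev, h1, h2]
  calc s * (s * s') * s = (s * s) * s' * s := by group
    _ = s' * s := by rw [h3, one_mul]

theorem conj_mul_invol' {G : Type*} [Group G] {s s' : G} (hs : orderOf s = 2)
    (hs' : orderOf s' = 2) : s' * (s * s') * s'⁻¹ = (s * s')⁻¹ := by
  have h1 : s⁻¹ = s := inv_of_orderOf_two hs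
  have h2 : s'⁻¹ = s' := inv_of_orderOf_two hs'
  have h3 : s' * s' = 1 := sq_of_orderOf_two hs'
  rw [mul_inv_rev, h1, h2]
  calc s' * (s * s') * s' = s' * s * (s' * s') := by group
    _ = s' * s := by rw [h3, mul_one]

/-- The order of the product of two non-commuting involutions divides `4 |P|`. -/
theorem orderOf_mul_dvd (h : Ev3 G P) {s s' : G} (hs : orderOf s = 2) (hs' : orderOf s' = 2)
    (hnc : s * s' ≠ s' * s) : orderOf (s * s') ∣ 4 * Nat.card (P : Subgroup G) := by
  haveI := h.simple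
  obtain ⟨x, hx⟩ : ∃ x : G, x = s * s' := ⟨_, rfl⟩
  rw [← hx]
  have hss : s * s = 1 := sq_of_orderOf_two hs
  have hs'inv : s'⁻¹ = s' := inv_of_orderOf_two hs'
  have hsinv : s⁻¹ = s := inv_of_orderOf_two hs
  have hsN : s ∈ normalizer ((zpowers x : Subgroup G) : Set G) :=
    ev3_mem_normalizer_zpowers hss (by rw [hx]; exact conj_mul_invol hs hs')
  have hxN : x ∈ normalizer ((zpowers x : Subgroup G) : Set G) :=
    Subgroup.le_normalizer (mem_zpowers x)
  have hne : normalizer ((zpowers x : Subgroup G) : Set G) ≠ ⊤ := by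
    intro htop
    have hnorm : (zpowers x).Normal := Subgroup.normalizer_eq_top_iff.mp htop
    rcases IsSimpleGroup.eq_bot_or_eq_top_of_normal (zpowers x) hnorm with h1 | h1
    · apply hnc
      have hx1 : x = 1 := by
        have : x ∈ (⊥ : Subgroup G) := by rw [← h1]; exact mem_zpowers x
        exact Subgroup.mem_bot.mp this
      have : s = s'⁻¹ := eq_inv_of_mul_eq_one_left (by rw [← hx]; exact hx1)
      rw [hs'inv] at this
      rw [this]
    · apply h.not_comm
      intro a b
      have ha : a ∈ zpowers x := by rw [h1]; exact mem_top a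
      have hb : b ∈ zpowers x := by rw [h1]; exact mem_top b
      obtain ⟨i, rfl⟩ := ha
      obtain ⟨j, rfl⟩ := hb
      exact ((Commute.refl x).zpow_zpow i j).eq
  have h2 : 2 ∣ Nat.card (normalizer ((zpowers x : Subgroup G) : Set G)) := by
    have := orderOf_dvd_natCard (⟨s, hsN⟩ : normalizer ((zpowers x : Subgroup G) : Set G))
    rw [← Subgroup.orderOf_coe] at this
    rwa [hs] at this
  have h3 := h.heven _ hne h2
  have h4 : orderOf x ∣ Nat.card (normalizer ((zpowers x : Subgroup G) : Set G)) := by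
    have := orderOf_dvd_natCard (⟨x, hxN⟩ : normalizer ((zpowers x : Subgroup G) : Set G))
    rwa [← Subgroup.orderOf_coe] at this
  exact dvd_trans h4 h3

/-- Two non-commuting involutions have exactly one common neighbour. -/
theorem exists_unique_common (h : Ev3 G P) {s s' : G} (hs : orderOf s = 2) (hs' : orderOf s' = 2)
    (hnc : s * s' ≠ s' * s) :
    ∃ z : G, orderOf z = 2 ∧ z * s = s * z ∧ z * s' = s' * z ∧
      ∀ z' : G, orderOf z' = 2 → z' * s = s * z' → z' * s' = s' * z' → z' = z := by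
  haveI : Fact (Nat.Prime 3) := ⟨Nat.prime_three⟩
  obtain ⟨x, hx⟩ : ∃ x : G, x = s * s' := ⟨_, rfl⟩
  have hdvd := h.orderOf_mul_dvd hs hs' hnc
  rw [← hx] at hdvd
  have hss : s * s = 1 := sq_of_orderOf_two hs
  have hss' : s' * s' = 1 := sq_of_orderOf_two hs'
  have hs'inv : s'⁻¹ = s' := inv_of_orderOf_two hs'
  have hsinv : s⁻¹ = s := inv_of_orderOf_two hs
  -- |P| = 3^a
  obtain ⟨a, ha⟩ : ∃ a : ℕ, Nat.card (P : Subgroup G) = 3 ^ a :=
    ⟨_, P.card_eq_multiplicity⟩
  obtain ⟨w, hw⟩ : ∃ w : G, w = x ^ 4 := ⟨_, rfl⟩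
  have hw3 : w ^ (3 ^ a) = 1 := by
    rw [hw, ← pow_mul, ← ha]
    exact orderOf_dvd_iff_pow_eq_one.mp hdvd
  have hw1 : w ≠ 1 := by
    intro hw1
    have h1 : orderOf x ∣ 4 := orderOf_dvd_of_pow_eq_one (by rw [← hw]; exact hw1)
    have h2 : orderOf x ∣ 2 ^ 2 := by simpa using h1
    obtain ⟨k, hk, hk2⟩ := (Nat.dvd_prime_pow Nat.prime_two).mp h2
    have hxsq : orderOf x ≠ 4 := h.orderOf_ne_four x
    have hk' : k = 0 ∨ k = 1 ∨ k = 2 := by omega
    rcases hk' with rfl | rfl | rfl
    · -- x = 1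
      apply hnc
      have hx1 : x = 1 := orderOf_eq_one_iff.mp (by simpa using hk2)
      have : s = s'⁻¹ := eq_inv_of_mul_eq_one_left (by rw [← hx]; exact hx1)
      rw [hs'inv] at this
      rw [this]
    · -- x^2 = 1
      apply hnc
      have hx2 : x * x = 1 := by
        have := pow_orderOf_eq_one x
        rw [hk2] at this
        simpa [pow_two] using this
      -- s s' s s' = 1 → s s' = s' s
      have : s * s' = (s * s')⁻¹ := eq_inv_of_mul_eq_one_left (by rw [← hx]; exact hx2)
      rw [this, mul_inv_rev, hs'inv, hsinv]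
    · exact hxsq (by simpa using hk2)
  -- w lies in a Sylow 3-subgroup
  have hwp : IsPGroup 3 (zpowers w) := by
    obtain ⟨j, _, hj⟩ := (Nat.dvd_prime_pow Nat.prime_three).mp (orderOf_dvd_of_pow_eq_one hw3)
    apply IsPGroup.of_card (n := j)
    rw [Nat.card_zpowers, hj]
  obtain ⟨P', hP'⟩ := hwp.exists_le_sylow
  have hwP' : w ∈ (P' : Subgroup G) := hP' (mem_zpowers w)
  have h' := h.of_sylow P'
  obtain ⟨t, ht, htC⟩ := h'.exists_t
  have hcent := h'.centralizer_eq_C hwP' hw1
  -- s inverts w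
  have hsw : s * w * s⁻¹ = w⁻¹ := by
    rw [hw, ← conj_pow, hx, conj_mul_invol hs hs', inv_pow]
  have hs'w : s' * w * s'⁻¹ = w⁻¹ := by
    rw [hw, ← conj_pow, hx, conj_mul_invol' hs hs', inv_pow]
  have h1 : s ∈ centralizer ({t} : Set G) :=
    h'.mem_centralizer_t_of_conj_mem ht htC hwP' hw1 (by rw [hsw]; exact inv_mem hwP')
  have h2 : s' ∈ centralizer ({t} : Set G) :=
    h'.mem_centralizer_t_of_conj_mem ht htC hwP' hw1 (by rw [hs'w]; exact inv_mem hwP')
  refine ⟨t, ht, (mem_centralizer_singleton_iff.mp h1).symm,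
    (mem_centralizer_singleton_iff.mp h2).symm, ?_⟩
  intro z' hz' hz's hz's'
  have h3 : z' * x = x * z' := by
    calc z' * x = (z' * s) * s' := by rw [hx]; group
      _ = s * (z' * s') := by rw [hz's]; group
      _ = s * (s' * z') := by rw [hz's']
      _ = x * z' := by rw [hx]; group
  have h4 : z' * w = w * z' := by
    rw [hw]; exact ((Commute.pow_right (show Commute z' x from h3) 4)).eq
  have h5 : z' ∈ centralizer ({w} : Set G) := mem_centralizer_singleton_iff.mpr h4
  rw [hcent] at h5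
  exact h'.invol_C_unique hz' ht h5 htC

end Ev3

end Cfsg.Agent.Lib.Helper29
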