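import Cfsg.Agent.Lib.Helper29.Ev3L

set_option autoImplicit false

namespace Cfsg.Agent.Lib.Helper29

open Subgroup

namespace Ev3

variable {G : Type*} [Group G] [Finite G] {P : Sylow 3 G}

/-- The neighbours of an involution, as a finset. -/
theorem card_nb_finset (h : Ev3 G P) [Fintype G] [DecidableEq G] {s : G} (hs : orderOf s = 2) :
    ((Finset.univ.filter (fun z : G => orderOf z = 2)).filter
        (fun z => z ≠ s ∧ z * s = s * z)).card = 2 * Nat.card (P : Subgroup G) := by
  rw [← h.card_nb' hs, Nat.card_eq_fintype_card, Fintype.card_subtype, Finset.filter_filter]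

/-- Product of two distinct commuting involutions is an involution. -/
theorem orderOf_mul_of_comm {G : Type*} [Group G] {t s : G} (ht : orderOf t = 2)
    (hs : orderOf s = 2) (hne : s ≠ t) (hcomm : s * t = t * s) : orderOf (t * s) = 2 := by
  have htt : t * t = 1 := sq_of_orderOf_two ht
  have hss : s * s = 1 := sq_of_orderOf_two hs
  apply orderOf_eq_prime
  · rw [pow_two]
    calc t * s * (t * s) = t * (s * t) * s := by group
      _ = t * (t * s) * s := by rw [hcomm]
      _ = (t * t) * (s * s) := by group
      _ = 1 := by rw [htt, hss, one_mul]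
  · intro h1
    apply hne
    have : t = s⁻¹ := eq_inv_of_mul_eq_one_left h1
    rw [inv_of_orderOf_two hs] at this
    exact this.symm

/-- The number of involutions: `|I| - 1 = q (q - 1)` with `q = 2 |P|`. -/
theorem card_involutions (h : Ev3 G P) [Fintype G] [DecidableEq G] :
    (Finset.univ.filter (fun z : G => orderOf z = 2)).card
      = 2 * Nat.card (P : Subgroup G) * (2 * Nat.card (P : Subgroup G) - 1) + 1 := by
  classical
  obtain ⟨t, ht, -⟩ := h.exists_t
  set q := 2 * Nat.card (P : Subgroup G) with hq
  set I := Finset.univ.filter (fun z : G => orderOf z = 2) with hI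
  have memI : ∀ z : G, z ∈ I ↔ orderOf z = 2 := fun z => by
    rw [hI, Finset.mem_filter]; simp
  have htI : t ∈ I := (memI t).mpr ht
  have htt : t * t = 1 := sq_of_orderOf_two ht
  have ht1 : t ≠ 1 := ne_one_of_orderOf_two ht
  let r : G → G → Prop := fun z s => s ≠ z ∧ s * z = z * s
  have key := Finset.sum_card_bipartiteAbove_eq_sum_card_bipartiteBelow
    (s := I.filter (fun z => z ≠ t ∧ z * t = t * z)) (t := I.erase t) r
  -- left side
  have hL : ∀ z ∈ I.filter (fun z => z ≠ t ∧ z * t = t * z),
      ((I.erase t).bipartiteAbove r z).card = q - 1 := by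
    intro z hz
    rw [Finset.mem_filter] at hz
    obtain ⟨hzI, hzt, hzc⟩ := hz
    have hz2 : orderOf z = 2 := (memI z).mp hzI
    have h1 : (I.erase t).bipartiteAbove r z
        = (I.filter (fun s => s ≠ z ∧ s * z = z * s)).erase t := by
      ext s
      simp only [Finset.mem_bipartiteAbove, Finset.mem_erase, Finset.mem_filter, r]
      tauto
    rw [h1, Finset.card_erase_of_mem, h.card_nb_finset hz2]
    rw [Finset.mem_filter]
    exact ⟨htI, Ne.symm hzt, hzc.symm⟩
  -- right side
  have hR : ∀ s ∈ I.erase t,
      ((I.filter (fun z => z ≠ t ∧ z * t = t * z)).bipartiteBelow r s).card = 1 := by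
    intro s hs
    rw [Finset.mem_erase] at hs
    obtain ⟨hst, hsI⟩ := hs
    have hs2 : orderOf s = 2 := (memI s).mp hsI
    have hss : s * s = 1 := sq_of_orderOf_two hs2
    have hs1 : s ≠ 1 := ne_one_of_orderOf_two hs2
    rw [Finset.card_eq_one]
    by_cases hc : s * t = t * s
    · refine ⟨t * s, ?_⟩
      ext z
      simp only [Finset.mem_bipartiteBelow, Finset.mem_filter, Finset.mem_singleton, r, memI]
      constructor
      · rintro ⟨⟨hz2, hzt, hzc⟩, hsz, hszc⟩
        rcases h.common_of_comm ht hs2 hz2 hst hc hzc hszc.symm with h1 | h1 | h1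
        · exact absurd h1 hzt
        · exact absurd h1.symm hsz
        · exact h1
      · rintro rfl
        refine ⟨⟨orderOf_mul_of_comm ht hs2 hst hc, ?_, ?_⟩, ?_, ?_⟩
        · intro h1
          apply hs1
          exact mul_eq_left.mp h1
        · calc t * s * t = t * (s * t) := by group
            _ = t * (t * s) := by rw [hc]
        · intro h1
          apply ht1
          exact mul_eq_right.mp h1.symm
        · calc s * (t * s) = (s * t) * s := by group
            _ = t * s * s := by rw [hc]
    · have hnc : t * s ≠ s * t := fun hh => hc hh.symm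
      obtain ⟨z0, hz0, hz0t, hz0s, huniq⟩ := h.exists_unique_common ht hs2 hnc
      refine ⟨z0, ?_⟩
      ext z
      simp only [Finset.mem_bipartiteBelow, Finset.mem_filter, Finset.mem_singleton, r, memI]
      constructor
      · rintro ⟨⟨hz2, hzt, hzc⟩, hsz, hszc⟩
        exact huniq z hz2 hzc hszc.symm
      · rintro rfl
        refine ⟨⟨hz0, ?_, hz0t⟩, ?_, hz0s.symm⟩
        · intro h1
          apply hnc
          rw [← h1]; exact hz0s
        · intro h1
          apply hc
          rw [h1]; exact hz0t
  rw [Finset.sum_congr rfl hL, Finset.sum_congr rfl hR] at key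
  simp only [Finset.sum_const, smul_eq_mul, mul_one] at key
  rw [h.card_nb_finset ht, Finset.card_erase_of_mem htI] at key
  have hpos : 0 < I.card := Finset.card_pos.mpr ⟨t, htI⟩
  rw [← hq] at key
  omega

end Ev3

end Cfsg.Agent.Lib.Helper29
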