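import Cfsg.Agent.Lib.Helper29.Ev3M

set_option autoImplicit false

namespace Cfsg.Agent.Lib.Helper29

open Subgroup

/-- Size of the conjugacy class times the order of the centralizer. -/
theorem ev3_card_isConj_mul_card_centralizer {G : Type*} [Group G] [Finite G] (g : G) :
    Nat.card {h : G // IsConj g h} * Nat.card (Subgroup.centralizer ({g} : Set G))
      = Nat.card G := by
  classical
  rw [Subgroup.nat_card_centralizer_nat_card_stabilizer]
  have h1 := MulAction.index_stabilizer (ConjAct G) g
  have h2 := (MulAction.stabilizer (ConjAct G) g).card_mul_index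
  have h3 : (MulAction.orbit (ConjAct G) g) = {h : G | IsConj g h} := by
    ext h
    rw [ConjAct.mem_orbit_conjAct, Set.mem_setOf_eq, isConj_comm]
  have h4 : Nat.card {h : G // IsConj g h} = (MulAction.orbit (ConjAct G) g).ncard := by
    rw [h3, ← Nat.card_coe_set_eq]
    rfl
  have h5 : Nat.card (ConjAct G) = Nat.card G := Nat.card_congr ConjAct.ofConjAct.toEquiv
  rw [h4, ← h1, mul_comm, h2, h5]

namespace Ev3

variable {G : Type*} [Group G] [Finite G] {P : Sylow 3 G}

/-- The order of `G`. -/
theorem card_G (h : Ev3 G P) :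
    Nat.card G = (2 * Nat.card (P : Subgroup G) * (2 * Nat.card (P : Subgroup G) - 1) + 1)
      * (4 * Nat.card (P : Subgroup G)) := by
  classical
  haveI : Fintype G := Fintype.ofFinite G
  obtain ⟨t, ht, -⟩ := h.exists_t
  rw [← ev3_card_isConj_mul_card_centralizer t, h.card_centralizer_involution ht]
  congr 1
  rw [← h.card_involutions]
  have h1 : Nat.card {s : G // IsConj t s} = Nat.card {s : G // orderOf s = 2} := by
    apply Nat.card_congr
    refine Equiv.subtypeEquivRight (fun s => ?_)
    constructor
    · intro hc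
      obtain ⟨c, hc⟩ := isConj_iff.mp hc
      rw [← hc, ev3_orderOf_conj]; exact ht
    · intro hs
      obtain ⟨y, hy⟩ := h.conj_of_involution ht hs
      exact isConj_iff.mpr ⟨y, hy⟩
  rw [h1, Nat.card_eq_fintype_card, Fintype.card_subtype]

end Ev3

end Cfsg.Agent.Lib.Helper29
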