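import Mathlib

set_option autoImplicit false

namespace Cfsg.Agent.Lib.Helper29

theorem ev3_pow_dvd_of (a x y z : ℕ) (h : 3 ^ a ∣ x * y * z) (hy : ¬ 3 ∣ y) (hz : ¬ 3 ∣ z) :
    3 ^ a ∣ x := by
  have h3 : Nat.Prime 3 := Nat.prime_three
  have cy : Nat.Coprime (3 ^ a) y := Nat.Coprime.pow_left a ((Nat.Prime.coprime_iff_not_dvd h3).mpr hy)
  have cz : Nat.Coprime (3 ^ a) z := Nat.Coprime.pow_left a ((Nat.Prime.coprime_iff_not_dvd h3).mpr hz)
  have h1 : 3 ^ a ∣ x * y := Nat.Coprime.dvd_of_dvd_mul_right cz h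
  exact Nat.Coprime.dvd_of_dvd_mul_right cy h1

/-- Core: `g (g+1) (g+2) = 8 p (4p² - 2p + 1)` has no solution with `p = 3^a`, `a ≥ 1`.
Stated subtraction-free: `g (g+1) (g+2) + 16 p² = 32 p³ + 8 p`. -/
theorem ev3_dioph_core (a g : ℕ) (ha : 1 ≤ a) :
    g * (g + 1) * (g + 2) + 16 * (3 ^ a * 3 ^ a) ≠ 32 * (3 ^ a * 3 ^ a * 3 ^ a) + 8 * 3 ^ a := by
  intro heq
  obtain ⟨p, hp⟩ : ∃ p : ℕ, p = 3 ^ a := ⟨_, rfl⟩
  rw [← hp] at heq
  have hp3 : 3 ≤ p := by
    rw [hp]
    calc 3 = 3 ^ 1 := by norm_num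
      _ ≤ 3 ^ a := Nat.pow_le_pow_right (by norm_num) ha
  -- divisibility
  have hdvd : 3 ^ a ∣ g * (g + 1) * (g + 2) := by
    rw [← hp]
    have h1 : p ∣ g * (g + 1) * (g + 2) + 16 * (p * p) := by
      rw [heq]
      exact Dvd.dvd.add (Dvd.dvd.mul_left (Dvd.dvd.mul_left (dvd_refl p) _) _)
        (Dvd.dvd.mul_left (dvd_refl p) _)
    have h2 : p ∣ 16 * (p * p) := Dvd.dvd.mul_left (Dvd.dvd.mul_left (dvd_refl p) _) _
    exact (Nat.dvd_add_left h2).mp h1
  have hcase : p ∣ g ∨ p ∣ g + 1 ∨ p ∣ g + 2 := by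
    rw [hp]
    have h3 : g % 3 = 0 ∨ g % 3 = 1 ∨ g % 3 = 2 := by omega
    rcases h3 with h3 | h3 | h3
    · left
      exact ev3_pow_dvd_of a g (g + 1) (g + 2) hdvd (by omega) (by omega)
    · right; right
      apply ev3_pow_dvd_of a (g + 2) g (g + 1) _ (by omega) (by omega)
      have e : (g + 2) * g * (g + 1) = g * (g + 1) * (g + 2) := by ring
      rw [e]; exact hdvd
    · right; left
      apply ev3_pow_dvd_of a (g + 1) g (g + 2) _ (by omega) (by omega)
      have e : (g + 1) * g * (g + 2) = g * (g + 1) * (g + 2) := by ring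
      rw [e]; exact hdvd
  -- upper bound: g + 2 < 4 p
  have hub : g + 2 < 4 * p := by
    by_contra hcon
    push Not at hcon
    have h1 : 4 * p - 2 ≤ g := by omega
    have h2 : (4 * p - 2) * (4 * p - 1) ≤ g * (g + 1) := Nat.mul_le_mul h1 (by omega)
    have h3 : (4 * p - 2) * (4 * p - 1) * (4 * p) ≤ g * (g + 1) * (g + 2) :=
      Nat.mul_le_mul h2 hcon
    obtain ⟨m, hm⟩ : ∃ m : ℕ, 4 * p = m + 2 := ⟨4 * p - 2, by omega⟩
    have e1 : 4 * p - 2 = m := by omega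
    have e2 : 4 * p - 1 = m + 1 := by omega
    rw [e1, e2, hm] at h3
    have hm10 : 10 ≤ m := by omega
    -- everything in terms of p: m = 4p - 2
    have hpm : (m : ℤ) = 4 * (p : ℤ) - 2 := by
      have : ((4 * p : ℕ) : ℤ) = ((m + 2 : ℕ) : ℤ) := by rw [hm]
      push_cast at this; linarith
    have heqZ : (g : ℤ) * (g + 1) * (g + 2) + 16 * (p * p) = 32 * (p * p * p) + 8 * p := by
      exact_mod_cast heq
    have h3Z : (m : ℤ) * (m + 1) * (m + 2) ≤ (g : ℤ) * (g + 1) * (g + 2) := by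
      exact_mod_cast h3
    rw [hpm] at h3Z
    have hpZ : (3 : ℤ) ≤ p := by exact_mod_cast hp3
    nlinarith [mul_nonneg (mul_nonneg (show (0:ℤ) ≤ p by linarith) (show (0:ℤ) ≤ p by linarith))
      (show (0:ℤ) ≤ (p:ℤ) - 3 by linarith)]
  by_cases ha2 : 2 ≤ a
  · have hp9 : 9 ≤ p := by
      rw [hp]
      calc 9 = 3 ^ 2 := by norm_num
        _ ≤ 3 ^ a := Nat.pow_le_pow_right (by norm_num) ha2
    -- lower bound: 3 p < g
    have hlb : 3 * p < g := by
      by_contra hcon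
      push Not at hcon
      have h2 : g * (g + 1) ≤ (3 * p) * (3 * p + 1) := Nat.mul_le_mul hcon (by omega)
      have h3 : g * (g + 1) * (g + 2) ≤ (3 * p) * (3 * p + 1) * (3 * p + 2) :=
        Nat.mul_le_mul h2 (by omega)
      have heqZ : (g : ℤ) * (g + 1) * (g + 2) + 16 * (p * p) = 32 * (p * p * p) + 8 * p := by
        exact_mod_cast heq
      have h3Z : (g : ℤ) * (g + 1) * (g + 2) ≤ (3 * (p:ℤ)) * (3 * p + 1) * (3 * p + 2) := by
        exact_mod_cast h3
      have hpZ : (9 : ℤ) ≤ p := by exact_mod_cast hp9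
      nlinarith [mul_nonneg (mul_nonneg (show (0:ℤ) ≤ p by linarith) (show (0:ℤ) ≤ p by linarith))
        (show (0:ℤ) ≤ (p:ℤ) - 9 by linarith)]
    rcases hcase with ⟨c, hc⟩ | ⟨c, hc⟩ | ⟨c, hc⟩
    · have h1 : 3 * p < p * c := by omega
      have h2 : p * c < 4 * p := by omega
      have h3 : 3 < c := by
        rw [mul_comm p c] at h1
        exact Nat.lt_of_mul_lt_mul_right h1
      have h4 : c < 4 := by
        rw [mul_comm p c] at h2
        exact Nat.lt_of_mul_lt_mul_right h2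
      omega
    · have h1 : 3 * p < p * c := by omega
      have h2 : p * c < 4 * p := by omega
      have h3 : 3 < c := by
        rw [mul_comm p c] at h1
        exact Nat.lt_of_mul_lt_mul_right h1
      have h4 : c < 4 := by
        rw [mul_comm p c] at h2
        exact Nat.lt_of_mul_lt_mul_right h2
      omega
    · have h1 : 3 * p < p * c := by omega
      have h2 : p * c < 4 * p := by omega
      have h3 : 3 < c := by
        rw [mul_comm p c] at h1
        exact Nat.lt_of_mul_lt_mul_right h1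
      have h4 : c < 4 := by
        rw [mul_comm p c] at h2
        exact Nat.lt_of_mul_lt_mul_right h2
      omega
  · have ha1 : a = 1 := by omega
    have hp3' : p = 3 := by rw [hp, ha1]; norm_num
    rw [hp3'] at heq hub
    have hg : g < 10 := by omega
    interval_cases g <;> omega

/-- The Diophantine obstruction in the form produced by the order formulas. -/
theorem ev3_dioph (a f : ℕ) (ha : 1 ≤ a) :
    f * (f ^ 2 - 1) ≠ ((2 * 3 ^ a * (2 * 3 ^ a - 1) + 1) * (4 * 3 ^ a)) * 2 := by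
  intro heq
  have hp1 : 1 ≤ 3 ^ a := Nat.one_le_pow _ _ (by norm_num)
  have hf : f ≠ 0 := by
    rintro rfl
    simp at heq
  obtain ⟨g, rfl⟩ : ∃ g : ℕ, f = g + 1 := ⟨f - 1, by omega⟩
  apply ev3_dioph_core a g ha
  obtain ⟨p, hp⟩ : ∃ p : ℕ, p = 3 ^ a := ⟨_, rfl⟩
  rw [← hp] at heq hp1 ⊢
  have e1 : (g + 1) ^ 2 - 1 = g * (g + 2) := by
    apply Nat.sub_eq_of_eq_add; ring
  obtain ⟨m, hm⟩ : ∃ m : ℕ, 2 * p = m + 1 := ⟨2 * p - 1, by omega⟩
  have e2 : 2 * p - 1 = m := by omega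
  rw [e1, e2] at heq
  have hmZ : (m : ℤ) = 2 * (p : ℤ) - 1 := by
    have : ((2 * p : ℕ) : ℤ) = ((m + 1 : ℕ) : ℤ) := by rw [hm]
    push_cast at this; linarith
  have heqZ : ((g : ℤ) + 1) * (g * (g + 2)) = ((2 * p * m + 1) * (4 * p)) * 2 := by
    exact_mod_cast heq
  rw [hmZ] at heqZ
  have : (g : ℤ) * (g + 1) * (g + 2) + 16 * (p * p) = 32 * (p * p * p) + 8 * p := by
    linear_combination heqZ
  exact_mod_cast this

end Cfsg.Agent.Lib.Helper29
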