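import Cfsg.Agent.Lib.Helper29.Ev3N
import Cfsg.Agent.Lib.Helper29.Ev3O
import Cfsg.Agent.Lib.Helper29.Ev3G
import Cfsg.Agent.Lib.helper15.SL2Card

set_option autoImplicit false

namespace Cfsg.Agent.Lib.Helper29

open Subgroup

section Card

variable {F : Type*} [Field F] [Fintype F]

theorem ev3_card_center_SL2 :
    Nat.card (Subgroup.center (Matrix.SpecialLinearGroup (Fin 2) F)) =
      Nat.gcd 2 (Fintype.card F - 1) := by
  have e := Matrix.SpecialLinearGroup.center_equiv_rootsOfUnity' (n := Fin 2) (R := F) 0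
  rw [Nat.card_congr e.toEquiv, Fintype.card_fin]
  have h1 : (rootsOfUnity 2 F) = (powMonoidHom 2 : Fˣ →* Fˣ).ker := by
    ext x
    simp [mem_rootsOfUnity, MonoidHom.mem_ker]
  rw [h1, IsCyclic.card_powMonoidHom_ker, Nat.card_units, Nat.card_eq_fintype_card, Nat.gcd_comm]

theorem ev3_card_PSL2_mul :
    Nat.card (Matrix.ProjectiveSpecialLinearGroup (Fin 2) F) * Nat.gcd 2 (Fintype.card F - 1) =
      Fintype.card F * (Fintype.card F ^ 2 - 1) := by
  have h2 := Subgroup.card_eq_card_quotient_mul_card_subgroup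
    (Subgroup.center (Matrix.SpecialLinearGroup (Fin 2) F))
  rw [ev3_card_center_SL2, Cfsg.Agent.Lib.helper15.card_SL2] at h2
  exact h2.symm

end Card

namespace Ev3

variable {G : Type*} [Group G] [Finite G] {P : Sylow 3 G}

/-- The configuration is contradictory. -/
theorem elim (h : Ev3 G P) : False := by
  haveI : Fact (Nat.Prime 3) := ⟨Nat.prime_three⟩
  obtain ⟨F, _, _, hodd, ⟨e⟩⟩ := h.iso_psl
  have h1 := ev3_card_PSL2_mul (F := F)
  have h2 : Nat.gcd 2 (Fintype.card F - 1) = 2 := by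
    obtain ⟨k, hk⟩ := hodd
    rw [hk]
    have : 2 * k + 1 - 1 = 2 * k := by omega
    rw [this]
    exact Nat.gcd_mul_right_right k 2
  rw [h2, ← Nat.card_congr e.toEquiv, h.card_G] at h1
  obtain ⟨a, ha⟩ : ∃ a : ℕ, Nat.card (P : Subgroup G) = 3 ^ a :=
    ⟨_, P.card_eq_multiplicity⟩
  have ha1 : 1 ≤ a := by
    by_contra hcon
    have ha0 : a = 0 := by omega
    have h3 := h.three_dvd_card_P
    rw [ha, ha0] at h3
    norm_num at h3
  rw [ha] at h1
  exact ev3_dioph a (Fintype.card F) ha1 h1.symm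

end Ev3

end Cfsg.Agent.Lib.Helper29
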