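import Mathlib
import Cfsg.Agent.Lib.Helper19.G2V.Defs
import Cfsg.Agent.Lib.Helper5.G2VQ1

/-!
# G2V row F3 (`fpf_cmp`), second copy by helper29 under an own name: core on the statements of
F1 (`xG_val`), F2 (`Qcol`, `Qcol11`); Q1 (`Qp_form`) cited from main.
-/

set_option autoImplicit false

namespace Cfsg.Agent.Lib.Helper19.G2V

open Cfsg.Lie Cfsg.Lie.ChevalleyDatum Matrix
open Cfsg.Agent.Lib.helper8
open Cfsg.Agent.Lib.helper23.P4V

universe u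

variable {F : Type u} [Field F]

/-- the `2 × 2` system: `a w₁ = b w₂`, `c w₁ = d w₂`, `a d - b c ≠ 0` force `w₁ = w₂ = 0` -/
theorem g2vf3_h29_lin (a b c d w1 w2 : F) (h1 : a * w1 = b * w2) (h2 : c * w1 = d * w2)
    (hdet : a * d - b * c ≠ 0) : w1 = 0 ∧ w2 = 0 := by
  have e1 : (a * d - b * c) * w1 = 0 := by
    have : (a * d - b * c) * w1 = d * (a * w1) - b * (c * w1) := by ring
    rw [this, h1, h2]
    ring
  have e2 : (a * d - b * c) * w2 = 0 := by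
    have : (a * d - b * c) * w2 = a * (d * w2) - c * (b * w2) := by ring
    rw [this, ← h1, ← h2]
    ring
  exact ⟨(mul_eq_zero.1 e1).resolve_left hdet, (mul_eq_zero.1 e2).resolve_left hdet⟩

/-- the algebra of F3: the four linear equations force `w = 0` -/
theorem g2vf3_h29_alg (τ ν w1 w2 w3 w4 : F) (hν : ν ≠ 0) (h1t : 1 - τ + ν ≠ 0)
    (hg : ν ^ 2 + ν - τ ^ 3 + 3 * τ * ν ≠ 0)
    (e1 : w1 * (1 / ν) = τ ^ 3 / ν ^ 2 * w1 + -3 * τ ^ 2 / ν ^ 2 * w2 + -3 * τ / ν ^ 2 * w3 +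
      -1 / ν ^ 2 * w4)
    (e2 : w2 * (1 / ν) = τ ^ 2 / ν * w1 + -2 * τ / ν * w2 + -1 / ν * w3)
    (e3 : w3 * (1 / ν) = -τ * w1 + w2)
    (e4 : w4 * (1 / ν) = ν * w1) : w1 = 0 ∧ w2 = 0 ∧ w3 = 0 ∧ w4 = 0 := by
  have h4 : w4 = ν ^ 2 * w1 := by
    field_simp at e4
    linear_combination e4
  have h3 : w3 = ν * (w2 - τ * w1) := by
    field_simp at e3
    linear_combination e3
  have hA : τ * (τ + ν) * w1 = (1 + 2 * τ + ν) * w2 := by
    rw [h3] at e2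
    field_simp at e2
    linear_combination -e2
  have hB : (τ ^ 3 + 3 * τ ^ 2 * ν - ν ^ 2 - ν) * w1 = 3 * τ * (τ + ν) * w2 := by
    rw [h3, h4] at e1
    field_simp at e1
    linear_combination -e1
  have hdet : τ * (τ + ν) * (3 * τ * (τ + ν)) -
      (1 + 2 * τ + ν) * (τ ^ 3 + 3 * τ ^ 2 * ν - ν ^ 2 - ν) ≠ 0 := by
    have : τ * (τ + ν) * (3 * τ * (τ + ν)) -
        (1 + 2 * τ + ν) * (τ ^ 3 + 3 * τ ^ 2 * ν - ν ^ 2 - ν) =
        (1 - τ + ν) * (ν ^ 2 + ν - τ ^ 3 + 3 * τ * ν) := by ring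
    rw [this]
    exact mul_ne_zero h1t hg
  obtain ⟨z1, z2⟩ := g2vf3_h29_lin _ _ _ _ w1 w2 hA hB hdet
  refine ⟨z1, z2, ?_, ?_⟩
  · rw [h3, z1, z2]; ring
  · rw [h4, z1]; ring

/-- the sum over the 14 coordinates -/
theorem g2vf3_h29_sum {M : Type*} [AddCommMonoid M] (f : chevG2.Idx → M) :
    ∑ k, f k = f (hI 0) + f (hI 1) + (f (eI 0) + f (eI 1) + f (eI 2) + f (eI 3) + f (eI 4) +
      f (eI 5) + f (eI 6) + f (eI 7) + f (eI 8) + f (eI 9) + f (eI 10) + f (eI 11)) := by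
  rw [Fintype.sum_sum_type]
  congr 1
  · show ∑ i : Fin 2, f (Sum.inl i) = _
    rw [Fin.sum_univ_two]
    rfl
  · show ∑ i : Fin 12, f (Sum.inr i) = _
    simp only [Fin.sum_univ_succ, Fin.sum_univ_zero, add_zero]
    simp only [add_assoc]
    rfl

/-- column `e_{-ρ}` of `xM` is `ν⁻¹ e_{-ρ}` -/
theorem g2vf3_h29_colM (τ ν : F) (U : Matrix chevG2.Idx chevG2.Idx F) (i : chevG2.Idx) :
    (U * xM τ ν) i (eI 0) = U i (eI 0) * (1 / ν) := by
  rw [Matrix.mul_apply, g2vf3_h29_sum]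
  simp [xM, xMfun, idxN, eI, hI]

theorem g2vf3_h29_row1 (τ ν : F) (U : Matrix chevG2.Idx chevG2.Idx F) (j : chevG2.Idx) :
    (xM τ ν * U) (eI 1) j = τ ^ 3 / ν ^ 2 * U (eI 1) j + -3 * τ ^ 2 / ν ^ 2 * U (eI 2) j +
      -3 * τ / ν ^ 2 * U (eI 3) j + -1 / ν ^ 2 * U (eI 5) j := by
  rw [Matrix.mul_apply, g2vf3_h29_sum]
  simp [xM, xMfun, idxN, eI, hI]

theorem g2vf3_h29_row2 (τ ν : F) (U : Matrix chevG2.Idx chevG2.Idx F) (j : chevG2.Idx) :
    (xM τ ν * U) (eI 2) j = τ ^ 2 / ν * U (eI 1) j + -2 * τ / ν * U (eI 2) j +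
      -1 / ν * U (eI 3) j := by
  rw [Matrix.mul_apply, g2vf3_h29_sum]
  simp [xM, xMfun, idxN, eI, hI]

theorem g2vf3_h29_row3 (τ ν : F) (U : Matrix chevG2.Idx chevG2.Idx F) (j : chevG2.Idx) :
    (xM τ ν * U) (eI 3) j = -τ * U (eI 1) j + U (eI 2) j := by
  rw [Matrix.mul_apply, g2vf3_h29_sum]
  simp [xM, xMfun, idxN, eI, hI]

theorem g2vf3_h29_row5 (τ ν : F) (U : Matrix chevG2.Idx chevG2.Idx F) (j : chevG2.Idx) :
    (xM τ ν * U) (eI 5) j = ν * U (eI 1) j := by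
  rw [Matrix.mul_apply, g2vf3_h29_sum]
  simp [xM, xMfun, idxN, eI, hI]

theorem g2vf3_h29_rowh (τ ν : F) (U : Matrix chevG2.Idx chevG2.Idx F) (j : chevG2.Idx) :
    (xM τ ν * U) (hI 0) j = -U (hI 0) j + U (hI 1) j + -τ * U (eI 4) j := by
  rw [Matrix.mul_apply, g2vf3_h29_sum]
  simp [xM, xMfun, idxN, eI, hI]

/-- F3 (`fpf_cmp`) from the statements of F1 (`xG_val`) and F2 (`Qcol`, `Qcol11`). -/
theorem g2vf3_h29_core
    (hF1 : ∀ (τ ν : F) (hν : ν ≠ 0),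
      ((xG τ ν hν : GG F) : Matrix chevG2.Idx chevG2.Idx F) = xM τ ν)
    (hF2 : ∀ (t1 t2 t3 t4 t5 : F),
      let u : GG F := X 6 t1 * X 8 t2 * X 9 t3 * X 10 t4 * X 11 t5
      (u : Matrix chevG2.Idx chevG2.Idx F) (eI 0) (eI 0) = 1 ∧
      (u : Matrix chevG2.Idx chevG2.Idx F) (eI 1) (eI 0) = -t1 ∧
      (u : Matrix chevG2.Idx chevG2.Idx F) (eI 2) (eI 0) = -t2 ∧
      (u : Matrix chevG2.Idx chevG2.Idx F) (eI 3) (eI 0) = t3 ∧
      (u : Matrix chevG2.Idx chevG2.Idx F) (eI 5) (eI 0) = t4)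
    (hF2b : ∀ (t : F) (i : chevG2.Idx),
      ((X 11 t : GG F) : Matrix chevG2.Idx chevG2.Idx F) i (eI 0) =
        if i = hI 0 then t else if i = hI 1 then 2 * t else if i = eI 0 then 1
        else if i = eI 11 then -t ^ 2 else 0)
    (τ ν : F) (hG : Good' τ ν) (u : GG F) (hu : u ∈ Qp F)
    (hc : u * xG τ ν hG.1.nu_ne_zero = xG τ ν hG.1.nu_ne_zero * u) : u = 1 := by
  have hν : ν ≠ 0 := hG.1.nu_ne_zero
  obtain ⟨t1, t2, t3, t4, t5, hform⟩ := Qp_form u hu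
  have hmat : (u : Matrix chevG2.Idx chevG2.Idx F) * xM τ ν =
      xM τ ν * (u : Matrix chevG2.Idx chevG2.Idx F) := by
    have := congrArg Units.val hc
    rwa [Units.val_mul, Units.val_mul, hF1] at this
  have hcol := hF2 t1 t2 t3 t4 t5
  dsimp only at hcol
  rw [← hform] at hcol
  obtain ⟨-, c1, c2, c3, c5⟩ := hcol
  -- the four equations
  have e1 := congrFun (congrFun hmat (eI 1)) (eI 0)
  rw [g2vf3_h29_colM, g2vf3_h29_row1, c1, c2, c3, c5] at e1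
  have e2 := congrFun (congrFun hmat (eI 2)) (eI 0)
  rw [g2vf3_h29_colM, g2vf3_h29_row2, c1, c2, c3] at e2
  have e3 := congrFun (congrFun hmat (eI 3)) (eI 0)
  rw [g2vf3_h29_colM, g2vf3_h29_row3, c1, c2, c3] at e3
  have e5 := congrFun (congrFun hmat (eI 5)) (eI 0)
  rw [g2vf3_h29_colM, g2vf3_h29_row5, c1, c5] at e5
  have h1t : 1 - τ + ν ≠ 0 := by
    have := hG.1.2.2 1
    intro h0
    apply this
    linear_combination h0
  obtain ⟨z1, z2, z3, z4⟩ := g2vf3_h29_alg τ ν (-t1) (-t2) t3 t4 hν h1t hG.2 e1 e2 e3 e5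
  have z1' : t1 = 0 := neg_eq_zero.1 z1
  have z2' : t2 = 0 := neg_eq_zero.1 z2
  rw [z1', z2', z3, z4] at hform
  simp only [g2vq1_zero, one_mul] at hform
  -- the entry `(hI 0, eI 0)`
  have f0 : ((X 11 t5 : GG F) : Matrix chevG2.Idx chevG2.Idx F) (hI 0) (eI 0) = t5 := by
    rw [hF2b, if_pos rfl]
  have f1 : ((X 11 t5 : GG F) : Matrix chevG2.Idx chevG2.Idx F) (hI 1) (eI 0) = 2 * t5 := by
    rw [hF2b, if_neg (by decide), if_pos rfl]
  have f4 : ((X 11 t5 : GG F) : Matrix chevG2.Idx chevG2.Idx F) (eI 4) (eI 0) = 0 := by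
    rw [hF2b, if_neg (by decide), if_neg (by decide), if_neg (by decide), if_neg (by decide)]
  have e0 := congrFun (congrFun hmat (hI 0)) (eI 0)
  rw [g2vf3_h29_colM, g2vf3_h29_rowh, hform, f0, f1, f4] at e0
  have ht5 : t5 = 0 := by
    by_contra hne
    have h1 : ν = 1 := by
      field_simp at e0
      have h2 : t5 * (1 - ν) = 0 := by linear_combination e0
      rcases mul_eq_zero.1 h2 with h3 | h3
      · exact absurd h3 hne
      · linear_combination -h3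
    exact hG.1.2.1 h1
  rw [hform, ht5, g2vq1_zero]

end Cfsg.Agent.Lib.Helper19.G2V
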