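import Mathlib

/-!
Arithmetic of degree layers for Peterfalvi (6.5).
-/

set_option autoImplicit false

namespace Cfsg.Agent.Lib.Helper29.IC

theorem arith_layers {ι : Type*} [DecidableEq ι] (F : Finset ι) (d : ι → ℕ) (e p : ℕ)
    (hp : p.Prime) (hp3 : 3 ≤ p) (hcop : Nat.Coprime e p) (he : 0 < e)
    (b : ι → ℕ) (hd : ∀ i ∈ F, d i = e * p ^ b i)
    (χ χ₁ : ι) (hχ : χ ∈ F) (hχ₁ : χ₁ ∈ F) (hlt : d χ₁ < d χ)
    (hdiv : p ^ (2 * b χ) ∣ ∑ i ∈ F, d i ^ 2) :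
    2 * d χ * d χ₁ < ∑ i ∈ F.filter (fun i => d i < d χ), d i ^ 2 := by
  have hp0 : 0 < p := hp.pos
  have hp1 : 1 < p := hp.one_lt
  have hlt' : b χ₁ < b χ := by
    rw [hd χ hχ, hd χ₁ hχ₁] at hlt
    have h1 : p ^ b χ₁ < p ^ b χ := Nat.lt_of_mul_lt_mul_left hlt
    exact (Nat.pow_lt_pow_iff_right hp1).mp h1
  have hsplit := Finset.sum_filter_add_sum_filter_not F (fun i => d i < d χ) (fun i => d i ^ 2)
  -- the upper part
  have hup : e ^ 2 * p ^ (2 * b χ) ∣ ∑ i ∈ F.filter (fun i => ¬ d i < d χ), d i ^ 2 := by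
    apply Finset.dvd_sum
    intro i hi
    obtain ⟨hiF, hige⟩ := Finset.mem_filter.mp hi
    rw [not_lt, hd χ hχ, hd i hiF] at hige
    have h1 : p ^ b χ ≤ p ^ b i := Nat.le_of_mul_le_mul_left hige he
    have h2 : b χ ≤ b i := (Nat.pow_le_pow_iff_right hp1).mp h1
    obtain ⟨c, hc⟩ := Nat.exists_eq_add_of_le h2
    rw [hd i hiF, hc]
    exact ⟨p ^ (2 * c), by ring⟩
  -- the lower part
  have hlow_e : e ^ 2 ∣ ∑ i ∈ F.filter (fun i => d i < d χ), d i ^ 2 := by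
    apply Finset.dvd_sum
    intro i hi
    obtain ⟨hiF, -⟩ := Finset.mem_filter.mp hi
    rw [hd i hiF]
    exact ⟨(p ^ b i) ^ 2, by ring⟩
  have hlow_p : p ^ (2 * b χ) ∣ ∑ i ∈ F.filter (fun i => d i < d χ), d i ^ 2 := by
    have h1 : p ^ (2 * b χ) ∣ ∑ i ∈ F.filter (fun i => ¬ d i < d χ), d i ^ 2 :=
      Dvd.dvd.trans (Dvd.intro_left _ rfl) hup
    rw [← hsplit] at hdiv
    exact (Nat.dvd_add_iff_left h1).mpr hdiv
  have hcop' : Nat.Coprime (e ^ 2) (p ^ (2 * b χ)) := Nat.Coprime.pow _ _ hcop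
  have hlow : e ^ 2 * p ^ (2 * b χ) ∣ ∑ i ∈ F.filter (fun i => d i < d χ), d i ^ 2 :=
    Nat.Coprime.mul_dvd_of_dvd_of_dvd hcop' hlow_e hlow_p
  have hpos : 0 < ∑ i ∈ F.filter (fun i => d i < d χ), d i ^ 2 := by
    have hmem : χ₁ ∈ F.filter (fun i => d i < d χ) := Finset.mem_filter.mpr ⟨hχ₁, hlt⟩
    have h1 : d χ₁ ^ 2 ≤ ∑ i ∈ F.filter (fun i => d i < d χ), d i ^ 2 :=
      Finset.single_le_sum (f := fun i => d i ^ 2) (fun i _ => Nat.zero_le _) hmem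
    have h2 : 0 < d χ₁ ^ 2 := by
      rw [hd χ₁ hχ₁]
      positivity
    omega
  have hge := Nat.le_of_dvd hpos hlow
  refine lt_of_lt_of_le ?_ hge
  rw [hd χ hχ, hd χ₁ hχ₁]
  obtain ⟨c, hc⟩ := Nat.exists_eq_add_of_lt hlt'
  have h3 : 3 * p ^ b χ₁ ≤ p ^ b χ := by
    rw [hc, show b χ₁ + c + 1 = b χ₁ + (c + 1) by ring, pow_add]
    have : 3 ≤ p ^ (c + 1) := by
      calc 3 ≤ p := hp3
        _ = p ^ 1 := (pow_one p).symm
        _ ≤ p ^ (c + 1) := Nat.pow_le_pow_right hp0 (by omega)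
    nlinarith [Nat.pow_pos (n := b χ₁) hp0]
  have h4 : 0 < p ^ b χ := Nat.pow_pos hp0
  have h5 : 0 < p ^ b χ₁ := Nat.pow_pos hp0
  have h6 : p ^ (2 * b χ) = p ^ b χ * p ^ b χ := by rw [two_mul, pow_add]
  rw [h6]
  have he2 : 0 < e * e := Nat.mul_pos he he
  calc 2 * (e * p ^ b χ) * (e * p ^ b χ₁) = (e * e) * (p ^ b χ * (2 * p ^ b χ₁)) := by ring
    _ < (e * e) * (p ^ b χ * p ^ b χ) := by
        apply Nat.mul_lt_mul_of_pos_left _ he2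
        apply Nat.mul_lt_mul_of_pos_left _ h4
        omega
    _ = e ^ 2 * (p ^ b χ * p ^ b χ) := by ring

end Cfsg.Agent.Lib.Helper29.IC
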