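import Mathlib
import Cfsg.Agent.Lib.Helper11.SeqIndFrob
import Cfsg.Agent.Lib.Helper25.WeightPair
import Cfsg.Agent.Lib.Helper25.SylowNormalizerExtend

/-!
Peterfalvi (6.5), first half: the members of `S ∖ S(Z)` are the irreducible characters of `L`
not having `Z` in their kernel.
-/

set_option autoImplicit false
open scoped ComplexConjugate

namespace Cfsg.Agent.Lib.Helper29.IC

open Cfsg.Agent.Lib.Helper11 Cfsg.Agent.Lib.helper7 Cfsg.Agent.Lib.helper2 Cfsg.Agent.Lib.Helper25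
  Cfsg.Agent.Lib.Helper11.SeqInd Cfsg.Agent.Lib.Helper11.SeqIndCoh
  Cfsg.Agent.Lib.Helper11.SeqIndFrob

variable {L : Type*} [Group L] [Fintype L] (K Z : Subgroup L) [hK : K.Normal] [hZ : Z.Normal]

/-- `θ` is nontrivial on `Z` -/
def NT (θ : K → ℂ) : Prop := ∃ a : K, (a : L) ∈ Z ∧ θ a ≠ θ 1

theorem NT_cj (θ : K → ℂ) (g : L) (h : NT K Z (cj K θ g)) : NT K Z θ := by
  obtain ⟨a, haZ, hne⟩ := h
  rw [cj_apply, cj_one_apply] at hne
  exact ⟨⟨g * a * g⁻¹, hK.conj_mem a a.2 g⟩, hZ.conj_mem a haZ g, hne⟩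

/-- the set `S ∖ S(Z)` -/
def X : Set (L → ℂ) := Cfsg.inducedIrrAbove K ⊥ \ Cfsg.inducedIrrAbove K Z

theorem mem_X_iff (φ : L → ℂ) :
    φ ∈ X K Z ↔ ∃ θ : K → ℂ, Cfsg.IsIrrCharacter K θ ∧ NT K Z θ ∧ φ = Cfsg.indFun K θ := by
  unfold X
  rw [Set.mem_sdiff, inducedIrrAbove_eq, inducedIrrAbove_eq]
  constructor
  · rintro ⟨⟨θ, ⟨h1, h2, -⟩, rfl⟩, hn⟩
    refine ⟨θ, h1, ?_, rfl⟩
    by_contra hnt
    apply hn
    refine ⟨θ, ⟨h1, h2, ?_⟩, rfl⟩
    intro a ha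
    by_contra hne
    exact hnt ⟨a, ha, hne⟩
  · rintro ⟨θ, h1, ⟨a, haZ, hne⟩, rfl⟩
    have hθ1 : θ ≠ (fun _ => 1) := by
      intro hc
      apply hne
      rw [hc]
    refine ⟨⟨θ, ⟨h1, hθ1, fun b hb => ?_⟩, rfl⟩, ?_⟩
    · have : b = 1 := Subtype.ext (Subgroup.mem_bot.mp hb)
      rw [this]
    · rintro ⟨θ', ⟨h1', h2', h3'⟩, heq⟩
      obtain ⟨g, hg⟩ := (indFun_eq_iff K θ θ' h1 h1').mp heq
      have : NT K Z θ' := by
        apply NT_cj K Z θ' g⁻¹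
        rw [hg, cj_mul, mul_inv_cancel, cj_one]
        exact ⟨a, haZ, hne⟩
      obtain ⟨b, hbZ, hb⟩ := this
      exact hb (h3' b hbZ)

theorem isCharacter_ind_irr (θ : K → ℂ) (hθ : Cfsg.IsIrrCharacter K θ) :
    Cfsg.IsCharacter L (Cfsg.indFun K θ) :=
  isCharacter_indFun K θ (h7_irr_isCharacter hθ)

/-- an irreducible member of `S ∖ S(Z)` is nontrivial on `Z` -/
theorem X_sub (φ : L → ℂ) (hφ : φ ∈ X K Z) (hirr : Cfsg.IsIrrCharacter L φ) :
    ∃ z ∈ Z, φ z ≠ φ 1 := by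
  classical
  have : Fintype K := Fintype.ofFinite _
  obtain ⟨θ, hθ, ⟨a, haZ, hne⟩, rfl⟩ := (mem_X_iff K Z φ).mp hφ
  refine ⟨a, haZ, ?_⟩
  intro hc
  apply hne
  have hcon : Cfsg.classInner (fun h : K => Cfsg.indFun K θ h) θ ≠ 0 := by
    rw [Cfsg.Agent.Lib.Helper25.classInner_conj_symm,
      ← h7_frobenius_reciprocity K θ _ (h7_indFun_isClassFunction K θ), h7_irr_norm hirr]
    simp
  exact wt_ker_constituent K (Cfsg.indFun K θ) (isCharacter_ind_irr K θ hθ) ⟨θ, hθ⟩ hcon a hc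

/-- an irreducible character of `L` nontrivial on `Z` lies in `S ∖ S(Z)` -/
theorem X_sup (hZK : Z ≤ K) (hirrX : ∀ χ ∈ X K Z, Cfsg.IsIrrCharacter L χ) (χ : L → ℂ)
    (hχ : Cfsg.IsIrrCharacter L χ) (z : L) (hz : z ∈ Z) (hne : χ z ≠ χ 1) : χ ∈ X K Z := by
  classical
  have : Fintype K := Fintype.ofFinite _
  have hR : Cfsg.IsCharacter K (fun h : K => χ h) :=
    isCharacter_restrict (h7_irr_isCharacter hχ) K
  have h1 : (fun h : K => χ h) 1 ≠ 0 := by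
    obtain ⟨n, hn, hn1⟩ := irr_one_eq_finrank ⟨χ, hχ⟩
    show χ ((1 : K) : L) ≠ 0
    rw [OneMemClass.coe_one]
    change χ 1 = (n : ℂ) at hn1
    rw [hn1]
    exact_mod_cast hn.ne'
  obtain ⟨θ, m, hm, hinner⟩ := isCharacter_exists_constituent hR h1
  have hcl : Cfsg.IsClassFunction L χ := isCharacter_isClassFunction (h7_irr_isCharacter hχ)
  have hfr : Cfsg.classInner (Cfsg.indFun K (θ : K → ℂ)) χ = (m : ℂ) := by
    rw [h7_frobenius_reciprocity K _ χ hcl, Cfsg.Agent.Lib.Helper25.classInner_conj_symm, hinner,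
      Complex.conj_natCast]
  have hm0 : (m : ℂ) ≠ 0 := by exact_mod_cast hm.ne'
  have hNT : NT K Z (θ : K → ℂ) := by
    by_contra hnt
    have htriv : ∀ a : K, (a : L) ∈ Z → (θ : K → ℂ) a = (θ : K → ℂ) 1 := by
      intro a ha
      by_contra h
      exact hnt ⟨a, ha, h⟩
    have hval : Cfsg.indFun K (θ : K → ℂ) z = Cfsg.indFun K (θ : K → ℂ) 1 := by
      have e1 := indFun_normal_apply K (θ : K → ℂ) ⟨z, hZK hz⟩
      have e2 := indFun_normal_apply K (θ : K → ℂ) 1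
      rw [OneMemClass.coe_one] at e2
      change Cfsg.indFun K (θ : K → ℂ) z = _ at e1
      rw [e1, e2]
      congr 1
      apply Finset.sum_congr rfl
      intro x _
      rw [cj_apply, cj_one_apply]
      exact htriv _ (hZ.conj_mem z hz x)
    apply hne
    exact nc_ker_const (isCharacter_ind_irr K _ θ.2) χ hχ (by rw [hfr]; exact hm0) z hval
  have hX : Cfsg.indFun K (θ : K → ℂ) ∈ X K Z := (mem_X_iff K Z _).mpr ⟨θ, θ.2, hNT, rfl⟩
  have hirr' := hirrX _ hX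
  have heq : Cfsg.indFun K (θ : K → ℂ) = χ := by
    by_contra h
    have := h7_irr_inner_ne hirr' hχ h
    rw [hfr] at this
    exact hm0 this
  rw [← heq]
  exact hX

/-- **Peterfalvi (6.5)**, first half -/
theorem X_eq (hZK : Z ≤ K) (hirrX : ∀ χ ∈ X K Z, Cfsg.IsIrrCharacter L χ) :
    X K Z = {χ | Cfsg.IsIrrCharacter L χ ∧ ∃ z ∈ Z, χ z ≠ χ 1} := by
  ext χ
  constructor
  · intro h
    exact ⟨hirrX χ h, X_sub K Z χ h (hirrX χ h)⟩
  · rintro ⟨h1, z, hz, hne⟩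
    exact X_sup K Z hZK hirrX χ h1 z hz hne

end Cfsg.Agent.Lib.Helper29.IC
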