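import Mathlib
import Cfsg.Agent.Lib.Helper29.ICSet
import Cfsg.Agent.Lib.Helper29.ICArith
import Cfsg.Agent.Lib.helper2.CharInt

/-!
Peterfalvi (6.5), second half: coherence of `S ∖ S(Z)`.
-/

set_option autoImplicit false
open scoped ComplexConjugate

namespace Cfsg.Agent.Lib.Helper29.IC

open Cfsg.Agent.Lib.Helper11 Cfsg.Agent.Lib.helper7 Cfsg.Agent.Lib.helper2 Cfsg.Agent.Lib.Helper25
  Cfsg.Agent.Lib.Helper11.SeqInd Cfsg.Agent.Lib.Helper11.SeqIndCoh
  Cfsg.Agent.Lib.Helper11.SeqIndFrob Cfsg.Agent.Lib.Helper11.FrobQuot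

variable {L : Type*} [Group L] [Fintype L] {G : Type*} [Group G] [Fintype G]
  (K Z : Subgroup L) [hK : K.Normal] [hZ : Z.Normal]

omit hK hZ in
theorem X_sub_S : X K Z ⊆ Cfsg.inducedIrrAbove K ⊥ := fun _ h => h.1

omit hK hZ in
theorem X_finite : (X K Z).Finite := (inducedIrrAbove_finite K ⊥).subset (X_sub_S K Z)

omit hK hZ in
theorem conj_mem_X {φ : L → ℂ} (hφ : φ ∈ X K Z) : Cfsg.conjFun φ ∈ X K Z := by
  refine ⟨conj_mem_inducedIrrAbove K ⊥ hφ.1, ?_⟩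
  intro hc
  apply hφ.2
  have := conj_mem_inducedIrrAbove K Z hc
  rwa [conjFun_conjFun] at this

theorem X_nonempty (hZ1 : Z ≠ ⊥) (hZK : Z ≤ K) : (X K Z).Nonempty := by
  obtain ⟨⟨z, hz⟩, hz1'⟩ := Subgroup.ne_bot_iff_exists_ne_one.mp hZ1
  have hz1 : z ≠ 1 := fun hc => hz1' (Subtype.ext hc)
  have hzK : (⟨z, hZK hz⟩ : K) ≠ 1 := fun hc => hz1 (congrArg Subtype.val hc)
  obtain ⟨α, hα⟩ := nc_sep (⟨z, hZK hz⟩ : K) hzK
  exact ⟨_, (mem_X_iff K Z _).mpr ⟨α, α.2, ⟨⟨z, hZK hz⟩, hz, hα⟩, rfl⟩⟩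

/-- a nonzero element of the span of `X` vanishing at `1` -/
theorem X_exists_ne_zero {τ : (L → ℂ) → (G → ℂ)} {R : (L → ℂ) → Finset (G → ℂ)}
    (hS : Cfsg.IsCoherenceSystem (Cfsg.inducedIrrAbove K ⊥) τ R)
    (T : Set (L → ℂ)) (hT : T ⊆ Cfsg.inducedIrrAbove K ⊥) (hTc : ∀ φ ∈ T, Cfsg.conjFun φ ∈ T)
    (hTne : T.Nonempty) :
    ∃ α ∈ Cfsg.zspanOn T {1}ᶜ, α ≠ 0 := by
  obtain ⟨χ, hχ⟩ := hTne
  refine ⟨χ - Cfsg.conjFun χ, ?_, ?_⟩
  · apply mem_zspanOn_one (zspan_sub (zspan_of_mem hχ) (zspan_of_mem (hTc χ hχ)))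
    rw [Pi.sub_apply, conjFun_one_of_isCharacter (hS.isCharacter χ (hT hχ)), sub_self]
  · intro h
    apply hS.conj_ne χ (hT hχ)
    exact (sub_eq_zero.mp h).symm

section Degrees

variable (d n : (L → ℂ) → ℕ)
  (hd : ∀ φ ∈ Cfsg.inducedIrrAbove K ⊥, φ 1 = (d φ : ℂ))
  (hn : ∀ φ ∈ Cfsg.inducedIrrAbove K ⊥, Cfsg.classInner φ φ = (n φ : ℂ))
  (hirrX : ∀ χ ∈ X K Z, Cfsg.IsIrrCharacter L χ)

include hn hirrX in
omit hK hZ in
theorem n_eq_one {φ : L → ℂ} (hφ : φ ∈ X K Z) : n φ = 1 := by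
  have h1 := hn φ hφ.1
  rw [h7_irr_norm (hirrX φ hφ)] at h1
  exact_mod_cast h1.symm

include hd in
omit hK hZ in
theorem d_conj {φ : L → ℂ} (hφ : φ ∈ Cfsg.inducedIrrAbove K ⊥) : d (Cfsg.conjFun φ) = d φ := by
  have h1 := hd _ (conj_mem_inducedIrrAbove K ⊥ hφ)
  have h2 := hd φ hφ
  unfold Cfsg.conjFun at h1
  rw [h2, Complex.conj_natCast] at h1
  exact_mod_cast h1.symm

variable (p m : ℕ) (hp : p.Prime) (hKp : Nat.card K = p ^ m)

include hd hp hKp in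
/-- degrees in `X` are `e * p ^ b` with `p ^ (2 b)` dividing `|K : Z|` -/
theorem d_shape (hZK : Z ≤ K) (hZc : ∀ z ∈ Z, ∀ k ∈ K, z * k = k * z) {φ : L → ℂ} (hφ : φ ∈ X K Z) :
    ∃ b : ℕ, d φ = K.index * p ^ b ∧ p ^ (2 * b) ∣ Z.relIndex K := by
  obtain ⟨θ, hθ, hNT, rfl⟩ := (mem_X_iff K Z φ).mp hφ
  obtain ⟨n₀, hn₀, hθ1, hdvd⟩ := irr_degree_dvd_card ⟨θ, hθ⟩
  change θ 1 = (n₀ : ℂ) at hθ1
  rw [hKp] at hdvd
  obtain ⟨b, -, rfl⟩ := (Nat.dvd_prime_pow hp).mp hdvd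
  refine ⟨b, deg_indFun K d θ (p ^ b) hθ1 (hd _ hφ.1), ?_⟩
  have hθ' : θ ∈ irrAbove K ⊥ := by
    refine ⟨hθ, ?_, ?_⟩
    · intro hc
      obtain ⟨a, -, hne⟩ := hNT
      apply hne
      rw [hc]
    · intro a ha
      have : a = 1 := Subtype.ext (Subgroup.mem_bot.mp ha)
      rw [this]
  have hb := degree_bound K ⊥ K Z bot_le hZK le_rfl
    (fun x hx y hy => by
      rw [Subgroup.mem_bot, hZc x hx y hy]
      group) hθ' (p ^ b) hθ1
  rw [Subgroup.relIndex_self, one_pow, one_mul] at hb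
  have h2 : Z.relIndex K ∣ p ^ m := by
    rw [← hKp]
    exact Subgroup.relIndex_dvd_card Z K
  obtain ⟨c, -, hc⟩ := (Nat.dvd_prime_pow hp).mp h2
  rw [hc] at hb ⊢
  rw [← pow_mul, mul_comm] at hb
  exact pow_dvd_pow p ((Nat.pow_le_pow_iff_right hp.one_lt).mp hb)

include hd hn hirrX in
/-- the sum of the squares of the degrees over `X` -/
theorem sum_sq_X [DecidableEq (L → ℂ)] (hZK : Z ≤ K) :
    ∑ φ ∈ (X_finite K Z).toFinset, d φ ^ 2 + K.index * Z.relIndex K = K.index * Nat.card K := by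
  have h1 := sum_FA K ⊥ d n hd hn
  have h2 := sum_FA K Z d n (fun φ h => hd φ (inducedIrrAbove_mono K bot_le h))
    (fun φ h => hn φ (inducedIrrAbove_mono K bot_le h))
  have hunion : (inducedIrrAbove_finite K ⊥).toFinset =
      (X_finite K Z).toFinset ∪ (inducedIrrAbove_finite K Z).toFinset := by
    ext φ
    simp only [Finset.mem_union, Set.Finite.mem_toFinset]
    constructor
    · intro h
      by_cases hz : φ ∈ Cfsg.inducedIrrAbove K Z
      · right; exact hz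
      · left; exact ⟨h, hz⟩
    · rintro (h | h)
      · exact h.1
      · exact inducedIrrAbove_mono K bot_le h
  have hdisj : Disjoint (X_finite K Z).toFinset (inducedIrrAbove_finite K Z).toFinset := by
    rw [Finset.disjoint_left]
    intro φ h1 h2
    rw [Set.Finite.mem_toFinset] at h1 h2
    exact h1.2 h2
  rw [hunion, Finset.sum_union hdisj, h2] at h1
  have h3 : ∑ φ ∈ (X_finite K Z).toFinset, ((d φ : ℝ) ^ 2 / (n φ : ℝ)) =
      ((∑ φ ∈ (X_finite K Z).toFinset, d φ ^ 2 : ℕ) : ℝ) := by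
    push_cast
    apply Finset.sum_congr rfl
    intro φ hφ
    rw [Set.Finite.mem_toFinset] at hφ
    rw [n_eq_one K Z n hn hirrX hφ, Nat.cast_one, div_one]
  rw [h3, Subgroup.relIndex_bot_left] at h1
  have h4 : ((∑ φ ∈ (X_finite K Z).toFinset, d φ ^ 2 : ℕ) : ℝ) +
      (K.index : ℝ) * (Z.relIndex K : ℝ) = (K.index : ℝ) * (Nat.card K : ℝ) := by
    linarith
  exact_mod_cast h4

include hp hKp in
omit [Fintype L] in
/-- the Frobenius condition makes the index of `K` prime to `p` -/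
theorem coprime_index [Finite L] (hH₁K : ⁅K, K⁆ < K)
    (hfrob : ∀ k ∈ K, k ∉ ⁅K, K⁆ → ∀ x : L, x * k * x⁻¹ * k⁻¹ ∈ ⁅K, K⁆ → x ∈ K) :
    Nat.Coprime K.index p := by
  have hN : (⁅K, K⁆ : Subgroup L).Normal := Subgroup.commutator_normal K K
  have h1 := frob_relIndex_dvd ⁅K, K⁆ K K hH₁K.le le_rfl
    (fun x hx y hy => by
      have := Subgroup.commutator_mem_commutator hx hy
      rwa [commutatorElement_def] at this) hfrob
  have h2 : (⁅K, K⁆ : Subgroup L).relIndex K ∣ p ^ m := by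
    rw [← hKp]
    exact Subgroup.relIndex_dvd_card _ K
  obtain ⟨j, -, hj⟩ := (Nat.dvd_prime_pow hp).mp h2
  have hj0 : j ≠ 0 := by
    intro h0
    rw [h0, pow_zero, Subgroup.relIndex_eq_one] at hj
    exact (not_le_of_gt hH₁K) hj
  rw [hj] at h1
  rw [Nat.coprime_comm, Nat.Prime.coprime_iff_not_dvd hp]
  intro hpe
  have h3 : p ∣ p ^ j - 1 := hpe.trans h1
  have h4 : p ∣ p ^ j := dvd_pow_self p hj0
  have h5 : 1 ≤ p ^ j := Nat.pow_pos hp.pos
  have h6 : p ∣ p ^ j - (p ^ j - 1) := Nat.dvd_sub h4 h3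
  have h7 : p ^ j - (p ^ j - 1) = 1 := by omega
  rw [h7] at h6
  exact hp.one_lt.ne' (Nat.dvd_one.mp h6)

include hp hKp in
omit [Fintype L] hK in
theorem three_le [Finite L] (hodd : Odd (Nat.card L)) (hK1 : K ≠ ⊥) : 3 ≤ p := by
  have hm : m ≠ 0 := by
    intro h0
    rw [h0, pow_zero] at hKp
    exact hK1 (Subgroup.card_eq_one.mp hKp)
  have h1 : p ∣ Nat.card L := by
    have : p ∣ Nat.card K := by
      rw [hKp]
      exact dvd_pow_self p hm
    exact this.trans (Subgroup.card_subgroup_dvd_card K)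
  have h2 : Odd p := Odd.of_dvd_nat hodd h1
  have h3 := hp.two_le
  obtain ⟨k, hk⟩ := h2
  omega

end Degrees

section Main

variable {τ : (L → ℂ) → (G → ℂ)} {R : (L → ℂ) → Finset (G → ℂ)}
  (hS : Cfsg.IsCoherenceSystem (Cfsg.inducedIrrAbove K ⊥) τ R)
  (hirrX : ∀ χ ∈ X K Z, Cfsg.IsIrrCharacter L χ)

include hS hirrX in
/-- coherence of `S ∖ S(Z)` when `K` is a `p`-group -/
theorem coherent_pgroup (hodd : Odd (Nat.card L)) (hH₁K : ⁅K, K⁆ < K)
    (hfrob : ∀ k ∈ K, k ∉ ⁅K, K⁆ → ∀ x : L, x * k * x⁻¹ * k⁻¹ ∈ ⁅K, K⁆ → x ∈ K)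
    (hZ1 : Z ≠ ⊥) (hZK : Z ≤ K) (hZc : ∀ z ∈ Z, ∀ k ∈ K, z * k = k * z)
    (p m : ℕ) (hp : p.Prime) (hKp : Nat.card K = p ^ m) :
    Cfsg.IsCoherent (X K Z) {1}ᶜ τ := by
  classical
  obtain ⟨d, n, hd, hn⟩ := exists_deg_norm _ hS.isCharacter
  obtain ⟨FX, hFX⟩ : ∃ FX : Finset (L → ℂ), FX = (X_finite K Z).toFinset := ⟨_, rfl⟩
  have hFXmem : ∀ φ, φ ∈ FX ↔ φ ∈ X K Z := by
    intro φ
    rw [hFX, Set.Finite.mem_toFinset]
  have hb' : ∀ φ : L → ℂ, ∃ b : ℕ, φ ∈ X K Z →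
      (d φ = K.index * p ^ b ∧ p ^ (2 * b) ∣ Z.relIndex K) := by
    intro φ
    by_cases h : φ ∈ X K Z
    · obtain ⟨b, hb⟩ := d_shape K Z d hd p m hp hKp hZK hZc h
      exact ⟨b, fun _ => hb⟩
    · exact ⟨0, fun h' => absurd h' h⟩
  choose b hb using hb'
  have hcop := coprime_index K p m hp hKp hH₁K hfrob
  have hK1 : K ≠ ⊥ := by
    intro h
    rw [h] at hH₁K
    exact not_lt_bot hH₁K
  have hp3 := three_le K p m hp hKp hodd hK1
  have he : 0 < K.index := Nat.pos_of_ne_zero Subgroup.index_ne_zero_of_finite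
  have hsum := sum_sq_X K Z d n hd hn hirrX hZK
  rw [← hFX] at hsum
  obtain ⟨χ₀, hχ₀⟩ := X_nonempty K Z hZ1 hZK
  obtain ⟨χ₁, hχ₁F, hmin⟩ := Finset.exists_min_image FX d ⟨χ₀, (hFXmem _).mpr hχ₀⟩
  have hχ₁X := (hFXmem _).mp hχ₁F
  have hkey : ∀ χ ∈ X K Z, d χ₁ < d χ →
      2 * d χ * d χ₁ < ∑ φ ∈ FX.filter (fun φ => d φ < d χ), d φ ^ 2 := by
    intro χ hχ hlt
    apply arith_layers FX d K.index p hp hp3 hcop he b
      (fun φ hφ => (hb φ ((hFXmem φ).mp hφ)).1) χ χ₁ ((hFXmem _).mpr hχ) hχ₁F hlt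
    have h1 := (hb χ hχ).2
    have h2 : p ^ (2 * b χ) ∣ K.index * Nat.card K :=
      (h1.trans (Subgroup.relIndex_dvd_card Z K)).mul_left _
    have h3 : p ^ (2 * b χ) ∣ K.index * Z.relIndex K := h1.mul_left _
    rw [← hsum] at h2
    exact (Nat.dvd_add_iff_left h3).mpr h2
  have hind : ∀ (N : ℕ) (T : Finset (L → ℂ)), T.card = N → (∀ φ ∈ T, φ ∈ X K Z) →
      (∀ φ ∈ T, Cfsg.conjFun φ ∈ T) → (∀ ψ ∈ T, ∀ φ ∈ X K Z, d φ < d ψ → φ ∈ T) →
      (∀ φ ∈ X K Z, d φ = d χ₁ → φ ∈ T) → Cfsg.IsCoherent (↑T : Set (L → ℂ)) {1}ᶜ τ := by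
    intro N
    induction N using Nat.strong_induction_on with
    | _ N ih =>
    intro T hcard hTX hTc hTdown hTmin
    have hχ₁T : χ₁ ∈ T := hTmin χ₁ hχ₁X rfl
    have hTS : (↑T : Set (L → ℂ)) ⊆ Cfsg.inducedIrrAbove K ⊥ := fun φ hφ => (hTX φ hφ).1
    by_cases hall : ∀ ψ ∈ T, d ψ = d χ₁
    · have hsub := coherenceSystem_subset hS hTS ⟨χ₁, hχ₁T⟩ (fun χ h => hTc χ h)
      apply coherent_of_equal_degrees hsub
      intro φ hφ ψ hψ
      rw [hd φ (hTS hφ), hd ψ (hTS hψ), hall φ hφ, hall ψ hψ]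
    · push Not at hall
      obtain ⟨ψ₀, hψ₀T, hψ₀⟩ := hall
      obtain ⟨χ, hχT, hmax⟩ := Finset.exists_max_image T d ⟨χ₁, hχ₁T⟩
      have hχX := hTX χ hχT
      have hlt : d χ₁ < d χ := by
        have h1 := hmin ψ₀ ((hFXmem _).mpr (hTX ψ₀ hψ₀T))
        have h2 := hmax ψ₀ hψ₀T
        omega
      have hdc : d (Cfsg.conjFun χ) = d χ := d_conj K d hd hχX.1
      obtain ⟨T', hT'⟩ : ∃ T' : Finset (L → ℂ), T' = (T.erase χ).erase (Cfsg.conjFun χ) :=
        ⟨_, rfl⟩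
      have hmemT' : ∀ φ, φ ∈ T' ↔ φ ∈ T ∧ φ ≠ χ ∧ φ ≠ Cfsg.conjFun χ := by
        intro φ
        rw [hT', Finset.mem_erase, Finset.mem_erase]
        tauto
      have hcard' : T'.card < N := by
        rw [← hcard, hT']
        calc ((T.erase χ).erase (Cfsg.conjFun χ)).card ≤ (T.erase χ).card :=
              Finset.card_erase_le
          _ < T.card := Finset.card_erase_lt_of_mem hχT
      have hT'c : ∀ φ ∈ T', Cfsg.conjFun φ ∈ T' := by
        intro φ hφ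
        obtain ⟨h1, h2, h3⟩ := (hmemT' φ).mp hφ
        rw [hmemT']
        refine ⟨hTc φ h1, ?_, ?_⟩
        · intro hc
          apply h3
          rw [← hc, conjFun_conjFun]
        · intro hc
          apply h2
          have := congrArg Cfsg.conjFun hc
          rwa [conjFun_conjFun, conjFun_conjFun] at this
      have hcoh' : Cfsg.IsCoherent (↑T' : Set (L → ℂ)) {1}ᶜ τ := by
        apply ih T'.card hcard' T' rfl
        · intro φ hφ
          exact hTX φ ((hmemT' φ).mp hφ).1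
        · exact hT'c
        · intro ψ hψ φ hφ hlt'
          obtain ⟨h1, -, -⟩ := (hmemT' ψ).mp hψ
          rw [hmemT']
          have h4 := hmax ψ h1
          refine ⟨hTdown ψ h1 φ hφ hlt', ?_, ?_⟩
          · rintro rfl
            omega
          · rintro rfl
            omega
        · intro φ hφ hdeg
          rw [hmemT']
          refine ⟨hTmin φ hφ hdeg, ?_, ?_⟩
          · rintro rfl
            omega
          · rintro rfl
            omega
      have hset : (↑T : Set (L → ℂ)) = ↑T' ∪ {χ, Cfsg.conjFun χ} := by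
        ext φ
        simp only [Set.mem_union, Finset.mem_coe, Set.mem_insert_iff, Set.mem_singleton_iff,
          hmemT']
        constructor
        · intro h
          by_cases h1 : φ = χ
          · right; left; exact h1
          · by_cases h2 : φ = Cfsg.conjFun χ
            · right; right; exact h2
            · left; exact ⟨h, h1, h2⟩
        · rintro (⟨h, -, -⟩ | rfl | rfl)
          · exact h
          · exact hχT
          · exact hTc _ hχT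
      rw [hset]
      have hχ₁T' : χ₁ ∈ T' := by
        rw [hmemT']
        refine ⟨hχ₁T, ?_, ?_⟩
        · rintro rfl
          omega
        · intro hc
          rw [hc] at hlt
          omega
      apply coherent_extend hS d n hd hn T'
        (fun φ hφ => (hTX φ ((hmemT' φ).mp hφ).1).1) hT'c hcoh' χ hχX.1
        (fun h => ((hmemT' χ).mp h).2.1 rfl) (fun h => ((hmemT' _).mp h).2.2 rfl) χ₁ hχ₁T'
      · -- divisibility
        rw [(hb χ hχX).1, (hb χ₁ hχ₁X).1]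
        have h1 : K.index * p ^ b χ₁ < K.index * p ^ b χ := by
          rw [← (hb χ hχX).1, ← (hb χ₁ hχ₁X).1]
          exact hlt
        have h2 : p ^ b χ₁ < p ^ b χ := Nat.lt_of_mul_lt_mul_left h1
        have h3 : b χ₁ ≤ b χ := ((Nat.pow_lt_pow_iff_right hp.one_lt).mp h2).le
        exact Nat.mul_dvd_mul_left _ (pow_dvd_pow p h3)
      · -- the inequality
        have h1 := hkey χ hχX hlt
        have h2 : ∑ φ ∈ FX.filter (fun φ => d φ < d χ), d φ ^ 2 ≤ ∑ φ ∈ T', d φ ^ 2 := by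
          apply Finset.sum_le_sum_of_subset_of_nonneg
          · intro φ hφ
            obtain ⟨h3, h4⟩ := Finset.mem_filter.mp hφ
            rw [hmemT']
            refine ⟨hTdown χ hχT φ ((hFXmem φ).mp h3) h4, ?_, ?_⟩
            · rintro rfl
              omega
            · rintro rfl
              omega
          · intro φ _ _
            exact Nat.zero_le _
        have h3 : ∑ φ ∈ T', ((d φ : ℝ) ^ 2 / (n φ : ℝ)) = ((∑ φ ∈ T', d φ ^ 2 : ℕ) : ℝ) := by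
          push_cast
          apply Finset.sum_congr rfl
          intro φ hφ
          rw [n_eq_one K Z n hn hirrX (hTX φ ((hmemT' φ).mp hφ).1), Nat.cast_one, div_one]
        rw [h3]
        have h4 : 2 * d χ * d χ₁ < ∑ φ ∈ T', d φ ^ 2 := lt_of_lt_of_le h1 h2
        exact_mod_cast h4
  have hfinal := hind FX.card FX rfl (fun φ hφ => (hFXmem φ).mp hφ)
    (fun φ hφ => (hFXmem _).mpr (conj_mem_X K Z ((hFXmem φ).mp hφ)))
    (fun ψ _ φ hφ _ => (hFXmem φ).mpr hφ) (fun φ hφ _ => (hFXmem φ).mpr hφ)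
  have hcoe : (↑FX : Set (L → ℂ)) = X K Z := by
    ext φ
    exact hFXmem φ
  rw [hcoe] at hfinal
  exact hfinal

end Main

end Cfsg.Agent.Lib.Helper29.IC
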