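import Mathlib
import Cfsg.Prelude.Def_ChevStructure
import Cfsg.Prelude.Def_ChevE7
import Cfsg.Agent.Lib.helper8.ChevIE7n
import Cfsg.Agent.Lib.helper8.ChevIE7a
import Cfsg.Agent.Lib.helper14.INVNCb
import Cfsg.Agent.Lib.helper14.INVNCa
import Cfsg.Agent.Lib.helper14.INVGT3

/-!
# Project INVE7 (S2181), piece NCF : the `B`-conjugates of the five representatives
-/

set_option autoImplicit false
set_option linter.unusedVariables false

namespace Cfsg.Agent.Lib.helper8.E7I

open Cfsg.Lie Cfsg.Lie.ChevalleyDatum Cfsg.Agent.Lib.helper8 Cfsg.Agent.Lib.helper14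
  Cfsg.Agent.Lib.helper14.INV

universe u

variable {F : Type u} [Field F]

/-- the side conditions of `nc_form_prod` for the root `r` of the `k`-th representative -/
def e7ncfChk (k r : ℕ) : Bool :=
  decide (chevE7.IsPosRoot r) &&
  ((e7ncUpF k r).all fun s => decide (chevE7.IsPosRoot s) && decide (r < s)) &&
  decide ((r :: e7ncUpF k r).Sublist (e7ncL.getD k [])) &&
  f4cCommChk chevE7 (r :: e7ncUpF k r) 2 &&
  f4cStabChk chevE7 (r :: e7ncUpF k r) 2 &&
  ((e7Reps.getD k []).all fun r' => decide (r' = r) || !((e7ncUpF k r).contains r'))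

theorem e7ncf_chk_spec (k r : ℕ) (h : e7ncfChk k r = true) :
    chevE7.IsPosRoot r ∧ (∀ s ∈ e7ncUpF k r, chevE7.IsPosRoot s ∧ r < s) ∧
      (r :: e7ncUpF k r).Sublist (e7ncL.getD k []) ∧
      f4cCommChk chevE7 (r :: e7ncUpF k r) 2 = true ∧ f4cStabChk chevE7 (r :: e7ncUpF k r) 2 = true ∧
      ∀ r' ∈ e7Reps.getD k [], r' ≠ r → r' ∉ e7ncUpF k r := by
  unfold e7ncfChk at h
  simp only [Bool.and_eq_true, decide_eq_true_eq, List.all_eq_true, Bool.or_eq_true,
    Bool.not_eq_true'] at h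
  obtain ⟨⟨⟨⟨⟨a1, a2⟩, a3⟩, a4⟩, a5⟩, a6⟩ := h
  refine ⟨a1, a2, a3, a4, a5, ?_⟩
  intro r' hr' hne hmem
  rcases a6 r' hr' with h | h
  · exact hne h
  · rw [List.contains_iff_mem.mpr hmem] at h
    exact Bool.noConfusion h

theorem e7ncf_chk_0 : e7ncfChk 0 125 = true := by decide +kernel
theorem e7ncf_chk_1a : e7ncfChk 1 118 = true := by decide +kernel
theorem e7ncf_chk_1b : e7ncfChk 1 121 = true := by decide +kernel
theorem e7ncf_chk_2a : e7ncfChk 2 114 = true := by decide +kernel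
theorem e7ncf_chk_2b : e7ncfChk 2 116 = true := by decide +kernel
theorem e7ncf_chk_2c : e7ncfChk 2 119 = true := by decide +kernel
theorem e7ncf_chk_3a : e7ncfChk 3 92 = true := by decide +kernel
theorem e7ncf_chk_3b : e7ncfChk 3 107 = true := by decide +kernel
theorem e7ncf_chk_3c : e7ncfChk 3 111 = true := by decide +kernel
theorem e7ncf_chk_4a : e7ncfChk 4 92 = true := by decide +kernel
theorem e7ncf_chk_4b : e7ncfChk 4 107 = true := by decide +kernel
theorem e7ncf_chk_4c : e7ncfChk 4 111 = true := by decide +kernel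
theorem e7ncf_chk_4d : e7ncfChk 4 119 = true := by decide +kernel

theorem e7ncf_chk_all : ∀ k < 5, ∀ r ∈ e7Reps.getD k [], e7ncfChk k r = true := by
  intro k hk r hr
  interval_cases k
  · have : r = 125 := by simpa [e7Reps] using hr
    subst this; exact e7ncf_chk_0
  · have : r = 118 ∨ r = 121 := by simpa [e7Reps] using hr
    rcases this with rfl | rfl
    · exact e7ncf_chk_1a
    · exact e7ncf_chk_1b
  · have : r = 114 ∨ r = 116 ∨ r = 119 := by simpa [e7Reps] using hr
    rcases this with rfl | rfl | rfl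
    · exact e7ncf_chk_2a
    · exact e7ncf_chk_2b
    · exact e7ncf_chk_2c
  · have : r = 92 ∨ r = 107 ∨ r = 111 := by simpa [e7Reps] using hr
    rcases this with rfl | rfl | rfl
    · exact e7ncf_chk_3a
    · exact e7ncf_chk_3b
    · exact e7ncf_chk_3c
  · have : r = 92 ∨ r = 107 ∨ r = 111 ∨ r = 119 := by simpa [e7Reps] using hr
    rcases this with rfl | rfl | rfl | rfl
    · exact e7ncf_chk_4a
    · exact e7ncf_chk_4b
    · exact e7ncf_chk_4c
    · exact e7ncf_chk_4d

theorem e7ncf_nodup_L : ∀ k < 5, (e7ncL.getD k []).Nodup := by decide +kernel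

theorem e7ncf_nodup_R : ∀ k < 5, (e7Reps.getD k []).Nodup := by decide +kernel

theorem e7ncf_comm_L0 : f4cCommChk chevE7 (e7ncL.getD 0 []) 2 = true := by decide +kernel
theorem e7ncf_comm_L1 : f4cCommChk chevE7 (e7ncL.getD 1 []) 2 = true := by decide +kernel
theorem e7ncf_comm_L2 : f4cCommChk chevE7 (e7ncL.getD 2 []) 2 = true := by decide +kernel
theorem e7ncf_comm_L3 : f4cCommChk chevE7 (e7ncL.getD 3 []) 2 = true := by decide +kernel
theorem e7ncf_comm_L4 : f4cCommChk chevE7 (e7ncL.getD 4 []) 2 = true := by decide +kernel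

theorem e7ncf_comm_L : ∀ k < 5, f4cCommChk chevE7 (e7ncL.getD k []) 2 = true := by
  intro k hk
  interval_cases k
  · exact e7ncf_comm_L0
  · exact e7ncf_comm_L1
  · exact e7ncf_comm_L2
  · exact e7ncf_comm_L3
  · exact e7ncf_comm_L4

theorem e7nc_form [CharP F 2] (hB : H8Base.{u} chevE7) (k : ℕ) (hk : k < 5)
    (b : GL chevE7.Idx F) (hb : b ∈ chevE7.borelSubgroup F) :
    ∃ c : ℕ → F, (∀ r ∈ e7Reps.getD k [], c r ≠ 0) ∧
      b * w1 chevE7 hB (e7Reps.getD k []) * b⁻¹ = f4cLW chevE7 hB (e7ncL.getD k []) c := by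
  have hC : H8CommAll.{u} chevE7 := h8commAll chevE7 h8e7_mem
  obtain ⟨hO, hO2⟩ := h8ord_all chevE7 h8e7_mem
  have hm : (((2 : ℕ) : ℤ) : F) = 0 := by
    have := CharP.cast_eq_zero F 2
    exact_mod_cast this
  exact nc_form_prod chevE7 hB hC hO hO2 (cfMax_all chevE7 h8e7_mem) 2 hm (e7ncL.getD k [])
    (e7ncf_nodup_L k hk) (e7ncf_comm_L k hk) (e7ncUpF k) (e7Reps.getD k []) (e7ncf_nodup_R k hk)
    (fun r hr => e7ncf_chk_spec k r (e7ncf_chk_all k hk r hr)) b hb

end Cfsg.Agent.Lib.helper8.E7I
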