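import Mathlib
import Cfsg.Prelude.Def_ChevStructure
import Cfsg.Prelude.Def_ChevE7
import Cfsg.Agent.Lib.helper8.ChevIE7n
import Cfsg.Agent.Lib.helper8.ChevIE7a
import Cfsg.Agent.Lib.helper14.INVNCb
import Cfsg.Agent.Lib.helper14.INVNCa
import Cfsg.Agent.Lib.helper14.INVGT3

/-!
# Project INVE7 (S2181), piece NCW : the witness words cut out the up-closures
-/

set_option autoImplicit false
set_option linter.unusedVariables false

namespace Cfsg.Agent.Lib.helper8.E7I

open Cfsg.Lie Cfsg.Lie.ChevalleyDatum Cfsg.Agent.Lib.helper8 Cfsg.Agent.Lib.helper14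
  Cfsg.Agent.Lib.helper14.INV

universe u

variable {F : Type u} [Field F]

theorem e7nc_fil : ∀ k < 5,
    (h8Lk chevE7 0).filter (fun r => decide (r ∈ e7ncL.getD k [])) = e7ncL.getD k [] := by
  decide +kernel

theorem e7nc_ws_rank : ∀ k < 5, ∀ v ∈ e7ncWs.getD k [], ∀ i ∈ v, i < chevE7.rank := by
  decide +kernel

/-- the roots of the up-closures are roots -/
theorem e7ncw_L_lt : ∀ k < 5, ∀ r ∈ e7ncL.getD k [], r < 126 := by
  decide +kernel

/-- Boolean form of `e7nc_ws_pos`, through the fast evaluator -/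
theorem e7ncw_pos_chk : ∀ k < 5,
    ((e7ncWs.getD k []).all fun v => (e7ncL.getD k []).all fun r => decide (63 ≤ h8e7sW v r)) = true := by
  decide +kernel

/-- Boolean form of `e7nc_ws_cl`, through the fast evaluator -/
theorem e7ncw_cl_chk : ∀ k < 5,
    ((List.range 126).all fun s => (e7ncL.getD k []).contains s ||
      (e7ncWs.getD k []).any fun v => decide (h8e7sW v s < 63)) = true := by
  decide +kernel

theorem e7nc_ws_pos : ∀ k < 5, ∀ v ∈ e7ncWs.getD k [], ∀ r ∈ e7ncL.getD k [],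
    chevE7.IsPosRoot (h8sW chevE7 v r) := by
  intro k hk v hv r hr
  have hw : ∀ i ∈ v, i < 7 := e7nc_ws_rank k hk v hv
  have hr' : r < 126 := e7ncw_L_lt k hk r hr
  have h := e7ncw_pos_chk k hk
  rw [List.all_eq_true] at h
  have h1 := h v hv
  rw [List.all_eq_true] at h1
  have h2 := of_decide_eq_true (h1 r hr)
  rw [h8e7sW_eq' v hw r hr']
  exact (h8e7_pos_iff' _ (h8e7sW_lt v hw r hr')).mpr h2

theorem e7nc_ws_cl : ∀ k < 5, ∀ s < chevE7.nroots,
    (∀ v ∈ e7ncWs.getD k [], chevE7.IsPosRoot (h8sW chevE7 v s)) → s ∈ e7ncL.getD k [] := by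
  intro k hk s hs hall
  have hs' : s < 126 := hs
  have h := e7ncw_cl_chk k hk
  rw [List.all_eq_true] at h
  have h1 := h s (List.mem_range.mpr hs')
  rw [Bool.or_eq_true] at h1
  rcases h1 with h1 | h1
  · exact List.contains_iff_mem.mp h1
  · exfalso
    rw [List.any_eq_true] at h1
    obtain ⟨v, hv, h2⟩ := h1
    have h3 : h8e7sW v s < 63 := of_decide_eq_true h2
    have hw : ∀ i ∈ v, i < 7 := e7nc_ws_rank k hk v hv
    have h4 := hall v hv
    rw [h8e7sW_eq' v hw s hs'] at h4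
    have h5 := (h8e7_pos_iff' _ (h8e7sW_lt v hw s hs')).mp h4
    omega

end Cfsg.Agent.Lib.helper8.E7I
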