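import Mathlib
import Cfsg.Prelude.Def_ChevStructure
import Cfsg.Agent.Lib.Helper12.INVE8.Defs
import Cfsg.Agent.Lib.helper14.INVGT4
import Cfsg.Agent.Lib.helper14.INVGT3
import Cfsg.Agent.Lib.helper14.INVNCa
import Cfsg.Agent.Lib.helper14.INVNCb
import Cfsg.Agent.Lib.helper14.ChevFiltAll

/-!
# Project INVE8 (S2176), piece NCFORM, part 0 : the Boolean side conditions of `nc_form_prod`
-/

set_option autoImplicit false
set_option linter.unusedVariables false
set_option maxRecDepth 100000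

namespace Cfsg.Agent.Lib.Helper12.INVE8

open Cfsg.Lie Cfsg.Lie.ChevalleyDatum Cfsg.Agent.Lib.helper8 Cfsg.Agent.Lib.helper14
  Cfsg.Agent.Lib.helper14.INV

universe u

variable {F : Type u} [Field F]

theorem e8ncform_mem : chevE8 ∈ [chevG2, chevB2, chevD4, chevF4, chevE6, chevE7, chevE8] := by simp

/-- the side conditions of `nc_form_prod` for the root `r` of the `k`-th representative -/
def e8ncformChk (k r : ℕ) : Bool :=
  decide (chevE8.IsPosRoot r) &&
  ((e8Up r).all fun s => decide (chevE8.IsPosRoot s) && decide (r < s)) &&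
  decide ((r :: e8Up r).Sublist (e8L.getD k [])) &&
  f4cCommChk chevE8 (r :: e8Up r) 2 &&
  f4cStabChk chevE8 (r :: e8Up r) 2 &&
  ((e8Reps.getD k []).all fun r' => decide (r' = r) || !((e8Up r).contains r'))

theorem e8ncform_chk_spec (k r : ℕ) (h : e8ncformChk k r = true) :
    chevE8.IsPosRoot r ∧ (∀ s ∈ e8Up r, chevE8.IsPosRoot s ∧ r < s) ∧
      (r :: e8Up r).Sublist (e8L.getD k []) ∧
      f4cCommChk chevE8 (r :: e8Up r) 2 = true ∧ f4cStabChk chevE8 (r :: e8Up r) 2 = true ∧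
      ∀ r' ∈ e8Reps.getD k [], r' ≠ r → r' ∉ e8Up r := by
  unfold e8ncformChk at h
  simp only [Bool.and_eq_true, decide_eq_true_eq, List.all_eq_true, Bool.or_eq_true,
    Bool.not_eq_true'] at h
  obtain ⟨⟨⟨⟨⟨a1, a2⟩, a3⟩, a4⟩, a5⟩, a6⟩ := h
  refine ⟨a1, a2, a3, a4, a5, ?_⟩
  intro r' hr' hne hmem
  rcases a6 r' hr' with h | h
  · exact hne h
  · rw [List.contains_iff_mem.mpr hmem] at h
    exact Bool.noConfusion h

end Cfsg.Agent.Lib.Helper12.INVE8
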