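import Mathlib
import Cfsg.Prelude.Def_ChevStructure
import Cfsg.Agent.Lib.Helper12.INVE8.Defs
import Cfsg.Agent.Lib.helper14.INVGT4
import Cfsg.Agent.Lib.helper14.INVGT3
import Cfsg.Agent.Lib.helper14.INVNCa
import Cfsg.Agent.Lib.helper14.INVNCb
import Cfsg.Agent.Lib.helper14.ChevFiltAll
import Cfsg.Agent.Lib.Helper29.INVE8NCFORM0

/-!
# Project INVE8 (S2176), piece NCFORM, part a : kernel checks
-/

set_option autoImplicit false
set_option linter.unusedVariables false
set_option maxRecDepth 100000

namespace Cfsg.Agent.Lib.Helper12.INVE8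

open Cfsg.Lie Cfsg.Lie.ChevalleyDatum Cfsg.Agent.Lib.helper8 Cfsg.Agent.Lib.helper14
  Cfsg.Agent.Lib.helper14.INV

universe u

variable {F : Type u} [Field F]

theorem e8ncform_chk_0 : e8ncformChk 0 239 = true := by decide +kernel
theorem e8ncform_chk_1a : e8ncformChk 1 232 = true := by decide +kernel
theorem e8ncform_chk_1b : e8ncformChk 1 233 = true := by decide +kernel
theorem e8ncform_chk_2a : e8ncformChk 2 228 = true := by decide +kernel
theorem e8ncform_chk_2b : e8ncformChk 2 222 = true := by decide +kernel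
theorem e8ncform_chk_2c : e8ncformChk 2 218 = true := by decide +kernel

end Cfsg.Agent.Lib.Helper12.INVE8
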