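import Mathlib
import Cfsg.Prelude.Def_ChevStructure
import Cfsg.Agent.Lib.Helper12.INVE8.Defs
import Cfsg.Agent.Lib.helper14.INVGT4
import Cfsg.Agent.Lib.helper14.INVGT3
import Cfsg.Agent.Lib.helper14.INVNCa
import Cfsg.Agent.Lib.helper14.INVNCb
import Cfsg.Agent.Lib.helper14.ChevFiltAll
import Cfsg.Agent.Lib.Helper29.INVE8NCFORM0

/-!
# Project INVE8 (S2176), piece NCFORM, part b : kernel checks
-/

set_option autoImplicit false
set_option linter.unusedVariables false
set_option maxRecDepth 100000

namespace Cfsg.Agent.Lib.Helper12.INVE8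

open Cfsg.Lie Cfsg.Lie.ChevalleyDatum Cfsg.Agent.Lib.helper8 Cfsg.Agent.Lib.helper14
  Cfsg.Agent.Lib.helper14.INV

universe u

variable {F : Type u} [Field F]

theorem e8ncform_chk_3a : e8ncformChk 3 226 = true := by decide +kernel
theorem e8ncform_chk_3b : e8ncformChk 3 220 = true := by decide +kernel
theorem e8ncform_comm_L0 : f4cCommChk chevE8 (e8L.getD 0 []) 2 = true := by decide +kernel
theorem e8ncform_comm_L1 : f4cCommChk chevE8 (e8L.getD 1 []) 2 = true := by decide +kernel

end Cfsg.Agent.Lib.Helper12.INVE8
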