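import Mathlib
import Cfsg.Prelude.Def_ChevStructure
import Cfsg.Agent.Lib.Helper12.INVE8.Defs
import Cfsg.Agent.Lib.helper14.INVGT4
import Cfsg.Agent.Lib.helper14.INVGT3
import Cfsg.Agent.Lib.helper14.INVNCa
import Cfsg.Agent.Lib.helper14.INVNCb
import Cfsg.Agent.Lib.helper14.ChevFiltAll
import Cfsg.Agent.Lib.Helper29.INVE8NCFORMa
import Cfsg.Agent.Lib.Helper29.INVE8NCFORMb
import Cfsg.Agent.Lib.Helper29.INVE8NCFORMc

/-!
# Project INVE8 (S2176), piece NCFORM : the `B`-conjugates of the four representatives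
-/

set_option autoImplicit false
set_option linter.unusedVariables false
set_option maxRecDepth 100000

namespace Cfsg.Agent.Lib.Helper12.INVE8

open Cfsg.Lie Cfsg.Lie.ChevalleyDatum Cfsg.Agent.Lib.helper8 Cfsg.Agent.Lib.helper14
  Cfsg.Agent.Lib.helper14.INV

universe u

variable {F : Type u} [Field F]

theorem e8ncform_chk_all : ∀ k < 4, ∀ r ∈ e8Reps.getD k [], e8ncformChk k r = true := by
  intro k hk r hr
  interval_cases k
  · have : r = 239 := by simpa [e8Reps] using hr
    subst this; exact e8ncform_chk_0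
  · have : r = 232 ∨ r = 233 := by simpa [e8Reps] using hr
    rcases this with rfl | rfl
    · exact e8ncform_chk_1a
    · exact e8ncform_chk_1b
  · have : r = 228 ∨ r = 222 ∨ r = 218 := by simpa [e8Reps] using hr
    rcases this with rfl | rfl | rfl
    · exact e8ncform_chk_2a
    · exact e8ncform_chk_2b
    · exact e8ncform_chk_2c
  · have : r = 226 ∨ r = 220 ∨ r = 213 ∨ r = 216 := by simpa [e8Reps] using hr
    rcases this with rfl | rfl | rfl | rfl
    · exact e8ncform_chk_3a
    · exact e8ncform_chk_3b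
    · exact e8ncform_chk_3c
    · exact e8ncform_chk_3d

theorem e8ncform_nodup_L : ∀ k < 4, (e8L.getD k []).Nodup := by decide +kernel

theorem e8ncform_nodup_R : ∀ k < 4, (e8Reps.getD k []).Nodup := by decide +kernel


theorem e8ncform_comm_L : ∀ k < 4, f4cCommChk chevE8 (e8L.getD k []) 2 = true := by
  intro k hk
  interval_cases k
  · exact e8ncform_comm_L0
  · exact e8ncform_comm_L1
  · exact e8ncform_comm_L2
  · exact e8ncform_comm_L3

/-- NCFORM : the `B`-conjugates of the `k`-th representative are words on `e8L[k]` with non-vanishing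
coefficients at the roots of the representative -/
theorem e8_nc_form [CharP F 2] (hB : H8Base.{u} chevE8) (k : ℕ) (hk : k < 4)
    (b : GL chevE8.Idx F) (hb : b ∈ chevE8.borelSubgroup F) :
    ∃ c : ℕ → F, (∀ r ∈ e8Reps.getD k [], c r ≠ 0) ∧
      b * w1 chevE8 hB (e8Reps.getD k []) * b⁻¹ = f4cLW chevE8 hB (e8L.getD k []) c := by
  have hC : H8CommAll.{u} chevE8 := h8commAll chevE8 e8ncform_mem
  obtain ⟨hO, hO2⟩ := h8ord_all chevE8 e8ncform_mem
  have hm : (((2 : ℕ) : ℤ) : F) = 0 := by
    have := CharP.cast_eq_zero F 2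
    exact_mod_cast this
  exact nc_form_prod chevE8 hB hC hO hO2 (cfMax_all chevE8 e8ncform_mem) 2 hm (e8L.getD k [])
    (e8ncform_nodup_L k hk) (e8ncform_comm_L k hk) e8Up (e8Reps.getD k []) (e8ncform_nodup_R k hk)
    (fun r hr => e8ncform_chk_spec k r (e8ncform_chk_all k hk r hr)) b hb

end Cfsg.Agent.Lib.Helper12.INVE8
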