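import Mathlib
import Cfsg.Prelude.Def_ChevStructure
import Cfsg.Agent.Lib.Helper12.INVE8.Defs
import Cfsg.Agent.Lib.Helper12.INVE8.FS
import Cfsg.Agent.Lib.helper14.INVGT4
import Cfsg.Agent.Lib.helper14.INVGT3
import Cfsg.Agent.Lib.helper14.INVNCa
import Cfsg.Agent.Lib.helper14.INVNCb

/-!
# Project INVE8 (S2176), piece NCWS : the lists `e8L[k]` are increasing lists of positive roots, cut out by the
witness words `e8Ws[k]`
-/

set_option autoImplicit false
set_option linter.unusedVariables false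
set_option maxRecDepth 100000

namespace Cfsg.Agent.Lib.Helper12.INVE8

open Cfsg.Lie Cfsg.Lie.ChevalleyDatum Cfsg.Agent.Lib.helper8 Cfsg.Agent.Lib.helper14
  Cfsg.Agent.Lib.helper14.INV

universe u

variable {F : Type u} [Field F]

theorem e8ncws_mem : chevE8 ∈ [chevG2, chevB2, chevD4, chevF4, chevE6, chevE7, chevE8] := by simp

theorem e8ncws_fil_all : ∀ k < 4,
    (h8Lk chevE8 0).filter (fun r => decide (r ∈ e8L.getD k [])) = e8L.getD k [] := by
  decide +kernel

/-- NCFIL : the lists `e8L[k]` are increasing lists of positive roots -/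
theorem e8_nc_fil (k : ℕ) (hk : k < 4) :
    (h8Lk chevE8 0).filter (fun r => decide (r ∈ e8L.getD k [])) = e8L.getD k [] :=
  e8ncws_fil_all k hk

theorem e8ncws_rank : ∀ k < 4, ∀ v ∈ e8Ws.getD k [], ∀ i ∈ v, i < chevE8.rank := by
  decide +kernel

theorem e8ncws_L_lt : ∀ k < 4, ∀ r ∈ e8L.getD k [], r < chevE8.nroots := by
  decide +kernel

/-- Boolean form of the positivity, through the fast evaluator -/
theorem e8ncws_pos_chk : ∀ k < 4,
    ((e8Ws.getD k []).all fun v => (e8L.getD k []).all fun r =>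
      Nat.testBit e8Fs.P (fsW e8Fs.T v r)) = true := by
  decide +kernel

/-- Boolean form of the closure property, through the fast evaluator -/
theorem e8ncws_cl_chk : ∀ k < 4,
    ((List.range 240).all fun s => (e8L.getD k []).contains s ||
      (e8Ws.getD k []).any fun v => !Nat.testBit e8Fs.P (fsW e8Fs.T v s)) = true := by
  decide +kernel

/-- NCWS : the witness words cut out `e8L[k]` -/
theorem e8_nc_ws (k : ℕ) (hk : k < 4) :
    (∀ v ∈ e8Ws.getD k [], ∀ i ∈ v, i < chevE8.rank) ∧
    (∀ v ∈ e8Ws.getD k [], ∀ r ∈ e8L.getD k [], chevE8.IsPosRoot (h8sW chevE8 v r)) ∧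
    (∀ s < chevE8.nroots, (∀ v ∈ e8Ws.getD k [], chevE8.IsPosRoot (h8sW chevE8 v s)) →
      s ∈ e8L.getD k []) := by
  have hA := h8reflAll chevE8 e8ncws_mem
  refine ⟨e8ncws_rank k hk, ?_, ?_⟩
  · intro v hv r hr
    have hw : ValidW chevE8 v := e8ncws_rank k hk v hv
    have hr' : r < chevE8.nroots := e8ncws_L_lt k hk r hr
    have h := e8ncws_pos_chk k hk
    rw [List.all_eq_true] at h
    have h1 := h v hv
    rw [List.all_eq_true] at h1
    have h2 := h1 r hr
    rw [← fsW_eq chevE8 hA e8Fs e8Fs_chk v hw r hr',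
      fsChk_pos chevE8 e8Fs e8Fs_chk _ (h8sW_lt chevE8 hA v hw r hr')] at h2
    exact of_decide_eq_true h2
  · intro s hs hall
    have hs' : s < 240 := hs
    have h := e8ncws_cl_chk k hk
    rw [List.all_eq_true] at h
    have h1 := h s (List.mem_range.mpr hs')
    rw [Bool.or_eq_true] at h1
    rcases h1 with h1 | h1
    · exact List.contains_iff_mem.mp h1
    · exfalso
      rw [List.any_eq_true] at h1
      obtain ⟨v, hv, h2⟩ := h1
      have hw : ValidW chevE8 v := e8ncws_rank k hk v hv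
      rw [← fsW_eq chevE8 hA e8Fs e8Fs_chk v hw s hs,
        fsChk_pos chevE8 e8Fs e8Fs_chk _ (h8sW_lt chevE8 hA v hw s hs)] at h2
      have h3 := hall v hv
      rw [decide_eq_true h3] at h2
      exact Bool.noConfusion h2

end Cfsg.Agent.Lib.Helper12.INVE8
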