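import Mathlib
import Cfsg.Prelude.Def_ChevStructure
import Cfsg.Agent.Lib.helper14.INV.Defs

/-!
# Project INV (S2174), piece SUPP : the support of `u` for an involution `h n_w u`
-/

set_option autoImplicit false
set_option linter.unusedVariables false

namespace Cfsg.Agent.Lib.helper14.INV

open Cfsg.Lie Cfsg.Lie.ChevalleyDatum Cfsg.Agent.Lib.helper8 Cfsg.Agent.Lib.helper14

universe u

variable {F : Type u} [Field F]

/-- the positivity lemma `f4c_pos_split` with `n g n⁻¹ ∈ B` in place of `n g n⁻¹ ∈ U` -/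
theorem h29supp_pos_split (D : ChevalleyDatum) (hB : H8Base.{u} D) (hC : H8CommAll.{u} D)
    (hBN : H8BN D) (hO : H8Ord D) (n : GL D.Idx F) (σ : ℕ → ℕ)
    (hlt : ∀ r < D.nroots, σ r < D.nroots)
    (hact : ∀ r < D.nroots, H8Act D hB n r (σ r)) (g : GL D.Idx F)
    (hg : g ∈ D.posUnipotent F) (hconj : n * g * n⁻¹ ∈ D.borelSubgroup F) :
    ∃ t : ℕ → F, g = h8wordU D hB (h8ordP D (fun r => decide (D.IsPosRoot (σ r))) 0 t) := by
  obtain ⟨t, ht⟩ := h8split_main D hB hC hO (fun r => decide (D.IsPosRoot (σ r))) g hg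
  refine ⟨t, ?_⟩
  set p := h8wordU D hB (h8ordP D (fun r => decide (D.IsPosRoot (σ r))) 0 t) with hp
  set q := h8wordU D hB (h8ordQ D (fun r => decide (D.IsPosRoot (σ r))) 0 t) with hq
  have hP := h8ordP_mem D hB (fun r => decide (D.IsPosRoot (σ r))) 0 t
  have hQ := h8ordQ_mem D hB (fun r => decide (D.IsPosRoot (σ r))) 0 t
  have hpU : n * p * n⁻¹ ∈ D.posUnipotent F := h8splitP_conj D hB n σ hact p hP
  have hqV : n * q * n⁻¹ ∈ D.negUnipotent F :=
    h8Um_conj_mem_V D hB n q (h8splitQ_le D hB n σ hlt hact hQ)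
  have hqB : n * q * n⁻¹ ∈ D.borelSubgroup F := by
    have : n * q * n⁻¹ = (n * p * n⁻¹)⁻¹ * (n * g * n⁻¹) := by rw [ht]; group
    rw [this]
    exact Subgroup.mul_mem _ (Subgroup.inv_mem _ (h8U_le_B D hpU)) hconj
  have hbot : n * q * n⁻¹ ∈ D.borelSubgroup F ⊓ D.negUnipotent F :=
    Subgroup.mem_inf.mpr ⟨hqB, hqV⟩
  rw [h8_B_inf_V D hB hBN.negOK, Subgroup.mem_bot] at hbot
  have hq1 : q = 1 := by
    have : q = n⁻¹ * (n * q * n⁻¹) * n := by group
    rw [this, hbot]; group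
  rw [ht, hq1, mul_one]

/-- SUPP : if `h n_w u` is an involution then `u` is a canonical word supported on the positive roots
which `w` maps to positive roots -/
theorem invol_supp (D : ChevalleyDatum) (hB : H8Base.{u} D) (hA : H8ReflAll D)
    (hC : H8CommAll.{u} D) (hBN : H8BN D) (hW : H8BN2 D) (hO : H8Ord D) (hO2 : H8Ord2 D)
    (w : List ℕ) (hw : ValidW D w) (h0 u : GL D.Idx F) (hh : h0 ∈ D.diagonalSubgroup F)
    (hu : u ∈ D.posUnipotent F)
    (hsq : (h0 * (h8nWU D hB w : GL D.Idx F) * u) * (h0 * (h8nWU D hB w : GL D.Idx F) * u) = 1) :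
    ∃ c : ℕ → F, u = f4cW D hB 0 c ∧
      ∀ r, D.IsPosRoot r → c r ≠ 0 → D.IsPosRoot (h8sW D w r) := by
  set n : GL D.Idx F := h0 * (h8nWU D hB w : GL D.Idx F) with hn
  have hHN : D.diagonalSubgroup F ≤ D.monomialSubgroup F := by
    unfold ChevalleyDatum.monomialSubgroup
    exact le_sup_left
  have hnN : n ∈ D.monomialSubgroup F :=
    Subgroup.mul_mem _ (hHN hh) (h8nWU_mem_N D hB hA w hw)
  have huB : u⁻¹ ∈ D.borelSubgroup F := h8U_le_B D (Subgroup.inv_mem _ hu)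
  have e1 : n = u⁻¹ * n⁻¹ * u⁻¹ := by
    have : n = (n * u * (n * u)) * (u⁻¹ * n⁻¹ * u⁻¹) := by group
    rw [hsq, one_mul] at this
    exact this
  have hH : n⁻¹ * n⁻¹ ∈ D.diagonalSubgroup F :=
    h8cell_disjoint D hB hA hC hBN n n⁻¹ hnN (Subgroup.inv_mem _ hnN) ⟨u⁻¹, huB, u⁻¹, huB, e1⟩
  have hconj : n * u * n⁻¹ ∈ D.borelSubgroup F := by
    have : n * u * n⁻¹ = (n * u * (n * u)) * (u⁻¹ * (n⁻¹ * n⁻¹)) := by group
    rw [hsq, one_mul] at this
    rw [this]
    exact Subgroup.mul_mem _ huB (h8H_le_B D hH)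
  have hlt : ∀ r < D.nroots, h8sW D w r < D.nroots := fun r hr => h8sW_lt D hA w hw r hr
  have hact : ∀ r < D.nroots, H8Act D hB n r (h8sW D w r) := by
    intro r hr
    exact h8act_mul D hB h0 (h8nWU D hB w : GL D.Idx F) r (h8sW D w r) (h8sW D w r)
      (h8actN_act D hB _ _ _ (h8actN_word (F := F) D hB hA w hw r hr)) (h8perm_H_id D hB h0 hh (h8sW D w r) (hlt r hr))
  obtain ⟨t, ht⟩ := h29supp_pos_split D hB hC hBN hO n (h8sW D w) hlt hact u hu hconj
  refine ⟨fun r => if (decide (D.IsPosRoot (h8sW D w r))) = true then t r else 0, ?_, ?_⟩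
  · rw [ht, f4c_ordP_fill D hB _ t D.nroots 0 (by omega)]
  · intro r hr hcr
    by_contra hneg
    apply hcr
    simp only [decide_eq_true_eq]
    rw [if_neg hneg]

end Cfsg.Agent.Lib.helper14.INV
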