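import Mathlib

/-!
Ito's theorem (S4468): group-theoretic part B.
A minimal `q`-subgroup `Q` moved by a `p`-element `y`: `C_Q(y)` is central in `Q` and `y` acts
fixed-point-freely on `Q / C_Q(y)`.
-/

set_option autoImplicit false

namespace Cfsg.Agent.Lib.Helper29.Ito

variable {G : Type*} [Group G] [Finite G]

/-- forward invariance of a finite subgroup under conjugation gives normalizer membership -/
theorem mem_normalizer_of_conj_mem (H : Subgroup G) (y : G) (h : ∀ z ∈ H, y * z * y⁻¹ ∈ H) :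
    y ∈ Subgroup.normalizer (H : Set G) := by
  rw [Subgroup.mem_normalizer_iff]
  intro z
  refine ⟨h z, ?_⟩
  intro hz
  have hinj : Function.Injective (fun w : H => (⟨y * w * y⁻¹, h w w.2⟩ : H)) := by
    intro w1 w2 hw
    have := congrArg Subtype.val hw
    simp only at this
    apply Subtype.ext
    have h5 : y * (w1 : G) = y * w2 := mul_right_cancel this
    exact mul_left_cancel h5
  obtain ⟨w, hw⟩ := Finite.surjective_of_injective hinj ⟨y * z * y⁻¹, hz⟩
  have := congrArg Subtype.val hw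
  simp only at this
  have h5 : y * (w : G) = y * z := mul_right_cancel this
  have h6 : (w : G) = z := mul_left_cancel h5
  rw [← h6]; exact w.2

/-- power trick: if `y u y⁻¹ = u c` with `c` commuting with `y`, `y` a `p`-element and `c` a
`q`-element, then `c = 1`. -/
theorem power_trick {p q : ℕ} (hp : p.Prime) (hq : q.Prime) (hqp : q ≠ p) (y u c : G) (a b : ℕ)
    (hy : y ^ p ^ a = 1) (hc : c ^ q ^ b = 1) (hcy : y * c = c * y) (huc : y * u * y⁻¹ = u * c) :
    c = 1 := by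
  have hpow : ∀ k : ℕ, y ^ k * u * (y ^ k)⁻¹ = u * c ^ k := by
    intro k
    induction k with
    | zero => simp
    | succ k ih =>
      have hck : y * c ^ k = c ^ k * y := by
        have : Commute y (c ^ k) := Commute.pow_right hcy k
        exact this.eq
      calc y ^ (k + 1) * u * (y ^ (k + 1))⁻¹ = y * (y ^ k * u * (y ^ k)⁻¹) * y⁻¹ := by
            rw [pow_succ']; group
        _ = y * (u * c ^ k) * y⁻¹ := by rw [ih]
        _ = (y * u * y⁻¹) * (y * c ^ k * y⁻¹) := by group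
        _ = (u * c) * (c ^ k * y * y⁻¹) := by rw [huc, hck]
        _ = u * c ^ (k + 1) := by rw [pow_succ']; group
  have h1 := hpow (p ^ a)
  rw [hy] at h1
  have h2 : c ^ p ^ a = 1 := by
    have : u = u * c ^ p ^ a := by simpa using h1
    exact (mul_eq_left.mp this.symm)
  have hcop : Nat.Coprime (p ^ a) (q ^ b) :=
    Nat.Coprime.pow _ _ ((Nat.coprime_primes hp hq).mpr (Ne.symm hqp))
  have h3 : orderOf c ∣ p ^ a := orderOf_dvd_of_pow_eq_one h2
  have h4 : orderOf c ∣ q ^ b := orderOf_dvd_of_pow_eq_one hc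
  have h5 : orderOf c ∣ 1 := by
    have := Nat.dvd_gcd h3 h4
    rwa [hcop] at this
  exact orderOf_eq_one_iff.mp (Nat.dvd_one.mp h5)

/-- The data of a moved pair. -/
structure MovedPair (p q : ℕ) (Q : Subgroup G) (y : G) : Prop where
  pgroup : IsPGroup q Q
  ppow : ∃ k : ℕ, y ^ p ^ k = 1
  norm : y ∈ Subgroup.normalizer (Q : Set G)
  cent : ∀ z ∈ Q, y ^ p * z = z * y ^ p
  moved : ∃ z ∈ Q, y * z * y⁻¹ ≠ z

/-- minimality: `y` centralises every proper `y`-invariant subgroup -/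
def IsMinPair (Q : Subgroup G) (y : G) : Prop :=
  ∀ Q₁ : Subgroup G, Q₁ < Q → y ∈ Subgroup.normalizer (Q₁ : Set G) → ∀ z ∈ Q₁, y * z * y⁻¹ = z

theorem exists_minPair {p q : ℕ} {Q : Subgroup G} {y : G} (h : MovedPair p q Q y) :
    ∃ Q' : Subgroup G, Q' ≤ Q ∧ MovedPair p q Q' y ∧ IsMinPair Q' y := by
  classical
  let Pr : Subgroup G → Prop := fun Q' => Q' ≤ Q ∧ y ∈ Subgroup.normalizer (Q' : Set G) ∧
    ∃ z ∈ Q', y * z * y⁻¹ ≠ z
  have hex : ∃ Q', Pr Q' := ⟨Q, le_rfl, h.norm, h.moved⟩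
  obtain ⟨Q', hQ'⟩ := exists_minimal_of_wellFoundedLT Pr hex
  obtain ⟨⟨hle, hn, hm⟩, hmin⟩ := hQ'
  refine ⟨Q', hle, ⟨h.pgroup.to_le hle, h.ppow, hn, fun z hz => h.cent z (hle hz), hm⟩, ?_⟩
  intro Q₁ hlt hn1 z hz
  by_contra hne
  have : Pr Q₁ := ⟨le_trans hlt.le hle, hn1, z, hz, hne⟩
  exact absurd (hmin this hlt.le) (not_le_of_gt hlt)


theorem MovedPair.conj_mem {p q : ℕ} {Q : Subgroup G} {y : G} (h : MovedPair p q Q y) {z : G}
    (hz : z ∈ Q) : y * z * y⁻¹ ∈ Q :=
  (Subgroup.mem_normalizer_iff.mp h.norm z).mp hz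

/-- `y u y⁻¹ = u` as soon as `u⁻¹ (y u y⁻¹)` commutes with `y`. -/
theorem MovedPair.fixed_of_comm {p q : ℕ} (hp : p.Prime) (hq : q.Prime) (hqp : q ≠ p)
    {Q : Subgroup G} {y : G} (h : MovedPair p q Q y) {u : G} (hu : u ∈ Q)
    (hc : y * (u⁻¹ * (y * u * y⁻¹)) = (u⁻¹ * (y * u * y⁻¹)) * y) : y * u * y⁻¹ = u := by
  obtain ⟨a, ha⟩ := h.ppow
  have hcQ : u⁻¹ * (y * u * y⁻¹) ∈ Q := Q.mul_mem (Q.inv_mem hu) (h.conj_mem hu)
  obtain ⟨b, hb⟩ := h.pgroup ⟨_, hcQ⟩
  have hb' : (u⁻¹ * (y * u * y⁻¹)) ^ q ^ b = 1 := by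
    have := congrArg Subtype.val hb; simpa using this
  have h1 := power_trick hp hq hqp y u (u⁻¹ * (y * u * y⁻¹)) a b ha hb' hc (by group)
  calc y * u * y⁻¹ = u * (u⁻¹ * (y * u * y⁻¹)) := by group
    _ = u := by rw [h1, mul_one]

/-- In a minimal moved pair, `C_Q(y)` is central in `Q`. -/
theorem cent_central {p q : ℕ} (hp : p.Prime) (hq : q.Prime) (hqp : q ≠ p)
    {Q : Subgroup G} {y : G} (h : MovedPair p q Q y) (hmin : IsMinPair Q y) :
    ∀ c ∈ Q, y * c = c * y → ∀ u ∈ Q, c * u = u * c := by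
  classical
  set C : Subgroup G := Q ⊓ Subgroup.centralizer {y} with hC
  have hCmem : ∀ c : G, c ∈ C ↔ c ∈ Q ∧ y * c = c * y := by
    intro c
    rw [hC, Subgroup.mem_inf, Subgroup.mem_centralizer_iff]
    constructor
    · rintro ⟨h1, h2⟩; exact ⟨h1, h2 y rfl⟩
    · rintro ⟨h1, h2⟩; refine ⟨h1, ?_⟩; intro k hk; rw [Set.mem_singleton_iff.mp hk]; exact h2
  have hCfix : ∀ c ∈ C, y * c * y⁻¹ = c := by
    intro c hc
    rw [((hCmem c).mp hc).2]; group
  set D : Subgroup G := Q ⊓ Subgroup.centralizer (C : Set G) with hD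
  have hDle : D ≤ Q := inf_le_left
  intro c hcQ hcy u hu
  have hcC : c ∈ C := (hCmem c).mpr ⟨hcQ, hcy⟩
  by_cases hDQ : D = Q
  · have huD : u ∈ D := by rw [hDQ]; exact hu
    exact (Subgroup.mem_centralizer_iff.mp (Subgroup.mem_inf.mp huD).2) c hcC
  · exfalso
    have hDlt : D < Q := lt_of_le_of_ne hDle hDQ
    -- D is y-invariant
    have hDinv : ∀ z ∈ D, y * z * y⁻¹ ∈ D := by
      intro z hz
      obtain ⟨hzQ, hzc⟩ := Subgroup.mem_inf.mp hz
      refine Subgroup.mem_inf.mpr ⟨h.conj_mem hzQ, ?_⟩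
      rw [Subgroup.mem_centralizer_iff]
      intro k hk
      have hk1 := (Subgroup.mem_centralizer_iff.mp hzc) k hk
      have hk2 : y * k = k * y := ((hCmem k).mp hk).2
      have hk3 : y⁻¹ * k = k * y⁻¹ := by
        calc y⁻¹ * k = y⁻¹ * (k * y) * y⁻¹ := by group
          _ = y⁻¹ * (y * k) * y⁻¹ := by rw [hk2]
          _ = k * y⁻¹ := by group
      calc k * (y * z * y⁻¹) = (k * y) * z * y⁻¹ := by group
        _ = (y * k) * z * y⁻¹ := by rw [hk2]
        _ = y * (k * z) * y⁻¹ := by group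
        _ = y * (z * k) * y⁻¹ := by rw [hk1]
        _ = y * z * (k * y⁻¹) := by group
        _ = y * z * (y⁻¹ * k) := by rw [hk3]
        _ = y * z * y⁻¹ * k := by group
    have hDC : D ≤ C := by
      intro z hz
      have := hmin D hDlt (mem_normalizer_of_conj_mem D y hDinv) z hz
      refine (hCmem z).mpr ⟨hDle hz, ?_⟩
      calc y * z = (y * z * y⁻¹) * y := by group
        _ = z * y := by rw [this]
    -- C < Q
    have hCle : C ≤ Q := inf_le_left
    obtain ⟨z0, hz0, hz0m⟩ := h.moved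
    have hCne : C ≠ Q := by
      intro hCQ
      apply hz0m
      apply hCfix
      rw [hCQ]; exact hz0
    have hClt : C < Q := lt_of_le_of_ne hCle hCne
    -- normalizer
    set N : Subgroup G := Q ⊓ Subgroup.normalizer (C : Set G) with hN
    have hNle : N ≤ Q := inf_le_left
    have hCN : C ≤ N := le_inf hCle Subgroup.le_normalizer
    have hCNlt : C < N := by
      haveI : Fact q.Prime := ⟨hq⟩
      haveI : Group.IsNilpotent Q := h.pgroup.isNilpotent
      have hnc : NormalizerCondition Q := Group.normalizerCondition_of_isNilpotent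
      have h1 : C.subgroupOf Q < ⊤ := by
        rw [lt_top_iff_ne_top]
        intro htop
        rw [Subgroup.subgroupOf_eq_top] at htop
        exact hCne (le_antisymm hCle htop)
      have h2 := hnc _ h1
      obtain ⟨u', hu'n, hu'C⟩ := SetLike.exists_of_lt h2
      have hu'G : (u' : G) ∈ Subgroup.normalizer (C : Set G) := by
        apply mem_normalizer_of_conj_mem
        intro k hk
        have hkQ : k ∈ Q := hCle hk
        have h3 : (⟨k, hkQ⟩ : Q) ∈ C.subgroupOf Q := Subgroup.mem_subgroupOf.mpr hk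
        have h4 := (Subgroup.mem_normalizer_iff.mp hu'n ⟨k, hkQ⟩).mp h3
        exact Subgroup.mem_subgroupOf.mp h4
      refine lt_of_le_of_ne hCN ?_
      intro hEq
      apply hu'C
      rw [Subgroup.mem_subgroupOf, hEq]
      exact Subgroup.mem_inf.mpr ⟨u'.2, hu'G⟩
    have hNinv : ∀ z ∈ N, y * z * y⁻¹ ∈ N := by
      intro z hz
      obtain ⟨hzQ, hzn⟩ := Subgroup.mem_inf.mp hz
      refine Subgroup.mem_inf.mpr ⟨h.conj_mem hzQ, ?_⟩
      apply mem_normalizer_of_conj_mem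
      intro k hk
      have hk2 : y * k = k * y := ((hCmem k).mp hk).2
      have hk3 : y⁻¹ * k * y = k := by
        calc y⁻¹ * k * y = y⁻¹ * (k * y) := by group
          _ = y⁻¹ * (y * k) := by rw [hk2]
          _ = k := by group
      have h3 : z * k * z⁻¹ ∈ C := (Subgroup.mem_normalizer_iff.mp hzn k).mp hk
      have h4 := hCfix _ h3
      have : y * z * y⁻¹ * k * (y * z * y⁻¹)⁻¹ = y * (z * (y⁻¹ * k * y) * z⁻¹) * y⁻¹ := by group
      rw [this, hk3, h4]
      exact h3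
    have hNQ : N = Q := by
      by_contra hne
      have hNlt : N < Q := lt_of_le_of_ne hNle hne
      have hNC : N ≤ C := by
        intro z hz
        have := hmin N hNlt (mem_normalizer_of_conj_mem N y hNinv) z hz
        refine (hCmem z).mpr ⟨hNle hz, ?_⟩
        calc y * z = (y * z * y⁻¹) * y := by group
          _ = z * y := by rw [this]
      exact absurd (lt_of_lt_of_le hCNlt hNC) (lt_irrefl _)
    -- every u ∈ Q is fixed by y
    apply hz0m
    apply h.fixed_of_comm hp hq hqp hz0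
    have hz0N : z0 ∈ Subgroup.normalizer (C : Set G) := by
      have : z0 ∈ N := by rw [hNQ]; exact hz0
      exact (Subgroup.mem_inf.mp this).2
    have hwD : z0⁻¹ * (y * z0 * y⁻¹) ∈ D := by
      refine Subgroup.mem_inf.mpr ⟨Q.mul_mem (Q.inv_mem hz0) (h.conj_mem hz0), ?_⟩
      rw [Subgroup.mem_centralizer_iff]
      intro k hk
      have hk2 : y * k = k * y := ((hCmem k).mp hk).2
      have hk3 : y⁻¹ * k * y = k := by
        calc y⁻¹ * k * y = y⁻¹ * (k * y) := by group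
          _ = y⁻¹ * (y * k) := by rw [hk2]
          _ = k := by group
      have h3 : z0 * k * z0⁻¹ ∈ C := (Subgroup.mem_normalizer_iff.mp hz0N k).mp hk
      have h4 := hCfix _ h3
      -- (y z0 y⁻¹) k (y z0 y⁻¹)⁻¹ = z0 k z0⁻¹
      have h5 : y * z0 * y⁻¹ * k * (y * z0 * y⁻¹)⁻¹ = z0 * k * z0⁻¹ := by
        have : y * z0 * y⁻¹ * k * (y * z0 * y⁻¹)⁻¹ = y * (z0 * (y⁻¹ * k * y) * z0⁻¹) * y⁻¹ := by
          group
        rw [this, hk3, h4]
      calc k * (z0⁻¹ * (y * z0 * y⁻¹))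
          = z0⁻¹ * (z0 * k * z0⁻¹) * (y * z0 * y⁻¹) := by group
        _ = z0⁻¹ * (y * z0 * y⁻¹ * k * (y * z0 * y⁻¹)⁻¹) * (y * z0 * y⁻¹) := by rw [h5]
        _ = z0⁻¹ * (y * z0 * y⁻¹) * k := by group
    exact ((hCmem _).mp (hDC hwD)).2

end Cfsg.Agent.Lib.Helper29.Ito
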