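import Mathlib
import Cfsg.Agent.Lib.Helper29.ItoGroupB

/-!
Ito's theorem (S4468): the abstract group `Γ = Q ⟨y⟩` and its conjugacy classes.
-/

set_option autoImplicit false

namespace Cfsg.Agent.Lib.Helper29.Ito

/-- The abstract setting: `Γ = Q ⟨y⟩` with `Q` a `q`-group, `y` a `p`-element moving `Q`,
`y ^ p` centralising `Q` and `C_Q(y)` central in `Q`. -/
structure Setup (p q : ℕ) {Γ : Type*} [Group Γ] (Q : Subgroup Γ) (y : Γ) : Prop where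
  hp : p.Prime
  hq : q.Prime
  hqp : q ≠ p
  pgroup : IsPGroup q Q
  ppow : ∃ a : ℕ, y ^ p ^ a = 1
  gen : ∀ g : Γ, ∃ z ∈ Q, ∃ i : ℕ, g = z * y ^ i
  cent : ∀ z ∈ Q, y ^ p * z = z * y ^ p
  moved : ∃ z ∈ Q, y * z * y⁻¹ ≠ z
  zc : ∀ c ∈ Q, y * c = c * y → ∀ u ∈ Q, c * u = u * c

variable {Γ : Type*} [Group Γ] {Q : Subgroup Γ} {y : Γ} {p q : ℕ}

theorem Setup.central_of_comm (h : Setup p q Q y) {c : Γ} (hc : c ∈ Q) (hcy : y * c = c * y) :
    c ∈ Subgroup.center Γ := by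
  rw [Subgroup.mem_center_iff]
  intro g
  obtain ⟨z, hz, i, rfl⟩ := h.gen g
  have h1 : c * z = z * c := h.zc c hc hcy z hz
  have h2 : Commute c (y ^ i) := Commute.pow_right (show Commute c y from hcy.symm) i
  calc z * y ^ i * c = z * (y ^ i * c) := by group
    _ = z * (c * y ^ i) := by rw [h2.eq]
    _ = (z * c) * y ^ i := by group
    _ = (c * z) * y ^ i := by rw [h1]
    _ = c * (z * y ^ i) := by group

theorem Setup.pow_central (h : Setup p q Q y) (i : ℕ) (hi : p ∣ i) :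
    y ^ i ∈ Subgroup.center Γ := by
  obtain ⟨k, rfl⟩ := hi
  rw [pow_mul]
  apply Subgroup.pow_mem
  rw [Subgroup.mem_center_iff]
  intro g
  obtain ⟨z, hz, i, rfl⟩ := h.gen g
  have h1 := h.cent z hz
  have h2 : Commute (y ^ p) (y ^ i) := Commute.pow_pow_self y p i
  calc z * y ^ i * y ^ p = z * (y ^ i * y ^ p) := by group
    _ = z * (y ^ p * y ^ i) := by rw [h2.eq]
    _ = (z * y ^ p) * y ^ i := by group
    _ = (y ^ p * z) * y ^ i := by rw [h1]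
    _ = y ^ p * (z * y ^ i) := by group

theorem Setup.y_ne_one (h : Setup p q Q y) : y ≠ 1 := by
  rintro rfl
  obtain ⟨z, _, hz⟩ := h.moved
  apply hz
  simp

theorem Setup.orderOf_y (h : Setup p q Q y) : ∃ a : ℕ, 0 < a ∧ orderOf y = p ^ a := by
  obtain ⟨a, ha⟩ := h.ppow
  obtain ⟨k, _, hk⟩ := (Nat.dvd_prime_pow h.hp).mp (orderOf_dvd_of_pow_eq_one ha)
  refine ⟨k, ?_, hk⟩
  rcases Nat.eq_zero_or_pos k with h0 | h0
  · exfalso
    rw [h0, pow_zero, orderOf_eq_one_iff] at hk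
    exact h.y_ne_one hk
  · exact h0

theorem Setup.gen_of_not_dvd (h : Setup p q Q y) (i : ℕ) (hi : ¬ p ∣ i) :
    ∃ j : ℕ, (y ^ i) ^ j = y := by
  obtain ⟨a, _, ha⟩ := h.orderOf_y
  apply exists_pow_eq_self_of_coprime
  rw [ha]
  exact Nat.Coprime.pow_right a ((Nat.Prime.coprime_iff_not_dvd h.hp).mpr hi).symm

/-- the key step: if `s w s⁻¹ w⁻¹` lies in `C_Q(y)` then `s` commutes with `y`. -/
theorem Setup.comm_of_comm_mem [Finite Γ] (h : Setup p q Q y) (i : ℕ) (hi : ¬ p ∣ i) (s : Γ)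
    (hcQ : s * y ^ i * s⁻¹ * (y ^ i)⁻¹ ∈ Q)
    (hcy : y * (s * y ^ i * s⁻¹ * (y ^ i)⁻¹) = (s * y ^ i * s⁻¹ * (y ^ i)⁻¹) * y) :
    s * y = y * s := by
  obtain ⟨j, hj⟩ := h.gen_of_not_dvd i hi
  obtain ⟨a, ha⟩ := h.ppow
  set w := y ^ i with hw
  set c := s * w * s⁻¹ * w⁻¹ with hc
  have hwa : w ^ p ^ a = 1 := by
    rw [hw, ← pow_mul, mul_comm, pow_mul, ha, one_pow]
  obtain ⟨b, hb⟩ := h.pgroup ⟨c, hcQ⟩
  have hb' : c ^ q ^ b = 1 := by
    have := congrArg Subtype.val hb; simpa using this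
  have hcc := h.central_of_comm hcQ hcy
  have hcw : w * c = c * w := Subgroup.mem_center_iff.mp hcc w
  have huc : w * s⁻¹ * w⁻¹ = s⁻¹ * c := by rw [hc]; group
  have h1 := power_trick h.hp h.hq h.hqp w s⁻¹ c a b hwa hb' hcw huc
  rw [h1, mul_one] at huc
  have h2 : Commute w s := by
    have h3 : w * s⁻¹ = s⁻¹ * w := by
      calc w * s⁻¹ = (w * s⁻¹ * w⁻¹) * w := by group
        _ = s⁻¹ * w := by rw [huc]
    have h4 : Commute w s⁻¹ := h3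
    simpa using h4.inv_right
  have h5 : Commute (w ^ j) s := h2.pow_left j
  rw [hj] at h5
  exact h5.eq.symm

/-- every element of the coset `Q w` (`w = y ^ i` a generator of `⟨y⟩`) is `Q`-conjugate to
an element `c w` with `c ∈ C_Q(y)`. -/
theorem Setup.conj_lemma [Finite Γ] [hQn : Q.Normal] (h : Setup p q Q y) (i : ℕ) (hi : ¬ p ∣ i)
    (z : Γ) (hz : z ∈ Q) :
    ∃ u ∈ Q, ∃ c ∈ Q, y * c = c * y ∧ z * y ^ i = u * (c * y ^ i) * u⁻¹ := by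
  classical
  set w := y ^ i with hw
  set Z : Subgroup Γ := Q ⊓ Subgroup.centralizer {y} with hZ
  have hZmem : ∀ c : Γ, c ∈ Z ↔ c ∈ Q ∧ y * c = c * y := by
    intro c
    rw [hZ, Subgroup.mem_inf, Subgroup.mem_centralizer_iff]
    constructor
    · rintro ⟨h1, h2⟩; exact ⟨h1, h2 y rfl⟩
    · rintro ⟨h1, h2⟩; refine ⟨h1, ?_⟩; intro k hk; rw [Set.mem_singleton_iff.mp hk]; exact h2
  have hZc : ∀ c ∈ Z, c ∈ Subgroup.center Γ := fun c hc =>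
    h.central_of_comm ((hZmem c).mp hc).1 ((hZmem c).mp hc).2
  have hZn : Z.Normal := by
    constructor
    intro n hn g
    have := Subgroup.mem_center_iff.mp (hZc n hn) g
    rw [this]
    simpa using hn
  let π := QuotientGroup.mk' Z
  have hπ : ∀ a : Γ, π a = 1 ↔ a ∈ Z := fun a => QuotientGroup.eq_one_iff a
  set Qb : Subgroup (Γ ⧸ Z) := Q.map π with hQb
  have hQbn : Qb.Normal := Subgroup.Normal.map hQn π (QuotientGroup.mk'_surjective Z)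
  have hfmem : ∀ x : Qb, (x : Γ ⧸ Z) * π w * (x : Γ ⧸ Z)⁻¹ * (π w)⁻¹ ∈ Qb := by
    intro x
    have h1 : π w * (x : Γ ⧸ Z)⁻¹ * (π w)⁻¹ ∈ Qb := hQbn.conj_mem _ (Qb.inv_mem x.2) (π w)
    have : (x : Γ ⧸ Z) * π w * (x : Γ ⧸ Z)⁻¹ * (π w)⁻¹ = x * (π w * (x : Γ ⧸ Z)⁻¹ * (π w)⁻¹) := by
      group
    rw [this]; exact Qb.mul_mem x.2 h1
  let f : Qb → Qb := fun x => ⟨(x : Γ ⧸ Z) * π w * (x : Γ ⧸ Z)⁻¹ * (π w)⁻¹, hfmem x⟩
  have hinj : Function.Injective f := by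
    intro x x' hxx
    have h1 : (x : Γ ⧸ Z) * π w * (x : Γ ⧸ Z)⁻¹ * (π w)⁻¹ =
        (x' : Γ ⧸ Z) * π w * (x' : Γ ⧸ Z)⁻¹ * (π w)⁻¹ := congrArg Subtype.val hxx
    obtain ⟨u, hu, hux⟩ := Subgroup.mem_map.mp x.2
    obtain ⟨u', hu', hux'⟩ := Subgroup.mem_map.mp x'.2
    have hsQ : u'⁻¹ * u ∈ Q := Q.mul_mem (Q.inv_mem hu') hu
    have h2 : π ((u'⁻¹ * u) * w * (u'⁻¹ * u)⁻¹ * w⁻¹) = 1 := by
      simp only [map_mul, map_inv, hux, hux']
      have h3 : (x : Γ ⧸ Z) * π w * (x : Γ ⧸ Z)⁻¹ = (x' : Γ ⧸ Z) * π w * (x' : Γ ⧸ Z)⁻¹ :=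
        mul_right_cancel h1
      calc (x' : Γ ⧸ Z)⁻¹ * x * π w * ((x' : Γ ⧸ Z)⁻¹ * (x : Γ ⧸ Z))⁻¹ * (π w)⁻¹
          = (x' : Γ ⧸ Z)⁻¹ * ((x : Γ ⧸ Z) * π w * (x : Γ ⧸ Z)⁻¹) * x' * (π w)⁻¹ := by group
        _ = 1 := by rw [h3]; group
    have h4 := (hπ _).mp h2
    have h5 := (hZmem _).mp h4
    have h6 := h.comm_of_comm_mem i hi (u'⁻¹ * u) h5.1 h5.2
    have h7 : u'⁻¹ * u ∈ Z := (hZmem _).mpr ⟨hsQ, h6.symm⟩
    have h8 : π (u'⁻¹ * u) = 1 := (hπ _).mpr h7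
    rw [map_mul, map_inv, hux, hux'] at h8
    apply Subtype.ext
    have : (x : Γ ⧸ Z) = x' * ((x' : Γ ⧸ Z)⁻¹ * x) := by group
    rw [this, h8, mul_one]
  obtain ⟨x, hx⟩ := Finite.surjective_of_injective hinj ⟨π z, Subgroup.mem_map_of_mem π hz⟩
  obtain ⟨u, hu, hux⟩ := Subgroup.mem_map.mp x.2
  have h1 : (x : Γ ⧸ Z) * π w * (x : Γ ⧸ Z)⁻¹ * (π w)⁻¹ = π z := congrArg Subtype.val hx
  rw [← hux] at h1
  have h2 : π (z⁻¹ * (u * w * u⁻¹ * w⁻¹)) = 1 := by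
    simp only [map_mul, map_inv]
    rw [← h1]
    group
  have h3 := (hπ _).mp h2
  have h4 := (hZmem _).mp h3
  set c' := z⁻¹ * (u * w * u⁻¹ * w⁻¹) with hc'
  have hc'c : c' ∈ Subgroup.center Γ := hZc c' h3
  refine ⟨u, hu, c'⁻¹, Q.inv_mem h4.1, ?_, ?_⟩
  · have h5 : Commute y c' := h4.2
    exact h5.inv_right.eq
  · have h5 : ∀ g : Γ, g * c'⁻¹ = c'⁻¹ * g := by
      intro g
      have := Subgroup.mem_center_iff.mp (Subgroup.inv_mem _ hc'c) g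
      exact this
    have h6 : z * c' = u * w * u⁻¹ * w⁻¹ := by rw [hc']; group
    calc z * w = (z * c') * c'⁻¹ * w := by group
      _ = (u * w * u⁻¹ * w⁻¹) * c'⁻¹ * w := by rw [h6]
      _ = u * w * u⁻¹ * (w⁻¹ * c'⁻¹) * w := by group
      _ = u * w * u⁻¹ * (c'⁻¹ * w⁻¹) * w := by rw [h5 w⁻¹]
      _ = u * w * (u⁻¹ * c'⁻¹) := by group
      _ = u * w * (c'⁻¹ * u⁻¹) := by rw [h5 u⁻¹]
      _ = u * (w * c'⁻¹) * u⁻¹ := by group
      _ = u * (c'⁻¹ * w) * u⁻¹ := by rw [h5 w]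


theorem Setup.complement [Finite Γ] (h : Setup p q Q y) :
    Subgroup.IsComplement' Q (Subgroup.zpowers y) := by
  apply Subgroup.isComplement'_of_disjoint_and_mul_eq_univ
  · haveI : Fact p.Prime := ⟨h.hp⟩
    haveI : Fact q.Prime := ⟨h.hq⟩
    have hA : IsPGroup p (Subgroup.zpowers y) := by
      obtain ⟨a, _, ha⟩ := h.orderOf_y
      apply IsPGroup.of_card (n := a)
      rw [Nat.card_zpowers, ha]
    exact IsPGroup.disjoint_of_ne q p h.hqp Q _ h.pgroup hA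
  · ext g
    simp only [Set.mem_univ, iff_true]
    obtain ⟨z, hz, i, rfl⟩ := h.gen g
    exact Set.mul_mem_mul hz (Subgroup.pow_mem _ (Subgroup.mem_zpowers y) i)

theorem Setup.card_eq [Finite Γ] (h : Setup p q Q y) :
    Nat.card Γ = Nat.card Q * orderOf y := by
  rw [← h.complement.card_mul_card, Nat.card_zpowers]

theorem Setup.index_eq [Finite Γ] (h : Setup p q Q y) : Q.index = orderOf y := by
  have h1 := h.card_eq
  have h2 := Subgroup.card_mul_index Q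
  rw [h1] at h2
  exact Nat.eq_of_mul_eq_mul_left Nat.card_pos h2

theorem Setup.bij [Finite Γ] (h : Setup p q Q y) :
    Function.Bijective (fun x : Q × Fin (orderOf y) => (x.1 : Γ) * y ^ (x.2 : ℕ)) := by
  have hb : Function.Bijective
      (fun x : ↥(Q : Set Γ) × ↥(Subgroup.zpowers y : Set Γ) => x.1.1 * x.2.1) := h.complement
  constructor
  · rintro ⟨z, i⟩ ⟨z', j⟩ hx
    simp only at hx
    have h1 := @hb.1 (⟨z.1, z.2⟩, ⟨y ^ (i : ℕ), Subgroup.pow_mem _ (Subgroup.mem_zpowers y) _⟩)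
      (⟨z'.1, z'.2⟩, ⟨y ^ (j : ℕ), Subgroup.pow_mem _ (Subgroup.mem_zpowers y) _⟩) hx
    rw [Prod.mk.injEq] at h1
    have h2 : (z : Γ) = z' := congrArg Subtype.val h1.1
    have h3 : y ^ (i : ℕ) = y ^ (j : ℕ) := congrArg Subtype.val h1.2
    have h4 : (i : ℕ) = j := pow_injOn_Iio_orderOf (Set.mem_Iio.mpr i.2) (Set.mem_Iio.mpr j.2) h3
    rw [Prod.mk.injEq]
    exact ⟨Subtype.ext h2, Fin.ext h4⟩
  · intro g
    obtain ⟨z, hz, i, rfl⟩ := h.gen g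
    refine ⟨(⟨z, hz⟩, ⟨i % orderOf y, Nat.mod_lt _ (orderOf_pos y)⟩), ?_⟩
    simp only
    rw [pow_mod_orderOf]

theorem Setup.sum_eq [Fintype Γ] [Fintype Q] (h : Setup p q Q y) (F : Γ → ℂ) :
    ∑ g : Γ, F g = ∑ i ∈ Finset.range (orderOf y), ∑ z : Q, F ((z : Γ) * y ^ i) := by
  rw [← Fin.sum_univ_eq_sum_range (fun i => ∑ z : Q, F ((z : Γ) * y ^ i)) (orderOf y)]
  rw [← Function.Bijective.sum_comp h.bij F, Fintype.sum_prod_type, Finset.sum_comm]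

theorem card_filter_dvd_range (p m : ℕ) (hp : 0 < p) :
    ((Finset.range (p * m)).filter (fun i => p ∣ i)).card = m := by
  have : (Finset.range (p * m)).filter (fun i => p ∣ i) = (Finset.range m).image (fun j => p * j) := by
    ext i
    simp only [Finset.mem_filter, Finset.mem_range, Finset.mem_image]
    constructor
    · rintro ⟨h1, k, rfl⟩
      exact ⟨k, lt_of_mul_lt_mul_left h1 (Nat.zero_le p), rfl⟩
    · rintro ⟨j, hj, rfl⟩
      exact ⟨Nat.mul_lt_mul_of_pos_left hj hp |> fun h => by simpa using h, dvd_mul_right p j⟩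
  rw [this, Finset.card_image_of_injective _ (fun a b hab => Nat.eq_of_mul_eq_mul_left hp hab),
    Finset.card_range]

end Cfsg.Agent.Lib.Helper29.Ito
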