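import Mathlib
import Cfsg.Prelude.Def_Characters
import Cfsg.Agent.Lib.Helper29.ItoConj
import Cfsg.Agent.Lib.helper7.Clifford
import Cfsg.Agent.Lib.helper7.CharCentral
import Cfsg.Agent.Lib.Helper25.ItoSolvable
import Cfsg.Agent.Lib.helper2.CharInt

/-!
Ito's theorem (S4468): character-theoretic part, the counting identity.
-/

set_option autoImplicit false

namespace Cfsg.Agent.Lib.Helper29.Ito

open scoped ComplexConjugate
open Cfsg.Agent.Lib.helper7 Cfsg.Agent.Lib.helper2 Cfsg.Agent.Lib.Helper25 Cfsg.Agent.Lib.Helper11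

variable {Γ : Type*} [Group Γ] {Q : Subgroup Γ} {y : Γ} {p q : ℕ}

/-- multiplying by a central element does not change `|ψ|²` -/
theorem normSq_central [Finite Γ] {ψ : Γ → ℂ} (hψ : Cfsg.IsIrrCharacter Γ ψ) (c : Γ)
    (hc : c ∈ Subgroup.center Γ) (x : Γ) :
    ψ (c * x) * conj (ψ (c * x)) = ψ x * conj (ψ x) := by
  obtain ⟨κ, hκ⟩ := h7_central_char hψ c hc
  have hpow : ∀ k : ℕ, ∀ x : Γ, ψ (c ^ k * x) = κ ^ k * ψ x := by
    intro k
    induction k with
    | zero => intro x; simp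
    | succ k ih =>
      intro x
      rw [pow_succ', mul_assoc, hκ, ih, pow_succ']
      ring
  have h1 := hpow (orderOf c) 1
  rw [pow_orderOf_eq_one, one_mul] at h1
  have hne : ψ 1 ≠ 0 := irr_one_ne_zero (⟨ψ, hψ⟩ : Cfsg.IrrCharacter Γ)
  have h2 : κ ^ orderOf c = 1 := by
    have : (κ ^ orderOf c - 1) * ψ 1 = 0 := by rw [sub_mul, one_mul, ← h1, sub_self]
    rcases mul_eq_zero.mp this with h | h
    · exact sub_eq_zero.mp h
    · exact absurd h hne
  have h3 : ‖κ‖ = 1 := Complex.norm_eq_one_of_pow_eq_one h2 (orderOf_pos c).ne'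
  have h4 : κ * conj κ = 1 := by
    rw [Complex.mul_conj, Complex.normSq_eq_norm_sq, h3]
    simp
  rw [hκ, map_mul]
  calc κ * ψ x * (conj κ * conj (ψ x)) = (κ * conj κ) * (ψ x * conj (ψ x)) := by ring
    _ = ψ x * conj (ψ x) := by rw [h4, one_mul]

theorem sum_normSq_irr {H : Type*} [Group H] [Fintype H] {θ : H → ℂ}
    (hθ : Cfsg.IsIrrCharacter H θ) : ∑ z : H, θ z * conj (θ z) = (Nat.card H : ℂ) := by
  have h := h7_irr_norm hθ
  unfold Cfsg.classInner at h
  have hne : (Nat.card H : ℂ) ≠ 0 := by exact_mod_cast Nat.card_pos.ne'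
  field_simp at h
  exact h

/-- the counting identity -/
theorem Setup.count [Fintype Γ] [Fintype Q] [hQn : Q.Normal] (h : Setup p q Q y) (ψ : Γ → ℂ)
    (hψ : Cfsg.IsIrrCharacter Γ ψ) (θ : Q → ℂ) (hθ : Cfsg.IsIrrCharacter Q θ) (e : ℕ)
    (hres : (fun z : Q => ψ z) = (e : ℂ) • θ) (t : ℕ) (ht : ψ 1 = t) :
    ∃ M : ℕ, p + t ^ 2 = e ^ 2 + p * M := by
  classical
  set N : Γ → ℂ := fun g => ψ g * conj (ψ g) with hN
  have hcl : Cfsg.IsClassFunction Γ ψ := h7_irr_isClassFunction hψ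
  have hNcl : ∀ g u : Γ, N (u * g * u⁻¹) = N g := by
    intro g u; simp only [hN]; rw [hcl g u]
  have hNc : ∀ c ∈ Subgroup.center Γ, ∀ x, N (c * x) = N x :=
    fun c hc x => normSq_central hψ c hc x
  have h1 : ∑ g : Γ, N g = (Nat.card Γ : ℂ) := sum_normSq_irr hψ
  have hcQ : (Nat.card Q : ℂ) ≠ 0 := by exact_mod_cast Nat.card_pos.ne'
  have h2 : ∑ z : Q, N z = (e : ℂ) ^ 2 * (Nat.card Q : ℂ) := by
    have hsum := sum_normSq_irr hθ
    have : ∀ z : Q, N z = (e : ℂ) ^ 2 * (θ z * conj (θ z)) := by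
      intro z
      have h3 := congrFun hres z
      simp only [Pi.smul_apply, smul_eq_mul] at h3
      simp only [hN]; rw [h3]; simp; ring
    rw [Finset.sum_congr rfl (fun z _ => this z), ← Finset.mul_sum, hsum]
  obtain ⟨a, ha0, ha⟩ := h.orderOf_y
  obtain ⟨a', rfl⟩ : ∃ a', a = a' + 1 := ⟨a - 1, by omega⟩
  set m := p ^ a' with hm
  have hom : orderOf y = p * m := by rw [ha, pow_succ']
  have hmpos : 0 < m := pow_pos h.hp.pos _
  have h3 : ∃ M : ℕ, ∑ i ∈ Finset.range (orderOf y), N (y ^ i) = (orderOf y : ℂ) * M := by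
    letI : Fintype (Subgroup.zpowers y) := Fintype.ofFinite _
    have hres := isCharacter_restrict (h7_irr_isCharacter hψ) (Subgroup.zpowers y)
    obtain ⟨M, hM⟩ := classInner_character_nat hres hres
    refine ⟨M, ?_⟩
    unfold Cfsg.classInner at hM
    rw [Nat.card_zpowers] at hM
    have hne : (orderOf y : ℂ) ≠ 0 := by exact_mod_cast (orderOf_pos y).ne'
    have hsum : ∑ w : Subgroup.zpowers y, ψ w * conj (ψ w) = (orderOf y : ℂ) * M := by
      field_simp at hM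
      rw [hM]
    rw [← hsum, ← Fin.sum_univ_eq_sum_range (fun i => N (y ^ i)) (orderOf y),
      ← Equiv.sum_comp (finEquivZPowers (isOfFinOrder_of_finite y))]
    rfl
  obtain ⟨M, hM⟩ := h3
  refine ⟨M, ?_⟩
  have h4 := h.sum_eq N
  have h5 : ∀ i, p ∣ i → ∑ z : Q, N ((z : Γ) * y ^ i) = (e : ℂ) ^ 2 * (Nat.card Q : ℂ) := by
    intro i hi
    have hc := h.pow_central i hi
    rw [← h2]
    apply Finset.sum_congr rfl
    intro z _
    rw [Subgroup.mem_center_iff.mp hc z]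
    exact hNc _ hc z
  have h6 : ∀ i, ¬ p ∣ i → ∑ z : Q, N ((z : Γ) * y ^ i) = (Nat.card Q : ℂ) * N (y ^ i) := by
    intro i hi
    have : ∀ z : Q, N ((z : Γ) * y ^ i) = N (y ^ i) := by
      intro z
      obtain ⟨u, hu, c, hc, hcy, hconj⟩ := h.conj_lemma i hi z z.2
      rw [hconj, hNcl, hNc c (h.central_of_comm hc hcy)]
    rw [Finset.sum_congr rfl (fun z _ => this z), Finset.sum_const, Finset.card_univ,
      nsmul_eq_mul, Nat.card_eq_fintype_card]
  have h7 : ∀ i, p ∣ i → N (y ^ i) = (t : ℂ) ^ 2 := by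
    intro i hi
    have := hNc _ (h.pow_central i hi) 1
    rw [mul_one] at this
    rw [this]; simp only [hN]; rw [ht]; simp; ring
  set R : ℂ := ∑ i ∈ (Finset.range (orderOf y)).filter (fun i => ¬ p ∣ i), N (y ^ i) with hR
  have hcard : ((Finset.range (orderOf y)).filter (fun i => p ∣ i)).card = m := by
    rw [hom]; exact card_filter_dvd_range p m h.hp.pos
  have hA : (Nat.card Γ : ℂ) = (m : ℂ) * ((e : ℂ) ^ 2 * (Nat.card Q : ℂ)) + (Nat.card Q : ℂ) * R := by
    rw [← h1, h4, ← Finset.sum_filter_add_sum_filter_not (Finset.range (orderOf y)) (fun i => p ∣ i)]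
    congr 1
    · rw [Finset.sum_congr rfl (fun i hi => h5 i (Finset.mem_filter.mp hi).2), Finset.sum_const,
        hcard, nsmul_eq_mul]
    · rw [Finset.sum_congr rfl (fun i hi => h6 i (Finset.mem_filter.mp hi).2), ← Finset.mul_sum]
  have hB : (orderOf y : ℂ) * M = (m : ℂ) * (t : ℂ) ^ 2 + R := by
    rw [← hM, ← Finset.sum_filter_add_sum_filter_not (Finset.range (orderOf y)) (fun i => p ∣ i)]
    congr 1
    rw [Finset.sum_congr rfl (fun i hi => h7 i (Finset.mem_filter.mp hi).2), Finset.sum_const,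
      hcard, nsmul_eq_mul]
  have hC : (Nat.card Γ : ℂ) = (Nat.card Q : ℂ) * (orderOf y : ℂ) := by
    rw [h.card_eq]; push_cast; ring
  have hD : (orderOf y : ℂ) = (p : ℂ) * (m : ℂ) := by rw [hom]; push_cast; ring
  have hmne : (m : ℂ) ≠ 0 := by exact_mod_cast hmpos.ne'
  have key : (Nat.card Q : ℂ) * (m : ℂ) * (((p : ℂ) + (t : ℂ) ^ 2) - ((e : ℂ) ^ 2 + (p : ℂ) * M)) = 0 := by
    rw [hD] at hB hC
    linear_combination hA - hC - (Nat.card Q : ℂ) * hB
  have key2 : ((p : ℂ) + (t : ℂ) ^ 2) - ((e : ℂ) ^ 2 + (p : ℂ) * M) = 0 := by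
    rcases mul_eq_zero.mp key with h' | h'
    · exact absurd h' (mul_ne_zero hcQ hmne)
    · exact h'
  have key3 : ((p + t ^ 2 : ℕ) : ℂ) = ((e ^ 2 + p * M : ℕ) : ℂ) := by
    push_cast
    exact sub_eq_zero.mp key2
  exact_mod_cast key3

end Cfsg.Agent.Lib.Helper29.Ito
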