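import Mathlib
import Cfsg.Agent.Lib.Helper20.HHThmH
import Cfsg.Agent.Lib.helper17.PClosed
import Cfsg.Agent.Lib.Helper5.PConstr
import Cfsg.Agent.Lib.Helper1.Hall

/-!
Ito's theorem on `p`-solvable linear groups of degree `≤ p - 1` (S4468): group-theoretic part A.
Lifting a moved `q`-subgroup from `G / O_p(G)` to `G`.
-/

set_option autoImplicit false

namespace Cfsg.Agent.Lib.Helper29.Ito

open scoped Pointwise

variable {G : Type*} [Group G] [Finite G]

/-- Sylow conjugacy inside a subgroup, for subgroups of the ambient group. -/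
theorem sylow_conj_in {q : ℕ} [Fact q.Prime] (H Q Q' : Subgroup G) (hQ : Q ≤ H) (hQ' : Q' ≤ H)
    (hc : Nat.card Q = q ^ (Nat.card H).factorization q)
    (hc' : Nat.card Q' = q ^ (Nat.card H).factorization q) :
    ∃ u ∈ H, ∀ g : G, g ∈ Q' ↔ ∃ s ∈ Q, g = u * s * u⁻¹ := by
  have h1 : Nat.card (Q.subgroupOf H) = q ^ (Nat.card H).factorization q := by
    rw [← hc]; exact Nat.card_congr (Subgroup.subgroupOfEquivOfLe hQ).toEquiv
  have h1' : Nat.card (Q'.subgroupOf H) = q ^ (Nat.card H).factorization q := by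
    rw [← hc']; exact Nat.card_congr (Subgroup.subgroupOfEquivOfLe hQ').toEquiv
  set S : Sylow q H := Sylow.ofCard (Q.subgroupOf H) h1 with hS
  set S' : Sylow q H := Sylow.ofCard (Q'.subgroupOf H) h1' with hS'
  obtain ⟨u, hu⟩ := MulAction.exists_smul_eq H S S'
  refine ⟨u, u.2, ?_⟩
  intro g
  constructor
  · intro hg
    have hgH : g ∈ H := hQ' hg
    have h2 : (⟨g, hgH⟩ : H) ∈ ((u • S : Sylow q H) : Subgroup H) := by
      rw [hu, hS', Sylow.coe_ofCard, Subgroup.mem_subgroupOf]; exact hg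
    rw [Sylow.smul_def, Sylow.pointwise_smul_def] at h2
    obtain ⟨s, hs, hsg⟩ := h2
    rw [hS, Sylow.coe_ofCard] at hs
    have hs' : (s : G) ∈ Q := Subgroup.mem_subgroupOf.mp hs
    refine ⟨s, hs', ?_⟩
    have := congrArg Subtype.val hsg
    simp only [MulDistribMulAction.toMonoidEnd_apply, MulDistribMulAction.toMonoidHom_apply,
      MulAut.smul_def, MulAut.conj_apply] at this
    simpa using this.symm
  · rintro ⟨s, hs, rfl⟩
    have hsH : s ∈ H := hQ hs
    have h2 : (u * ⟨s, hsH⟩ * u⁻¹ : H) ∈ ((u • S : Sylow q H) : Subgroup H) := by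
      rw [Sylow.smul_def, Sylow.pointwise_smul_def]
      refine ⟨⟨s, hsH⟩, ?_, ?_⟩
      · rw [hS, Sylow.coe_ofCard, SetLike.mem_coe, Subgroup.mem_subgroupOf]; exact hs
      · simp [MulAut.smul_def]
    rw [hu, hS', Sylow.coe_ofCard, Subgroup.mem_subgroupOf] at h2
    simpa using h2


/-- In a `p`-solvable group with non-normal Sylow `p`-subgroup there is a `q`-subgroup `Q`
(`q ≠ p`) normalised but not centralised by a `p`-element `y` with `y ^ p` centralising `Q`. -/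
theorem exists_pair {p : ℕ} [Fact p.Prime] (hsolv : Cfsg.IsPSolvable p G) (P : Sylow p G)
    (hP : ¬ (P : Subgroup G).Normal) :
    ∃ q : ℕ, q.Prime ∧ q ≠ p ∧ ∃ (Q : Subgroup G) (y : G), IsPGroup q Q ∧
      (∃ k : ℕ, y ^ p ^ k = 1) ∧ y ∈ Subgroup.normalizer (Q : Set G) ∧
      (∀ z ∈ Q, y ^ p * z = z * y ^ p) ∧ ∃ z ∈ Q, y * z * y⁻¹ ≠ z := by
  have hp : p.Prime := Fact.out
  set R := Cfsg.pCore p G with hR
  have hRn : R.Normal := Cfsg.Agent.Lib.Helper1.pCore_normal p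
  have hRp : IsPGroup p R := Cfsg.Agent.Lib.Helper1.pCore_isPGroup p
  have hRP : R ≤ (P : Subgroup G) := Cfsg.Agent.Lib.Helper1.pCore_le_sylow p P
  have hne : R ≠ (P : Subgroup G) := by
    intro h; apply hP; rw [← h]; exact hRn
  obtain ⟨x, hxP, hxR⟩ := SetLike.exists_of_lt (lt_of_le_of_ne hRP hne)
  -- least power landing in R
  obtain ⟨k0, hk0⟩ := (P.isPGroup' ⟨x, hxP⟩)
  have hk0' : x ^ p ^ k0 = 1 := by
    have := congrArg Subtype.val hk0; simpa using this
  have hex : ∃ j : ℕ, x ^ p ^ j ∈ R := ⟨k0, by rw [hk0']; exact R.one_mem⟩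
  classical
  set j := Nat.find hex with hj
  have hjR : x ^ p ^ j ∈ R := Nat.find_spec hex
  have hj0 : j ≠ 0 := by
    intro h0; rw [h0, pow_zero, pow_one] at hjR; exact hxR hjR
  set x' := x ^ p ^ (j - 1) with hx'
  have hx'R : x' ∉ R := Nat.find_min hex (Nat.sub_lt (Nat.pos_of_ne_zero hj0) one_pos)
  have hx'p : x' ^ p ∈ R := by
    rw [hx', ← pow_mul, ← pow_succ, Nat.sub_add_cancel (Nat.pos_of_ne_zero hj0)]; exact hjR
  have hx'P : x' ∈ (P : Subgroup G) := Subgroup.pow_mem _ hxP _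
  set π := QuotientGroup.mk' R with hπ
  have hsolvQ : Cfsg.IsPSolvable p (G ⧸ R) :=
    Cfsg.Agent.Lib.Helper5.h5_isPSolvable_of_surjective π (QuotientGroup.mk'_surjective _) hsolv
  have hO : Cfsg.pCore p (G ⧸ R) = ⊥ := by
    rw [Cfsg.Agent.Lib.helper17.pCore_quotient R hRp, eq_bot_iff]
    rintro _ ⟨r, hr, rfl⟩
    rw [Subgroup.mem_bot]
    exact (QuotientGroup.eq_one_iff r).mpr hr
  have h1 : (π x') ^ p ^ 1 = 1 := by
    rw [pow_one, ← map_pow]; exact (QuotientGroup.eq_one_iff _).mpr hx'p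
  have h2 : (π x') ^ p ^ (1 - 1) ≠ 1 := by
    rw [Nat.sub_self, pow_zero, pow_one]
    intro h; exact hx'R ((QuotientGroup.eq_one_iff _).mp h)
  obtain ⟨q, hq, hqp, Qb, hQb, hxN, zb, hzb, hmoved⟩ :=
    Cfsg.Agent.Lib.Helper20.HHThm.exists_moved hsolvQ hO (π x') le_rfl h1 h2
  rw [Nat.sub_self, pow_zero, pow_one] at hmoved
  have hqF : Fact q.Prime := ⟨hq⟩
  refine ⟨q, hq, hqp, ?_⟩
  -- the preimage
  set Qt := Qb.comap π with hQt
  have hRQt : R ≤ Qt := by
    intro r hr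
    have e : π r = 1 := (QuotientGroup.eq_one_iff r).mpr hr
    rw [hQt, Subgroup.mem_comap, e]
    exact Qb.one_mem
  obtain ⟨Q0⟩ : Nonempty (Sylow q Qt) := inferInstance
  set Q := (Q0 : Subgroup Qt).map Qt.subtype with hQ
  have hQq : IsPGroup q Q := Q0.isPGroup'.map _
  have hQle : Q ≤ Qt := Subgroup.map_subtype_le _
  have hdisj : Q ⊓ R = ⊥ := disjoint_iff.mp (IsPGroup.disjoint_of_ne q p hqp Q R hQq hRp)
  -- cardinalities
  have hcardQt : Nat.card Qt = Nat.card R * Nat.card Qb := by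
    have hidx : Qt.index = Qb.index :=
      Subgroup.index_comap_of_surjective Qb (QuotientGroup.mk'_surjective R)
    have e1 : Nat.card Qt * Qt.index = Nat.card G := Subgroup.card_mul_index Qt
    have e2 : Nat.card Qb * Qb.index = Nat.card (G ⧸ R) := Subgroup.card_mul_index Qb
    have e3 : Nat.card G = Nat.card (G ⧸ R) * Nat.card R :=
      Subgroup.card_eq_card_quotient_mul_card_subgroup R
    have hi : Qb.index ≠ 0 := Subgroup.index_ne_zero_of_finite
    have : Nat.card Qt * Qb.index = (Nat.card R * Nat.card Qb) * Qb.index := by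
      rw [← hidx, e1, e3, ← e2, hidx]; ring
    exact Nat.eq_of_mul_eq_mul_right (Nat.pos_of_ne_zero hi) this
  obtain ⟨a, ha⟩ := hRp.exists_card_eq
  obtain ⟨b, hb⟩ := hQb.exists_card_eq
  have hfac : (Nat.card Qt).factorization q = b := by
    rw [hcardQt, ha, hb, Nat.factorization_mul (pow_ne_zero _ hp.ne_zero) (pow_ne_zero _ hq.ne_zero)]
    simp [Nat.Prime.factorization_pow hp, Nat.Prime.factorization_pow hq, hqp,
      Finsupp.single_apply, Ne.symm hqp]
  have hcardQ : Nat.card Q = q ^ (Nat.card Qt).factorization q := by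
    rw [hQ, Subgroup.card_map_of_injective (Subgroup.subtype_injective Qt)]
    exact Q0.card_eq_multiplicity
  have hmap : Q.map π = Qb := by
    apply Subgroup.eq_of_le_of_card_ge
    · rintro _ ⟨z, hz, rfl⟩
      exact hQle hz
    · rw [Cfsg.Agent.Lib.Helper1.card_map_mk'_of_inf_eq_bot Q R hdisj, hcardQ, hfac, hb]
  have hsup : R ⊔ Q = Qt := by
    apply Subgroup.eq_of_le_of_card_ge (sup_le hRQt hQle)
    rw [sup_comm, Cfsg.Agent.Lib.Helper1.card_sup_eq_mul_of_inf_eq_bot Q R hdisj, hcardQt, hcardQ,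
      hfac, hb, mul_comm]
  -- the conjugate of Q by x'
  have hxQt : ∀ g ∈ Qt, x' * g * x'⁻¹ ∈ Qt := by
    intro g hg
    rw [hQt, Subgroup.mem_comap, map_mul, map_mul, map_inv]
    exact (Subgroup.mem_normalizer_iff.mp hxN (π g)).mp hg
  set Q' := Q.map (MulAut.conj x').toMonoidHom with hQ'
  have hQ'le : Q' ≤ Qt := by
    rintro _ ⟨z, hz, rfl⟩
    exact hxQt z (hQle hz)
  have hcardQ' : Nat.card Q' = q ^ (Nat.card Qt).factorization q := by
    rw [hQ', Subgroup.card_map_of_injective (MulAut.conj x').injective]; exact hcardQ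
  obtain ⟨u, huQt, hu⟩ := sylow_conj_in Qt Q Q' hQle hQ'le hcardQ hcardQ'
  -- decompose u = r * s
  have hu' : u ∈ ((R ⊔ Q : Subgroup G) : Set G) := by rw [hsup]; exact huQt
  rw [Subgroup.normal_mul] at hu'
  obtain ⟨r, hr, s, hs, hrs⟩ := hu'
  have hr' : r ∈ R := hr
  have hs' : s ∈ Q := hs
  -- y := r⁻¹ * x' normalises Q
  set y := r⁻¹ * x' with hy
  have hyQ : ∀ z : G, z ∈ Q ↔ y * z * y⁻¹ ∈ Q := by
    have hfwd : ∀ z : G, z ∈ Q → y * z * y⁻¹ ∈ Q := by
      intro z hz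
      have h3 : x' * z * x'⁻¹ ∈ Q' := ⟨z, hz, rfl⟩
      obtain ⟨t, ht, hteq⟩ := (hu _).mp h3
      have h4 : y * z * y⁻¹ = s * t * s⁻¹ := by
        rw [hy]
        calc r⁻¹ * x' * z * (r⁻¹ * x')⁻¹ = r⁻¹ * (x' * z * x'⁻¹) * r := by group
          _ = r⁻¹ * (u * t * u⁻¹) * r := by rw [hteq]
          _ = s * t * s⁻¹ := by rw [← hrs]; group
      rw [h4]
      exact Q.mul_mem (Q.mul_mem hs' ht) (Q.inv_mem hs')
    intro z
    refine ⟨hfwd z, ?_⟩
    intro hz
    -- finite: conjugation is injective on the finite set Q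
    have hinj : Function.Injective (fun w : Q => (⟨y * w * y⁻¹, hfwd w w.2⟩ : Q)) := by
      intro w1 w2 h
      have := congrArg Subtype.val h
      simp only at this
      apply Subtype.ext
      have h5 : y * (w1 : G) = y * w2 := mul_right_cancel this
      exact mul_left_cancel h5
    have hsurj := Finite.surjective_of_injective hinj
    obtain ⟨w, hw⟩ := hsurj ⟨y * z * y⁻¹, hz⟩
    have := congrArg Subtype.val hw
    simp only at this
    have h5 : y * (w : G) = y * z := mul_right_cancel this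
    have h6 : (w : G) = z := mul_left_cancel h5
    rw [← h6]; exact w.2
  have hyN : y ∈ Subgroup.normalizer (Q : Set G) := by
    rw [Subgroup.mem_normalizer_iff]; exact hyQ
  have hyP : y ∈ (P : Subgroup G) :=
    Subgroup.mul_mem _ (Subgroup.inv_mem _ (hRP hr')) hx'P
  have hπy : π y = π x' := by
    have e : π r = 1 := (QuotientGroup.eq_one_iff r).mpr hr'
    rw [hy, map_mul, map_inv, e]; simp
  have hypR : y ^ p ∈ R := by
    apply (QuotientGroup.eq_one_iff _).mp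
    have : π (y ^ p) = 1 := by rw [map_pow, hπy, ← pow_one p]; simpa using h1
    exact this
  refine ⟨Q, y, hQq, ?_, hyN, ?_, ?_⟩
  · obtain ⟨k, hk⟩ := P.isPGroup' ⟨y, hyP⟩
    refine ⟨k, ?_⟩
    have := congrArg Subtype.val hk; simpa using this
  · intro z hz
    have hypN : y ^ p ∈ Subgroup.normalizer (Q : Set G) := Subgroup.pow_mem _ hyN p
    have h3 : y ^ p * z * (y ^ p)⁻¹ ∈ Q := (Subgroup.mem_normalizer_iff.mp hypN z).mp hz
    have h4 : y ^ p * z * (y ^ p)⁻¹ * z⁻¹ ∈ Q := Q.mul_mem h3 (Q.inv_mem hz)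
    have h5 : y ^ p * z * (y ^ p)⁻¹ * z⁻¹ ∈ R := by
      have : y ^ p * (z * (y ^ p)⁻¹ * z⁻¹) ∈ R :=
        R.mul_mem hypR (hRn.conj_mem _ (R.inv_mem hypR) z)
      have e : y ^ p * z * (y ^ p)⁻¹ * z⁻¹ = y ^ p * (z * (y ^ p)⁻¹ * z⁻¹) := by group
      rw [e]; exact this
    have h6 : y ^ p * z * (y ^ p)⁻¹ * z⁻¹ ∈ Q ⊓ R := Subgroup.mem_inf.mpr ⟨h4, h5⟩
    rw [hdisj, Subgroup.mem_bot] at h6
    calc y ^ p * z = (y ^ p * z * (y ^ p)⁻¹ * z⁻¹) * z * y ^ p := by group
      _ = z * y ^ p := by rw [h6, one_mul]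
  · have hzb' : zb ∈ Q.map π := by rw [hmap]; exact hzb
    obtain ⟨z, hz, hzeq⟩ := hzb'
    refine ⟨z, hz, ?_⟩
    intro h
    apply hmoved
    rw [← hzeq, ← hπy, ← map_inv, ← map_mul, ← map_mul, h]

end Cfsg.Agent.Lib.Helper29.Ito
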