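import Mathlib
import Cfsg.Prelude.Def_Characters
import Cfsg.Agent.Lib.Helper29.ItoChar

/-!
Ito's theorem (S4468): the abstract theorem for `Γ = Q ⟨y⟩`.
-/

set_option autoImplicit false

namespace Cfsg.Agent.Lib.Helper29.Ito

open scoped ComplexConjugate
open Cfsg.Agent.Lib.helper7 Cfsg.Agent.Lib.helper2 Cfsg.Agent.Lib.Helper25 Cfsg.Agent.Lib.Helper11

theorem ito_arith (p e d t M : ℕ) (hp : p.Prime) (he : 0 < e) (hd : 2 ≤ d) (ht : t = e * d)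
    (htp : t + 1 ≤ p) (h : p + t ^ 2 = e ^ 2 + p * M) : d + 1 = p ∧ e = 1 := by
  subst ht
  obtain ⟨d', rfl⟩ : ∃ d', d = d' + 2 := ⟨d - 2, by omega⟩
  have h1 : e ^ 2 * ((d' + 1) * (d' + 3)) + p = p * M := by
    zify at h ⊢
    linear_combination h
  have h2 : p ∣ e ^ 2 * ((d' + 1) * (d' + 3)) := by
    have : p ∣ e ^ 2 * ((d' + 1) * (d' + 3)) + p := h1 ▸ dvd_mul_right p M
    exact (Nat.dvd_add_left (dvd_refl p)).mp this
  have hele : e ≤ e * (d' + 2) := Nat.le_mul_of_pos_right e (by omega)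
  have hdle : d' + 2 ≤ e * (d' + 2) := Nat.le_mul_of_pos_left (d' + 2) he
  have hep : ¬ p ∣ e := fun hd' => by
    have := Nat.le_of_dvd he hd'
    omega
  have hd1 : ¬ p ∣ d' + 1 := fun hd' => by
    have := Nat.le_of_dvd (by omega) hd'
    omega
  have h3 : p ∣ d' + 3 := by
    rcases (Nat.Prime.dvd_mul hp).mp h2 with h' | h'
    · exact absurd (hp.dvd_of_dvd_pow h') hep
    · rcases (Nat.Prime.dvd_mul hp).mp h' with h'' | h''
      · exact absurd h'' hd1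
      · exact h''
  have h4 := Nat.le_of_dvd (by omega) h3
  have h5 : d' + 2 + 1 = p := by omega
  refine ⟨h5, ?_⟩
  by_contra hne
  have h6 : 2 ≤ e := by omega
  have h7 : 2 * (d' + 2) ≤ e * (d' + 2) := Nat.mul_le_mul_right _ h6
  omega

variable {Γ : Type*} [Group Γ] {Q : Subgroup Γ} {y : Γ} {p q : ℕ}

/-- constituents of the restriction to `Q` of a character of degree `< p` are invariant -/
theorem Setup.invariant [Fintype Γ] [Fintype Q] [hQn : Q.Normal] (h : Setup p q Q y)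
    (ψ : Cfsg.IrrCharacter Γ) (hdeg : Cfsg.charDegree (ψ : Γ → ℂ) < p) (θ : Cfsg.IrrCharacter Q)
    (hcon : Cfsg.classInner (fun z : Q => (ψ : Γ → ℂ) z) (θ : Q → ℂ) ≠ 0) (g : Γ) :
    cj Q θ.1 g = θ.1 := by
  classical
  obtain ⟨e, he⟩ := itn_degree_dvd Q ψ θ hcon
  have ht := knb_orbit_card_dvd Q θ
  obtain ⟨a, _, ha⟩ := h.orderOf_y
  rw [h.index_eq, ha] at ht
  obtain ⟨j, hj, hcard⟩ := (Nat.dvd_prime_pow h.hp).mp ht
  rcases Nat.eq_zero_or_pos j with h0 | h0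
  · rw [h0, pow_zero] at hcard
    obtain ⟨a, ha⟩ := Finset.card_eq_one.mp hcard
    have m1 : cj Q θ.1 g ∈ Finset.univ.image (fun g : Γ => cj Q θ.1 g) :=
      Finset.mem_image.mpr ⟨g, Finset.mem_univ _, rfl⟩
    have m2 : cj Q θ.1 1 ∈ Finset.univ.image (fun g : Γ => cj Q θ.1 g) :=
      Finset.mem_image.mpr ⟨1, Finset.mem_univ _, rfl⟩
    rw [ha, Finset.mem_singleton] at m1 m2
    rw [m1, ← m2, cj_one]
  · exfalso
    have hdvd : p ∣ Cfsg.charDegree (ψ : Γ → ℂ) := by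
      rw [he, hcard]
      exact dvd_mul_of_dvd_right (dvd_mul_of_dvd_left (dvd_pow_self p h0.ne') _) _
    have hpos := (charDegree_irr ψ).2
    have := Nat.le_of_dvd hpos hdvd
    omega


theorem Setup.irr_case [Finite Γ] [hQn : Q.Normal] (h : Setup p q Q y) (ψ : Cfsg.IrrCharacter Γ)
    (hdeg : Cfsg.charDegree (ψ : Γ → ℂ) + 1 ≤ p) :
    (∀ u ∈ Q, (ψ : Γ → ℂ) (u⁻¹ * (y * u * y⁻¹)) = (ψ : Γ → ℂ) 1) ∨
    (Cfsg.charDegree (ψ : Γ → ℂ) + 1 = p ∧ ∃ k : ℕ, Cfsg.charDegree (ψ : Γ → ℂ) = q ^ k) := by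
  classical
  haveI := Fintype.ofFinite Γ
  haveI : Fintype Q := Fintype.ofFinite Q
  have hres := isCharacter_restrict (isCharacter_of_irr ψ) Q
  have h1 : (fun z : Q => (ψ : Γ → ℂ) z) 1 ≠ 0 := irr_one_ne_zero ψ
  obtain ⟨θ, m, hm, hθ⟩ := isCharacter_exists_constituent hres h1
  have hcon : Cfsg.classInner (fun z : Q => (ψ : Γ → ℂ) z) (θ : Q → ℂ) ≠ 0 := by
    rw [hθ]; exact_mod_cast hm.ne'
  have hinv := h.invariant ψ (by omega) θ hcon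
  obtain ⟨e, he, -, hexp⟩ := h7_clifford_invariant Q ψ.1 ψ.2 θ.1 θ.2 hcon hinv
  obtain ⟨d, hd, hθ1, hdvd⟩ := irr_degree_dvd_card θ
  obtain ⟨htc, htpos⟩ := charDegree_irr ψ
  set t := Cfsg.charDegree (ψ : Γ → ℂ) with ht
  have hted : t = e * d := by
    have h2 := congrFun hexp 1
    simp only [Pi.smul_apply, smul_eq_mul] at h2
    rw [hθ1] at h2
    have h3 : (ψ : Γ → ℂ) 1 = (e : ℂ) * d := by simpa using h2
    rw [← htc] at h3
    exact_mod_cast h3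
  by_cases hd1 : d = 1
  · left
    intro u hu
    have hθlin : (θ : Q → ℂ) 1 = 1 := by rw [hθ1, hd1]; simp
    have hyu : y * u * y⁻¹ ∈ Q := hQn.conj_mem u hu y
    have h3 : (θ : Q → ℂ) ((⟨u, hu⟩ : Q)⁻¹ * ⟨y * u * y⁻¹, hyu⟩) = 1 := by
      rw [irr_linear_mul θ hθlin]
      have h4 : (θ : Q → ℂ) ⟨y * u * y⁻¹, hyu⟩ = (θ : Q → ℂ) ⟨u, hu⟩ := by
        have := congrFun (hinv y) ⟨u, hu⟩
        rw [cj_apply] at this
        exact this
      rw [h4, ← irr_linear_mul θ hθlin, inv_mul_cancel, hθlin]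
    have h5 := congrFun hexp ((⟨u, hu⟩ : Q)⁻¹ * ⟨y * u * y⁻¹, hyu⟩)
    simp only [Pi.smul_apply, smul_eq_mul] at h5
    rw [h3] at h5
    have h6 := congrFun hexp 1
    simp only [Pi.smul_apply, smul_eq_mul] at h6
    rw [hθlin] at h6
    have h7 : (((⟨u, hu⟩ : Q)⁻¹ * ⟨y * u * y⁻¹, hyu⟩ : Q) : Γ) = u⁻¹ * (y * u * y⁻¹) := rfl
    rw [h7] at h5
    rw [h5]
    simpa using h6.symm
  · right
    have hd2 : 2 ≤ d := by omega
    obtain ⟨M, hM⟩ := h.count ψ.1 ψ.2 θ.1 θ.2 e hexp t htc.symm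
    obtain ⟨hdp, he1⟩ := ito_arith p e d t M h.hp he hd2 hted (by omega) hM
    rw [he1, one_mul] at hted
    refine ⟨by omega, ?_⟩
    haveI : Fact q.Prime := ⟨h.hq⟩
    obtain ⟨b, hb⟩ := (IsPGroup.iff_card).mp h.pgroup
    rw [hb] at hdvd
    obtain ⟨k, _, hk⟩ := (Nat.dvd_prime_pow h.hq).mp hdvd
    exact ⟨k, by rw [hted, hk]⟩

/-- Ito's theorem for the group `Γ = Q ⟨y⟩`. -/
theorem Setup.main [Finite Γ] [hQn : Q.Normal] (h : Setup p q Q y) (χ : Γ → ℂ)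
    (hχ : Cfsg.IsCharacter Γ χ) (hfaith : ∀ g : Γ, χ g = χ 1 → g = 1) (n : ℕ)
    (hn : Cfsg.charDegree χ = n) (hnp : n + 1 ≤ p) :
    n + 1 = p ∧ (∃ k : ℕ, n = 2 ^ k) ∧ Cfsg.IsIrrCharacter Γ χ := by
  classical
  haveI := Fintype.ofFinite Γ
  haveI : Fintype (Cfsg.IrrCharacter Γ) := Fintype.ofFinite _
  obtain ⟨n', hn'⟩ := isCharacter_one_eq_nat hχ
  have hnn : n' = n := by
    rw [← hn]; unfold Cfsg.charDegree; rw [hn']; simp
  rw [hnn] at hn'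
  have hconst : ∀ ψ : Cfsg.IrrCharacter Γ, Cfsg.classInner χ (ψ : Γ → ℂ) ≠ 0 →
      ∃ Δ : Γ → ℂ, Cfsg.IsCharacter Γ Δ ∧ χ = (ψ : Γ → ℂ) + Δ ∧
        ∃ r : ℕ, Cfsg.charDegree (ψ : Γ → ℂ) + r = n ∧ Δ 1 = r := by
    intro ψ hψ
    obtain ⟨Δ, hΔ, hsplit⟩ := h7_char_split hχ ψ.1 ψ.2 hψ
    obtain ⟨r, hr⟩ := isCharacter_one_eq_nat hΔ
    refine ⟨Δ, hΔ, hsplit, r, ?_, hr⟩
    have h1 := congrFun hsplit 1
    simp only [Pi.add_apply] at h1
    rw [hn', hr, ← (charDegree_irr ψ).1] at h1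
    exact_mod_cast h1.symm
  by_cases hall : ∀ ψ : Cfsg.IrrCharacter Γ, Cfsg.classInner χ (ψ : Γ → ℂ) ≠ 0 →
      ∀ u ∈ Q, (ψ : Γ → ℂ) (u⁻¹ * (y * u * y⁻¹)) = (ψ : Γ → ℂ) 1
  · exfalso
    obtain ⟨m, hm, hexp⟩ := isCharacter_expansion hχ
    obtain ⟨z, hz, hzm⟩ := h.moved
    apply hzm
    have h0 : χ (z⁻¹ * (y * z * y⁻¹)) = χ 1 := by
      rw [hexp]
      simp only [Finset.sum_apply, Pi.smul_apply, smul_eq_mul]
      apply Finset.sum_congr rfl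
      intro ψ _
      by_cases hψ : Cfsg.classInner χ (ψ : Γ → ℂ) = 0
      · have h2 : (m ψ : ℂ) = 0 := by rw [← hm ψ, hψ]
        rw [h2, zero_mul, zero_mul]
      · rw [hall ψ hψ z hz]
    have h1 := hfaith _ h0
    calc y * z * y⁻¹ = z * (z⁻¹ * (y * z * y⁻¹)) := by group
      _ = z := by rw [h1, mul_one]
  · push Not at hall
    obtain ⟨ψ, hψ, u, hu, hne⟩ := hall
    obtain ⟨Δ, hΔ, hsplit, r, hr, hΔ1⟩ := hconst ψ hψ
    rcases h.irr_case ψ (by omega) with hc | ⟨hc1, k, hk⟩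
    · exact absurd (hc u hu) hne
    · have hr0 : r = 0 := by omega
      have hΔ0 : Δ = 0 := h7_isCharacter_eq_zero hΔ (by rw [hΔ1, hr0]; simp)
      have hχψ : χ = ψ.1 := by rw [hsplit, hΔ0, add_zero]
      have hnd : Cfsg.charDegree (ψ : Γ → ℂ) = n := by omega
      refine ⟨by omega, ?_, hχψ ▸ ψ.2⟩
      rw [hnd] at hk
      rcases Nat.eq_zero_or_pos k with hk0 | hk0
      · exact ⟨0, by rw [hk, hk0, pow_zero, pow_zero]⟩
      · have hp2 := h.hp.eq_two_or_odd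
        rcases hp2 with hp2 | hp2
        · exact ⟨0, by omega⟩
        · have h2n : 2 ∣ n := by omega
          rw [hk] at h2n
          have h2q : 2 ∣ q := Nat.prime_two.dvd_of_dvd_pow h2n
          have hq2 : 2 = q := (Nat.prime_dvd_prime_iff_eq Nat.prime_two h.hq).mp h2q
          exact ⟨k, by rw [hk, ← hq2]⟩

end Cfsg.Agent.Lib.Helper29.Ito
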