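import Mathlib
import Cfsg.Agent.Lib.helper7.ClassSum

set_option autoImplicit false

/-!
Counting pairs of involutions in a group `H = U ⋊ V₄` with a central involution `J`
(used for Brauer's order formula for groups with Klein four Sylow 2-subgroups).
-/

namespace Cfsg.Agent.Lib.Helper29.KleinCount

open Cfsg.Agent.Lib.helper7

variable {H : Type*} [Group H]

theorem kc_sqrt {x : H} (hx : Odd (orderOf x)) : ∃ n : ℕ, (x ^ n) ^ 2 = x := by
  obtain ⟨k, hk⟩ := hx
  refine ⟨k + 1, ?_⟩
  rw [← pow_mul]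
  have h : (k + 1) * 2 = orderOf x + 1 := by omega
  rw [h, pow_succ, pow_orderOf_eq_one, one_mul]

theorem kc_inv_pow {t x : H} (h : t * x * t⁻¹ = x⁻¹) (n : ℕ) :
    t * x ^ n * t⁻¹ = (x ^ n)⁻¹ := by
  have h1 := map_pow (MulAut.conj t) x n
  simp only [MulAut.conj_apply] at h1
  rw [h1, h, inv_pow]

theorem kc_sq_of_order_two {t : H} (ht : orderOf t = 2) : t * t = 1 := by
  rw [← pow_two, ← ht, pow_orderOf_eq_one]

theorem kc_inv_of_order_two {t : H} (ht : orderOf t = 2) : t⁻¹ = t :=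
  inv_eq_of_mul_eq_one_right (kc_sq_of_order_two ht)

theorem kc_ne_one_of_order_two {t : H} (ht : orderOf t = 2) : t ≠ 1 := by
  intro h
  rw [h, orderOf_one] at ht
  norm_num at ht

theorem kc_not_mem [Finite H] (U : Subgroup H) (hUodd : Odd (Nat.card U)) {t : H}
    (ht : orderOf t = 2) : t ∉ U := by
  intro h
  have h1 : orderOf t ∣ Nat.card U := Subgroup.orderOf_dvd_natCard U h
  rw [ht] at h1
  exact (Nat.not_even_iff_odd.mpr hUodd) (even_iff_two_dvd.mpr h1)

/-- two involutions in the same coset of an odd-order subgroup are conjugate -/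
theorem kc_conj_of_coset [Finite H] (U : Subgroup H) (hUodd : Odd (Nat.card U)) {t u : H}
    (ht : orderOf t = 2) (hu : orderOf u = 2) (hut : u * t⁻¹ ∈ U) :
    ∃ w : H, w * t * w⁻¹ = u := by
  have ht2 := kc_sq_of_order_two ht
  have hu2 := kc_sq_of_order_two hu
  have htinv := kc_inv_of_order_two ht
  have huinv := kc_inv_of_order_two hu
  obtain ⟨x, hx⟩ : ∃ x : H, x = u * t⁻¹ := ⟨_, rfl⟩
  have hxodd : Odd (orderOf x) := by
    have h1 : orderOf x ∣ Nat.card U := by
      rw [hx]
      exact Subgroup.orderOf_dvd_natCard U hut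
    exact hUodd.of_dvd_nat h1
  have hinv : t * x * t⁻¹ = x⁻¹ := by
    rw [hx, mul_inv_rev, inv_inv, htinv, huinv]
    calc t * (u * t) * t = t * u * (t * t) := by group
      _ = t * u := by rw [ht2, mul_one]
  obtain ⟨n, hn⟩ := kc_sqrt hxodd
  refine ⟨x ^ n, ?_⟩
  have h1 := kc_inv_pow hinv n
  have h2 : t * (x ^ n)⁻¹ * t⁻¹ = x ^ n := by
    have h3 : (t * x ^ n * t⁻¹)⁻¹ = ((x ^ n)⁻¹)⁻¹ := by rw [h1]
    rw [inv_inv] at h3
    calc t * (x ^ n)⁻¹ * t⁻¹ = (t * x ^ n * t⁻¹)⁻¹ := by group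
      _ = x ^ n := h3
  calc x ^ n * t * (x ^ n)⁻¹ = x ^ n * (t * (x ^ n)⁻¹ * t⁻¹) * t := by group
    _ = x ^ n * x ^ n * t := by rw [h2]
    _ = (x ^ n) ^ 2 * t := by rw [pow_two]
    _ = x * t := by rw [hn]
    _ = u := by rw [hx]; group

theorem kc_quot_comm [Finite H] (U : Subgroup H) [U.Normal] (hidx : U.index = 4)
    (x y : H ⧸ U) : x * y = y * x := by
  haveI : Fact (Nat.Prime 2) := ⟨Nat.prime_two⟩
  have hc : Nat.card (H ⧸ U) = 2 ^ 2 := by
    rw [← Subgroup.index_eq_card, hidx]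
    norm_num
  haveI := IsPGroup.isMulCommutative_of_card_eq_prime_sq hc
  exact mul_comm' x y

theorem kc_card_coset_inv [Fintype H] (U : Subgroup H) [U.Normal]
    (hUodd : Odd (Nat.card U)) (hidx : U.index = 4) {t : H} (ht : orderOf t = 2)
    [DecidablePred (fun u : H => orderOf u = 2 ∧ (u : H ⧸ U) = (t : H ⧸ U))] :
    (Finset.univ.filter (fun u : H => orderOf u = 2 ∧ (u : H ⧸ U) = (t : H ⧸ U))).card *
      Nat.card (Subgroup.centralizer ({t} : Set H)) = Nat.card H := by
  classical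
  rw [← h7_card_class_mul_card_centralizer t]
  congr 1
  rw [Nat.card_eq_fintype_card, Fintype.card_subtype]
  congr 1
  ext u
  simp only [Finset.mem_filter, Finset.mem_univ, true_and]
  constructor
  · rintro ⟨hu, hπ⟩
    have hut : u * t⁻¹ ∈ U := by
      have h1 : ((u * t⁻¹ : H) : H ⧸ U) = 1 := by
        rw [QuotientGroup.mk_mul, QuotientGroup.mk_inv, hπ, mul_inv_cancel]
      exact (QuotientGroup.eq_one_iff _).mp h1
    obtain ⟨w, hw⟩ := kc_conj_of_coset U hUodd ht hu hut
    exact isConj_iff.mpr ⟨w, hw⟩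
  · intro hc
    obtain ⟨w, hw⟩ := isConj_iff.mp hc
    refine ⟨?_, ?_⟩
    · rw [← hw, ← ht]
      exact orderOf_injective (MulAut.conj w).toMonoidHom (MulAut.conj w).injective t
    · rw [← hw, QuotientGroup.mk_mul, QuotientGroup.mk_mul, QuotientGroup.mk_inv,
        kc_quot_comm U hidx (w : H ⧸ U) t, mul_inv_cancel_right]


theorem kc_pow_odd_of_sq {M : Type*} [Monoid M] {q : M} (hq : q * q = 1) {n : ℕ} (hn : Odd n) :
    q ^ n = q := by
  obtain ⟨k, rfl⟩ := hn
  rw [pow_succ, pow_mul, pow_two, hq, one_pow, one_mul]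

theorem kc_centralizer_mul_central (J s : H) (hJc : ∀ h : H, h * J = J * h) :
    Subgroup.centralizer ({J * s} : Set H) = Subgroup.centralizer ({s} : Set H) := by
  ext h
  simp only [Subgroup.mem_centralizer_singleton_iff]
  constructor
  · intro h1
    have h2 : J * (h * s) = J * (s * h) := by
      calc J * (h * s) = h * J * s := by rw [hJc h, mul_assoc]
        _ = h * (J * s) := by rw [mul_assoc]
        _ = J * s * h := h1
        _ = J * (s * h) := by rw [mul_assoc]
    exact mul_left_cancel h2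
  · intro h1
    calc h * (J * s) = h * J * s := by rw [mul_assoc]
      _ = J * (h * s) := by rw [hJc h, mul_assoc]
      _ = J * (s * h) := by rw [h1]
      _ = J * s * h := by rw [mul_assoc]

theorem kc_pairs_count [Fintype H] [DecidableEq H] (U : Subgroup H) [U.Normal]
    (hUodd : Odd (Nat.card U)) (hidx : U.index = 4) (J s : H) (hJ : orderOf J = 2)
    (hs : orderOf s = 2) (hJs : J ≠ s) (hJc : ∀ h : H, h * J = J * h) (g₀ : ℕ) (hg₀ : Odd g₀)
    (hUg : Nat.card U ∣ g₀) :
    ((Finset.univ : Finset (H × H)).filter (fun p : H × H => orderOf p.1 = 2 ∧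
        orderOf p.2 = 2 ∧ (p.1 * p.2) ^ g₀ = J)).card *
        Nat.card (Subgroup.centralizer ({s} : Set H)) ^ 2 = 2 * Nat.card H ^ 2 := by
  classical
  have hJ2 := kc_sq_of_order_two hJ
  have hs2 := kc_sq_of_order_two hs
  have hJsc : J * s = s * J := (hJc s).symm
  have hJs2 : (J * s) * (J * s) = 1 := by
    calc (J * s) * (J * s) = J * (s * J) * s := by group
      _ = J * (J * s) * s := by rw [hJsc]
      _ = (J * J) * (s * s) := by group
      _ = 1 := by rw [hJ2, hs2, one_mul]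
  have hJs1 : J * s ≠ 1 := by
    intro h
    apply hJs
    have h1 : J = s⁻¹ := eq_inv_of_mul_eq_one_left h
    rw [h1, kc_inv_of_order_two hs]
  have hJso : orderOf (J * s) = 2 :=
    orderOf_eq_prime (by rw [pow_two]; exact hJs2) hJs1
  obtain ⟨a, ha⟩ : ∃ a : H ⧸ U, a = (J : H ⧸ U) := ⟨_, rfl⟩
  obtain ⟨b, hb⟩ : ∃ b : H ⧸ U, b = (s : H ⧸ U) := ⟨_, rfl⟩
  have hab : ((J * s : H) : H ⧸ U) = a * b := by rw [ha, hb]; rfl
  have hcomm := kc_quot_comm U hidx
  have ha2 : a * a = 1 := by
    rw [ha, ← QuotientGroup.mk_mul, hJ2]; rfl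
  have hb2 : b * b = 1 := by
    rw [hb, ← QuotientGroup.mk_mul, hs2]; rfl
  have hne : ∀ {t : H}, orderOf t = 2 → ((t : H) : H ⧸ U) ≠ 1 := fun ht h =>
    kc_not_mem U hUodd ht ((QuotientGroup.eq_one_iff _).mp h)
  have ha1 : a ≠ 1 := by rw [ha]; exact hne hJ
  have hb1 : b ≠ 1 := by rw [hb]; exact hne hs
  have hab1 : a * b ≠ 1 := by rw [← hab]; exact hne hJso
  have hab' : a ≠ b := by
    intro h
    apply hab1
    rw [h, hb2]
  have hb_ab : b ≠ a * b := by
    intro h
    apply ha1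
    have h1 : b * b = a * b * b := congrArg (· * b) h
    rw [hb2, mul_assoc, hb2, mul_one] at h1
    exact h1.symm
  have ha_ab : a ≠ a * b := by
    intro h
    apply hb1
    have h1 : a * a = a * (a * b) := congrArg (a * ·) h
    rw [ha2, ← mul_assoc, ha2, one_mul] at h1
    exact h1.symm
  have henum : ∀ q : H ⧸ U, q = 1 ∨ q = a ∨ q = b ∨ q = a * b := by
    haveI : Fintype (H ⧸ U) := Fintype.ofFinite _
    have hcard : ({1, a, b, a * b} : Finset (H ⧸ U)).card = Fintype.card (H ⧸ U) := by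
      rw [← Nat.card_eq_fintype_card, ← Subgroup.index_eq_card, hidx]
      rw [Finset.card_insert_of_notMem, Finset.card_insert_of_notMem,
        Finset.card_insert_of_notMem, Finset.card_singleton]
      · simp only [Finset.mem_singleton]
        exact hb_ab
      · simp only [Finset.mem_insert, Finset.mem_singleton, not_or]
        exact ⟨hab', ha_ab⟩
      · simp only [Finset.mem_insert, Finset.mem_singleton, not_or]
        exact ⟨ha1.symm, hb1.symm, hab1.symm⟩
    have huniv := Finset.eq_univ_of_card _ hcard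
    intro q
    have hq : q ∈ ({1, a, b, a * b} : Finset (H ⧸ U)) := by
      rw [huniv]; exact Finset.mem_univ q
    simpa using hq
  have hq2 : ∀ q : H ⧸ U, q * q = 1 := by
    intro q
    rcases henum q with rfl | rfl | rfl | rfl
    · exact one_mul 1
    · exact ha2
    · exact hb2
    · rw [← hab, ← QuotientGroup.mk_mul, hJs2]; rfl
  have hkey : ∀ u v : H, (u * v) ^ g₀ = J ↔ (u : H ⧸ U) * (v : H ⧸ U) = a := by
    intro u v
    constructor
    · intro h
      have h1 : (((u * v) ^ g₀ : H) : H ⧸ U) = (J : H ⧸ U) := congrArg (fun x : H => (x : H ⧸ U)) h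
      rw [QuotientGroup.mk_pow, QuotientGroup.mk_mul, kc_pow_odd_of_sq (hq2 _) hg₀] at h1
      rw [h1, ha]
    · intro h
      have h1 : J⁻¹ * (u * v) ∈ U := by
        rw [← QuotientGroup.eq, QuotientGroup.mk_mul, h, ha]
      obtain ⟨x, hx⟩ : ∃ x : H, x = J⁻¹ * (u * v) := ⟨_, rfl⟩
      have huv : u * v = J * x := by rw [hx]; group
      have hxg : x ^ g₀ = 1 := by
        apply orderOf_dvd_iff_pow_eq_one.mp
        refine dvd_trans ?_ hUg
        rw [hx]
        exact Subgroup.orderOf_dvd_natCard U h1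
      have hcm : Commute J x := (hJc x).symm
      rw [huv, hcm.mul_pow, hxg, mul_one, kc_pow_odd_of_sq hJ2 hg₀]
  obtain ⟨A, hA⟩ : ∃ A : H → Finset H, A = fun t : H =>
      Finset.univ.filter (fun u : H => orderOf u = 2 ∧ (u : H ⧸ U) = (t : H ⧸ U)) := ⟨_, rfl⟩
  have hmemA : ∀ t u : H, u ∈ A t ↔ orderOf u = 2 ∧ (u : H ⧸ U) = (t : H ⧸ U) := by
    intro t u
    rw [hA]
    simp only [Finset.mem_filter, Finset.mem_univ, true_and]
  have hset : ((Finset.univ : Finset (H × H)).filter (fun p : H × H => orderOf p.1 = 2 ∧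
        orderOf p.2 = 2 ∧ (p.1 * p.2) ^ g₀ = J)) =
      (A s ×ˢ A (J * s)) ∪ (A (J * s) ×ˢ A s) := by
    ext ⟨u, v⟩
    simp only [Finset.mem_filter, Finset.mem_univ, true_and, Finset.mem_union,
      Finset.mem_product, hmemA, hab, ← hb]
    rw [hkey]
    constructor
    · rintro ⟨hu, hv, huv⟩
      have hv1 := hne hv
      rcases henum (u : H ⧸ U) with h | h | h | h
      · exact absurd h (hne hu)
      · exfalso
        apply hv1
        rw [h] at huv
        exact mul_left_cancel (huv.trans (mul_one a).symm)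
      · left
        refine ⟨⟨hu, h⟩, hv, ?_⟩
        rw [h] at huv
        have h1 : b * (b * (v : H ⧸ U)) = b * a := by rw [huv]
        rw [← mul_assoc, hb2, one_mul] at h1
        rw [h1, hcomm]
      · right
        refine ⟨⟨hu, h⟩, hv, ?_⟩
        rw [h] at huv
        have h1 : b * (a * (a * b * (v : H ⧸ U))) = b * (a * a) := by rw [huv]
        rw [ha2, mul_one] at h1
        rw [← h1, ← mul_assoc a, ← mul_assoc a, ha2, one_mul, ← mul_assoc, hb2, one_mul]
    · rintro (⟨⟨hu, hu'⟩, hv, hv'⟩ | ⟨⟨hu, hu'⟩, hv, hv'⟩)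
      · refine ⟨hu, hv, ?_⟩
        rw [hu', hv', hcomm a b, ← mul_assoc, hb2, one_mul]
      · refine ⟨hu, hv, ?_⟩
        rw [hu', hv', mul_assoc, hb2, mul_one]
  have hdisj : Disjoint (A s ×ˢ A (J * s)) (A (J * s) ×ˢ A s) := by
    rw [Finset.disjoint_left]
    rintro ⟨u, v⟩ h1 h2
    simp only [Finset.mem_product, hmemA, hab, ← hb] at h1 h2
    exact hb_ab (h1.1.2.symm.trans h2.1.2)
  have hc1 : (A s).card * Nat.card (Subgroup.centralizer ({s} : Set H)) = Nat.card H := by
    rw [hA]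
    exact kc_card_coset_inv U hUodd hidx hs
  have hc2 : (A (J * s)).card * Nat.card (Subgroup.centralizer ({s} : Set H)) = Nat.card H := by
    rw [hA, ← kc_centralizer_mul_central J s hJc]
    exact kc_card_coset_inv U hUodd hidx hJso
  rw [hset, Finset.card_union_of_disjoint hdisj, Finset.card_product, Finset.card_product]
  calc ((A s).card * (A (J * s)).card + (A (J * s)).card * (A s).card) *
        Nat.card (Subgroup.centralizer ({s} : Set H)) ^ 2
      = 2 * (((A s).card * Nat.card (Subgroup.centralizer ({s} : Set H))) *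
          ((A (J * s)).card * Nat.card (Subgroup.centralizer ({s} : Set H)))) := by ring
    _ = 2 * Nat.card H ^ 2 := by rw [hc1, hc2]; ring

end Cfsg.Agent.Lib.Helper29.KleinCount
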