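import Mathlib

set_option autoImplicit false

namespace Cfsg.Agent.Lib.Helper29.KleinOrder

/-- the arithmetic behind Brauer's `PSL₂`-shape order formula -/
theorem kof_arith (N c p x q idx : ℕ) (hc : 0 < c) (hp : 0 < p) (hx : 0 < x)
    (hq : q = 1 + 2 * x) (hA2 : N * (x + 1) ^ 2 * p ^ 2 = 4 * c ^ 3 * x * q)
    (hidx : idx * c = N) (hxi : x ∣ idx) (hpc : p ∣ c) (hodd : Odd x) :
    ∃ m : ℕ, 4 * c = m * p * (q + 1) ∧ 8 * N = m ^ 3 * p * (q ^ 3 - q) := by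
  obtain ⟨k, rfl⟩ := hpc
  obtain ⟨r, rfl⟩ := hxi
  obtain ⟨y', rfl⟩ := hodd
  obtain ⟨y, hy⟩ : ∃ y : ℕ, y = y' + 1 := ⟨_, rfl⟩
  have hkpos : 0 < k := Nat.pos_of_mul_pos_left hc
  have hq' : q = 4 * y' + 3 := by rw [hq]; ring
  subst hidx
  -- r * y ^ 2 = k ^ 2 * q
  have key : r * y ^ 2 = k ^ 2 * q := by
    have h1 : (4 * (2 * y' + 1) * p ^ 3 * k) * (r * y ^ 2) =
        (4 * (2 * y' + 1) * p ^ 3 * k) * (k ^ 2 * q) := by
      rw [hy]
      have e : 2 * y' + 1 + 1 = 2 * (y' + 1) := by ring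
      rw [e] at hA2
      calc (4 * (2 * y' + 1) * p ^ 3 * k) * (r * (y' + 1) ^ 2)
          = (2 * y' + 1) * r * (p * k) * (2 * (y' + 1)) ^ 2 * p ^ 2 := by ring
        _ = 4 * (p * k) ^ 3 * (2 * y' + 1) * q := hA2
        _ = (4 * (2 * y' + 1) * p ^ 3 * k) * (k ^ 2 * q) := by ring
    have hpos : 0 < 4 * (2 * y' + 1) * p ^ 3 * k := by positivity
    exact Nat.eq_of_mul_eq_mul_left hpos h1
  have hcop : Nat.Coprime (y ^ 2) q := by
    apply Nat.Coprime.pow_left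
    rw [hq', hy, ← Nat.isCoprime_iff_coprime]
    exact ⟨4, -1, by push_cast; ring⟩
  have hdvd : y ^ 2 ∣ k ^ 2 := by
    have h1 : y ^ 2 ∣ k ^ 2 * q := ⟨r, by rw [← key]; ring⟩
    exact hcop.dvd_of_dvd_mul_right h1
  have hyk : y ∣ k := (Nat.pow_dvd_pow_iff two_ne_zero).mp hdvd
  obtain ⟨m, rfl⟩ := hyk
  have hypos : 0 < y := by rw [hy]; exact Nat.succ_pos _
  have hr : r = m ^ 2 * q := by
    have h1 : y ^ 2 * r = y ^ 2 * (m ^ 2 * q) := by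
      calc y ^ 2 * r = r * y ^ 2 := by ring
        _ = (y * m) ^ 2 * q := key
        _ = y ^ 2 * (m ^ 2 * q) := by ring
    exact Nat.eq_of_mul_eq_mul_left (by positivity) h1
  refine ⟨m, ?_, ?_⟩
  · rw [hq', hy]
    ring
  · have hq3 : q ^ 3 - q = 8 * (2 * y' + 1) * y * q := by
      apply Nat.sub_eq_of_eq_add
      rw [hq', hy]
      ring
    rw [hq3, hr]
    ring

end Cfsg.Agent.Lib.Helper29.KleinOrder
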