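import Mathlib
import Cfsg.Agent.Lib.Helper29.KleinCount
import Cfsg.Agent.Lib.Helper24.KleinSylow
import Cfsg.Agent.Lib.helper7.KleinBlock
import Cfsg.Agent.Lib.helper23.SylowBasic
import Cfsg.Agent.Lib.Helper1.Fitting

set_option autoImplicit false

/-!
Group-theoretic count for Brauer's order formula (Klein four Sylow 2-subgroup, one class of
involutions): the number of pairs of involutions with 2-singular product.
-/

namespace Cfsg.Agent.Lib.Helper29.KleinOrder

open Cfsg.Agent.Lib.Helper29.KleinCount Cfsg.Agent.Lib.Helper24 Cfsg.Agent.Lib.helper7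

variable {G : Type*} [Group G]

/-- every element of 2-power order squares to 1 -/
theorem ko_sq_of_two_pow [Finite G] (P : Sylow 2 G) (hP : IsKleinFour (P : Subgroup G)) {w : G}
    {j : ℕ} (hj : orderOf w = 2 ^ j) : w * w = 1 := by
  haveI : Fact (Nat.Prime 2) := ⟨Nat.prime_two⟩
  obtain ⟨Q, hQ⟩ := Cfsg.Agent.Lib.helper23.exists_sylow_mem_of_orderOf hj
  obtain ⟨g, hg⟩ := MulAction.exists_smul_eq G P Q
  rw [← hg] at hQ
  have hQ' := (Cfsg.Agent.Lib.helper23.mem_smul_sylow_iff g P w).mp hQ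
  have h1 := ks_sq (P : Subgroup G) hP hQ'
  have h2 : w * w = g * ((g⁻¹ * w * g) * (g⁻¹ * w * g)) * g⁻¹ := by group
  rw [h2, h1]
  group

theorem ko_sq_of_pow4 [Finite G] (P : Sylow 2 G) (hP : IsKleinFour (P : Subgroup G)) {w : G}
    (hw : w ^ 4 = 1) : w * w = 1 := by
  have hd : orderOf w ∣ 2 ^ 2 := by
    norm_num
    exact orderOf_dvd_of_pow_eq_one hw
  obtain ⟨j, -, hj⟩ := (Nat.dvd_prime_pow Nat.prime_two).mp hd
  exact ko_sq_of_two_pow P hP hj

theorem ko_sing_iff [Finite G] (P : Sylow 2 G) (hP : IsKleinFour (P : Subgroup G)) (g₀ : ℕ)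
    (hg₀ : Odd g₀) (hG : Nat.card G = 4 * g₀) (g : G) :
    2 ∣ orderOf g ↔ orderOf (g ^ g₀) = 2 := by
  have h4 : (g ^ g₀) ^ 4 = 1 := by
    rw [← pow_mul, mul_comm, ← hG, pow_card_eq_one']
  have hsq := ko_sq_of_pow4 P hP h4
  constructor
  · intro h2
    apply orderOf_eq_prime (by rw [pow_two]; exact hsq)
    intro h1
    have h3 : orderOf g ∣ g₀ := orderOf_dvd_of_pow_eq_one h1
    have h5 := dvd_trans h2 h3
    exact (Nat.not_even_iff_odd.mpr hg₀) (even_iff_two_dvd.mpr h5)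
  · intro h
    rw [← h]
    exact orderOf_pow_dvd g₀

theorem ko_centralizes {u v z : G} (hu : u * u = 1) (hv : v * v = 1) (n : ℕ)
    (hz : (u * v) ^ n = z) (hz2 : z * z = 1) : u * z = z * u ∧ v * z = z * v := by
  have huinv : u⁻¹ = u := inv_eq_of_mul_eq_one_right hu
  have hvinv : v⁻¹ = v := inv_eq_of_mul_eq_one_right hv
  have hzinv : z⁻¹ = z := inv_eq_of_mul_eq_one_right hz2
  have h1 : u * (u * v) * u⁻¹ = (u * v)⁻¹ := by
    rw [mul_inv_rev, huinv, hvinv, ← mul_assoc, hu, one_mul]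
  have h2 : v * (u * v) * v⁻¹ = (u * v)⁻¹ := by
    rw [mul_inv_rev, huinv, hvinv, mul_assoc, mul_assoc, hv, mul_one]
  have h3 := kc_inv_pow h1 n
  have h4 := kc_inv_pow h2 n
  rw [hz, hzinv] at h3 h4
  constructor
  · calc u * z = u * z * u⁻¹ * u := by group
      _ = z * u := by rw [h3]
  · calc v * z = v * z * v⁻¹ * v := by group
      _ = z * v := by rw [h4]

/-- pairs of involutions `(u, v)` with `(u v)^{g₀} = z` -/
noncomputable def pairSet [Fintype G] [DecidableEq G] (g₀ : ℕ) (z : G) : Finset (G × G) :=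
  Finset.univ.filter (fun p : G × G => orderOf p.1 = 2 ∧ orderOf p.2 = 2 ∧
    (p.1 * p.2) ^ g₀ = z)

theorem mem_pairSet [Fintype G] [DecidableEq G] (g₀ : ℕ) (z : G) (p : G × G) :
    p ∈ pairSet g₀ z ↔ orderOf p.1 = 2 ∧ orderOf p.2 = 2 ∧ (p.1 * p.2) ^ g₀ = z := by
  unfold pairSet
  simp only [Finset.mem_filter, Finset.mem_univ, true_and]

theorem ko_card_pairSet_conj [Fintype G] [DecidableEq G] (g₀ : ℕ) (z c : G) :
    (pairSet g₀ (c * z * c⁻¹)).card = (pairSet g₀ z).card := by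
  symm
  refine Finset.card_equiv ((MulAut.conj c).toEquiv.prodCongr (MulAut.conj c).toEquiv) ?_
  rintro ⟨u, v⟩
  simp only [mem_pairSet, Equiv.prodCongr_apply, MulEquiv.toEquiv_eq_coe, MulEquiv.coe_toEquiv,
    Prod.map_apply, MulAut.conj_apply, Cfsg.Agent.Lib.helper23.orderOf_conj_eq, conj_mul,
    conj_pow]
  constructor
  · rintro ⟨h1, h2, h3⟩
    exact ⟨h1, h2, by rw [h3]⟩
  · rintro ⟨h1, h2, h3⟩
    refine ⟨h1, h2, ?_⟩
    have h4 : c⁻¹ * (c * (u * v) ^ g₀ * c⁻¹) * c = c⁻¹ * (c * z * c⁻¹) * c := by rw [h3]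
    calc (u * v) ^ g₀ = c⁻¹ * (c * (u * v) ^ g₀ * c⁻¹) * c := by group
      _ = c⁻¹ * (c * z * c⁻¹) * c := h4
      _ = z := by group


/-- pairs of involutions with 2-singular product -/
noncomputable def singSet [Fintype G] [DecidableEq G] : Finset (G × G) :=
  Finset.univ.filter (fun p : G × G => orderOf p.1 = 2 ∧ orderOf p.2 = 2 ∧
    2 ∣ orderOf (p.1 * p.2))

theorem mem_singSet [Fintype G] [DecidableEq G] (p : G × G) :
    p ∈ singSet (G := G) ↔ orderOf p.1 = 2 ∧ orderOf p.2 = 2 ∧ 2 ∣ orderOf (p.1 * p.2) := by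
  unfold singSet
  simp only [Finset.mem_filter, Finset.mem_univ, true_and]

theorem ko_card_singSet [Fintype G] [DecidableEq G] (P : Sylow 2 G)
    (hP : IsKleinFour (P : Subgroup G))
    (hone : ∀ s t : G, orderOf s = 2 → orderOf t = 2 → IsConj s t) (g₀ : ℕ)
    (hg₀ : Odd g₀) (hG : Nat.card G = 4 * g₀) (J : G) (hJ2 : orderOf J = 2) :
    (singSet (G := G)).card * Nat.card (Subgroup.centralizer ({J} : Set G)) =
      Nat.card G * (pairSet g₀ J).card := by
  classical
  obtain ⟨Inv, hInv⟩ : ∃ Inv : Finset G, Inv = Finset.univ.filter (fun u : G => orderOf u = 2) :=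
    ⟨_, rfl⟩
  have hmemInv : ∀ z, z ∈ Inv ↔ orderOf z = 2 := by
    intro z
    rw [hInv]
    simp only [Finset.mem_filter, Finset.mem_univ, true_and]
  have h1 : (singSet (G := G)).card = ∑ z ∈ Inv,
      ((singSet (G := G)).filter (fun p : G × G => (p.1 * p.2) ^ g₀ = z)).card := by
    apply Finset.card_eq_sum_card_fiberwise
    intro p hp
    rw [Finset.mem_coe, mem_singSet] at hp
    rw [Finset.mem_coe, hmemInv]
    exact (ko_sing_iff P hP g₀ hg₀ hG _).mp hp.2.2
  have h2 : ∀ z ∈ Inv, ((singSet (G := G)).filter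
      (fun p : G × G => (p.1 * p.2) ^ g₀ = z)).card = (pairSet g₀ J).card := by
    intro z hz
    rw [hmemInv] at hz
    have e : (singSet (G := G)).filter (fun p : G × G => (p.1 * p.2) ^ g₀ = z) =
        pairSet g₀ z := by
      ext p
      rw [Finset.mem_filter, mem_singSet, mem_pairSet]
      constructor
      · rintro ⟨⟨hu, hv, -⟩, h⟩
        exact ⟨hu, hv, h⟩
      · rintro ⟨hu, hv, h⟩
        refine ⟨⟨hu, hv, ?_⟩, h⟩
        rw [ko_sing_iff P hP g₀ hg₀ hG, h]
        exact hz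
    rw [e]
    obtain ⟨c, hc⟩ := isConj_iff.mp (hone J z hJ2 hz)
    rw [← hc, ko_card_pairSet_conj]
  rw [h1, Finset.sum_congr rfl h2, Finset.sum_const, smul_eq_mul]
  have h3 : Inv.card * Nat.card (Subgroup.centralizer ({J} : Set G)) = Nat.card G := by
    rw [← h7_card_class_mul_card_centralizer J]
    congr 1
    rw [Nat.card_eq_fintype_card, Fintype.card_subtype, hInv]
    congr 1
    ext x
    simp only [Finset.mem_filter, Finset.mem_univ, true_and]
    constructor
    · intro hx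
      exact hone J x hJ2 hx
    · intro hx
      obtain ⟨c, hc⟩ := isConj_iff.mp hx
      rw [← hc, Cfsg.Agent.Lib.helper23.orderOf_conj_eq]
      exact hJ2
  rw [← h3]
  ring

theorem ko_mem_centralizer_P_iff (P : Subgroup G) (hP : IsKleinFour P) {J s : G}
    (hJP : J ∈ P) (hsP : s ∈ P) (hJ1 : J ≠ 1) (hs1 : s ≠ 1) (hJs : J ≠ s) (g : G) :
    g ∈ Subgroup.centralizer (P : Set G) ↔ J * g = g * J ∧ s * g = g * s := by
  rw [Subgroup.mem_centralizer_iff]
  constructor
  · intro h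
    exact ⟨h J hJP, h s hsP⟩
  · rintro ⟨h1, h2⟩ x hx
    rcases ks_elems P hP hJP hsP hJ1 hs1 hJs hx with rfl | rfl | rfl | rfl
    · simp
    · exact h1
    · exact h2
    · rw [mul_assoc, h2, ← mul_assoc, h1, mul_assoc]


theorem ko_card_pairSet_J [Fintype G] [DecidableEq G] (P : Sylow 2 G)
    (hP : IsKleinFour (P : Subgroup G)) (g₀ : ℕ) (hg₀ : Odd g₀) (hG : Nat.card G = 4 * g₀)
    (J : G) (hJP : J ∈ (P : Subgroup G)) (hJ2 : orderOf J = 2) :
    (pairSet g₀ J).card * Nat.card (Subgroup.centralizer ((P : Subgroup G) : Set G)) ^ 2 =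
      2 * Nat.card (Subgroup.centralizer ({J} : Set G)) ^ 2 := by
  classical
  haveI : Fact (Nat.Prime 2) := ⟨Nat.prime_two⟩
  have hJ1 : J ≠ 1 := kc_ne_one_of_order_two hJ2
  have hJsq := kc_sq_of_order_two hJ2
  obtain ⟨C, hC⟩ : ∃ C : Subgroup G, C = Subgroup.centralizer ({J} : Set G) := ⟨_, rfl⟩
  obtain ⟨⟨k, hk⟩, hfac⟩ := h7_klein_centralizer_npc P hP J hJP hJ1
  rw [← hC] at hk hfac
  haveI hUn : (Cfsg.pPrimeCore 2 ↥C).Normal := Cfsg.Agent.Lib.Helper1.pPrimeCore_normal 2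
  have hUcop := Cfsg.Agent.Lib.Helper1.pPrimeCore_card_coprime (G := ↥C) 2
  have hUodd : Odd (Nat.card (Cfsg.pPrimeCore 2 ↥C)) := Nat.Coprime.odd_of_right hUcop
  have hidx : (Cfsg.pPrimeCore 2 ↥C).index = 4 := by
    have h1 := Subgroup.card_mul_index (Cfsg.pPrimeCore 2 ↥C)
    rw [hk] at h1
    have h2 : (Nat.card ↥C).factorization 2 = k := by
      rw [← h1, Nat.factorization_mul Nat.card_pos.ne' (pow_ne_zero _ two_ne_zero),
        Finsupp.add_apply, Nat.Prime.factorization_pow Nat.prime_two, Finsupp.single_eq_same,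
        Nat.factorization_eq_zero_of_not_dvd, zero_add]
      intro h3
      exact (Nat.not_even_iff_odd.mpr hUodd) (even_iff_two_dvd.mpr h3)
    rw [hk, ← h2, hfac]
    norm_num
  obtain ⟨s, hsP, hs1, hsJ⟩ : ∃ s ∈ (P : Subgroup G), s ≠ 1 ∧ J ≠ s := by
    obtain ⟨a, b, ha, hb, ha1, hb1, hab⟩ := ks_exists (P : Subgroup G) hP
    by_cases h : J = a
    · exact ⟨b, hb, hb1, by rw [h]; exact hab⟩
    · exact ⟨a, ha, ha1, h⟩
  have hs2 : orderOf s = 2 := ks_order_two _ hP hsP hs1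
  have hJs : J * s = s * J := ks_comm _ hP hJP hsP
  have hsC : s ∈ C := by
    rw [hC, Subgroup.mem_centralizer_singleton_iff]
    exact hJs.symm
  have hJC : J ∈ C := by
    rw [hC, Subgroup.mem_centralizer_singleton_iff]
  have hmemC : ∀ g : G, g ∈ C ↔ g * J = J * g := by
    intro g
    rw [hC, Subgroup.mem_centralizer_singleton_iff]
  have hJHc : ∀ h : ↥C, h * (⟨J, hJC⟩ : ↥C) = ⟨J, hJC⟩ * h := by
    intro h
    apply Subtype.ext
    exact (hmemC h.1).mp h.2
  have hUg : Nat.card (Cfsg.pPrimeCore 2 ↥C) ∣ g₀ := by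
    have h1 : Nat.card (Cfsg.pPrimeCore 2 ↥C) ∣ Nat.card G :=
      dvd_trans (Subgroup.card_subgroup_dvd_card _) (Subgroup.card_subgroup_dvd_card C)
    rw [hG] at h1
    have h2 : Nat.Coprime (Nat.card (Cfsg.pPrimeCore 2 ↥C)) (2 ^ 2) :=
      Nat.Coprime.pow_right 2 hUcop
    have h4 : (4 : ℕ) = 2 ^ 2 := by norm_num
    rw [h4] at h1
    exact h2.dvd_of_dvd_mul_left h1
  have hcount := kc_pairs_count (Cfsg.pPrimeCore 2 ↥C) hUodd hidx ⟨J, hJC⟩ ⟨s, hsC⟩
    (by rw [Subgroup.orderOf_mk]; exact hJ2) (by rw [Subgroup.orderOf_mk]; exact hs2)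
    (by intro h; exact hsJ (congrArg Subtype.val h)) hJHc g₀ hg₀ hUg
  -- transport the centralizer
  have hcent : Nat.card (Subgroup.centralizer ({(⟨s, hsC⟩ : ↥C)} : Set ↥C)) =
      Nat.card (Subgroup.centralizer ((P : Subgroup G) : Set G)) := by
    apply Nat.card_congr
    refine
      { toFun := fun h => ⟨(h.1 : G), ?_⟩
        invFun := fun g => ⟨⟨g.1, ?_⟩, ?_⟩
        left_inv := fun h => rfl
        right_inv := fun g => rfl }
    · rw [ko_mem_centralizer_P_iff (P : Subgroup G) hP hJP hsP hJ1 hs1 hsJ]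
      refine ⟨((hmemC _).mp h.1.2).symm, ?_⟩
      have h1 := Subgroup.mem_centralizer_singleton_iff.mp h.2
      exact (congrArg Subtype.val h1).symm
    · rw [hmemC]
      exact ((ko_mem_centralizer_P_iff (P : Subgroup G) hP hJP hsP hJ1 hs1 hsJ g.1).mp g.2).1.symm
    · rw [Subgroup.mem_centralizer_singleton_iff]
      apply Subtype.ext
      exact ((ko_mem_centralizer_P_iff (P : Subgroup G) hP hJP hsP hJ1 hs1 hsJ g.1).mp g.2).2.symm
  -- transport the pair set
  have hpairs : ((Finset.univ : Finset (↥C × ↥C)).filter (fun p : ↥C × ↥C => orderOf p.1 = 2 ∧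
        orderOf p.2 = 2 ∧ (p.1 * p.2) ^ g₀ = (⟨J, hJC⟩ : ↥C))).card = (pairSet g₀ J).card := by
    refine Finset.card_bij (fun p _ => ((p.1 : G), (p.2 : G))) ?_ ?_ ?_
    · intro p hp
      rw [Finset.mem_filter] at hp
      rw [mem_pairSet]
      obtain ⟨-, h1, h2, h3⟩ := hp
      refine ⟨by rw [← h1, Subgroup.orderOf_coe], by rw [← h2, Subgroup.orderOf_coe], ?_⟩
      have := congrArg Subtype.val h3
      simpa using this
    · intro p _ q _ h
      have h1 := (Prod.mk.injEq _ _ _ _).mp h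
      exact Prod.ext (Subtype.ext h1.1) (Subtype.ext h1.2)
    · rintro ⟨u, v⟩ huv
      rw [mem_pairSet] at huv
      obtain ⟨hu, hv, h⟩ := huv
      obtain ⟨hcu, hcv⟩ := ko_centralizes (kc_sq_of_order_two hu) (kc_sq_of_order_two hv) g₀ h hJsq
      have huC : u ∈ C := (hmemC u).mpr hcu
      have hvC : v ∈ C := (hmemC v).mpr hcv
      refine ⟨(⟨u, huC⟩, ⟨v, hvC⟩), ?_, rfl⟩
      rw [Finset.mem_filter]
      refine ⟨Finset.mem_univ _, by rw [Subgroup.orderOf_mk]; exact hu,
        by rw [Subgroup.orderOf_mk]; exact hv, ?_⟩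
      apply Subtype.ext
      simpa using h
  rw [hpairs, hcent] at hcount
  rw [hcount, hC]


theorem ko_singSet_count [Fintype G] [DecidableEq G] (P : Sylow 2 G)
    (hP : IsKleinFour (P : Subgroup G))
    (hone : ∀ s t : G, orderOf s = 2 → orderOf t = 2 → IsConj s t) (g₀ : ℕ)
    (hg₀ : Odd g₀) (hG : Nat.card G = 4 * g₀) (J : G) (hJP : J ∈ (P : Subgroup G))
    (hJ2 : orderOf J = 2) :
    (singSet (G := G)).card * Nat.card (Subgroup.centralizer ((P : Subgroup G) : Set G)) ^ 2 =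
      2 * Nat.card G * Nat.card (Subgroup.centralizer ({J} : Set G)) := by
  have h1 := ko_card_singSet P hP hone g₀ hg₀ hG J hJ2
  have h2 := ko_card_pairSet_J P hP g₀ hg₀ hG J hJP hJ2
  have hpos : 0 < Nat.card (Subgroup.centralizer ({J} : Set G)) := Nat.card_pos
  apply Nat.eq_of_mul_eq_mul_right hpos
  calc (singSet (G := G)).card * Nat.card (Subgroup.centralizer ((P : Subgroup G) : Set G)) ^ 2 *
        Nat.card (Subgroup.centralizer ({J} : Set G))
      = ((singSet (G := G)).card * Nat.card (Subgroup.centralizer ({J} : Set G))) *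
        Nat.card (Subgroup.centralizer ((P : Subgroup G) : Set G)) ^ 2 := by ring
    _ = Nat.card G * ((pairSet g₀ J).card *
        Nat.card (Subgroup.centralizer ((P : Subgroup G) : Set G)) ^ 2) := by rw [h1]; ring
    _ = 2 * Nat.card G * Nat.card (Subgroup.centralizer ({J} : Set G)) *
        Nat.card (Subgroup.centralizer ({J} : Set G)) := by rw [h2]; ring

theorem ko_sum_conj_conj [Fintype G] [DecidableEq G] {M : Type*} [AddCommMonoid M] (J : G)
    (hJ2 : orderOf J = 2)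
    (hone : ∀ s t : G, orderOf s = 2 → orderOf t = 2 → IsConj s t) (F : G → M) :
    ∑ a : G, ∑ b : G, F (a * J * a⁻¹ * (b * J * b⁻¹)) =
      (Nat.card (Subgroup.centralizer ({J} : Set G)) ^ 2) •
        ∑ p ∈ (Finset.univ.filter (fun u : G => orderOf u = 2)) ×ˢ
          (Finset.univ.filter (fun u : G => orderOf u = 2)), F (p.1 * p.2) := by
  classical
  have hK : Finset.univ.filter (fun x : G => IsConj J x) =
      Finset.univ.filter (fun u : G => orderOf u = 2) := by
    ext x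
    simp only [Finset.mem_filter, Finset.mem_univ, true_and]
    constructor
    · intro hx
      obtain ⟨c, hc⟩ := isConj_iff.mp hx
      rw [← hc, Cfsg.Agent.Lib.helper23.orderOf_conj_eq]
      exact hJ2
    · intro hx
      exact hone J x hJ2 hx
  have h1 : ∀ a : G, ∑ b : G, F (a * J * a⁻¹ * (b * J * b⁻¹)) =
      Nat.card (Subgroup.centralizer ({J} : Set G)) •
        ∑ v ∈ Finset.univ.filter (fun u : G => orderOf u = 2), F (a * J * a⁻¹ * v) := by
    intro a
    rw [h7_sum_conj J (fun v => F (a * J * a⁻¹ * v)), hK]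
  have h2 : ∀ v : G, ∑ a : G, F (a * J * a⁻¹ * v) =
      Nat.card (Subgroup.centralizer ({J} : Set G)) •
        ∑ u ∈ Finset.univ.filter (fun u : G => orderOf u = 2), F (u * v) := by
    intro v
    rw [h7_sum_conj J (fun u => F (u * v)), hK]
  rw [Finset.sum_congr rfl (fun a _ => h1 a), ← Finset.smul_sum, Finset.sum_comm,
    Finset.sum_congr rfl (fun v _ => h2 v), ← Finset.smul_sum, smul_smul, ← pow_two,
    Finset.sum_comm, Finset.sum_product]

theorem ko_main_count [Fintype G] [DecidableEq G] (P : Sylow 2 G)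
    (hP : IsKleinFour (P : Subgroup G))
    (hone : ∀ s t : G, orderOf s = 2 → orderOf t = 2 → IsConj s t) (g₀ : ℕ)
    (hg₀ : Odd g₀) (hG : Nat.card G = 4 * g₀) (J : G) (hJP : J ∈ (P : Subgroup G))
    (hJ2 : orderOf J = 2) :
    (∑ a : G, ∑ b : G, if 2 ∣ orderOf (a * J * a⁻¹ * (b * J * b⁻¹)) then 1 else 0) *
        Nat.card (Subgroup.centralizer ((P : Subgroup G) : Set G)) ^ 2 =
      2 * Nat.card G * Nat.card (Subgroup.centralizer ({J} : Set G)) ^ 3 := by
  classical
  rw [ko_sum_conj_conj J hJ2 hone (fun g => if 2 ∣ orderOf g then 1 else 0)]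
  have h1 : ∑ p ∈ (Finset.univ.filter (fun u : G => orderOf u = 2)) ×ˢ
      (Finset.univ.filter (fun u : G => orderOf u = 2)),
        (if 2 ∣ orderOf (p.1 * p.2) then 1 else 0) = (singSet (G := G)).card := by
    rw [← Finset.sum_filter, Finset.sum_const, smul_eq_mul, mul_one]
    congr 1
    ext p
    rw [mem_singSet, Finset.mem_filter, Finset.mem_product, Finset.mem_filter, Finset.mem_filter]
    simp only [Finset.mem_univ, true_and]
    tauto
  rw [h1, smul_eq_mul]
  have h2 := ko_singSet_count P hP hone g₀ hg₀ hG J hJP hJ2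
  calc Nat.card (Subgroup.centralizer ({J} : Set G)) ^ 2 * (singSet (G := G)).card *
        Nat.card (Subgroup.centralizer ((P : Subgroup G) : Set G)) ^ 2
      = Nat.card (Subgroup.centralizer ({J} : Set G)) ^ 2 * ((singSet (G := G)).card *
        Nat.card (Subgroup.centralizer ((P : Subgroup G) : Set G)) ^ 2) := by ring
    _ = 2 * Nat.card G * Nat.card (Subgroup.centralizer ({J} : Set G)) ^ 3 := by rw [h2]; ring

end Cfsg.Agent.Lib.Helper29.KleinOrder
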