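import Mathlib
import Cfsg.Prelude.Def_Blocks
import Cfsg.Prelude.Def_Local
import Cfsg.Agent.Lib.Helper29.KleinOrderG
import Cfsg.Agent.Lib.Helper25.CharOrth
import Cfsg.Agent.Lib.Helper25.CharLinear
import Cfsg.Agent.Lib.helper2.PParts
import Cfsg.Agent.Lib.helper7.BlockDefect2
import Cfsg.Agent.S0925
import Cfsg.Agent.S0942

set_option autoImplicit false

/-!
Character-theoretic side of Brauer's order formula for groups with Klein four Sylow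
2-subgroups.
-/

namespace Cfsg.Agent.Lib.Helper29.KleinOrder

open Cfsg.Agent.Lib.Helper29.KleinCount Cfsg.Agent.Lib.Helper24 Cfsg.Agent.Lib.helper7
open Cfsg.Agent.Lib.Helper25

variable {G : Type*} [Group G]

/-- an odd-order element of `C(J)` lies in `O(C(J))` -/
theorem koc_mem_core [Finite G] (P : Sylow 2 G) (hP : IsKleinFour (P : Subgroup G)) (J : G)
    (hJP : J ∈ (P : Subgroup G)) (hJ2 : orderOf J = 2) (y : G) (hyJ : y * J = J * y)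
    (hy : ¬ 2 ∣ orderOf y) : y ∈ Cfsg.centralizerPPrimeCore 2 J := by
  haveI : Fact (Nat.Prime 2) := ⟨Nat.prime_two⟩
  have hJ1 := kc_ne_one_of_order_two hJ2
  obtain ⟨⟨k, hk⟩, -⟩ := h7_klein_centralizer_npc P hP J hJP hJ1
  have hyC : y ∈ Subgroup.centralizer ({J} : Set G) :=
    Subgroup.mem_centralizer_singleton_iff.mpr hyJ
  haveI hUn : (Cfsg.pPrimeCore 2 ↥(Subgroup.centralizer ({J} : Set G))).Normal :=
    Cfsg.Agent.Lib.Helper1.pPrimeCore_normal 2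
  unfold Cfsg.centralizerPPrimeCore
  rw [Subgroup.mem_map]
  refine ⟨⟨y, hyC⟩, ?_, rfl⟩
  rw [← QuotientGroup.eq_one_iff, ← orderOf_eq_one_iff]
  have h1 : orderOf (((⟨y, hyC⟩ : ↥(Subgroup.centralizer ({J} : Set G))) :
      ↥(Subgroup.centralizer ({J} : Set G)) ⧸
        (Cfsg.pPrimeCore 2 ↥(Subgroup.centralizer ({J} : Set G))))) ∣ orderOf y := by
    have h := orderOf_map_dvd (QuotientGroup.mk'
      (Cfsg.pPrimeCore 2 ↥(Subgroup.centralizer ({J} : Set G))))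
      (⟨y, hyC⟩ : ↥(Subgroup.centralizer ({J} : Set G)))
    rwa [Subgroup.orderOf_mk] at h
  have h2 : orderOf (((⟨y, hyC⟩ : ↥(Subgroup.centralizer ({J} : Set G))) :
      ↥(Subgroup.centralizer ({J} : Set G)) ⧸
        (Cfsg.pPrimeCore 2 ↥(Subgroup.centralizer ({J} : Set G))))) ∣ 2 ^ k := by
    rw [← hk, Subgroup.index_eq_card]
    exact orderOf_dvd_natCard _
  have hcop : Nat.Coprime (orderOf y) (2 ^ k) :=
    Nat.Coprime.pow_right k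
      (Nat.coprime_comm.mp ((Nat.Prime.coprime_iff_not_dvd Nat.prime_two).mpr hy))
  exact Nat.eq_one_of_dvd_coprimes hcop h1 h2

/-- characters of the principal block take the value `χ(J)` on every 2-singular element -/
theorem koc_sing_val [Finite G] (M : Ideal Cfsg.AlgInt) (hM : Cfsg.IsPModular 2 M)
    (P : Sylow 2 G) (hP : IsKleinFour (P : Subgroup G))
    (hone : ∀ s t : G, orderOf s = 2 → orderOf t = 2 → IsConj s t) (J : G)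
    (hJP : J ∈ (P : Subgroup G)) (hJ2 : orderOf J = 2) (χ : Cfsg.IrrCharacter G)
    (hχ : χ ∈ Cfsg.principalBlock M G) (g : G) (hg : 2 ∣ orderOf g) :
    (χ : G → ℂ) g = (χ : G → ℂ) J := by
  haveI : Fact (Nat.Prime 2) := ⟨Nat.prime_two⟩
  obtain ⟨r, u, hru, hcomm, hr, ⟨k, hk⟩, -, -⟩ :=
    Cfsg.Agent.Lib.helper2.pp_exists 2 Nat.prime_two g
  have hu2 : u * u = 1 := ko_sq_of_two_pow P hP hk
  have hu1 : u ≠ 1 := by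
    rintro rfl
    rw [mul_one] at hru
    rw [← hru] at hg
    exact hr hg
  have huo : orderOf u = 2 := orderOf_eq_prime (by rw [pow_two]; exact hu2) hu1
  obtain ⟨c, hc⟩ := isConj_iff.mp (hone u J huo hJ2)
  have hy : ¬ 2 ∣ orderOf (c * r * c⁻¹) := by
    rw [Cfsg.Agent.Lib.helper23.orderOf_conj_eq]
    exact hr
  have hyJ : (c * r * c⁻¹) * J = J * (c * r * c⁻¹) := by
    rw [← hc, conj_mul, conj_mul, hcomm.eq]
  have hmem := koc_mem_core P hP J hJP hJ2 _ hyJ hy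
  have h1 := Cfsg.Agent.S0942.result 2 M hM J ⟨1, by rw [hJ2, pow_one]⟩ _ hmem χ hχ
  have h2 : J * (c * r * c⁻¹) = c * g * c⁻¹ := by
    rw [← hc, conj_mul, ← hcomm.eq, hru]
  rw [h2, irr_conj_invariant] at h1
  exact h1


theorem koc_main [Fintype G] [DecidableEq G] (M : Ideal Cfsg.AlgInt)
    (hM : Cfsg.IsPModular 2 M) (P : Sylow 2 G) (hP : IsKleinFour (P : Subgroup G))
    (hone : ∀ s t : G, orderOf s = 2 → orderOf t = 2 → IsConj s t) (g₀ : ℕ)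
    (hg₀ : Odd g₀) (hG : Nat.card G = 4 * g₀) (J : G) (hJP : J ∈ (P : Subgroup G))
    (hJ2 : orderOf J = 2) (χ₁ χ₂ χ₃ : Cfsg.IrrCharacter G) (ε₁ ε₂ ε₃ : ℤ)
    (hB : Cfsg.principalBlock M G = {χ : Cfsg.IrrCharacter G |
      (χ : G → ℂ) = (fun _ => 1) ∨ χ = χ₁ ∨ χ = χ₂ ∨ χ = χ₃})
    (hdist : (χ₁ : G → ℂ) ≠ (fun _ => 1) ∧ (χ₂ : G → ℂ) ≠ (fun _ => 1) ∧
      (χ₃ : G → ℂ) ≠ (fun _ => 1) ∧ χ₁ ≠ χ₂ ∧ χ₁ ≠ χ₃ ∧ χ₂ ≠ χ₃)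
    (hε : (ε₁ = 1 ∨ ε₁ = -1) ∧ (ε₂ = 1 ∨ ε₂ = -1) ∧ (ε₃ = 1 ∨ ε₃ = -1))
    (hval : (χ₁ : G → ℂ) J = ε₁ ∧ (χ₂ : G → ℂ) J = ε₂ ∧ (χ₃ : G → ℂ) J = ε₃) :
    (1 + (ε₁ : ℂ) * (χ₁ : G → ℂ) 1 + (ε₂ : ℂ) * (χ₂ : G → ℂ) 1 +
        (ε₃ : ℂ) * (χ₃ : G → ℂ) 1 = 0) ∧
      (Nat.card G : ℂ) ^ 2 * (1 + (ε₁ : ℂ) / (χ₁ : G → ℂ) 1 + (ε₂ : ℂ) / (χ₂ : G → ℂ) 1 +
        (ε₃ : ℂ) / (χ₃ : G → ℂ) 1) *
          (Nat.card (Subgroup.centralizer ((P : Subgroup G) : Set G)) : ℂ) ^ 2 =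
        8 * (Nat.card G : ℂ) * (Nat.card (Subgroup.centralizer ({J} : Set G)) : ℂ) ^ 3 := by
  classical
  haveI : Fact (Nat.Prime 2) := ⟨Nat.prime_two⟩
  haveI : Fintype (Cfsg.IrrCharacter G) := Fintype.ofFinite _
  have hJ1 : J ≠ 1 := kc_ne_one_of_order_two hJ2
  have hJinv : J⁻¹ = J := kc_inv_of_order_two hJ2
  obtain ⟨hv1, hv2, hv3⟩ := hval
  obtain ⟨hd1, hd2, hd3, hd12, hd13, hd23⟩ := hdist
  have hTeq : ∀ χ : Cfsg.IrrCharacter G, (χ : G → ℂ) = (fun _ => 1) ↔ χ = trivIrr G := by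
    intro χ
    constructor
    · intro h
      exact Subtype.ext h
    · intro h
      rw [h]
      rfl
  have hT1 : trivIrr G ≠ χ₁ := fun h => hd1 ((hTeq χ₁).mpr h.symm)
  have hT2 : trivIrr G ≠ χ₂ := fun h => hd2 ((hTeq χ₂).mpr h.symm)
  have hT3 : trivIrr G ≠ χ₃ := fun h => hd3 ((hTeq χ₃).mpr h.symm)
  have hmemB : ∀ χ : Cfsg.IrrCharacter G, χ ∈ Cfsg.principalBlock M G ↔
      χ = trivIrr G ∨ χ = χ₁ ∨ χ = χ₂ ∨ χ = χ₃ := by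
    intro χ
    rw [hB, Set.mem_setOf_eq, hTeq]
  have hsum4 : ∀ f : Cfsg.IrrCharacter G → ℂ, ∑ᶠ χ ∈ Cfsg.principalBlock M G, f χ =
      f (trivIrr G) + f χ₁ + f χ₂ + f χ₃ := by
    intro f
    have hset : Cfsg.principalBlock M G =
        ↑({trivIrr G, χ₁, χ₂, χ₃} : Finset (Cfsg.IrrCharacter G)) := by
      ext χ
      rw [hmemB]
      simp
    rw [hset, finsum_mem_coe_finset, Finset.sum_insert, Finset.sum_insert, Finset.sum_insert,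
      Finset.sum_singleton]
    · ring
    · simp only [Finset.mem_singleton]
      exact hd23
    · simp only [Finset.mem_insert, Finset.mem_singleton, not_or]
      exact ⟨hd12, hd13⟩
    · simp only [Finset.mem_insert, Finset.mem_singleton, not_or]
      exact ⟨hT1, hT2, hT3⟩
  have hsq : ∀ {ε : ℤ}, (ε = 1 ∨ ε = -1) → ((ε : ℂ) * (ε : ℂ) = 1) := by
    rintro ε (rfl | rfl) <;> norm_num
  have hFreg : ∀ g : G, ¬ 2 ∣ orderOf g →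
      1 + (ε₁ : ℂ) * (χ₁ : G → ℂ) g + (ε₂ : ℂ) * (χ₂ : G → ℂ) g +
        (ε₃ : ℂ) * (χ₃ : G → ℂ) g = 0 := by
    intro g hg
    have h := (Cfsg.Agent.S0925.result 2 M hM).2 g J 1 J
      ⟨g, one_mul g, Commute.one_left g, ⟨0, by simp⟩, hg⟩
      ⟨1, mul_one J, Commute.one_right J, ⟨1, by rw [hJ2, pow_one]⟩, by simp⟩
      (by
        rw [isConj_one_right]
        exact hJ1)
      (Cfsg.principalBlock M G) ⟨trivIrr G, rfl⟩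
    rw [hsum4, hJinv, hv1, hv2, hv3, trivIrr_apply, trivIrr_apply] at h
    linear_combination h
  have hFsing : ∀ g : G, 2 ∣ orderOf g →
      1 + (ε₁ : ℂ) * (χ₁ : G → ℂ) g + (ε₂ : ℂ) * (χ₂ : G → ℂ) g +
        (ε₃ : ℂ) * (χ₃ : G → ℂ) g = 4 := by
    intro g hg
    rw [koc_sing_val M hM P hP hone J hJP hJ2 χ₁ ((hmemB χ₁).mpr (Or.inr (Or.inl rfl))) g hg,
      koc_sing_val M hM P hP hone J hJP hJ2 χ₂ ((hmemB χ₂).mpr (Or.inr (Or.inr (Or.inl rfl)))) g hg,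
      koc_sing_val M hM P hP hone J hJP hJ2 χ₃ ((hmemB χ₃).mpr (Or.inr (Or.inr (Or.inr rfl)))) g hg,
      hv1, hv2, hv3, hsq hε.1, hsq hε.2.1, hsq hε.2.2]
    norm_num
  refine ⟨?_, ?_⟩
  · exact hFreg 1 (by rw [orderOf_one]; norm_num)
  have hF : ∀ g : G, 1 + (ε₁ : ℂ) * (χ₁ : G → ℂ) g + (ε₂ : ℂ) * (χ₂ : G → ℂ) g +
        (ε₃ : ℂ) * (χ₃ : G → ℂ) g = 4 * (((if 2 ∣ orderOf g then 1 else 0 : ℕ)) : ℂ) := by
    intro g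
    by_cases hg : 2 ∣ orderOf g
    · rw [hFsing g hg, if_pos hg]
      norm_num
    · rw [hFreg g hg, if_neg hg]
      norm_num
  have hS1 : ∑ a : G, ∑ b : G, (1 + (ε₁ : ℂ) * (χ₁ : G → ℂ) (a * J * a⁻¹ * (b * J * b⁻¹)) +
      (ε₂ : ℂ) * (χ₂ : G → ℂ) (a * J * a⁻¹ * (b * J * b⁻¹)) +
      (ε₃ : ℂ) * (χ₃ : G → ℂ) (a * J * a⁻¹ * (b * J * b⁻¹))) =
      (Nat.card G : ℂ) ^ 2 * (1 + (ε₁ : ℂ) / (χ₁ : G → ℂ) 1 + (ε₂ : ℂ) / (χ₂ : G → ℂ) 1 +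
        (ε₃ : ℂ) / (χ₃ : G → ℂ) 1) := by
    simp only [Finset.sum_add_distrib, ← Finset.mul_sum, irr_sum_conj_conj, hv1, hv2, hv3,
      Finset.sum_const, Finset.card_univ, nsmul_eq_mul, mul_one]
    rw [← Nat.card_eq_fintype_card]
    have e1 := hsq hε.1
    have e2 := hsq hε.2.1
    have e3 := hsq hε.2.2
    have k1 : (ε₁ : ℂ) * ((Nat.card G : ℂ) ^ 2 * (ε₁ : ℂ) * (ε₁ : ℂ) / (χ₁ : G → ℂ) 1) =
        (Nat.card G : ℂ) ^ 2 * ((ε₁ : ℂ) / (χ₁ : G → ℂ) 1) := by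
      have : (ε₁ : ℂ) * ((Nat.card G : ℂ) ^ 2 * (ε₁ : ℂ) * (ε₁ : ℂ) / (χ₁ : G → ℂ) 1) =
          (Nat.card G : ℂ) ^ 2 * (((ε₁ : ℂ) * (ε₁ : ℂ)) * (ε₁ : ℂ) / (χ₁ : G → ℂ) 1) := by ring
      rw [this, e1, one_mul]
    have k2 : (ε₂ : ℂ) * ((Nat.card G : ℂ) ^ 2 * (ε₂ : ℂ) * (ε₂ : ℂ) / (χ₂ : G → ℂ) 1) =
        (Nat.card G : ℂ) ^ 2 * ((ε₂ : ℂ) / (χ₂ : G → ℂ) 1) := by
      have : (ε₂ : ℂ) * ((Nat.card G : ℂ) ^ 2 * (ε₂ : ℂ) * (ε₂ : ℂ) / (χ₂ : G → ℂ) 1) =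
          (Nat.card G : ℂ) ^ 2 * (((ε₂ : ℂ) * (ε₂ : ℂ)) * (ε₂ : ℂ) / (χ₂ : G → ℂ) 1) := by ring
      rw [this, e2, one_mul]
    have k3 : (ε₃ : ℂ) * ((Nat.card G : ℂ) ^ 2 * (ε₃ : ℂ) * (ε₃ : ℂ) / (χ₃ : G → ℂ) 1) =
        (Nat.card G : ℂ) ^ 2 * ((ε₃ : ℂ) / (χ₃ : G → ℂ) 1) := by
      have : (ε₃ : ℂ) * ((Nat.card G : ℂ) ^ 2 * (ε₃ : ℂ) * (ε₃ : ℂ) / (χ₃ : G → ℂ) 1) =
          (Nat.card G : ℂ) ^ 2 * (((ε₃ : ℂ) * (ε₃ : ℂ)) * (ε₃ : ℂ) / (χ₃ : G → ℂ) 1) := by ring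
      rw [this, e3, one_mul]
    rw [k1, k2, k3]
    ring
  have hS2 : ∑ a : G, ∑ b : G, (1 + (ε₁ : ℂ) * (χ₁ : G → ℂ) (a * J * a⁻¹ * (b * J * b⁻¹)) +
      (ε₂ : ℂ) * (χ₂ : G → ℂ) (a * J * a⁻¹ * (b * J * b⁻¹)) +
      (ε₃ : ℂ) * (χ₃ : G → ℂ) (a * J * a⁻¹ * (b * J * b⁻¹))) =
      4 * (((∑ a : G, ∑ b : G,
        if 2 ∣ orderOf (a * J * a⁻¹ * (b * J * b⁻¹)) then 1 else 0 : ℕ)) : ℂ) := by
    simp only [hF]
    push_cast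
    simp only [Finset.mul_sum]
  have hcount := ko_main_count P hP hone g₀ hg₀ hG J hJP hJ2
  have hcountC := congrArg (fun n : ℕ => (n : ℂ)) hcount
  simp only [Nat.cast_mul, Nat.cast_pow, Nat.cast_ofNat] at hcountC
  rw [← hS1, hS2]
  linear_combination 4 * hcountC

end Cfsg.Agent.Lib.Helper29.KleinOrder
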