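import Mathlib
import Cfsg.Agent.Lib.Helper29.KleinOrderChar
import Cfsg.Agent.Lib.Helper24.FSCount
import Cfsg.Agent.Lib.Helper24.FrobSchurForm
import Cfsg.Agent.Lib.Helper24.RealBlock
import Cfsg.Agent.Lib.helper2.CharInt
import Cfsg.Agent.Lib.Helper25.InducedBlockPart

set_option autoImplicit false

/-!
Frobenius–Schur argument for Brauer's `PSL₂`-shape order formula (Klein four Sylow 2-subgroups):
the two characters of the principal block taking the value `1` at involutions are complex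
conjugates of each other.
-/

namespace Cfsg.Agent.Lib.Helper29.KleinOrder

open Cfsg.Agent.Lib.Helper29.KleinCount Cfsg.Agent.Lib.Helper24 Cfsg.Agent.Lib.helper7
open Cfsg.Agent.Lib.Helper25
open scoped ComplexConjugate

variable {G : Type*} [Group G]

/-- Frobenius–Schur indicator `-1` forces even degree. -/
theorem kof_even_of_nu_neg [Fintype G] (χ : Cfsg.IrrCharacter G) (h : fsNu χ = -1) :
    Even (Cfsg.charDegree (χ : G → ℂ)) := by
  have hreal : ∀ g : G, ((χ : G → ℂ) g).im = 0 := by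
    rcases fsNu_cases χ with h0 | ⟨_, hr⟩
    · rw [h0] at h
      norm_num at h
    · exact hr
  obtain ⟨-, -, hdeg⟩ := h7_charDegree_props χ
  obtain ⟨n, ρ, hirr, hχ⟩ := χ.2
  haveI := hirr
  have hreal' : ∀ g : G, (ρ.character g).im = 0 := by
    intro g
    rw [hχ]
    exact hreal g
  obtain ⟨M, hM0, hMinv⟩ := fs_exists ρ hreal'
  have hu := fs_isUnit ρ M hMinv hM0
  have hdet : IsUnit M.det := (Matrix.isUnit_iff_isUnit_det M).mp hu
  have hsym := fs_symm ρ M hMinv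
  have hν : ((Nat.card G : ℂ)⁻¹ * ∑ s : G, ρ.character (s * s)) = -1 := by
    rw [hχ]
    exact h
  rw [hν, neg_one_smul] at hsym
  have h1 : M.det = (-1) ^ n * M.det := by
    have h2 : M.transpose.det = (-M).det := by rw [hsym]
    rw [Matrix.det_transpose, Matrix.det_neg, Fintype.card_fin] at h2
    exact h2
  have h3 : ((-1 : ℂ)) ^ n = 1 := by
    have h4 : ((-1 : ℂ) ^ n - 1) * M.det = 0 := by
      rw [sub_mul, one_mul, ← h1, sub_self]
    rcases mul_eq_zero.mp h4 with h5 | h5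
    · exact sub_eq_zero.mp h5
    · exact absurd h5 hdet.ne_zero
  have hn : Even n := by
    rcases Nat.even_or_odd n with he | ho
    · exact he
    · exfalso
      rw [ho.neg_one_pow] at h3
      norm_num at h3
  have hdn : Cfsg.charDegree (χ : G → ℂ) = n := by
    have h5 : (χ : G → ℂ) 1 = (n : ℂ) := by
      rw [← hχ, Representation.char_one, Module.finrank_fin_fun]
    rw [h5] at hdeg
    exact_mod_cast hdeg
  rw [hdn]
  exact hn

theorem kof_conj_mem_principal [Finite G] (M : Ideal Cfsg.AlgInt) (χ : Cfsg.IrrCharacter G)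
    (hχ : χ ∈ Cfsg.principalBlock M G) : irrConj χ ∈ Cfsg.principalBlock M G := by
  intro g
  have h := hχ g⁻¹
  rw [rb_centralChar_inv] at h
  have e : Cfsg.centralChar (fun _ : G => (1 : ℂ)) g⁻¹ =
      Cfsg.centralChar (fun _ : G => (1 : ℂ)) g := by
    unfold Cfsg.centralChar
    rw [rb_centralizer_inv]
  rw [e] at h
  exact h

/-- the inner product of the square-root counting function with an irreducible character
is the Frobenius–Schur indicator -/
theorem kof_classInner_sqrt [Fintype G] [DecidableEq G] (χ : Cfsg.IrrCharacter G) :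
    Cfsg.classInner (fun g : G => (Nat.card {h : G // h * h = g} : ℂ)) (χ : G → ℂ) =
      fsNu χ := by
  have hconj : conj (fsNu χ) = fsNu χ := by
    rcases fsNu_cases χ with h0 | ⟨h1 | h1, _⟩
    · rw [h0, map_zero]
    · rw [h1, map_one]
    · rw [h1, map_neg, map_one]
  rw [← hconj]
  unfold Cfsg.classInner fsNu
  rw [map_mul, map_inv₀, Complex.conj_natCast, map_sum]
  congr 1
  have h1 : ∀ g : G, (Nat.card {h : G // h * h = g} : ℂ) * conj ((χ : G → ℂ) g) =
      ∑ h ∈ Finset.univ.filter (fun h : G => h * h = g), conj ((χ : G → ℂ) (h * h)) := by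
    intro g
    rw [Finset.sum_congr rfl (fun h hh => by rw [(Finset.mem_filter.mp hh).2]),
      Finset.sum_const, nsmul_eq_mul, Nat.card_eq_fintype_card, Fintype.card_subtype]
  rw [Finset.sum_congr rfl (fun g _ => h1 g)]
  exact Finset.sum_fiberwise Finset.univ (fun h : G => h * h)
    (fun h => conj ((χ : G → ℂ) (h * h)))


theorem kof_charDegree_conj [Finite G] (χ : Cfsg.IrrCharacter G) :
    Cfsg.charDegree (irrConj χ : G → ℂ) = Cfsg.charDegree (χ : G → ℂ) := by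
  obtain ⟨-, -, hdeg⟩ := h7_charDegree_props χ
  unfold Cfsg.charDegree
  rw [irrConj_apply, ← hdeg, Complex.conj_natCast]

theorem kof_real_of_conj_eq [Finite G] (χ : Cfsg.IrrCharacter G) (h : irrConj χ = χ) :
    ∀ g : G, ((χ : G → ℂ) g).im = 0 := by
  intro g
  have h1 : (irrConj χ : G → ℂ) g = (χ : G → ℂ) g := by rw [h]
  rw [irrConj_apply] at h1
  exact Complex.conj_eq_iff_im.mp h1

theorem kof_nu_of_real_odd [Fintype G] (χ : Cfsg.IrrCharacter G)
    (hreal : ∀ g : G, ((χ : G → ℂ) g).im = 0) (hodd : Odd (Cfsg.charDegree (χ : G → ℂ))) :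
    fsNu χ = 1 := by
  have h1 := fsNu_mul_self_of_real χ hreal
  have h2 : (fsNu χ - 1) * (fsNu χ + 1) = 0 := by ring_nf; rw [sq, h1]; ring
  rcases mul_eq_zero.mp h2 with h | h
  · exact sub_eq_zero.mp h
  · exfalso
    have h3 : fsNu χ = -1 := eq_neg_of_add_eq_zero_left h
    exact (Nat.not_even_iff_odd.mpr hodd) (kof_even_of_nu_neg χ h3)

theorem kof_degrees_eq [Fintype G] [DecidableEq G] (M : Ideal Cfsg.AlgInt)
    (hM : Cfsg.IsPModular 2 M) (P : Sylow 2 G) (hP : IsKleinFour (P : Subgroup G))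
    (hone : ∀ s t : G, orderOf s = 2 → orderOf t = 2 → IsConj s t) (g₀ : ℕ)
    (hg₀ : Odd g₀) (hG : Nat.card G = 4 * g₀) (J : G) (hJP : J ∈ (P : Subgroup G))
    (hJ2 : orderOf J = 2) (χ₁ χ₂ χ₃ : Cfsg.IrrCharacter G)
    (hB : Cfsg.principalBlock M G = {χ : Cfsg.IrrCharacter G |
      (χ : G → ℂ) = (fun _ => 1) ∨ χ = χ₁ ∨ χ = χ₂ ∨ χ = χ₃})
    (hdist : (χ₁ : G → ℂ) ≠ (fun _ => 1) ∧ (χ₂ : G → ℂ) ≠ (fun _ => 1) ∧
      (χ₃ : G → ℂ) ≠ (fun _ => 1) ∧ χ₁ ≠ χ₂ ∧ χ₁ ≠ χ₃ ∧ χ₂ ≠ χ₃)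
    (hv1 : (χ₁ : G → ℂ) J = 1) (hv2 : (χ₂ : G → ℂ) J = 1) (hv3 : (χ₃ : G → ℂ) J = -1) :
    Cfsg.charDegree (χ₁ : G → ℂ) = Cfsg.charDegree (χ₂ : G → ℂ) := by
  classical
  haveI : Fact (Nat.Prime 2) := ⟨Nat.prime_two⟩
  haveI : Fintype (Cfsg.IrrCharacter G) := Fintype.ofFinite _
  have hJ1 : J ≠ 1 := kc_ne_one_of_order_two hJ2
  obtain ⟨hd1, hd2, hd3, hd12, hd13, hd23⟩ := hdist
  have hTeq : ∀ χ : Cfsg.IrrCharacter G, (χ : G → ℂ) = (fun _ => 1) ↔ χ = trivIrr G := by
    intro χ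
    constructor
    · intro h
      exact Subtype.ext h
    · intro h
      rw [h]
      rfl
  have hT1 : trivIrr G ≠ χ₁ := fun h => hd1 ((hTeq χ₁).mpr h.symm)
  have hT2 : trivIrr G ≠ χ₂ := fun h => hd2 ((hTeq χ₂).mpr h.symm)
  have hT3 : trivIrr G ≠ χ₃ := fun h => hd3 ((hTeq χ₃).mpr h.symm)
  have hmemB : ∀ χ : Cfsg.IrrCharacter G, χ ∈ Cfsg.principalBlock M G ↔
      χ = trivIrr G ∨ χ = χ₁ ∨ χ = χ₂ ∨ χ = χ₃ := by
    intro χ
    rw [hB, Set.mem_setOf_eq, hTeq]
  have hsum4 : ∀ f : Cfsg.IrrCharacter G → ℂ, ∑ᶠ χ ∈ Cfsg.principalBlock M G, f χ =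
      f (trivIrr G) + f χ₁ + f χ₂ + f χ₃ := by
    intro f
    have hset : Cfsg.principalBlock M G =
        ↑({trivIrr G, χ₁, χ₂, χ₃} : Finset (Cfsg.IrrCharacter G)) := by
      ext χ
      rw [hmemB]
      simp
    rw [hset, finsum_mem_coe_finset, Finset.sum_insert, Finset.sum_insert, Finset.sum_insert,
      Finset.sum_singleton]
    · ring
    · simp only [Finset.mem_singleton]
      exact hd23
    · simp only [Finset.mem_insert, Finset.mem_singleton, not_or]
      exact ⟨hd12, hd13⟩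
    · simp only [Finset.mem_insert, Finset.mem_singleton, not_or]
      exact ⟨hT1, hT2, hT3⟩
  -- the square-root counting function
  obtain ⟨ι, hι⟩ : ∃ ι : G → ℂ, ι = fun g : G => (Nat.card {h : G // h * h = g} : ℂ) :=
    ⟨_, rfl⟩
  have hιclass : Cfsg.IsClassFunction G ι := by
    intro g x
    rw [hι]
    simp only
    congr 1
    apply Nat.card_congr
    refine ⟨fun h => ⟨x⁻¹ * h.1 * x, ?_⟩, fun h => ⟨x * h.1 * x⁻¹, ?_⟩, ?_, ?_⟩
    · have h2 := h.2
      calc x⁻¹ * h.1 * x * (x⁻¹ * h.1 * x) = x⁻¹ * (h.1 * h.1) * x := by group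
        _ = x⁻¹ * (x * g * x⁻¹) * x := by rw [h2]
        _ = g := by group
    · have h2 := h.2
      calc x * h.1 * x⁻¹ * (x * h.1 * x⁻¹) = x * (h.1 * h.1) * x⁻¹ := by group
        _ = x * g * x⁻¹ := by rw [h2]
    · intro h
      apply Subtype.ext
      simp only
      group
    · intro h
      apply Subtype.ext
      simp only
      group
  have hnd : ¬ 2 ∣ g₀ := fun h => (Nat.not_even_iff_odd.mpr hg₀) (even_iff_two_dvd.mpr h)
  have hιvan : ∀ u z : G, Cfsg.IsPPart 2 u z → IsConj J z → ι u = 0 := by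
    intro u z hpp hconj
    obtain ⟨y, hzy, hc, -, hy⟩ := hpp
    have hz2 : orderOf z = 2 := by
      obtain ⟨c, hc'⟩ := isConj_iff.mp hconj
      rw [← hc', Cfsg.Agent.Lib.helper23.orderOf_conj_eq]
      exact hJ2
    have hu2 : 2 ∣ orderOf u := by
      have hcop : (orderOf z).Coprime (orderOf y) := by
        rw [hz2]
        exact (Nat.Prime.coprime_iff_not_dvd Nat.prime_two).mpr hy
      rw [← hzy, hc.orderOf_mul_eq_mul_orderOf_of_coprime hcop, hz2]
      exact dvd_mul_right 2 _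
    rw [hι]
    simp only
    have hempty : IsEmpty {h : G // h * h = u} := by
      constructor
      rintro ⟨h, hh⟩
      have h4 : (h ^ g₀) ^ 4 = 1 := by
        rw [← pow_mul, mul_comm, ← hG, pow_card_eq_one']
      have hsq := ko_sq_of_pow4 P hP h4
      have hug : u ^ g₀ = 1 := by
        rw [← hh, ← pow_two, ← pow_mul, mul_comm, pow_mul, pow_two]
        exact hsq
      have h5 : orderOf u ∣ g₀ := orderOf_dvd_of_pow_eq_one hug
      exact hnd (dvd_trans hu2 h5)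
    rw [Nat.card_of_isEmpty, Nat.cast_zero]
  have hbp := (Cfsg.Agent.S0925.result 2 M hM).1 ι hιclass J ⟨1, by rw [hJ2, pow_one]⟩ hιvan
    (Cfsg.principalBlock M G) ⟨trivIrr G, rfl⟩ J J
    ⟨1, mul_one J, Commute.one_right J, ⟨1, by rw [hJ2, pow_one]⟩, by simp⟩ (IsConj.refl J)
  rw [ib_blockPart_apply, hsum4, hι, kof_classInner_sqrt, kof_classInner_sqrt,
    kof_classInner_sqrt, kof_classInner_sqrt, fsNu_triv, trivIrr_apply, hv1, hv2, hv3] at hbp
  -- degrees are odd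
  have hodd : ∀ (ζ : Cfsg.IrrCharacter G) (n : ℤ), (ζ : G → ℂ) J = (n : ℂ) → Odd n →
      Odd (Cfsg.charDegree (ζ : G → ℂ)) := by
    intro ζ n hn hno
    have h4 := h7_klein_mod4 P hP hone ζ J hJ2 n hn
    have h2 : (2 : ℤ) ∣ (Cfsg.charDegree (ζ : G → ℂ) : ℤ) - n :=
      dvd_trans (by norm_num) h4
    have h3 : Odd ((Cfsg.charDegree (ζ : G → ℂ) : ℤ)) := by
      obtain ⟨k, hk⟩ := h2
      obtain ⟨l, hl⟩ := hno
      exact ⟨k + l, by omega⟩
    exact_mod_cast h3
  have ho1 : Odd (Cfsg.charDegree (χ₁ : G → ℂ)) := hodd χ₁ 1 (by rw [hv1]; norm_num) odd_one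
  have ho2 : Odd (Cfsg.charDegree (χ₂ : G → ℂ)) := hodd χ₂ 1 (by rw [hv2]; norm_num) odd_one
  have ho3 : Odd (Cfsg.charDegree (χ₃ : G → ℂ)) :=
    hodd χ₃ (-1) (by rw [hv3]; norm_num) (by norm_num)
  -- χ₃ is real
  have hconjJ : ∀ χ : Cfsg.IrrCharacter G, (irrConj χ : G → ℂ) J = conj ((χ : G → ℂ) J) :=
    fun χ => irrConj_apply χ J
  have hc3 : irrConj χ₃ = χ₃ := by
    have hmem := kof_conj_mem_principal M χ₃ ((hmemB χ₃).mpr (Or.inr (Or.inr (Or.inr rfl))))
    have hval : (irrConj χ₃ : G → ℂ) J = -1 := by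
      rw [hconjJ, hv3, map_neg, map_one]
    rcases (hmemB _).mp hmem with h | h | h | h
    · rw [h, trivIrr_apply] at hval
      norm_num at hval
    · rw [h, hv1] at hval
      norm_num at hval
    · rw [h, hv2] at hval
      norm_num at hval
    · exact h
  have hν3 : fsNu χ₃ = 1 := kof_nu_of_real_odd χ₃ (kof_real_of_conj_eq χ₃ hc3) ho3
  -- ν₂ ≠ -1
  have hν2 : fsNu χ₂ ≠ -1 := fun h =>
    (Nat.not_even_iff_odd.mpr ho2) (kof_even_of_nu_neg χ₂ h)
  -- χ₁ is not real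
  have hc1 : irrConj χ₁ ≠ χ₁ := by
    intro h
    have hν1 : fsNu χ₁ = 1 := kof_nu_of_real_odd χ₁ (kof_real_of_conj_eq χ₁ h) ho1
    rw [hν1, hν3] at hbp
    apply hν2
    linear_combination hbp
  have hmem1 := kof_conj_mem_principal M χ₁ ((hmemB χ₁).mpr (Or.inr (Or.inl rfl)))
  have hval1 : (irrConj χ₁ : G → ℂ) J = 1 := by
    rw [hconjJ, hv1, map_one]
  rcases (hmemB _).mp hmem1 with h | h | h | h
  · exfalso
    apply hd1
    funext g
    have h1 : (irrConj χ₁ : G → ℂ) g = 1 := by rw [h, trivIrr_apply]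
    rw [irrConj_apply] at h1
    have h2 := congrArg conj h1
    rw [Complex.conj_conj, map_one] at h2
    exact h2
  · exact absurd h hc1
  · rw [← kof_charDegree_conj χ₁, h]
  · rw [h, hv3] at hval1
    norm_num at hval1

end Cfsg.Agent.Lib.Helper29.KleinOrder
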