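import Mathlib
import Cfsg.Agent.S0946

set_option autoImplicit false

/-!
A group of order `4 g₀` (`g₀` odd) without normal subgroup of order `g₀` has Klein four
Sylow 2-subgroups and a single class of involutions.
-/

namespace Cfsg.Agent.Lib.Helper29.KleinOrder

variable {G : Type*} [Group G]

theorem kos_setup [Finite G] (g₀ : ℕ) (hg₀ : Odd g₀) (hG : Nat.card G = 4 * g₀)
    (hnc : ¬ ∃ N : Subgroup G, N.Normal ∧ Nat.card N = g₀) (P : Sylow 2 G) :
    IsKleinFour (P : Subgroup G) ∧
      ∀ s t : G, orderOf s = 2 → orderOf t = 2 → IsConj s t := by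
  haveI : Fact (Nat.Prime 2) := ⟨Nat.prime_two⟩
  have h4 : (4 : ℕ) = 2 ^ 2 := by norm_num
  have hnd : ¬ 2 ∣ g₀ := fun h => (Nat.not_even_iff_odd.mpr hg₀) (even_iff_two_dvd.mpr h)
  have hcardP : Nat.card (P : Subgroup G) = 4 := by
    rw [P.card_eq_multiplicity, hG]
    have h1 : (4 * g₀).factorization 2 = 2 := by
      rw [h4, Nat.factorization_mul (by norm_num) hg₀.pos.ne', Finsupp.add_apply,
        Nat.Prime.factorization_pow Nat.prime_two, Finsupp.single_eq_same,
        Nat.factorization_eq_zero_of_not_dvd hnd, add_zero]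
    rw [h1]
    norm_num
  have hcompl : ∀ N : Subgroup G, N.Normal → ¬ Subgroup.IsComplement' N (P : Subgroup G) := by
    intro N hN hc
    apply hnc
    refine ⟨N, hN, ?_⟩
    have h1 := hc.card_mul_card
    rw [hcardP, hG] at h1
    omega
  have hncyc : ¬ IsCyclic (P : Subgroup G) := by
    intro hcyc
    have hmin : (Nat.card G).minFac = 2 := by
      rw [Nat.minFac_eq_two_iff, hG]
      exact ⟨2 * g₀, by ring⟩
    have h := IsCyclic.isComplement' hmin hcyc
    exact hcompl _ (MonoidHom.normal_ker _) h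
  have hK : IsKleinFour (P : Subgroup G) := by
    refine ⟨hcardP, ?_⟩
    have hsq : ∀ x : (P : Subgroup G), x ^ 2 = 1 := by
      intro x
      have hx4 : orderOf x ∣ 4 := by
        rw [← hcardP]
        exact orderOf_dvd_natCard x
      have hx : orderOf x ≠ 4 := by
        intro h
        apply hncyc
        exact isCyclic_of_orderOf_eq_card x (by rw [h, hcardP])
      have h2 : orderOf x ∣ 2 := by
        rw [h4] at hx4
        obtain ⟨j, hj, hj'⟩ := (Nat.dvd_prime_pow Nat.prime_two).mp hx4
        interval_cases j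
        · rw [hj']; norm_num
        · rw [hj']; norm_num
        · exfalso
          apply hx
          rw [hj']
          norm_num
      exact orderOf_dvd_iff_pow_eq_one.mp h2
    have hdvd : Monoid.exponent (P : Subgroup G) ∣ 2 :=
      Monoid.exponent_dvd_of_forall_pow_eq_one hsq
    have hne1 : Monoid.exponent (P : Subgroup G) ≠ 1 := by
      intro h
      rw [Monoid.exp_eq_one_iff] at h
      have h1 : Nat.card (P : Subgroup G) = 1 := Nat.card_eq_one_iff_unique.mpr ⟨h, ⟨1⟩⟩
      rw [hcardP] at h1
      norm_num at h1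
    rcases (Nat.dvd_prime Nat.prime_two).mp hdvd with h | h
    · exact absurd h hne1
    · exact h
  refine ⟨hK, ?_⟩
  obtain ⟨e⟩ := IsKleinFour.nonempty_mulEquiv (G₁ := (P : Subgroup G))
    (G₂ := Multiplicative (ZMod 2 × ZMod 2))
  rcases Cfsg.Agent.S0946.result P 1 le_rfl e with ⟨N, hN, hc⟩ | h
  · exact absurd hc (hcompl N hN)
  · exact h

end Cfsg.Agent.Lib.Helper29.KleinOrder
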