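import Mathlib
import Cfsg.Prelude.Def_Characters
import Cfsg.Prelude.Def_Blocks
import Cfsg.Agent.Lib.helper2.CharInt
import Cfsg.Agent.Lib.helper7.ClassSum
import Cfsg.Agent.Lib.Helper25.CharBasic

set_option autoImplicit false
set_option linter.unusedSimpArgs false
set_option linter.unusedVariables false

/-!
Knörr's theorem on characters vanishing on the elements of order `p`, by an elementary route:
with `Ω = {g | g ^ p = 1}`, the central sum `Ω̂` acts as the identity, hence so does `Ω̂ ^ 2`;
the coefficient of `y` in `Ω̂ ^ 2` is divisible by `p` whenever `p ∣ |C(y)|`, and for the other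
classes the central character value is divisible by `p ^ (a - b)`.
-/

namespace Cfsg.Agent.Lib.Helper29.KnorrVan

open Cfsg.Agent.Lib.helper2 Cfsg.Agent.Lib.helper7 Cfsg.Agent.Lib.Helper25

/-- A fixed-point-free self-map of a finset with `f^[p] = id` forces `p ∣ card`. -/
theorem knv_dvd_card_of_free {α : Type*} [DecidableEq α] (p : ℕ) [hp : Fact p.Prime]
    (s : Finset α) (f : α → α)
    (hmaps : ∀ a ∈ s, f a ∈ s) (hper : ∀ a ∈ s, f^[p] a = a) (hfree : ∀ a ∈ s, f a ≠ a) :
    p ∣ s.card := by
  classical
  let g : Function.End s := fun a => ⟨f a.1, hmaps a.1 a.2⟩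
  have hiter : ∀ k : ℕ, ∀ a : s, ((g ^ k) a).1 = f^[k] a.1 := by
    intro k
    induction k with
    | zero => intro a; rfl
    | succ k ih =>
      intro a
      rw [pow_succ']
      show (g ((g ^ k) a)).1 = _
      rw [Function.iterate_succ_apply']
      show f ((g ^ k) a).1 = _
      rw [ih]
  have hg : g ^ p ^ 1 = 1 := by
    rw [pow_one]
    funext a
    apply Subtype.ext
    rw [hiter]
    exact hper a.1 a.2
  have h1 := Equiv.Perm.card_fixedPoints_modEq (p := p) (n := 1) hg
  have h2 : Fintype.card (Function.fixedPoints g) = 0 := by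
    rw [Fintype.card_eq_zero_iff]
    constructor
    rintro ⟨a, ha⟩
    exact hfree a.1 a.2 (congrArg Subtype.val ha)
  rw [h2, Fintype.card_coe] at h1
  exact (Nat.modEq_zero_iff_dvd).mp h1

/-- The number of factorizations `y = g * h` with `g ^ p = 1 = h ^ p` is divisible by `p`
as soon as `p` divides the order of the centralizer of `y`. -/
theorem knv_count {G : Type*} [Group G] [Fintype G] [DecidableEq G] (p : ℕ) [hp : Fact p.Prime]
    (y : G) (hy : p ∣ Nat.card (Subgroup.centralizer ({y} : Set G))) :
    p ∣ (Finset.univ.filter (fun g : G => g ^ p = 1 ∧ (g⁻¹ * y) ^ p = 1)).card := by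
  classical
  obtain ⟨x', hx'⟩ := exists_prime_orderOf_dvd_card' p hy
  set x : G := (x' : G) with hxdef
  have hxo : orderOf x = p := by rw [hxdef, Subgroup.orderOf_coe]; exact hx'
  have hxy : x * y = y * x := Subgroup.mem_centralizer_singleton_iff.mp x'.2
  have hxp : x ^ p = 1 := by rw [← hxo]; exact pow_orderOf_eq_one x
  have hx1 : x ≠ 1 := by
    intro h
    rw [h, orderOf_one] at hxo
    exact hp.out.one_lt.ne hxo
  rw [← Finset.card_filter_add_card_filter_not (fun g : G => x * g = g * x)]
  apply dvd_add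
  · apply knv_dvd_card_of_free p _ (fun g => x * g)
    · intro g hg
      simp only [Finset.mem_filter, Finset.mem_univ, true_and] at hg ⊢
      obtain ⟨⟨hg1, hg2⟩, hc⟩ := hg
      have hcc : Commute x g := hc
      refine ⟨⟨?_, ?_⟩, ?_⟩
      · rw [hcc.mul_pow, hxp, hg1, one_mul]
      · have h1 : Commute x (g⁻¹ * y) := (Commute.inv_right hcc).mul_right hxy
        have hc' : Commute x⁻¹ (g⁻¹ * y) := h1.inv_left
        have h2 : (x * g)⁻¹ * y = x⁻¹ * (g⁻¹ * y) := by
          rw [mul_inv_rev, ← mul_assoc]
          congr 1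
          exact ((Commute.inv_right hcc).inv_left).eq.symm
        rw [h2, hc'.mul_pow, inv_pow, hxp, inv_one, one_mul, hg2]
      · rw [mul_assoc, ← hc]
    · intro g hg
      rw [mul_left_iterate]
      simp [hxp]
    · intro g hg h
      exact hx1 (by simpa using h)
  · have hit : ∀ k : ℕ, ∀ g : G, (fun g => x * g * x⁻¹)^[k] g = x ^ k * g * (x ^ k)⁻¹ := by
      intro k
      induction k with
      | zero => intro g; simp
      | succ k ih =>
        intro g
        rw [Function.iterate_succ_apply', ih, pow_succ']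
        group
    apply knv_dvd_card_of_free p _ (fun g => x * g * x⁻¹)
    · intro g hg
      simp only [Finset.mem_filter, Finset.mem_univ, true_and] at hg ⊢
      obtain ⟨⟨hg1, hg2⟩, hc⟩ := hg
      refine ⟨⟨?_, ?_⟩, ?_⟩
      · rw [conj_pow, hg1, mul_one, mul_inv_cancel]
      · have h2 : (x * g * x⁻¹)⁻¹ * y = x * (g⁻¹ * y) * x⁻¹ := by
          have : x⁻¹ * y = y * x⁻¹ := by
            have := congrArg (fun z => x⁻¹ * z * x⁻¹) hxy
            simp only [mul_assoc, inv_mul_cancel_left, mul_inv_cancel, mul_one] at this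
            exact this.symm
          rw [mul_inv_rev, mul_inv_rev, inv_inv, mul_assoc, mul_assoc, mul_assoc, mul_assoc, this]
        rw [h2, conj_pow, hg2, mul_one, mul_inv_cancel]
      · intro h
        apply hc
        have := congrArg (fun z => x⁻¹ * z * x) h
        simp only [mul_assoc, inv_mul_cancel_left, inv_mul_cancel, mul_one] at this
        have h3 : x⁻¹ * (x * (g * x)) = g * x := by rw [inv_mul_cancel_left]
        -- this : x * g * x⁻¹ commutes with x
        calc x * g = x * g * x⁻¹ * x := by group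
          _ = x⁻¹ * (x * (x * g * x⁻¹)) * x := by group
          _ = x⁻¹ * ((x * g * x⁻¹) * x) * x := by rw [h]
          _ = g * x := by group
    · intro g hg
      rw [hit, hxp]
      simp
    · intro g hg h
      simp only [Finset.mem_filter, Finset.mem_univ, true_and] at hg
      apply hg.2
      calc x * g = x * g * x⁻¹ * x := by group
        _ = g * x := by rw [h]

/-- If the irreducible character vanishes on all elements of order `p`, the central sum over
`{g | g ^ p = 1}` acts as the identity. -/
theorem knv_sum_eq_id {G : Type*} [Group G] [Fintype G] [DecidableEq G] {V : Type*}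
    [AddCommGroup V] [Module ℂ V] [FiniteDimensional ℂ V] (ρ : Representation ℂ G V)
    [ρ.IsIrreducible] (p : ℕ) [hp : Fact p.Prime]
    (hvan : ∀ g : G, orderOf g = p → ρ.character g = 0) :
    ∑ g ∈ Finset.univ.filter (fun g : G => g ^ p = 1), ρ g = LinearMap.id := by
  classical
  set T : V →ₗ[ℂ] V := ∑ g ∈ Finset.univ.filter (fun g : G => g ^ p = 1), ρ g with hT
  have hcomm : ∀ h : G, T ∘ₗ ρ h = ρ h ∘ₗ T := by
    intro h
    rw [← Module.End.mul_eq_comp, ← Module.End.mul_eq_comp, hT, Finset.sum_mul, Finset.mul_sum]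
    refine Finset.sum_bij (fun x _ => h⁻¹ * x * h) ?_ ?_ ?_ ?_
    · intro x hx
      simp only [Finset.mem_filter, Finset.mem_univ, true_and] at hx ⊢
      have : h⁻¹ * x * h = h⁻¹ * x * h⁻¹⁻¹ := by rw [inv_inv]
      rw [this, conj_pow, hx, mul_one, mul_inv_cancel]
    · intro x _ y _ hxy
      have := congrArg (fun z => h * z * h⁻¹) hxy
      simpa [mul_assoc] using this
    · intro y hy
      simp only [Finset.mem_filter, Finset.mem_univ, true_and] at hy
      refine ⟨h * y * h⁻¹, ?_, by group⟩
      simp only [Finset.mem_filter, Finset.mem_univ, true_and]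
      rw [conj_pow, hy, mul_one, mul_inv_cancel]
    · intro x _
      rw [← map_mul, ← map_mul]
      congr 1
      group
  obtain ⟨c, hc⟩ := commuting_end_scalar ρ T hcomm
  have htr : LinearMap.trace ℂ V T = (Module.finrank ℂ V : ℂ) := by
    rw [hT, map_sum]
    rw [Finset.sum_eq_single_of_mem (1 : G) (by simp)]
    · rw [map_one]; exact LinearMap.trace_one ℂ V
    · intro g hg hg1
      have : orderOf g = p := by
        have h1 : orderOf g ∣ p := orderOf_dvd_of_pow_eq_one (Finset.mem_filter.mp hg).2
        rcases (Nat.dvd_prime hp.out).mp h1 with h | h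
        · exact absurd (orderOf_eq_one_iff.mp h) hg1
        · exact h
      exact hvan g this
  have htr2 : LinearMap.trace ℂ V T = c * (Module.finrank ℂ V : ℂ) := by
    rw [hc, map_smul, LinearMap.trace_id, smul_eq_mul]
  have hn : (Module.finrank ℂ V : ℂ) ≠ 0 := by
    exact_mod_cast finrank_ne_zero_of_irr ρ
  have hc1 : c = 1 := by
    have h1 : c * (Module.finrank ℂ V : ℂ) = 1 * (Module.finrank ℂ V : ℂ) := by
      rw [one_mul, ← htr2, htr]
    exact mul_right_cancel₀ hn h1
  rw [hc, hc1, one_smul]

/-- The double sum: `∑_y N(y) χ(y) = χ(1)`. -/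
theorem knv_double_sum {G : Type*} [Group G] [Fintype G] [DecidableEq G] {V : Type*}
    [AddCommGroup V] [Module ℂ V] [FiniteDimensional ℂ V] (ρ : Representation ℂ G V)
    [ρ.IsIrreducible] (p : ℕ) [hp : Fact p.Prime]
    (hvan : ∀ g : G, orderOf g = p → ρ.character g = 0) :
    ∑ y : G, ((Finset.univ.filter (fun g : G => g ^ p = 1 ∧ (g⁻¹ * y) ^ p = 1)).card : ℂ) *
      ρ.character y = (Module.finrank ℂ V : ℂ) := by
  classical
  have h1 := knv_sum_eq_id ρ p hvan
  have h2 : (∑ g ∈ Finset.univ.filter (fun g : G => g ^ p = 1), ρ g) *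
      (∑ g ∈ Finset.univ.filter (fun g : G => g ^ p = 1), ρ g) = 1 := by
    rw [h1]; rfl
  rw [Finset.sum_mul_sum] at h2
  have h3 := congrArg (LinearMap.trace ℂ V) h2
  rw [LinearMap.trace_one, map_sum] at h3
  rw [← h3]
  -- rewrite the right-hand side
  have h4 : ∀ g ∈ Finset.univ.filter (fun g : G => g ^ p = 1),
      LinearMap.trace ℂ V (∑ h ∈ Finset.univ.filter (fun g : G => g ^ p = 1), ρ g * ρ h) =
        ∑ y : G, if (g⁻¹ * y) ^ p = 1 then ρ.character y else 0 := by
    intro g _
    rw [map_sum, Finset.sum_filter]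
    refine Fintype.sum_equiv (Equiv.mulLeft g) _ _ ?_
    intro h
    simp only [Equiv.coe_mulLeft, inv_mul_cancel_left]
    split_ifs
    · rw [← map_mul]; rfl
    · rfl
  rw [Finset.sum_congr rfl h4, Finset.sum_comm]
  refine Finset.sum_congr rfl ?_
  intro y _
  rw [← Finset.sum_filter, Finset.sum_const, Finset.filter_filter, nsmul_eq_mul]

/-- The counting function `N` is a class function. -/
theorem knv_N_conj {G : Type*} [Group G] [Fintype G] [DecidableEq G] (p : ℕ) (y h : G) :
    (Finset.univ.filter (fun g : G => g ^ p = 1 ∧ (g⁻¹ * (h * y * h⁻¹)) ^ p = 1)).card =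
      (Finset.univ.filter (fun g : G => g ^ p = 1 ∧ (g⁻¹ * y) ^ p = 1)).card := by
  classical
  refine Finset.card_bij (fun g _ => h⁻¹ * g * h) ?_ ?_ ?_
  · intro g hg
    simp only [Finset.mem_filter, Finset.mem_univ, true_and] at hg ⊢
    have e1 : h⁻¹ * g * h = h⁻¹ * g * h⁻¹⁻¹ := by rw [inv_inv]
    have e2 : (h⁻¹ * g * h)⁻¹ * y = h⁻¹ * (g⁻¹ * (h * y * h⁻¹)) * h⁻¹⁻¹ := by group
    refine ⟨?_, ?_⟩
    · rw [e1, conj_pow, hg.1, mul_one, mul_inv_cancel]
    · rw [e2, conj_pow, hg.2, mul_one, mul_inv_cancel]
  · intro g₁ _ g₂ _ h12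
    have := congrArg (fun z => h * z * h⁻¹) h12
    simpa [mul_assoc] using this
  · intro g hg
    simp only [Finset.mem_filter, Finset.mem_univ, true_and] at hg
    refine ⟨h * g * h⁻¹, ?_, by group⟩
    simp only [Finset.mem_filter, Finset.mem_univ, true_and]
    have e2 : (h * g * h⁻¹)⁻¹ * (h * y * h⁻¹) = h * (g⁻¹ * y) * h⁻¹ := by group
    refine ⟨?_, ?_⟩
    · rw [conj_pow, hg.1, mul_one, mul_inv_cancel]
    · rw [e2, conj_pow, hg.2, mul_one, mul_inv_cancel]

/-- Knörr's theorem, representation form. -/
theorem knv_main {G : Type*} [Group G] [Finite G] {V : Type*}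
    [AddCommGroup V] [Module ℂ V] [FiniteDimensional ℂ V] (ρ : Representation ℂ G V)
    [ρ.IsIrreducible] (p : ℕ) [hp : Fact p.Prime]
    (hvan : ∀ g : G, orderOf g = p → ρ.character g = 0) :
    (Module.finrank ℂ V).factorization p = (Nat.card G).factorization p := by
  classical
  have : Fintype G := Fintype.ofFinite G
  set n := Module.finrank ℂ V with hn
  have hn0 : n ≠ 0 := finrank_ne_zero_of_irr ρ
  have hdvd : n ∣ Nat.card G := degree_dvd_card ρ
  have hG0 : Nat.card G ≠ 0 := Nat.card_pos.ne'
  have hba : n.factorization p ≤ (Nat.card G).factorization p :=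
    (Nat.factorization_le_iff_dvd hn0 hG0).mpr hdvd p
  by_contra hne
  have hlt : n.factorization p + 1 ≤ (Nat.card G).factorization p := by omega
  have hkey : p ^ (n.factorization p + 1) ∣ n := by
    apply nat_dvd_of_isIntegral_div n (p ^ (n.factorization p + 1)) (pow_ne_zero _ hp.out.ne_zero)
    have hsum := knv_double_sum ρ p hvan
    rw [h7_sum_eq_sum_conjClasses (fun y : G =>
      ((Finset.univ.filter (fun g : G => g ^ p = 1 ∧ (g⁻¹ * y) ^ p = 1)).card : ℂ) *
        ρ.character y)
      (by
        intro g h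
        show ((Finset.univ.filter (fun g' : G => g' ^ p = 1 ∧
          (g'⁻¹ * (h * g * h⁻¹)) ^ p = 1)).card : ℂ) * ρ.character (h * g * h⁻¹) = _
        rw [knv_N_conj, Representation.char_conj])] at hsum
    rw [← hn] at hsum
    rw [← hsum, Finset.sum_div]
    refine IsIntegral.sum _ ?_
    intro K _
    set r : G := Quotient.out K with hr
    by_cases hK : p ∣ Nat.card (Subgroup.centralizer ({r} : Set G))
    · obtain ⟨N', hN'⟩ := knv_count p r hK
      obtain ⟨m, hm⟩ : p ^ (n.factorization p) ∣ n := Nat.ordProj_dvd n p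
      have hω := central_char_integral ρ r
      rw [← hn] at hω
      have hm0 : (m : ℂ) ≠ 0 := by
        intro h0
        have : m = 0 := by exact_mod_cast h0
        rw [this, mul_zero] at hm
        exact hn0 hm
      have hp0 : (p : ℂ) ≠ 0 := by exact_mod_cast hp.out.ne_zero
      have e : ((Subgroup.centralizer ({r} : Set G)).index •
          (((Finset.univ.filter (fun g : G => g ^ p = 1 ∧ (g⁻¹ * r) ^ p = 1)).card : ℂ) *
            ρ.character r)) / ((p ^ (n.factorization p + 1) : ℕ) : ℂ) =
          (N' : ℂ) * (m : ℂ) * (((Subgroup.centralizer ({r} : Set G)).index : ℂ) *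
            ρ.character r / (n : ℂ)) := by
        rw [hN']
        conv_rhs => rw [hm]
        push_cast
        rw [nsmul_eq_mul]
        field_simp
        ring
      rw [e]
      have i1 : IsIntegral ℤ (N' : ℂ) := by
        simpa using (isIntegral_algebraMap (R := ℤ) (A := ℂ) (x := (N' : ℤ)))
      have i2 : IsIntegral ℤ (m : ℂ) := by
        simpa using (isIntegral_algebraMap (R := ℤ) (A := ℂ) (x := (m : ℤ)))
      exact (i1.mul i2).mul hω
    · have h1 : (Subgroup.centralizer ({r} : Set G)).index *
          Nat.card (Subgroup.centralizer ({r} : Set G)) = Nat.card G :=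
        Subgroup.index_mul_card _
      have h2 : p ^ ((Nat.card G).factorization p) ∣ Nat.card G := Nat.ordProj_dvd _ _
      have h3 : Nat.Coprime (p ^ ((Nat.card G).factorization p))
          (Nat.card (Subgroup.centralizer ({r} : Set G))) :=
        Nat.Coprime.pow_left _ ((Nat.Prime.coprime_iff_not_dvd hp.out).mpr hK)
      have h4 : p ^ ((Nat.card G).factorization p) ∣
          (Subgroup.centralizer ({r} : Set G)).index := by
        have h2' : p ^ ((Nat.card G).factorization p) ∣
            (Subgroup.centralizer ({r} : Set G)).index *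
              Nat.card (Subgroup.centralizer ({r} : Set G)) := by
          rw [h1]; exact h2
        exact h3.dvd_of_dvd_mul_right h2'
      have h5 : p ^ (n.factorization p + 1) ∣ (Subgroup.centralizer ({r} : Set G)).index :=
        (pow_dvd_pow p hlt).trans h4
      obtain ⟨q, hq⟩ := h5
      have hp0 : (p : ℂ) ≠ 0 := by exact_mod_cast hp.out.ne_zero
      have e : ((Subgroup.centralizer ({r} : Set G)).index •
          (((Finset.univ.filter (fun g : G => g ^ p = 1 ∧ (g⁻¹ * r) ^ p = 1)).card : ℂ) *
            ρ.character r)) / ((p ^ (n.factorization p + 1) : ℕ) : ℂ) =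
          (q : ℂ) * (((Finset.univ.filter
            (fun g : G => g ^ p = 1 ∧ (g⁻¹ * r) ^ p = 1)).card : ℕ) : ℂ) * ρ.character r := by
        rw [hq]
        push_cast
        rw [nsmul_eq_mul]
        push_cast
        field_simp
      rw [e]
      have i1 : IsIntegral ℤ (q : ℂ) := by
        simpa using (isIntegral_algebraMap (R := ℤ) (A := ℂ) (x := (q : ℤ)))
      have i2 : IsIntegral ℤ ((((Finset.univ.filter
            (fun g : G => g ^ p = 1 ∧ (g⁻¹ * r) ^ p = 1)).card : ℕ) : ℂ)) := by
        simpa using (isIntegral_algebraMap (R := ℤ) (A := ℂ) (x := (((Finset.univ.filter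
            (fun g : G => g ^ p = 1 ∧ (g⁻¹ * r) ^ p = 1)).card : ℕ) : ℤ)))
      exact (i1.mul i2).mul (char_integral ρ r)
  exact Nat.pow_succ_factorization_not_dvd hn0 hp.out hkey

end Cfsg.Agent.Lib.Helper29.KnorrVan
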