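import Mathlib
import Cfsg.Agent.Lib.Helper29.M11J

set_option autoImplicit false

namespace Cfsg.Agent.Lib.Helper29

open Cfsg.Agent.Lib.Helper11 Cfsg.Agent.Lib.helper7 Cfsg.Agent.Lib.Helper25 Cfsg.Agent.Lib.helper2
open Cfsg.Agent.Lib.helper8 Cfsg.Agent.Lib.helper23 Cfsg.Agent.Lib.Helper24
open Cfsg.Agent.Lib.Helper26
open Cfsg.Agent.Lib.Helper11.TISylCong

/-- the irreducible character of degree 11 is unique -/
theorem m11_deg11_unique {G : Type*} [Group G] [Finite G] [IsSimpleGroup G]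
    (hG : Nat.card G = 7920) (χ ψ : Cfsg.IrrCharacter G)
    (hχ : Cfsg.charDegree (χ : G → ℂ) = 11) (hψ : Cfsg.charDegree (ψ : G → ℂ) = 11) : χ = ψ := by
  obtain ⟨_, hcnt⟩ := Cfsg.Agent.S4429.result hG
  have h := hcnt 11
  norm_num at h
  haveI : Finite {χ : Cfsg.IrrCharacter G // Cfsg.charDegree (χ : G → ℂ) = 11} :=
    Nat.finite_of_card_ne_zero (by rw [h]; norm_num)
  have hs := (Nat.card_eq_one_iff_unique.mp h).1
  have := hs.elim (⟨χ, hχ⟩ : {χ : Cfsg.IrrCharacter G // Cfsg.charDegree (χ : G → ℂ) = 11})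
    ⟨ψ, hψ⟩
  exact congrArg Subtype.val this

open scoped ComplexConjugate in
open Classical in
/-- value of the degree 11 character on an involution, from the class multiplication
coefficient -/
theorem m11_chi11_invol_aux {G : Type*} [Group G] [Finite G] [IsSimpleGroup G] [Fintype G]
    [Fintype (Cfsg.IrrCharacter G)] (hG : Nat.card G = 7920) (x₀ : G) (hx₀ : orderOf x₀ = 5)
    (hcx : Nat.card (Subgroup.centralizer ({x₀} : Set G)) = 5)
    (χ₁₁ χ₄₄ : Cfsg.IrrCharacter G) (hd11 : Cfsg.charDegree (χ₁₁ : G → ℂ) = 11)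
    (hd44 : Cfsg.charDegree (χ₄₄ : G → ℂ) = 44)
    (hsum : ∀ f : Cfsg.IrrCharacter G → ℂ,
        (∀ ψ : Cfsg.IrrCharacter G, Cfsg.charDegree (ψ : G → ℂ) = 16 → f ψ = 0) →
        ∑ ψ : Cfsg.IrrCharacter G, conj ((ψ : G → ℂ) x₀) * f ψ =
          f (trivIrr G) + f χ₁₁ - f χ₄₄)
    (u : G) (hu : orderOf u = 2)
    (hC : Nat.card (Subgroup.centralizer ({u} : Set G)) = 48)
    (hKc : ((Cl u ×ˢ Cl u).filter (fun w : G × G => IsConj x₀ (w.1 * w.2))).card = 7920) :
    (χ₁₁ : G → ℂ) u = 3 := by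
  have hu1 : u ≠ 1 := by
    intro h; rw [h, orderOf_one] at hu; omega
  -- integrality
  obtain ⟨e, he⟩ : ∃ e : ℤ, (χ₁₁ : G → ℂ) u = e := by
    apply value_int (isCharacter_of_irr χ₁₁) (Subgroup.zpowers u) _ (Subgroup.mem_zpowers u) hu1
    intro z hz z' hz' hz1 hz1'
    rcases cdf_mem_zpowers_order_two u z hu hz with h | h
    · exact absurd h hz1
    rcases cdf_mem_zpowers_order_two u z' hu hz' with h' | h'
    · exact absurd h' hz1'
    rw [h, h']
  -- vanishing of the characters of degree 16 on involutions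
  haveI : Fact (Nat.Prime 2) := ⟨Nat.prime_two⟩
  obtain ⟨M, hM⟩ := exists_isPModular 2 Nat.prime_two
  have h16 : ∀ ψ : Cfsg.IrrCharacter G, Cfsg.charDegree (ψ : G → ℂ) = 16 →
      (ψ : G → ℂ) u = 0 := by
    intro ψ h
    exact h7_defect_zero_vanish hM ψ (by rw [hG, h]; norm_num) u (by rw [hu])
  -- column orthogonality between u and x₀
  have hnc : ¬ IsConj x₀ u := by
    intro h
    have := og_orderOf_of_isConj h
    rw [hu, hx₀] at this; omega
  have hO1 := irr_column_orthogonality u x₀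
  rw [if_neg hnc] at hO1
  have h44 : (χ₄₄ : G → ℂ) u = 1 + e := by
    have h := hsum (fun ψ => (ψ : G → ℂ) u) h16
    simp only [trivIrr_apply] at h
    have h' : ∑ ψ : Cfsg.IrrCharacter G, conj ((ψ : G → ℂ) x₀) * (ψ : G → ℂ) u = 0 := by
      rw [← hO1]; apply Finset.sum_congr rfl; intros; ring
    rw [h', he] at h
    linear_combination h
  -- the class multiplication coefficient
  set K : ℕ := ((Cl u ×ˢ Cl u).filter (fun w : G × G => IsConj x₀ (w.1 * w.2))).card with hKdef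
  set C : ℕ := Nat.card (Subgroup.centralizer ({u} : Set G)) with hCdef
  have hSS : ∀ ψ : Cfsg.IrrCharacter G, (C : ℂ) * (C : ℂ) * SS (ψ : G → ℂ) u u =
      (7920 : ℂ) ^ 2 * (ψ : G → ℂ) u * (ψ : G → ℂ) u / (ψ : G → ℂ) 1 := by
    intro ψ
    have := SS_eq ψ u u
    rw [hG] at this
    rw [this]; norm_num
  have hmain := hsum (fun ψ => (7920 : ℂ) ^ 2 * (ψ : G → ℂ) u * (ψ : G → ℂ) u / (ψ : G → ℂ) 1)
    (by intro ψ h; simp [h16 ψ h])
  have hK : ∑ ψ : Cfsg.IrrCharacter G, conj ((ψ : G → ℂ) x₀) * SS (ψ : G → ℂ) u u =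
      5 * (K : ℂ) := by
    have h1 : ∀ ψ : Cfsg.IrrCharacter G, conj ((ψ : G → ℂ) x₀) * SS (ψ : G → ℂ) u u =
        ∑ w ∈ Cl u ×ˢ Cl u, (ψ : G → ℂ) (w.1 * w.2) * conj ((ψ : G → ℂ) x₀) := by
      intro ψ
      unfold SS
      rw [Finset.sum_product, Finset.mul_sum]
      apply Finset.sum_congr rfl; intro x _
      rw [Finset.mul_sum]
      apply Finset.sum_congr rfl; intro y _
      ring
    rw [Finset.sum_congr rfl (fun ψ _ => h1 ψ), Finset.sum_comm]
    have h2 : ∀ w ∈ Cl u ×ˢ Cl u, ∑ ψ : Cfsg.IrrCharacter G,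
        (ψ : G → ℂ) (w.1 * w.2) * conj ((ψ : G → ℂ) x₀) =
        if IsConj x₀ (w.1 * w.2) then (5 : ℂ) else 0 := by
      intro w _
      rw [irr_column_orthogonality (w.1 * w.2) x₀, hcx]; norm_num
    rw [Finset.sum_congr rfl h2, Finset.sum_ite, Finset.sum_const, Finset.sum_const_zero,
      add_zero, nsmul_eq_mul]
    ring
  have hcomb : (C : ℂ) * (C : ℂ) * (5 * (K : ℂ)) =
      (7920 : ℂ) ^ 2 * (1 + (e : ℂ) ^ 2 / 11 - (1 + (e : ℂ)) ^ 2 / 44) := by
    calc (C : ℂ) * (C : ℂ) * (5 * (K : ℂ))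
        = ∑ ψ : Cfsg.IrrCharacter G, conj ((ψ : G → ℂ) x₀) *
            ((C : ℂ) * (C : ℂ) * SS (ψ : G → ℂ) u u) := by
          rw [← hK, Finset.mul_sum]; apply Finset.sum_congr rfl; intros; ring
      _ = ∑ ψ : Cfsg.IrrCharacter G, conj ((ψ : G → ℂ) x₀) *
            ((7920 : ℂ) ^ 2 * (ψ : G → ℂ) u * (ψ : G → ℂ) u / (ψ : G → ℂ) 1) := by
          apply Finset.sum_congr rfl; intro ψ _; rw [hSS ψ]
      _ = _ := hmain
      _ = _ := by
          simp only [trivIrr_apply, he, h44, ← (charDegree_irr χ₁₁).1, ← (charDegree_irr χ₄₄).1,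
            hd11, hd44]
          push_cast
          ring
  have hfin : ((220 * (K : ℤ) * (C : ℤ) ^ 2 : ℤ) : ℂ) =
      ((7920 ^ 2 * (3 * e ^ 2 - 2 * e + 43) : ℤ) : ℂ) := by
    push_cast
    linear_combination 44 * hcomb
  have hfin' : 220 * (K : ℤ) * (C : ℤ) ^ 2 = 7920 ^ 2 * (3 * e ^ 2 - 2 * e + 43) := by
    exact_mod_cast hfin
  rw [hKc, hC] at hfin'
  push_cast at hfin'
  have hq : (e - 3) * (3 * e + 7) = 0 := by linarith
  rcases mul_eq_zero.mp hq with h | h
  · have : e = 3 := by omega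
    rw [he, this]; norm_num
  · omega

open scoped ComplexConjugate in
/-- the values of the degree 11 character on elements of order 1, 2, 5, 11 -/
theorem m11_chi11_values {G : Type*} [Group G] [Finite G] [IsSimpleGroup G]
    (hG : Nat.card G = 7920) :
    ∃ χ : Cfsg.IrrCharacter G, Cfsg.charDegree (χ : G → ℂ) = 11 ∧
      (∀ z : G, orderOf z = 11 → (χ : G → ℂ) z = 0) ∧
      (∀ x : G, orderOf x = 5 → (χ : G → ℂ) x = 1) ∧
      (∀ u : G, orderOf u = 2 → (χ : G → ℂ) u = 3) := by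
  classical
  haveI : Fact (Nat.Prime 5) := ⟨by norm_num⟩
  haveI : Fact (Nat.Prime 11) := ⟨by norm_num⟩
  haveI : Fintype G := Fintype.ofFinite G
  haveI : Fintype (Cfsg.IrrCharacter G) := Fintype.ofFinite _
  obtain ⟨Q⟩ : Nonempty (Sylow 5 G) := inferInstance
  obtain ⟨hQ, _, hNQ, _⟩ := m11_syl5 hG Q
  obtain ⟨x', hx'⟩ := exists_prime_orderOf_dvd_card' 5
    (by rw [hQ] : 5 ∣ Nat.card (Q : Subgroup G))
  obtain ⟨x₀, hx₀def⟩ : ∃ x₀ : G, x₀ = (x' : G) := ⟨_, rfl⟩
  have hx₀ : orderOf x₀ = 5 := by rw [hx₀def, Subgroup.orderOf_coe]; exact hx'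
  obtain ⟨hcx, χ₁₁, χ₄₄, hd11, hd44, hsum⟩ := m11_char_setup hG x₀ hx₀
  obtain ⟨hcent, hall⟩ := m11_invol_centralizer hG
  refine ⟨χ₁₁, hd11, ?_, ?_, ?_⟩
  · intro z hz
    obtain ⟨M, hM⟩ := exists_isPModular 11 (by norm_num)
    exact h7_defect_zero_vanish hM χ₁₁ (by rw [hG, hd11]; norm_num) z (by rw [hz])
  · intro x hx
    obtain ⟨_, ψ₁₁, ψ₄₄, hd11', hd44', hsum'⟩ := m11_char_setup hG x hx
    have e1 : ψ₁₁ = χ₁₁ := m11_deg11_unique hG _ _ hd11' hd11
    have h := hsum' (fun ψ => if ψ = χ₁₁ then 1 else 0) (by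
      intro ψ hψ
      rw [if_neg]
      intro h
      rw [h, hd11] at hψ; omega)
    rw [Finset.sum_eq_single χ₁₁ (by
      intro b _ hb; rw [if_neg hb, mul_zero]) (by
      intro h; exact absurd (Finset.mem_univ _) h)] at h
    have ht : trivIrr G ≠ χ₁₁ := by
      intro h'
      have h1 := (charDegree_irr χ₁₁).1
      rw [hd11, ← h', trivIrr_apply] at h1
      norm_num at h1
    have h4 : ψ₄₄ ≠ χ₁₁ := by
      intro h'
      rw [h', hd11] at hd44'; omega
    rw [if_pos rfl, if_neg ht, e1, if_pos rfl, if_neg h4, mul_one] at h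
    have := congrArg (starRingEnd ℂ) h
    rw [Complex.conj_conj] at this
    rw [this]; simp
  · intro u hu
    have hK : ((Cl u ×ˢ Cl u).filter (fun w : G × G => IsConj x₀ (w.1 * w.2))).card = 7920 := by
      rw [Finset.card_eq_sum_card_fiberwise (f := fun w : G × G => w.1 * w.2) (t := Cl x₀)
        (by intro w hw; exact mem_Cl.mpr (Finset.mem_filter.mp hw).2)]
      have h5 : ∀ g ∈ Cl x₀, (((Cl u ×ˢ Cl u).filter
          (fun w : G × G => IsConj x₀ (w.1 * w.2))).filter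
          (fun w : G × G => w.1 * w.2 = g)).card = 5 := by
        intro g hg
        rw [Finset.filter_filter]
        have hset : (Cl u ×ˢ Cl u).filter
            (fun w : G × G => IsConj x₀ (w.1 * w.2) ∧ w.1 * w.2 = g) =
            (Cl u ×ˢ Cl u).filter (fun w : G × G => w.1 * w.2 = g) := by
          apply Finset.filter_congr
          intro w _
          constructor
          · exact And.right
          · intro h
            exact ⟨h ▸ mem_Cl.mp hg, h⟩
        rw [hset]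
        exact m11_pairs_five hG u (fun v hv => hall u v hu hv) hu g
          (by rw [og_orderOf_of_isConj (mem_Cl.mp hg), hx₀])
      rw [Finset.sum_congr rfl h5, Finset.sum_const, smul_eq_mul, card_Cl_eq_index]
      have := Subgroup.card_mul_index (Subgroup.centralizer ({x₀} : Set G))
      rw [hcx, hG] at this
      omega
    exact m11_chi11_invol_aux hG x₀ hx₀ hcx χ₁₁ χ₄₄ hd11 hd44 hsum u hu (hcent u hu) hK

end Cfsg.Agent.Lib.Helper29
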