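import Mathlib
import Cfsg.Agent.Lib.Helper29.M11N

set_option autoImplicit false

namespace Cfsg.Agent.Lib.Helper29

open Cfsg.Agent.Lib.Helper11 Cfsg.Agent.Lib.helper7 Cfsg.Agent.Lib.Helper25 Cfsg.Agent.Lib.helper2
open Cfsg.Agent.Lib.helper8 Cfsg.Agent.Lib.helper23 Cfsg.Agent.Lib.Helper24
open Cfsg.Agent.Lib.Helper26

section avg

variable {G V : Type*} [Group G] [AddCommGroup V] [Module ℂ V]

/-- the sum of the operators of a finite subgroup -/
noncomputable def m11_opsum (ρ : Representation ℂ G V) (H : Subgroup G) [Fintype H] :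
    V →ₗ[ℂ] V := ∑ h : H, ρ (h : G)

theorem m11_opsum_mul_left (ρ : Representation ℂ G V) (H : Subgroup G) [Fintype H] (s : G)
    (hs : s ∈ H) : ρ s * m11_opsum ρ H = m11_opsum ρ H := by
  unfold m11_opsum
  rw [Finset.mul_sum]
  have : ∀ h : H, ρ s * ρ (h : G) = ρ (((⟨s, hs⟩ : H) * h : H) : G) := by
    intro h
    rw [Subgroup.coe_mul, map_mul]
  rw [Finset.sum_congr rfl (fun h _ => this h)]
  exact Fintype.sum_equiv (Equiv.mulLeft (⟨s, hs⟩ : H)) _ _ (fun h => rfl)

theorem m11_opsum_sq (ρ : Representation ℂ G V) (H : Subgroup G) [Fintype H] :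
    m11_opsum ρ H * m11_opsum ρ H = (Fintype.card H : ℂ) • m11_opsum ρ H := by
  have e : m11_opsum ρ H * m11_opsum ρ H = (∑ h : H, ρ (h : G)) * m11_opsum ρ H := rfl
  rw [e, Finset.sum_mul]
  rw [Finset.sum_congr rfl (fun (h : H) _ => m11_opsum_mul_left ρ H (h : G) h.2)]
  rw [Finset.sum_const, Finset.card_univ, Nat.cast_smul_eq_nsmul]

theorem m11_opsum_conj (ρ : Representation ℂ G V) (H : Subgroup G) [Fintype H] (w : G)
    (hw : w ∈ Subgroup.normalizer (H : Set G)) :
    ρ w * m11_opsum ρ H = m11_opsum ρ H * ρ w := by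
  unfold m11_opsum
  rw [Finset.mul_sum, Finset.sum_mul]
  have hmem : ∀ h : H, w * (h : G) * w⁻¹ ∈ H := fun h =>
    (Subgroup.mem_normalizer_iff.mp hw (h : G)).mp h.2
  have hmem' : ∀ h : H, w⁻¹ * (h : G) * w ∈ H := fun h => by
    have := (Subgroup.mem_normalizer_iff.mp hw (w⁻¹ * (h : G) * w)).mpr (by
      have e : w * (w⁻¹ * (h : G) * w) * w⁻¹ = (h : G) := by group
      rw [e]; exact h.2)
    exact this
  let e : H ≃ H :=
    { toFun := fun h => ⟨w * (h : G) * w⁻¹, hmem h⟩
      invFun := fun h => ⟨w⁻¹ * (h : G) * w, hmem' h⟩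
      left_inv := fun h => by apply Subtype.ext; simp; group
      right_inv := fun h => by apply Subtype.ext; simp; group }
  have : ∀ h : H, ρ w * ρ (h : G) = ρ ((e h : H) : G) * ρ w := by
    intro h
    have e1 : ((e h : H) : G) = w * (h : G) * w⁻¹ := rfl
    rw [e1, ← map_mul, ← map_mul]
    congr 1
    group
  rw [Finset.sum_congr rfl (fun h _ => this h)]
  exact Fintype.sum_equiv e _ _ (fun h => rfl)

theorem m11_opsum_fixed (ρ : Representation ℂ G V) (H : Subgroup G) [Fintype H] (v : V)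
    (hv : ∀ h ∈ H, ρ h v = v) : m11_opsum ρ H v = (Fintype.card H : ℂ) • v := by
  unfold m11_opsum
  rw [LinearMap.sum_apply]
  rw [Finset.sum_congr rfl (fun (h : H) _ => hv (h : G) h.2)]
  rw [Finset.sum_const, Finset.card_univ, Nat.cast_smul_eq_nsmul]

theorem m11_opsum_trace [FiniteDimensional ℂ V] (ρ : Representation ℂ G V) (H : Subgroup G)
    [Fintype H] : LinearMap.trace ℂ V (m11_opsum ρ H) = ∑ h : H, ρ.character (h : G) := by
  unfold m11_opsum
  rw [map_sum]
  rfl

theorem m11_opsum_trace_mul [FiniteDimensional ℂ V] (ρ : Representation ℂ G V) (H : Subgroup G)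
    [Fintype H] (w : G) :
    LinearMap.trace ℂ V (ρ w * m11_opsum ρ H) = ∑ h : H, ρ.character (w * (h : G)) := by
  unfold m11_opsum
  rw [Finset.mul_sum, map_sum]
  apply Finset.sum_congr rfl
  intro h _
  unfold Representation.character
  rw [map_mul (f := ρ)]

end avg

/-- algebra of the idempotent -/
theorem m11_idem_aux {R : Type*} [Ring R] [Algebra ℂ R] (A W : R) (hAA : A * A = (5 : ℂ) • A)
    (hWA : W * A = A * W) (hWW : W * W = 1) :
    IsIdempotentElem ((10 : ℂ)⁻¹ • (A - W * A)) := by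
  have e1 : A * (W * A) = (5 : ℂ) • (W * A) := by
    rw [← mul_assoc, ← hWA, mul_assoc, hAA, mul_smul_comm]
  have e2 : W * A * A = (5 : ℂ) • (W * A) := by rw [mul_assoc, hAA, mul_smul_comm]
  have e3 : W * A * (W * A) = (5 : ℂ) • A := by
    rw [mul_assoc, e1, mul_smul_comm, ← mul_assoc, hWW, one_mul]
  have h1 : (A - W * A) * (A - W * A) = (10 : ℂ) • (A - W * A) := by
    rw [sub_mul, mul_sub, mul_sub, hAA, e1, e2, e3]
    module
  unfold IsIdempotentElem
  rw [smul_mul_smul_comm, h1, smul_smul]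
  congr 1
  norm_num

/-- the stabilizer of a vector -/
def m11_vecStab {G V : Type*} [Group G] [AddCommGroup V] [Module ℂ V]
    (ρ : Representation ℂ G V) (v : V) : Subgroup G where
  carrier := {g | ρ g v = v}
  mul_mem' := by
    intro a b ha hb
    simp only [Set.mem_ofPred_eq] at ha hb ⊢
    rw [map_mul, Module.End.mul_apply, hb, ha]
  one_mem' := by simp
  inv_mem' := by
    intro a ha
    simp only [Set.mem_ofPred_eq] at ha ⊢
    conv_lhs => rw [← ha]
    rw [← Module.End.mul_apply, ← map_mul, inv_mul_cancel, map_one, Module.End.one_apply]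

theorem m11_mem_vecStab {G V : Type*} [Group G] [AddCommGroup V] [Module ℂ V]
    (ρ : Representation ℂ G V) (v : V) (g : G) : g ∈ m11_vecStab ρ v ↔ ρ g v = v := Iff.rfl

/-- an irreducible representation with a nonzero fixed vector is one dimensional -/
theorem m11_finrank_of_fixed {G V : Type*} [Group G] [AddCommGroup V] [Module ℂ V]
    [FiniteDimensional ℂ V] (ρ : Representation ℂ G V) (hirr : ρ.IsIrreducible) (v : V)
    (hv : v ≠ 0) (hfix : ∀ g : G, ρ g v = v) : Module.finrank ℂ V = 1 := by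
  let S : Subrepresentation ρ :=
    { toSubmodule := Submodule.span ℂ {v}
      apply_mem_toSubmodule := by
        intro g x hx
        rw [Submodule.mem_span_singleton] at hx ⊢
        obtain ⟨a, rfl⟩ := hx
        exact ⟨a, by rw [map_smul, hfix g]⟩ }
  have hS : S = ⊥ ∨ S = ⊤ := eq_bot_or_eq_top S
  rcases hS with h | h
  · exfalso
    have h1 : v ∈ S.toSubmodule := Submodule.mem_span_singleton_self v
    rw [h] at h1
    have : v ∈ (⊥ : Submodule ℂ V) := h1
    rw [Submodule.mem_bot] at this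
    exact hv this
  · have h1 : S.toSubmodule = ⊤ := by rw [h]; rfl
    have h2 : Submodule.span ℂ {v} = ⊤ := h1
    have := finrank_span_singleton (K := ℂ) hv
    rw [h2, finrank_top] at this
    exact this

/-- the subgroup generated by the normalizer of a Sylow 11-subgroup and an involution
normalizing one of its Sylow 5-subgroups is proper -/
theorem m11_sup_ne_top {G : Type*} [Group G] [Finite G] [IsSimpleGroup G]
    (hG : Nat.card G = 7920) [Fact (Nat.Prime 11)] [Fact (Nat.Prime 5)] (P : Sylow 11 G)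
    (Q : Sylow 5 G)
    (hQN : (Q : Subgroup G) ≤ Subgroup.normalizer ((P : Subgroup G) : Set G))
    (w : G) (hwN : w ∈ Subgroup.normalizer ((Q : Subgroup G) : Set G)) (hw : orderOf w = 2) :
    Subgroup.normalizer ((P : Subgroup G) : Set G) ⊔ Subgroup.zpowers w ≠ ⊤ := by
  classical
  obtain ⟨χ, hd, h11, h5, h2⟩ := m11_chi11_values hG
  obtain ⟨n, ρ, hirr, hρ⟩ := χ.2
  have hχ : ∀ g : G, ρ.character g = (χ : G → ℂ) g := fun g => by rw [hρ]
  have hχ1 : (χ : G → ℂ) 1 = 11 := by
    have := (charDegree_irr χ).1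
    rw [hd] at this
    rw [← this]; norm_num
  have hn : Module.finrank ℂ (Fin n → ℂ) = 11 := by
    have h1 : ρ.character 1 = (Module.finrank ℂ (Fin n → ℂ) : ℂ) := Representation.char_one ρ
    rw [hχ, hχ1] at h1
    exact_mod_cast h1.symm
  obtain ⟨hP, _, hNP, _⟩ := m11_syl11 hG P
  obtain ⟨hQ, _, _, _⟩ := m11_syl5 hG Q
  set N := Subgroup.normalizer ((P : Subgroup G) : Set G) with hNdef
  haveI : Fintype N := Fintype.ofFinite _
  haveI : Fintype (Q : Subgroup G) := Fintype.ofFinite _
  -- the values on N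
  have hval : ∀ h : N, 0 ≤ ((χ : G → ℂ) (h : G)).re := by
    intro h
    have ho : orderOf (h : G) ∣ 55 := by
      rw [Subgroup.orderOf_coe, ← hNP]; exact orderOf_dvd_natCard h
    have hmem : orderOf (h : G) ∈ Nat.divisors 55 := Nat.mem_divisors.mpr ⟨ho, by norm_num⟩
    have e55 : Nat.divisors 55 = {1, 5, 11, 55} := by decide +kernel
    rw [e55] at hmem
    simp only [Finset.mem_insert, Finset.mem_singleton] at hmem
    rcases hmem with h1 | h1 | h1 | h1
    · rw [orderOf_eq_one_iff] at h1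
      rw [h1, hχ1]; norm_num
    · rw [h5 _ h1]; norm_num
    · rw [h11 _ h1]; simp
    · exfalso
      have h3 : orderOf ((h : G) ^ 5) = 11 := by
        rw [orderOf_pow' _ (by norm_num), h1]; norm_num
      have h4 := m11_no_comm11 hG ((h : G) ^ 5) (h : G) h3
        ((Commute.refl (h : G)).pow_right 5)
      rw [h1] at h4
      norm_num at h4
  -- the operator sum over N is nonzero
  have htrB : (LinearMap.trace ℂ (Fin n → ℂ) (m11_opsum ρ N)).re ≠ 0 := by
    rw [m11_opsum_trace, Complex.re_sum]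
    have h1 : ((χ : G → ℂ) ((1 : N) : G)).re ≤ ∑ h : N, (ρ.character (h : G)).re := by
      have := Finset.single_le_sum (f := fun h : N => (ρ.character (h : G)).re)
        (fun h _ => by rw [hχ]; exact hval h) (Finset.mem_univ (1 : N))
      simpa [hχ] using this
    rw [Subgroup.coe_one, hχ1] at h1
    norm_num at h1
    linarith
  have hSB : m11_opsum ρ N ≠ 0 := by
    intro h
    rw [h, map_zero] at htrB
    exact htrB rfl
  obtain ⟨v, hv⟩ : ∃ v, m11_opsum ρ N v ≠ 0 := by
    by_contra hcon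
    push Not at hcon
    exact hSB (LinearMap.ext hcon)
  set v0 := m11_opsum ρ N v with hv0
  have hfixN : ∀ s ∈ N, ρ s v0 = v0 := by
    intro s hs
    rw [hv0, ← Module.End.mul_apply, m11_opsum_mul_left ρ N s hs]
  -- the Sylow 5-subgroup
  have hvalQ : ∀ t : (Q : Subgroup G), (χ : G → ℂ) (t : G) = 1 + if t = 1 then 10 else 0 := by
    intro t
    by_cases ht : t = 1
    · rw [if_pos ht, ht, Subgroup.coe_one, hχ1]; norm_num
    · rw [if_neg ht, add_zero]
      apply h5
      have ho : orderOf t ∣ 5 := by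
        have := orderOf_dvd_natCard t
        rwa [hQ] at this
      rw [Subgroup.orderOf_coe]
      rcases (Nat.dvd_prime (by norm_num : Nat.Prime 5)).mp ho with h | h
      · exact absurd (orderOf_eq_one_iff.mp h) ht
      · exact h
  have hcardQ : Fintype.card (Q : Subgroup G) = 5 := by
    rw [← Nat.card_eq_fintype_card, hQ]
  have htrT : LinearMap.trace ℂ (Fin n → ℂ) (m11_opsum ρ (Q : Subgroup G)) = 15 := by
    rw [m11_opsum_trace]
    rw [Finset.sum_congr rfl (fun t _ => by rw [hχ, hvalQ t])]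
    rw [Finset.sum_add_distrib, Finset.sum_ite_eq' Finset.univ (1 : (Q : Subgroup G))]
    simp [hcardQ]
    norm_num
  have htrW : LinearMap.trace ℂ (Fin n → ℂ) (ρ w * m11_opsum ρ (Q : Subgroup G)) = 15 := by
    rw [m11_opsum_trace_mul]
    rw [Finset.sum_congr rfl (fun (t : (Q : Subgroup G)) _ => by
      rw [hχ, h2 _ (m11_invol_mul_mem hG Q w hwN hw (t : G) t.2).1])]
    simp [hcardQ]
    norm_num
  have hww : ρ w * ρ w = 1 := by
    rw [← map_mul, ← pow_two, ← hw, pow_orderOf_eq_one, map_one]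
  have hidem := m11_idem_aux (m11_opsum ρ (Q : Subgroup G)) (ρ w)
    (by rw [m11_opsum_sq, hcardQ]; norm_num)
    (m11_opsum_conj ρ (Q : Subgroup G) w hwN) hww
  have hzero : (10 : ℂ)⁻¹ • (m11_opsum ρ (Q : Subgroup G) - ρ w * m11_opsum ρ (Q : Subgroup G))
      = 0 := by
    apply LinearMap.IsIdempotentElem.eq_zero_of_trace_eq_zero hidem
    rw [map_smul, map_sub, htrT, htrW]; simp
  have heq : m11_opsum ρ (Q : Subgroup G) = ρ w * m11_opsum ρ (Q : Subgroup G) := by
    have := (smul_eq_zero.mp hzero).resolve_left (by norm_num)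
    exact sub_eq_zero.mp this
  have hfixw : ρ w v0 = v0 := by
    have h1 := m11_opsum_fixed ρ (Q : Subgroup G) v0 (fun t ht => hfixN t (hQN ht))
    have h2' : (ρ w * m11_opsum ρ (Q : Subgroup G)) v0 = (Fintype.card (Q : Subgroup G) : ℂ) • v0 := by
      rw [← heq, h1]
    rw [Module.End.mul_apply, h1, map_smul] at h2'
    have h3 : (Fintype.card (Q : Subgroup G) : ℂ) ≠ 0 := by rw [hcardQ]; norm_num
    exact smul_right_injective _ h3 h2'
  -- conclusion
  intro htop
  have hle : N ⊔ Subgroup.zpowers w ≤ m11_vecStab ρ v0 := by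
    apply sup_le
    · intro s hs; exact hfixN s hs
    · rw [Subgroup.zpowers_le]; exact hfixw
  rw [htop] at hle
  have hall : ∀ g : G, ρ g v0 = v0 := fun g => hle (Subgroup.mem_top g)
  have := m11_finrank_of_fixed ρ hirr v0 hv hall
  rw [hn] at this
  norm_num at this

end Cfsg.Agent.Lib.Helper29
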