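import Mathlib
import Cfsg.Agent.Lib.Helper29.M11O

set_option autoImplicit false

namespace Cfsg.Agent.Lib.Helper29

open Cfsg.Agent.Lib.Helper11 Cfsg.Agent.Lib.helper7 Cfsg.Agent.Lib.Helper25 Cfsg.Agent.Lib.helper2
open Cfsg.Agent.Lib.helper8 Cfsg.Agent.Lib.helper23 Cfsg.Agent.Lib.Helper24
open Cfsg.Agent.Lib.Helper26

/-- Sylow counting inside a subgroup containing the Sylow subgroup -/
theorem m11_sylow_count_sub {G : Type*} [Group G] [Finite G] (p : ℕ) [Fact p.Prime]
    (P : Sylow p G) (H : Subgroup G) (hPH : (P : Subgroup G) ≤ H) :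
    ∃ n : ℕ, n % p = 1 ∧
      Nat.card H = n * Nat.card (Subgroup.normalizer ((P : Subgroup G) : Set G) ⊓ H : Subgroup G) := by
  refine ⟨Nat.card (Sylow p H), ?_, ?_⟩
  · have := card_sylow_modEq_one p H
    unfold Nat.ModEq at this
    rw [this]
    exact Nat.mod_eq_of_lt (Fact.out : p.Prime).one_lt
  · have e1 : Nat.card (Sylow p H) = (Subgroup.normalizer
        (((P.subtype hPH : Sylow p H) : Subgroup H) : Set H)).index :=
      Sylow.card_eq_index_normalizer (P.subtype hPH)
    have e0 : Subgroup.normalizer (((P.subtype hPH : Sylow p H) : Subgroup H) : Set H) =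
        (Subgroup.normalizer ((P : Subgroup G) : Set G)).subgroupOf H := by
      rw [Subgroup.subgroupOf_normalizer_eq hPH]; rfl
    rw [e1, e0]
    have h1 := Subgroup.card_mul_index
      ((Subgroup.normalizer ((P : Subgroup G) : Set G)).subgroupOf H)
    rw [← h1, mul_comm]
    congr 1
    rw [← Subgroup.inf_subgroupOf_right]
    exact Nat.card_congr (Subgroup.subgroupOfEquivOfLe inf_le_right).toEquiv

variable {G : Type*} [Group G] [Finite G] [IsSimpleGroup G]

/-- overgroups of the normalizer of a Sylow 11-subgroup -/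
theorem m11_over_n11 (hG : Nat.card G = 7920) [Fact (Nat.Prime 11)] (P : Sylow 11 G)
    (H : Subgroup G) (hH : Subgroup.normalizer ((P : Subgroup G) : Set G) ≤ H) :
    Nat.card H = 55 ∨ Nat.card H = 660 ∨ Nat.card H = 7920 := by
  obtain ⟨_, _, hNP, _⟩ := m11_syl11 hG P
  obtain ⟨n, hn, hc⟩ := m11_sylow_count_sub 11 P H (le_trans Subgroup.le_normalizer hH)
  rw [inf_eq_left.mpr hH, hNP] at hc
  have hd : Nat.card H ∣ 7920 := by rw [← hG]; exact Subgroup.card_subgroup_dvd_card H
  rw [hc] at hd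
  have hn144 : n ∣ 144 := by
    have : n * 55 ∣ 144 * 55 := by norm_num; exact hd
    exact Nat.dvd_of_mul_dvd_mul_right (by norm_num) this
  have hmem : n ∈ (Nat.divisors 144).filter (fun n => n % 11 = 1) := by
    rw [Finset.mem_filter, Nat.mem_divisors]
    exact ⟨⟨hn144, by norm_num⟩, hn⟩
  have e : (Nat.divisors 144).filter (fun n => n % 11 = 1) = {1, 12, 144} := by decide +kernel
  rw [e] at hmem
  simp only [Finset.mem_insert, Finset.mem_singleton] at hmem
  rcases hmem with h | h | h <;> rw [h] at hc <;> omega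

/-- no subgroup of order 660 contains the normalizer of a Sylow 5-subgroup -/
theorem m11_over_n5 (hG : Nat.card G = 7920) [Fact (Nat.Prime 5)] (Q : Sylow 5 G)
    (H : Subgroup G) (hH : Subgroup.normalizer ((Q : Subgroup G) : Set G) ≤ H) :
    Nat.card H ≠ 660 := by
  obtain ⟨_, _, hNQ, _⟩ := m11_syl5 hG Q
  obtain ⟨n, hn, hc⟩ := m11_sylow_count_sub 5 Q H (le_trans Subgroup.le_normalizer hH)
  rw [inf_eq_left.mpr hH, hNQ] at hc
  intro h
  rw [h] at hc
  omega

omit [Finite G] [IsSimpleGroup G] in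
theorem m11_conj_pow_iter (a b : G) (k : ℕ) (h : b * a * b⁻¹ = a ^ k) (j : ℕ) :
    b ^ j * a * (b ^ j)⁻¹ = a ^ (k ^ j) := by
  induction j with
  | zero => simp
  | succ j ih =>
    have e : b ^ (j + 1) * a * (b ^ (j + 1))⁻¹ = b * (b ^ j * a * (b ^ j)⁻¹) * b⁻¹ := by
      rw [pow_succ']; group
    rw [e, ih]
    have e2 : b * a ^ (k ^ j) * b⁻¹ = (b * a * b⁻¹) ^ (k ^ j) := by
      rw [conj_pow]
    rw [e2, h, ← pow_mul, pow_succ, mul_comm]

theorem m11_zmod11_arith : ∀ k : ZMod 11, k ^ 5 = 1 → k ≠ 1 →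
    ∃ i : ℕ, i < 5 ∧ k ^ i = 3 := by decide

/-- an element of order 5 acting on an element `a` of order 11 as `a ↦ a ^ 3` -/
theorem m11_exists_b (hG : Nat.card G = 7920) [Fact (Nat.Prime 11)] (P : Sylow 11 G) (a : G)
    (haP : a ∈ (P : Subgroup G)) (ha : orderOf a = 11) :
    ∃ b : G, orderOf b = 5 ∧ b * a * b⁻¹ = a ^ 3 ∧
      b ∈ Subgroup.normalizer ((P : Subgroup G) : Set G) := by
  haveI : Fact (Nat.Prime 5) := ⟨by norm_num⟩
  obtain ⟨hP, _, hNP, _⟩ := m11_syl11 hG P
  have hzP : Subgroup.zpowers a = (P : Subgroup G) := by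
    apply Subgroup.eq_of_le_of_card_ge
    · rw [Subgroup.zpowers_le]; exact haP
    · rw [hP, Nat.card_zpowers, ha]
  obtain ⟨b0', hb0'⟩ := exists_prime_orderOf_dvd_card' 5
    (by rw [hNP]; norm_num : 5 ∣ Nat.card (Subgroup.normalizer ((P : Subgroup G) : Set G)))
  obtain ⟨b0, hb0def⟩ : ∃ b0 : G, b0 = (b0' : G) := ⟨_, rfl⟩
  have hb0 : orderOf b0 = 5 := by rw [hb0def, Subgroup.orderOf_coe]; exact hb0'
  have hb0N : b0 ∈ Subgroup.normalizer ((P : Subgroup G) : Set G) := by rw [hb0def]; exact b0'.2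
  have hmem : b0 * a * b0⁻¹ ∈ Subgroup.zpowers a := by
    rw [hzP]
    exact (Subgroup.mem_normalizer_iff.mp hb0N a).mp haP
  obtain ⟨kz, hkz⟩ := Subgroup.mem_zpowers_iff.mp hmem
  obtain ⟨k, hk⟩ : ∃ k : ℕ, b0 * a * b0⁻¹ = a ^ k := by
    refine ⟨(kz % 11).toNat, ?_⟩
    rw [← hkz, ← zpow_natCast, Int.toNat_of_nonneg (Int.emod_nonneg _ (by norm_num))]
    have := zpow_mod_orderOf a kz
    rw [ha] at this
    exact this.symm
  have hiter := m11_conj_pow_iter a b0 k hk
  have h5 : a ^ (k ^ 5) = a ^ 1 := by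
    rw [← hiter 5, ← hb0, pow_orderOf_eq_one]; simp
  have hk5 : ((k : ZMod 11)) ^ 5 = 1 := by
    have := pow_eq_pow_iff_modEq.mp h5
    rw [ha] at this
    have h2 := (ZMod.natCast_eq_natCast_iff _ _ _).mpr this
    push_cast at h2
    exact h2
  have hk1 : (k : ZMod 11) ≠ 1 := by
    intro h
    have h1 : k ≡ 1 [MOD 11] := by
      rw [← ZMod.natCast_eq_natCast_iff]; push_cast; exact h
    have h2 : a ^ k = a ^ 1 := by
      rw [pow_eq_pow_iff_modEq, ha]; exact h1
    rw [h2, pow_one] at hk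
    have hc : Commute b0 a := by
      unfold Commute SemiconjBy
      calc b0 * a = b0 * a * b0⁻¹ * b0 := by group
        _ = a * b0 := by rw [hk]
    have := m11_no_comm11 hG a b0 ha hc
    rw [hb0] at this
    norm_num at this
  obtain ⟨i, _, hi3⟩ := m11_zmod11_arith (k : ZMod 11) hk5 hk1
  refine ⟨b0 ^ i, ?_, ?_, Subgroup.pow_mem _ hb0N i⟩
  swap
  · rw [hiter i, pow_eq_pow_iff_modEq, ha, ← ZMod.natCast_eq_natCast_iff]
    push_cast
    exact hi3
  · have hb : b0 ^ i * a * (b0 ^ i)⁻¹ = a ^ 3 := by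
      rw [hiter i, pow_eq_pow_iff_modEq, ha, ← ZMod.natCast_eq_natCast_iff]
      push_cast
      exact hi3
    have h1 : b0 ^ i ≠ 1 := by
      intro h
      rw [h] at hb
      simp at hb
      have h3 : a ^ 1 = a ^ 3 := by rw [pow_one]; exact hb
      rw [pow_eq_pow_iff_modEq, ha] at h3
      unfold Nat.ModEq at h3
      norm_num at h3
    have h2 : (b0 ^ i) ^ 5 = 1 := by
      rw [← pow_mul, mul_comm, pow_mul, ← hb0, pow_orderOf_eq_one, one_pow]
    exact orderOf_eq_prime h2 h1

/-- an element of order 4 normalizing a Sylow 5-subgroup -/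
theorem m11_exists_order4 (hG : Nat.card G = 7920) [Fact (Nat.Prime 5)] (Q : Sylow 5 G) :
    ∃ c : G, c ∈ Subgroup.normalizer ((Q : Subgroup G) : Set G) ∧ orderOf c = 4 := by
  classical
  haveI : Fact (Nat.Prime 2) := ⟨Nat.prime_two⟩
  obtain ⟨hQ, _, hNQ, _⟩ := m11_syl5 hG Q
  obtain ⟨K0, hK0⟩ := Sylow.exists_subgroup_card_pow_prime 2
    (by rw [hNQ]; norm_num : 2 ^ 2 ∣ Nat.card (Subgroup.normalizer ((Q : Subgroup G) : Set G)))
  haveI : Fintype K0 := Fintype.ofFinite _
  have h3 : 2 < Fintype.card K0 := by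
    rw [← Nat.card_eq_fintype_card, hK0]; norm_num
  obtain ⟨x1, x2, x3, h12, h13, h23⟩ := Fintype.two_lt_card_iff.mp h3
  -- two distinct non-identity elements
  obtain ⟨x, y, hx1, hy1, hxy⟩ : ∃ x y : K0, x ≠ 1 ∧ y ≠ 1 ∧ x ≠ y := by
    by_cases e1 : x1 = 1
    · exact ⟨x2, x3, fun h => h12 (e1.trans h.symm), fun h => h13 (e1.trans h.symm), h23⟩
    · by_cases e2 : x2 = 1
      · exact ⟨x1, x3, e1, fun h => h23 (e2.trans h.symm), h13⟩
      · exact ⟨x1, x2, e1, e2, h12⟩
  by_contra hcon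
  push Not at hcon
  have hsq : ∀ z : K0, z ≠ 1 → orderOf (((z : Subgroup.normalizer ((Q : Subgroup G) : Set G)) : G))
      = 2 := by
    intro z hz
    have ho : orderOf z ∣ 4 := by
      have := orderOf_dvd_natCard z
      rwa [hK0] at this
    have e1 : orderOf (((z : Subgroup.normalizer ((Q : Subgroup G) : Set G)) : G)) = orderOf z := by
      rw [Subgroup.orderOf_coe, Subgroup.orderOf_coe]
    rw [e1]
    have hmem : orderOf z ∈ Nat.divisors 4 := Nat.mem_divisors.mpr ⟨ho, by norm_num⟩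
    have e4 : Nat.divisors 4 = {1, 2, 4} := by decide +kernel
    rw [e4] at hmem
    simp only [Finset.mem_insert, Finset.mem_singleton] at hmem
    rcases hmem with h | h | h
    · exact absurd (orderOf_eq_one_iff.mp h) hz
    · exact h
    · exfalso
      exact hcon _ (z : Subgroup.normalizer ((Q : Subgroup G) : Set G)).2 (by rw [e1]; exact h)
  have hxQ := m11_invol_normalizer_mul hG Q _ _
    (x : Subgroup.normalizer ((Q : Subgroup G) : Set G)).2 (hsq x hx1)
    (y : Subgroup.normalizer ((Q : Subgroup G) : Set G)).2 (hsq y hy1)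
  -- the product lies in K0 and in Q
  have ho4 : orderOf (x * y) ∣ 4 := by
    have := orderOf_dvd_natCard (x * y)
    rwa [hK0] at this
  have ho5 : orderOf (x * y) ∣ 5 := by
    have e1 : orderOf (x * y) = orderOf ((((x * y : K0) :
        Subgroup.normalizer ((Q : Subgroup G) : Set G)) : G)) := by
      rw [Subgroup.orderOf_coe, Subgroup.orderOf_coe]
    rw [e1]
    have : ((((x * y : K0) : Subgroup.normalizer ((Q : Subgroup G) : Set G)) : G)) =
        (⟨_, hxQ⟩ : (Q : Subgroup G)) := rfl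
    rw [this, Subgroup.orderOf_coe]
    have := orderOf_dvd_natCard (⟨_, hxQ⟩ : (Q : Subgroup G))
    rwa [hQ] at this
  have ho1 : orderOf (x * y) = 1 := by
    have := Nat.dvd_gcd ho4 ho5
    have e : Nat.gcd 4 5 = 1 := by norm_num
    rw [e] at this
    exact Nat.dvd_one.mp this
  have hxy1 : x * y = 1 := orderOf_eq_one_iff.mp ho1
  have hyy : y * y = 1 := by
    have h2 := hsq y hy1
    have e1 : orderOf (((y : Subgroup.normalizer ((Q : Subgroup G) : Set G)) : G)) = orderOf y := by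
      rw [Subgroup.orderOf_coe, Subgroup.orderOf_coe]
    rw [e1] at h2
    rw [← pow_two, ← h2, pow_orderOf_eq_one]
  exact hxy (mul_right_cancel (hxy1.trans hyy.symm))

/-- an element of order 4 acting on `b` of order 5 as `b ↦ b ^ 2` -/
theorem m11_exists_c (hG : Nat.card G = 7920) [Fact (Nat.Prime 5)] (Q : Sylow 5 G) (b : G)
    (hbQ : b ∈ (Q : Subgroup G)) (hb : orderOf b = 5) :
    ∃ c : G, c ∈ Subgroup.normalizer ((Q : Subgroup G) : Set G) ∧ orderOf c = 4 ∧
      c * b * c⁻¹ = b ^ 2 := by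
  obtain ⟨hQ, _, hNQ, _⟩ := m11_syl5 hG Q
  have hb1 : b ≠ 1 := by
    intro h; rw [h, orderOf_one] at hb; omega
  have hzQ : Subgroup.zpowers b = (Q : Subgroup G) := by
    apply Subgroup.eq_of_le_of_card_ge
    · rw [Subgroup.zpowers_le]; exact hbQ
    · rw [hQ, Nat.card_zpowers, hb]
  obtain ⟨hcb, _⟩ := m11_q5_conj hG Q b hbQ hb1
  obtain ⟨c, hcN, hc⟩ := m11_exists_order4 hG Q
  -- elements commuting with b have order dividing 5
  have hcomm : ∀ g : G, Commute g b → orderOf g ∣ 5 := by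
    intro g hg
    have hmem : g ∈ Subgroup.centralizer ({b} : Set G) := by
      rw [Subgroup.mem_centralizer_iff]
      intro x hx
      rw [Set.mem_singleton_iff] at hx
      rw [hx]; exact hg.eq.symm
    have := orderOf_dvd_natCard (⟨g, hmem⟩ : Subgroup.centralizer ({b} : Set G))
    rw [hcb, ← Subgroup.orderOf_coe] at this
    exact this
  have hmem : c * b * c⁻¹ ∈ Subgroup.zpowers b := by
    rw [hzQ]
    exact (Subgroup.mem_normalizer_iff.mp hcN b).mp hbQ
  obtain ⟨kz, hkz⟩ := Subgroup.mem_zpowers_iff.mp hmem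
  obtain ⟨k, hk5, hk⟩ : ∃ k : ℕ, k < 5 ∧ c * b * c⁻¹ = b ^ k := by
    refine ⟨(kz % 5).toNat, ?_, ?_⟩
    · have := Int.emod_lt_of_pos kz (by norm_num : (0 : ℤ) < 5)
      omega
    · rw [← hkz, ← zpow_natCast, Int.toNat_of_nonneg (Int.emod_nonneg _ (by norm_num))]
      have := zpow_mod_orderOf b kz
      rw [hb] at this
      exact this.symm
  have hiter := m11_conj_pow_iter b c k hk
  have hb5 : b ^ 5 = 1 := by rw [← hb]; exact pow_orderOf_eq_one b
  interval_cases k
  · -- k = 0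
    exfalso
    rw [pow_zero] at hk
    have : b = 1 := by
      have h1 : c⁻¹ * (c * b * c⁻¹) * c = b := by group
      rw [hk] at h1
      rw [← h1]; group
    exact hb1 this
  · -- k = 1
    exfalso
    rw [pow_one] at hk
    have hc' : Commute c b := by
      unfold Commute SemiconjBy
      calc c * b = c * b * c⁻¹ * c := by group
        _ = b * c := by rw [hk]
    have := hcomm c hc'
    rw [hc] at this
    norm_num at this
  · exact ⟨c, hcN, hc, hk⟩
  · -- k = 3 : use the inverse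
    refine ⟨c⁻¹, Subgroup.inv_mem _ hcN, by rw [orderOf_inv]; exact hc, ?_⟩
    have h2 : c * b ^ 2 * c⁻¹ = b := by
      have : c * b ^ 2 * c⁻¹ = (c * b * c⁻¹) ^ 2 := by rw [conj_pow]
      rw [this, hk, ← pow_mul]
      calc b ^ (3 * 2) = b ^ 5 * b := by rw [← pow_succ]
        _ = b := by rw [hb5, one_mul]
    rw [inv_inv]
    calc c⁻¹ * b * c = c⁻¹ * (c * b ^ 2 * c⁻¹) * c := by rw [h2]
      _ = b ^ 2 := by group
  · -- k = 4
    exfalso
    have h2 := hiter 2
    have e16 : b ^ (4 ^ 2) = b := by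
      calc b ^ (4 ^ 2) = (b ^ 5) ^ 3 * b := by rw [← pow_mul, ← pow_succ]; norm_num
        _ = b := by rw [hb5, one_pow, one_mul]
    rw [e16] at h2
    have hc' : Commute (c ^ 2) b := by
      unfold Commute SemiconjBy
      calc c ^ 2 * b = c ^ 2 * b * (c ^ 2)⁻¹ * c ^ 2 := by group
        _ = b * c ^ 2 := by rw [h2]
    have h5 := hcomm (c ^ 2) hc'
    have ho : orderOf (c ^ 2) = 2 := by
      rw [orderOf_pow' _ (by norm_num), hc]; norm_num
    rw [ho] at h5
    norm_num at h5

omit [IsSimpleGroup G] in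
theorem m11_eq_of_dvd (H N : Subgroup G) (hle : H ≤ N) (m n : ℕ) (hN : Nat.card N = m * n)
    (hcop : m.Coprime n) (hm : m ∣ Nat.card H) (hn : n ∣ Nat.card H) : H = N := by
  apply Subgroup.eq_of_le_of_card_ge hle
  rw [hN]
  exact Nat.le_of_dvd Nat.card_pos (hcop.mul_dvd_of_dvd_of_dvd hm hn)

/-- the generators and the subgroup of index 12 -/
theorem m11_data (hG : Nat.card G = 7920) : ∃ (a b c : G) (K : Subgroup G),
    orderOf a = 11 ∧ orderOf b = 5 ∧ orderOf c = 4 ∧ b * a * b⁻¹ = a ^ 3 ∧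
    c * b * c⁻¹ = b ^ 2 ∧ Nat.card K = 660 ∧ a ∈ K ∧ b ∈ K ∧ c ^ 2 ∈ K ∧ c ∉ K ∧
    Subgroup.closure ({a, b, c} : Set G) = ⊤ := by
  haveI : Fact (Nat.Prime 5) := ⟨by norm_num⟩
  haveI : Fact (Nat.Prime 11) := ⟨by norm_num⟩
  obtain ⟨P⟩ : Nonempty (Sylow 11 G) := inferInstance
  obtain ⟨hP, _, hNP, _⟩ := m11_syl11 hG P
  obtain ⟨a', ha'⟩ := exists_prime_orderOf_dvd_card' 11
    (by rw [hP] : 11 ∣ Nat.card (P : Subgroup G))
  obtain ⟨a, hadef⟩ : ∃ a : G, a = (a' : G) := ⟨_, rfl⟩
  have ha : orderOf a = 11 := by rw [hadef, Subgroup.orderOf_coe]; exact ha'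
  have haP : a ∈ (P : Subgroup G) := by rw [hadef]; exact a'.2
  obtain ⟨b, hb, hba, hbN⟩ := m11_exists_b hG P a haP ha
  let Q : Sylow 5 G := Sylow.ofCard (Subgroup.zpowers b) (by
    rw [Nat.card_zpowers, hb, m11_fact5 hG, pow_one])
  have hQz : (Q : Subgroup G) = Subgroup.zpowers b := Sylow.coe_ofCard _ _
  have hbQ : b ∈ (Q : Subgroup G) := by rw [hQz]; exact Subgroup.mem_zpowers b
  obtain ⟨hQ, _, hNQ, _⟩ := m11_syl5 hG Q
  obtain ⟨c, hcN, hc, hcb⟩ := m11_exists_c hG Q b hbQ hb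
  have hw : orderOf (c ^ 2) = 2 := by
    rw [orderOf_pow' _ (by norm_num), hc]; norm_num
  have hwN : c ^ 2 ∈ Subgroup.normalizer ((Q : Subgroup G) : Set G) := Subgroup.pow_mem _ hcN 2
  have hQN : (Q : Subgroup G) ≤ Subgroup.normalizer ((P : Subgroup G) : Set G) := by
    rw [hQz, Subgroup.zpowers_le]; exact hbN
  have hne := m11_sup_ne_top hG P Q hQN (c ^ 2) hwN hw
  set K := Subgroup.normalizer ((P : Subgroup G) : Set G) ⊔ Subgroup.zpowers (c ^ 2) with hKdef
  have hNK : Subgroup.normalizer ((P : Subgroup G) : Set G) ≤ K := le_sup_left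
  have hwK : c ^ 2 ∈ K := (le_sup_right : Subgroup.zpowers (c ^ 2) ≤ K) (Subgroup.mem_zpowers _)
  have hK : Nat.card K = 660 := by
    rcases m11_over_n11 hG P K hNK with h | h | h
    · exfalso
      have := orderOf_dvd_natCard (⟨c ^ 2, hwK⟩ : K)
      rw [h, ← Subgroup.orderOf_coe] at this
      simp only at this
      rw [hw] at this
      norm_num at this
    · exact h
    · exfalso
      apply hne
      apply Subgroup.eq_top_of_card_eq
      rw [h, hG]
  -- the normalizers are generated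
  have hNPgen : Subgroup.zpowers a ⊔ Subgroup.zpowers b =
      Subgroup.normalizer ((P : Subgroup G) : Set G) := by
    apply m11_eq_of_dvd _ _ _ 11 5 hNP (by norm_num)
    · have := Subgroup.card_dvd_of_le (le_sup_left :
        Subgroup.zpowers a ≤ Subgroup.zpowers a ⊔ Subgroup.zpowers b)
      rwa [Nat.card_zpowers, ha] at this
    · have := Subgroup.card_dvd_of_le (le_sup_right :
        Subgroup.zpowers b ≤ Subgroup.zpowers a ⊔ Subgroup.zpowers b)
      rwa [Nat.card_zpowers, hb] at this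
    · apply sup_le
      · rw [Subgroup.zpowers_le]; exact Subgroup.le_normalizer haP
      · rw [Subgroup.zpowers_le]; exact hbN
  have hNQgen : Subgroup.zpowers b ⊔ Subgroup.zpowers c =
      Subgroup.normalizer ((Q : Subgroup G) : Set G) := by
    apply m11_eq_of_dvd _ _ _ 5 4 hNQ (by norm_num)
    · have := Subgroup.card_dvd_of_le (le_sup_left :
        Subgroup.zpowers b ≤ Subgroup.zpowers b ⊔ Subgroup.zpowers c)
      rwa [Nat.card_zpowers, hb] at this
    · have := Subgroup.card_dvd_of_le (le_sup_right :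
        Subgroup.zpowers c ≤ Subgroup.zpowers b ⊔ Subgroup.zpowers c)
      rwa [Nat.card_zpowers, hc] at this
    · apply sup_le
      · rw [Subgroup.zpowers_le]; exact Subgroup.le_normalizer hbQ
      · rw [Subgroup.zpowers_le]; exact hcN
  have haK : a ∈ K := hNK (Subgroup.le_normalizer haP)
  have hbK : b ∈ K := hNK hbN
  refine ⟨a, b, c, K, ha, hb, hc, hba, hcb, hK, haK, hbK, hwK, ?_, ?_⟩
  · intro hcK
    have hle : Subgroup.normalizer ((Q : Subgroup G) : Set G) ≤ K := by
      rw [← hNQgen]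
      apply sup_le
      · rw [Subgroup.zpowers_le]; exact hbK
      · rw [Subgroup.zpowers_le]; exact hcK
    exact m11_over_n5 hG Q K hle hK
  · set M := Subgroup.closure ({a, b, c} : Set G) with hMdef
    have haM : a ∈ M := Subgroup.subset_closure (by simp)
    have hbM : b ∈ M := Subgroup.subset_closure (by simp)
    have hcM : c ∈ M := Subgroup.subset_closure (by simp)
    have hNM : Subgroup.normalizer ((P : Subgroup G) : Set G) ≤ M := by
      rw [← hNPgen]
      apply sup_le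
      · rw [Subgroup.zpowers_le]; exact haM
      · rw [Subgroup.zpowers_le]; exact hbM
    have hNQM : Subgroup.normalizer ((Q : Subgroup G) : Set G) ≤ M := by
      rw [← hNQgen]
      apply sup_le
      · rw [Subgroup.zpowers_le]; exact hbM
      · rw [Subgroup.zpowers_le]; exact hcM
    rcases m11_over_n11 hG P M hNM with h | h | h
    · exfalso
      have := orderOf_dvd_natCard (⟨c, hcM⟩ : M)
      rw [h, ← Subgroup.orderOf_coe] at this
      simp only at this
      rw [hc] at this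
      norm_num at this
    · exact absurd h (m11_over_n5 hG Q M hNQM)
    · apply Subgroup.eq_top_of_card_eq
      rw [h, hG]

end Cfsg.Agent.Lib.Helper29
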