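import Mathlib
import Cfsg.Agent.Lib.Helper29.M11P

set_option autoImplicit false

namespace Cfsg.Agent.Lib.Helper29

/-- the permutation `x ↦ x + 1` of `ℤ/11 ∪ {∞}` -/
def m11_pa : Equiv.Perm (Fin 12) :=
  ⟨![1, 2, 3, 4, 5, 6, 7, 8, 9, 10, 0, 11], ![10, 0, 1, 2, 3, 4, 5, 6, 7, 8, 9, 11],
    by decide, by decide⟩

/-- the permutation `x ↦ 3 x` of `ℤ/11 ∪ {∞}` -/
def m11_pb : Equiv.Perm (Fin 12) :=
  ⟨![0, 3, 6, 9, 1, 4, 7, 10, 2, 5, 8, 11], ![0, 4, 8, 1, 5, 9, 2, 6, 10, 3, 7, 11],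
    by decide, by decide⟩

theorem m11_pa_val : ∀ i : Fin 12, (i : ℕ) < 11 →
    ((m11_pa i : Fin 12) : ℕ) = ((i : ℕ) + 1) % 11 := by decide

theorem m11_pb_val : ∀ i : Fin 12, (i : ℕ) < 11 →
    ((m11_pb i : Fin 12) : ℕ) = (3 * (i : ℕ)) % 11 := by decide

section label

variable {G : Type*} [Group G]

/-- the labelling of the cosets of `K` by `ℤ/11 ∪ {∞}` -/
noncomputable def m11_lab (a c : G) (K : Subgroup G) (i : Fin 12) : G ⧸ K :=
  if (i : ℕ) < 11 then a ^ (i : ℕ) • ((c : G) : G ⧸ K) else ((1 : G) : G ⧸ K)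

theorem m11_smul_base_iff (K : Subgroup G) (g : G) :
    g • ((1 : G) : G ⧸ K) = ((1 : G) : G ⧸ K) ↔ g ∈ K := by
  rw [MulAction.Quotient.smul_mk, QuotientGroup.eq]
  simp

theorem m11_lab_of_lt (a c : G) (K : Subgroup G) (i : Fin 12) (hi : (i : ℕ) < 11) :
    m11_lab a c K i = a ^ (i : ℕ) • ((c : G) : G ⧸ K) := by
  unfold m11_lab; rw [if_pos hi]

theorem m11_lab_last (a c : G) (K : Subgroup G) (i : Fin 12) (hi : ¬ (i : ℕ) < 11) :
    m11_lab a c K i = ((1 : G) : G ⧸ K) := by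
  unfold m11_lab; rw [if_neg hi]

theorem m11_lab_mod (a c : G) (K : Subgroup G) (ha : orderOf a = 11) (n : ℕ) (i : Fin 12)
    (hi : (i : ℕ) = n % 11) : a ^ n • ((c : G) : G ⧸ K) = m11_lab a c K i := by
  rw [m11_lab_of_lt a c K i (by rw [hi]; exact Nat.mod_lt _ (by norm_num)), hi]
  have := pow_mod_orderOf a n
  rw [ha] at this
  rw [this]

end label

section faithful

variable {G : Type*} [Group G] [IsSimpleGroup G]

/-- the action on the cosets of a proper subgroup is faithful -/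
theorem m11_faithful (K : Subgroup G) (c : G) (hcK : c ∉ K) (g : G)
    (hg : ∀ ω : G ⧸ K, g • ω = ω) : g = 1 := by
  have hker : (MulAction.toPermHom G (G ⧸ K)).ker = ⊥ := by
    rcases (MulAction.toPermHom G (G ⧸ K)).normal_ker.eq_bot_or_eq_top with h | h
    · exact h
    · exfalso
      have hc : c ∈ (MulAction.toPermHom G (G ⧸ K)).ker := by rw [h]; exact Subgroup.mem_top c
      rw [MonoidHom.mem_ker] at hc
      have h1 : c • ((1 : G) : G ⧸ K) = ((1 : G) : G ⧸ K) := by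
        have := congrArg (fun f : Equiv.Perm (G ⧸ K) => f ((1 : G) : G ⧸ K)) hc
        simpa using this
      exact hcK ((m11_smul_base_iff K c).mp h1)
  have : g ∈ (MulAction.toPermHom G (G ⧸ K)).ker := by
    rw [MonoidHom.mem_ker]
    ext ω
    simpa using hg ω
  rw [hker] at this
  exact Subgroup.mem_bot.mp this

end faithful

section fixed

variable {G : Type*} [Group G]

/-- an element of order 11 with two fixed points on a set of 12 points fixes every point -/
theorem m11_two_fixed (Ω : Type*) [MulAction G Ω] [Finite Ω] (hΩ : Nat.card Ω = 12) (g : G)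
    (hg : orderOf g = 11) (x y : Ω) (hxy : x ≠ y) (hx : g • x = x) (hy : g • y = y) :
    ∀ ω : Ω, g • ω = ω := by
  haveI : Fact (Nat.Prime 11) := ⟨by norm_num⟩
  have hp : IsPGroup 11 (Subgroup.zpowers g) :=
    IsPGroup.of_card (n := 1) (by rw [Nat.card_zpowers, hg]; norm_num)
  have hmod := hp.card_modEq_card_fixedPoints Ω
  rw [hΩ] at hmod
  have hfix : ∀ ω : Ω, ω ∈ MulAction.fixedPoints (Subgroup.zpowers g) Ω ↔ g • ω = ω := by
    intro ω
    rw [MulAction.mem_fixedPoints]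
    constructor
    · intro h
      exact h ⟨g, Subgroup.mem_zpowers g⟩
    · intro h k
      obtain ⟨n, hn⟩ := Subgroup.mem_zpowers_iff.mp k.2
      have : (k : G) • ω = ω := by
        rw [← hn]
        have hmem : g ∈ MulAction.stabilizer G ω := h
        exact (MulAction.stabilizer G ω).zpow_mem hmem n
      exact this
  by_contra hcon
  push Not at hcon
  obtain ⟨ω, hω⟩ := hcon
  set F := MulAction.fixedPoints (Subgroup.zpowers g) Ω with hF
  have h2 : 1 < F.ncard := by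
    rw [Set.one_lt_ncard_iff (Set.toFinite F)]
    exact ⟨x, y, (hfix x).mpr hx, (hfix y).mpr hy, hxy⟩
  have h11 : F.ncard ≤ 11 := by
    have hsub : F ⊆ ({ω} : Set Ω)ᶜ := by
      intro z hz
      rw [Set.mem_compl_iff, Set.mem_singleton_iff]
      intro h
      rw [h] at hz
      exact hω ((hfix ω).mp hz)
    have := Set.ncard_le_ncard hsub (Set.toFinite _)
    rw [Set.ncard_compl, Set.ncard_singleton, hΩ] at this
    exact this
  rw [Nat.card_coe_set_eq] at hmod
  unfold Nat.ModEq at hmod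
  omega

end fixed

theorem m11_pa_last : ∀ i : Fin 12, ¬ (i : ℕ) < 11 → ¬ ((m11_pa i : Fin 12) : ℕ) < 11 := by decide

theorem m11_pb_last : ∀ i : Fin 12, ¬ (i : ℕ) < 11 → ¬ ((m11_pb i : Fin 12) : ℕ) < 11 := by decide

/-- the permutation representation of degree 12 in normal form -/
theorem m11_perm_rep {G : Type*} [Group G] [Finite G] [IsSimpleGroup G]
    (hG : Nat.card G = 7920) :
    ∃ (φ : G →* Equiv.Perm (Fin 12)) (a b c : G), Function.Injective φ ∧
      Subgroup.closure ({a, b, c} : Set G) = ⊤ ∧ φ a = m11_pa ∧ φ b = m11_pb ∧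
      φ c 11 = 0 ∧ φ c 0 = 11 ∧ c * b * c⁻¹ = b ^ 2 := by
  obtain ⟨a, b, c, K, ha, hb, hc, hba, hcb, hK, haK, hbK, hwK, hcK, hgen⟩ := m11_data hG
  obtain ⟨ωi, hωi⟩ : ∃ ωi : G ⧸ K, ωi = ((1 : G) : G ⧸ K) := ⟨_, rfl⟩
  obtain ⟨ω0, hω0d⟩ : ∃ ω0 : G ⧸ K, ω0 = ((c : G) : G ⧸ K) := ⟨_, rfl⟩
  have hω0 : ω0 = c • ωi := by
    rw [hω0d, hωi, MulAction.Quotient.smul_mk, smul_eq_mul, mul_one]
  have hcard : Nat.card (G ⧸ K) = 12 := by
    have h1 := K.card_mul_index
    rw [hK, hG] at h1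
    have h2 : K.index = 12 := by omega
    rw [← h2]; rfl
  have hfixi : ∀ g : G, g ∈ K → g • ωi = ωi := fun g hg => by
    rw [hωi]; exact (m11_smul_base_iff K g).mpr hg
  have hne : ω0 ≠ ωi := by
    intro h
    rw [hω0, hωi] at h
    exact hcK ((m11_smul_base_iff K c).mp h)
  have hc0 : c • ω0 = ωi := by
    rw [hω0, smul_smul, ← pow_two]
    exact hfixi _ hwK
  have hb5 : b ^ 5 = 1 := by rw [← hb]; exact pow_orderOf_eq_one b
  have hb0 : b • ω0 = ω0 := by
    have e : b * c = c * b ^ 3 := by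
      have h1 : c * b ^ 3 * c⁻¹ = b := by
        have : c * b ^ 3 * c⁻¹ = (c * b * c⁻¹) ^ 3 := by rw [conj_pow]
        rw [this, hcb, ← pow_mul]
        calc b ^ (2 * 3) = b ^ 5 * b := by rw [← pow_succ]
          _ = b := by rw [hb5, one_mul]
      calc b * c = c * b ^ 3 * c⁻¹ * c := by rw [h1]
        _ = c * b ^ 3 := by group
    rw [hω0, smul_smul, e, mul_smul, hfixi _ (K.pow_mem hbK 3)]
  have ha11 : a ^ 11 = 1 := by rw [← ha]; exact pow_orderOf_eq_one a
  -- powers of a move ω0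
  have hkey : ∀ m : ℕ, 0 < m → m < 11 → a ^ m • ω0 ≠ ω0 := by
    intro m hm0 hm h
    have ho : orderOf (a ^ m) = 11 := by
      rw [orderOf_pow' _ (by omega), ha]
      have : Nat.gcd 11 m = 1 := by
        have h11 : Nat.Prime 11 := by norm_num
        exact (Nat.Prime.coprime_iff_not_dvd h11).mpr (fun hd => by
          have := Nat.le_of_dvd hm0 hd; omega)
      rw [this]
    have hall := m11_two_fixed (G ⧸ K) hcard (a ^ m) ho ω0 ωi hne h (hfixi _ (K.pow_mem haK m))
    have h1 := m11_faithful K c hcK (a ^ m) hall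
    rw [h1, orderOf_one] at ho
    omega
  have hlt : ∀ i j : ℕ, i < j → j < 11 → a ^ i • ω0 ≠ a ^ j • ω0 := by
    intro i j hij hj h
    apply hkey (j - i) (by omega) (by omega)
    have e : a ^ j = a ^ i * a ^ (j - i) := by rw [← pow_add]; congr 1; omega
    rw [e, mul_smul] at h
    exact (smul_left_cancel _ h).symm
  have hpow_ne : ∀ n : ℕ, a ^ n • ω0 ≠ ωi := by
    intro n h
    apply hne
    have h2 : a ^ n • ω0 = a ^ n • ωi := by rw [h, hfixi _ (K.pow_mem haK n)]
    exact smul_left_cancel _ h2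
  have hlab_lt : ∀ i : Fin 12, (i : ℕ) < 11 → m11_lab a c K i = a ^ (i : ℕ) • ω0 := by
    intro i hi; rw [hω0d]; exact m11_lab_of_lt a c K i hi
  have hlab_last : ∀ i : Fin 12, ¬ (i : ℕ) < 11 → m11_lab a c K i = ωi := by
    intro i hi; rw [hωi]; exact m11_lab_last a c K i hi
  have hinj : Function.Injective (m11_lab a c K) := by
    intro i j hij
    by_cases hi : (i : ℕ) < 11 <;> by_cases hj : (j : ℕ) < 11
    · rw [hlab_lt i hi, hlab_lt j hj] at hij
      apply Fin.ext
      by_contra hne'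
      rcases Nat.lt_or_gt_of_ne hne' with h | h
      · exact hlt _ _ h hj hij
      · exact hlt _ _ h hi hij.symm
    · rw [hlab_lt i hi, hlab_last j hj] at hij
      exact absurd hij (hpow_ne _)
    · rw [hlab_last i hi, hlab_lt j hj] at hij
      exact absurd hij.symm (hpow_ne _)
    · apply Fin.ext
      have := i.2
      have := j.2
      omega
  have hbij : Function.Bijective (m11_lab a c K) := by
    haveI : Finite (G ⧸ K) := inferInstance
    rw [Nat.bijective_iff_injective_and_card]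
    exact ⟨hinj, by rw [hcard]; simp⟩
  obtain ⟨E, hE⟩ : ∃ E : Fin 12 ≃ G ⧸ K, ∀ i, E i = m11_lab a c K i :=
    ⟨Equiv.ofBijective _ hbij, fun i => rfl⟩
  obtain ⟨φ, hφ⟩ : ∃ φ : G →* Equiv.Perm (Fin 12), ∀ g i, φ g i = E.symm (g • E i) :=
    ⟨(Equiv.permCongrHom E.symm).toMonoidHom.comp (MulAction.toPermHom G (G ⧸ K)),
      fun g i => by simp [Equiv.permCongrHom]⟩
  have hφeq : ∀ (g : G) (σ : Equiv.Perm (Fin 12)), (∀ i, g • m11_lab a c K i =
      m11_lab a c K (σ i)) → φ g = σ := by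
    intro g σ h
    ext i
    rw [hφ, hE, h i, ← hE, Equiv.symm_apply_apply]
  have hmod : ∀ (n : ℕ) (i : Fin 12), (i : ℕ) = n % 11 → a ^ n • ω0 = m11_lab a c K i := by
    intro n i hi; rw [hω0d]; exact m11_lab_mod a c K ha n i hi
  refine ⟨φ, a, b, c, ?_, hgen, ?_, ?_, ?_, ?_, hcb⟩
  · rw [injective_iff_map_eq_one]
    intro g hg
    apply m11_faithful K c hcK g
    intro ω
    have h1 := hφ g (E.symm ω)
    rw [hg, Equiv.Perm.one_apply, Equiv.apply_symm_apply] at h1
    have := congrArg E h1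
    rw [Equiv.apply_symm_apply, Equiv.apply_symm_apply] at this
    exact this.symm
  · apply hφeq
    intro i
    by_cases hi : (i : ℕ) < 11
    · rw [hlab_lt i hi, smul_smul, ← pow_succ']
      exact hmod _ _ (m11_pa_val i hi)
    · rw [hlab_last i hi, hlab_last _ (m11_pa_last i hi)]
      exact hfixi a haK
  · apply hφeq
    intro i
    by_cases hi : (i : ℕ) < 11
    · rw [hlab_lt i hi]
      have e : b * a ^ (i : ℕ) = a ^ (3 * (i : ℕ)) * b := by
        have h1 : b * a ^ (i : ℕ) * b⁻¹ = (b * a * b⁻¹) ^ (i : ℕ) := by rw [conj_pow]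
        rw [hba, ← pow_mul] at h1
        calc b * a ^ (i : ℕ) = b * a ^ (i : ℕ) * b⁻¹ * b := by group
          _ = a ^ (3 * (i : ℕ)) * b := by rw [h1]
      rw [smul_smul, e, mul_smul, hb0]
      exact hmod _ _ (m11_pb_val i hi)
    · rw [hlab_last i hi, hlab_last _ (m11_pb_last i hi)]
      exact hfixi b hbK
  · rw [hφ, hE, hlab_last 11 (by decide), ← hω0, Equiv.symm_apply_eq, hE,
      hlab_lt 0 (by decide)]
    simp
  · rw [hφ, hE, hlab_lt 0 (by decide), Equiv.symm_apply_eq, hE, hlab_last 11 (by decide)]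
    simpa using hc0

end Cfsg.Agent.Lib.Helper29
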