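import Mathlib
import Cfsg.Agent.Lib.Helper29.M11Q

set_option autoImplicit false

namespace Cfsg.Agent.Lib.Helper29

/-- the first candidate for the element of order 4 -/
def m11_pc1 : Equiv.Perm (Fin 12) :=
  ⟨![11, 2, 4, 7, 10, 6, 3, 5, 9, 8, 1, 0], ![11, 10, 1, 6, 2, 7, 5, 3, 9, 8, 4, 0],
    by decide, by decide⟩

/-- the second candidate for the element of order 4 -/
def m11_pc2 : Equiv.Perm (Fin 12) :=
  ⟨![11, 2, 5, 7, 10, 6, 1, 9, 3, 8, 4, 0], ![11, 6, 1, 8, 10, 2, 5, 3, 9, 7, 4, 0],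
    by decide, by decide⟩

/-- the permutation `x ↦ - x` -/
def m11_psig : Equiv.Perm (Fin 12) :=
  ⟨![0, 10, 9, 8, 7, 6, 5, 4, 3, 2, 1, 11], ![0, 10, 9, 8, 7, 6, 5, 4, 3, 2, 1, 11],
    by decide, by decide⟩

/-- `x ↦ 9 x` -/
def m11_b2 (x : Fin 12) : Fin 12 := m11_pb (m11_pb x)

/-- the function determined by the images of `1` and `2` -/
def m11_cand (s1 s2 : Fin 12) : Fin 12 → Fin 12 :=
  ![11, s1, s2, m11_b2 s1, m11_b2 (m11_b2 (m11_b2 (m11_b2 s1))), m11_b2 (m11_b2 (m11_b2 s1)),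
    m11_b2 s2, m11_b2 (m11_b2 s2), m11_b2 (m11_b2 (m11_b2 (m11_b2 s2))), m11_b2 (m11_b2 s1),
    m11_b2 (m11_b2 (m11_b2 s2)), 0]

/-- evaluation of a word in three letters on functions -/
def m11_evalW (f : Fin 12 → Fin 12) : List (Fin 3) → Fin 12 → Fin 12
  | [] => id
  | k :: w => (if k = 0 then ⇑m11_pa else if k = 1 then ⇑m11_pb else f) ∘ m11_evalW f w

/-- the words of order 7 -/
def m11_words : List (List (Fin 3)) :=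
  [[2, 2, 2, 1, 0, 2, 0, 2, 2, 1, 0], [2, 1, 1, 0, 2, 1, 0, 2, 0, 2, 0, 0],
   [2, 0, 2, 0, 2, 0, 2, 0], [1, 2, 1, 0, 2, 0, 1, 2, 0, 2, 0, 0],
   [2, 0, 2, 0, 2, 0, 2, 1, 1, 0], [1, 2, 2, 0, 0, 2, 1, 0, 0],
   [2, 0, 2, 2, 0, 0, 2, 0, 1, 0, 0], [2, 2, 0, 1, 2, 0, 0, 0]]

set_option maxRecDepth 100000 in
theorem m11_cand_cases : ∀ s1 s2 : Fin 12, Function.Injective (m11_cand s1 s2) →
    ∃ i : Fin 5, (∀ x, m11_cand s1 s2 ((⇑m11_pb)^[(i : ℕ)] x) = m11_pc1 x) ∨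
      (∀ x, m11_cand s1 s2 ((⇑m11_pb)^[(i : ℕ)] x) = m11_pc2 x) ∨
      ∃ w ∈ m11_words,
        m11_evalW (fun x => m11_cand s1 s2 ((⇑m11_pb)^[(i : ℕ)] x)) w ≠ id ∧
        (m11_evalW (fun x => m11_cand s1 s2 ((⇑m11_pb)^[(i : ℕ)] x)) w)^[7] = id := by
  decide +kernel

end Cfsg.Agent.Lib.Helper29
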