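import Mathlib
import Cfsg.Agent.Lib.Helper29.M11R

set_option autoImplicit false

namespace Cfsg.Agent.Lib.Helper29

/-- a permutation satisfying the relations is determined by the images of `1` and `2` -/
theorem m11_cand_eq (σ : Equiv.Perm (Fin 12)) (h11 : σ 11 = 0) (h0 : σ 0 = 11)
    (hrel : σ * m11_pb * σ⁻¹ = m11_pb ^ 2) : ∀ x, σ x = m11_cand (σ 1) (σ 2) x := by
  have R : ∀ x, σ (m11_pb x) = m11_b2 (σ x) := by
    intro x
    have h1 : σ * m11_pb = m11_pb ^ 2 * σ := by
      rw [← hrel]; group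
    have := congrArg (fun f : Equiv.Perm (Fin 12) => f x) h1
    simpa [m11_b2, pow_two] using this
  have e3 : m11_pb 1 = 3 := by decide
  have e9 : m11_pb 3 = 9 := by decide
  have e5 : m11_pb 9 = 5 := by decide
  have e4 : m11_pb 5 = 4 := by decide
  have e6 : m11_pb 2 = 6 := by decide
  have e7 : m11_pb 6 = 7 := by decide
  have e10 : m11_pb 7 = 10 := by decide
  have e8 : m11_pb 10 = 8 := by decide
  have r3 := R 1
  have r9 := R 3
  have r5 := R 9
  have r4 := R 5
  have r6 := R 2
  have r7 := R 6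
  have r10 := R 7
  have r8 := R 10
  rw [e3] at r3
  rw [e9, r3] at r9
  rw [e5, r9] at r5
  rw [e4, r5] at r4
  rw [e6] at r6
  rw [e7, r6] at r7
  rw [e10, r7] at r10
  rw [e8, r10] at r8
  intro x
  fin_cases x
  · exact h0
  · rfl
  · rfl
  · exact r3
  · exact r4
  · exact r5
  · exact r6
  · exact r7
  · exact r8
  · exact r9
  · exact r10
  · exact h11

/-- evaluation of a word in three letters in a group -/
def m11_evalG {G : Type*} [Group G] (a b c : G) : List (Fin 3) → G
  | [] => 1
  | k :: w => (if k = 0 then a else if k = 1 then b else c) * m11_evalG a b c w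

theorem m11_evalG_map {G : Type*} [Group G] (φ : G →* Equiv.Perm (Fin 12)) (a b c : G)
    (ha : φ a = m11_pa) (hb : φ b = m11_pb) (w : List (Fin 3)) :
    ⇑(φ (m11_evalG a b c w)) = m11_evalW (⇑(φ c)) w := by
  induction w with
  | nil => simp [m11_evalG, m11_evalW]
  | cons k w ih =>
    rw [m11_evalG, m11_evalW, map_mul, Equiv.Perm.coe_mul, ih]
    congr 1
    by_cases h0 : k = 0
    · rw [if_pos h0, if_pos h0, ha]
    · rw [if_neg h0, if_neg h0]
      by_cases h1 : k = 1
      · rw [if_pos h1, if_pos h1, hb]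
      · rw [if_neg h1, if_neg h1]

/-- a simple group of order 7920 is isomorphic to one of two explicit permutation groups -/
theorem m11_iso_perm {G : Type*} [Group G] [Finite G] [IsSimpleGroup G]
    (hG : Nat.card G = 7920) :
    (∃ φ : G →* Equiv.Perm (Fin 12), Function.Injective φ ∧
      φ.range = Subgroup.closure {m11_pa, m11_pb, m11_pc1}) ∨
    (∃ φ : G →* Equiv.Perm (Fin 12), Function.Injective φ ∧
      φ.range = Subgroup.closure {m11_pa, m11_pb, m11_pc2}) := by
  obtain ⟨φ, a, b, c, hinj, hgen, hφa, hφb, h11, h0, hcb⟩ := m11_perm_rep hG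
  have hrel : φ c * m11_pb * (φ c)⁻¹ = m11_pb ^ 2 := by
    rw [← hφb, ← map_inv, ← map_mul, ← map_mul, hcb, map_pow]
  have hC1 := m11_cand_eq (φ c) h11 h0 hrel
  have hfun : ⇑(φ c) = m11_cand (φ c 1) (φ c 2) := funext hC1
  have hcinj : Function.Injective (m11_cand (φ c 1) (φ c 2)) := by
    rw [← hfun]; exact (φ c).injective
  obtain ⟨i, hcases⟩ := m11_cand_cases (φ c 1) (φ c 2) hcinj
  obtain ⟨c', hc'⟩ : ∃ c' : G, c' = c * b ^ (i : ℕ) := ⟨_, rfl⟩
  have hφc' : ∀ x, φ c' x = m11_cand (φ c 1) (φ c 2) ((⇑m11_pb)^[(i : ℕ)] x) := by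
    intro x
    rw [hc', map_mul, map_pow, hφb, Equiv.Perm.mul_apply, ← hfun, Equiv.Perm.iterate_eq_pow]
  have hgen' : Subgroup.closure ({a, b, c'} : Set G) = ⊤ := by
    rw [eq_top_iff, ← hgen, Subgroup.closure_le]
    intro x hx
    simp only [Set.mem_insert_iff, Set.mem_singleton_iff] at hx
    have haM : a ∈ Subgroup.closure ({a, b, c'} : Set G) := Subgroup.subset_closure (by simp)
    have hbM : b ∈ Subgroup.closure ({a, b, c'} : Set G) := Subgroup.subset_closure (by simp)
    have hcM : c' ∈ Subgroup.closure ({a, b, c'} : Set G) := Subgroup.subset_closure (by simp)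
    rcases hx with rfl | rfl | rfl
    · exact haM
    · exact hbM
    · have e : x = c' * (b ^ (i : ℕ))⁻¹ := by rw [hc']; group
      rw [e]
      exact Subgroup.mul_mem _ hcM (Subgroup.inv_mem _ (Subgroup.pow_mem _ hbM _))
  have hrange : φ.range = Subgroup.closure {m11_pa, m11_pb, φ c'} := by
    rw [MonoidHom.range_eq_map, ← hgen', MonoidHom.map_closure]
    congr 1
    rw [Set.image_insert_eq, Set.image_insert_eq, Set.image_singleton, hφa, hφb]
  rcases hcases with h | h | h
  · left
    refine ⟨φ, hinj, ?_⟩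
    have : φ c' = m11_pc1 := Equiv.ext (fun x => by rw [hφc', h x])
    rw [hrange, this]
  · right
    refine ⟨φ, hinj, ?_⟩
    have : φ c' = m11_pc2 := Equiv.ext (fun x => by rw [hφc', h x])
    rw [hrange, this]
  · exfalso
    obtain ⟨w, _, hne, h7⟩ := h
    have hfun' : ⇑(φ c') = fun x => m11_cand (φ c 1) (φ c 2) ((⇑m11_pb)^[(i : ℕ)] x) :=
      funext hφc'
    rw [← hfun'] at hne h7
    rw [← m11_evalG_map φ a b c' hφa hφb w] at hne h7
    set g := m11_evalG a b c' w with hg
    have hg7 : g ^ 7 = 1 := by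
      apply hinj
      rw [map_pow, map_one]
      ext x
      rw [← Equiv.Perm.iterate_eq_pow, h7]
      rfl
    have hg1 : g ≠ 1 := by
      intro h
      apply hne
      rw [h, map_one]; rfl
    haveI : Fact (Nat.Prime 7) := ⟨by norm_num⟩
    have ho : orderOf g = 7 := orderOf_eq_prime hg7 hg1
    have hd := orderOf_dvd_natCard g
    rw [ho, hG] at hd
    norm_num at hd

/-- the first explicit permutation group -/
def m11_M1 : Subgroup (Equiv.Perm (Fin 12)) := Subgroup.closure {m11_pa, m11_pb, m11_pc1}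

/-- the second explicit permutation group -/
def m11_M2 : Subgroup (Equiv.Perm (Fin 12)) := Subgroup.closure {m11_pa, m11_pb, m11_pc2}

theorem m11_sig_a : m11_psig * m11_pa * m11_psig⁻¹ = m11_pa⁻¹ := by decide

theorem m11_sig_b : m11_psig * m11_pb * m11_psig⁻¹ = m11_pb := by decide

theorem m11_sig_c : m11_psig * m11_pc1 * m11_psig⁻¹ =
    m11_pc2 * (m11_pb * m11_pb * m11_pb * m11_pb) := by decide

theorem m11_M1_equiv_M2 : Nonempty (m11_M1 ≃* m11_M2) := by
  have hmap : m11_M1.map (MulAut.conj m11_psig).toMonoidHom = m11_M2 := by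
    unfold m11_M1 m11_M2
    rw [MonoidHom.map_closure, Set.image_insert_eq, Set.image_insert_eq, Set.image_singleton]
    have ea : (MulAut.conj m11_psig).toMonoidHom m11_pa = m11_pa⁻¹ := by
      simp only [MulEquiv.coe_toMonoidHom, MulAut.conj_apply]; exact m11_sig_a
    have eb : (MulAut.conj m11_psig).toMonoidHom m11_pb = m11_pb := by
      simp only [MulEquiv.coe_toMonoidHom, MulAut.conj_apply]; exact m11_sig_b
    have ec : (MulAut.conj m11_psig).toMonoidHom m11_pc1 =
        m11_pc2 * (m11_pb * m11_pb * m11_pb * m11_pb) := by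
      simp only [MulEquiv.coe_toMonoidHom, MulAut.conj_apply]; exact m11_sig_c
    rw [ea, eb, ec]
    apply le_antisymm
    · rw [Subgroup.closure_le]
      have haM : m11_pa ∈ Subgroup.closure ({m11_pa, m11_pb, m11_pc2} : Set (Equiv.Perm (Fin 12))) :=
        Subgroup.subset_closure (by simp)
      have hbM : m11_pb ∈ Subgroup.closure ({m11_pa, m11_pb, m11_pc2} : Set (Equiv.Perm (Fin 12))) :=
        Subgroup.subset_closure (by simp)
      have hcM : m11_pc2 ∈ Subgroup.closure ({m11_pa, m11_pb, m11_pc2} : Set (Equiv.Perm (Fin 12))) :=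
        Subgroup.subset_closure (by simp)
      intro x hx
      simp only [Set.mem_insert_iff, Set.mem_singleton_iff] at hx
      rcases hx with rfl | rfl | rfl
      · exact Subgroup.inv_mem _ haM
      · exact hbM
      · exact Subgroup.mul_mem _ hcM (Subgroup.mul_mem _ (Subgroup.mul_mem _
          (Subgroup.mul_mem _ hbM hbM) hbM) hbM)
    · rw [Subgroup.closure_le]
      set S : Set (Equiv.Perm (Fin 12)) :=
        {m11_pa⁻¹, m11_pb, m11_pc2 * (m11_pb * m11_pb * m11_pb * m11_pb)} with hS
      have haM : m11_pa⁻¹ ∈ Subgroup.closure S := Subgroup.subset_closure (by simp [hS])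
      have hbM : m11_pb ∈ Subgroup.closure S := Subgroup.subset_closure (by simp [hS])
      have hcM : m11_pc2 * (m11_pb * m11_pb * m11_pb * m11_pb) ∈ Subgroup.closure S :=
        Subgroup.subset_closure (by simp [hS])
      intro x hx
      simp only [Set.mem_insert_iff, Set.mem_singleton_iff] at hx
      rcases hx with rfl | rfl | rfl
      · have := Subgroup.inv_mem _ haM
        rwa [inv_inv] at this
      · exact hbM
      · have h4 : m11_pb * m11_pb * m11_pb * m11_pb ∈ Subgroup.closure S :=
          Subgroup.mul_mem _ (Subgroup.mul_mem _ (Subgroup.mul_mem _ hbM hbM) hbM) hbM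
        have := Subgroup.mul_mem _ hcM (Subgroup.inv_mem _ h4)
        rwa [mul_inv_cancel_right] at this
  exact ⟨((MulAut.conj m11_psig).subgroupMap m11_M1).trans (MulEquiv.subgroupCongr hmap)⟩

/-- every simple group of order 7920 is isomorphic to the explicit permutation group -/
theorem m11_iso_M1 {G : Type*} [Group G] [Finite G] [IsSimpleGroup G]
    (hG : Nat.card G = 7920) : Nonempty (G ≃* m11_M1) := by
  rcases m11_iso_perm hG with ⟨φ, hinj, hr⟩ | ⟨φ, hinj, hr⟩
  · exact ⟨(MonoidHom.ofInjective hinj).trans (MulEquiv.subgroupCongr hr)⟩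
  · obtain ⟨e⟩ := m11_M1_equiv_M2
    exact ⟨((MonoidHom.ofInjective hinj).trans (MulEquiv.subgroupCongr hr)).trans e.symm⟩

/-- any two simple groups of order 7920 are isomorphic -/
theorem m11_unique {G H : Type*} [Group G] [Finite G] [IsSimpleGroup G] [Group H] [Finite H]
    [IsSimpleGroup H] (hG : Nat.card G = 7920) (hH : Nat.card H = 7920) :
    Nonempty (G ≃* H) := by
  obtain ⟨e1⟩ := m11_iso_M1 hG
  obtain ⟨e2⟩ := m11_iso_M1 hH
  exact ⟨e1.trans e2.symm⟩

end Cfsg.Agent.Lib.Helper29
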