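import Mathlib
import Cfsg.Agent.Lib.Helper29.M11S

set_option autoImplicit false

namespace Cfsg.Agent.Lib.Helper29

open Cfsg.Agent.Lib.helper8

/-- fixed point congruence for conjugation by an element of prime order on a conjugation-stable
finite set -/
theorem m11_fix_count_set {G : Type*} [Group G] (p : ℕ) [Fact p.Prime] (S : Set G) [Finite S]
    (x : G) (hx : ∀ y ∈ S, x * y * x⁻¹ ∈ S) (hxp : x ^ p = 1) :
    Nat.card S ≡ Nat.card {y : S // x * (y : G) * x⁻¹ = y} [MOD p] := by
  classical
  letI : Fintype S := Fintype.ofFinite S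
  let f : Function.End S := fun y => ⟨x * y * x⁻¹, hx y y.2⟩
  have hpow : ∀ k : ℕ, ∀ y : S, (((f ^ k) y : S) : G) = x ^ k * y * (x ^ k)⁻¹ := by
    intro k
    induction k with
    | zero =>
      intro y
      rw [pow_zero, pow_zero, inv_one, one_mul, mul_one]
      rfl
    | succ k ih =>
      intro y
      rw [pow_succ']
      show (((f ((f ^ k) y)) : S) : G) = _
      show x * (((f ^ k) y : S) : G) * x⁻¹ = _
      rw [ih y]
      group
  have hf : f ^ p ^ 1 = 1 := by
    rw [pow_one]
    funext y
    apply Subtype.ext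
    rw [hpow, hxp, inv_one, one_mul, mul_one]
    rfl
  have h1 := Equiv.Perm.card_fixedPoints_modEq (f := f) (p := p) (n := 1) hf
  rw [Nat.card_eq_fintype_card]
  refine h1.trans ?_
  rw [← Nat.card_eq_fintype_card]
  have e : (Function.fixedPoints f) ≃ {y : S // x * (y : G) * x⁻¹ = y} :=
    { toFun := fun y => ⟨y.1, congrArg Subtype.val y.2⟩
      invFun := fun y => ⟨y.1, Subtype.ext y.2⟩
      left_inv := fun y => rfl
      right_inv := fun y => rfl }
  rw [Nat.card_congr e]

/-- fixed point counting for an element of prime order normalizing a subgroup -/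
theorem m11_fix_count {G : Type*} [Group G] [Finite G] (p : ℕ) [Fact p.Prime] (Q : Subgroup G)
    (x : G) (hx : x ∈ Subgroup.normalizer (Q : Set G)) (hxp : x ^ p = 1)
    (hfix : ∀ y ∈ Q, x * y * x⁻¹ = y → y = 1) : Nat.card Q % p = 1 := by
  have h1 := m11_fix_count_set p (Q : Set G) x
    (fun y hy => (Subgroup.mem_normalizer_iff.mp hx y).mp hy) hxp
  have h2 : Nat.card {y : (Q : Set G) // x * (y : G) * x⁻¹ = y} = 1 := by
    rw [Nat.card_eq_one_iff_unique]
    refine ⟨⟨?_⟩, ⟨⟨⟨1, Q.one_mem⟩, by simp⟩⟩⟩
    rintro ⟨⟨a, ha⟩, h1⟩ ⟨⟨b, hb⟩, h2⟩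
    apply Subtype.ext
    apply Subtype.ext
    show a = b
    rw [hfix a ha h1, hfix b hb h2]
  rw [h2] at h1
  have h3 : Nat.card (Q : Set G) = Nat.card Q := rfl
  rw [h3] at h1
  unfold Nat.ModEq at h1
  rw [h1]
  exact Nat.mod_eq_of_lt (Fact.out : p.Prime).one_lt

/-- a subgroup of prime order `p` is a Sylow subgroup when `p ^ 2` does not divide the order -/
theorem m11_sylow_of_elt {G : Type*} [Group G] [Finite G] (p m : ℕ) [hp : Fact p.Prime]
    (hG : Nat.card G = p ^ 1 * m) (hm : ¬ p ∣ m) (x : G) (hx : orderOf x = p) :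
    ∃ P : Sylow p G, (P : Subgroup G) = Subgroup.zpowers x := by
  have hz : Nat.card (Subgroup.zpowers x) = p ^ (Nat.card G).factorization p := by
    rw [Nat.card_zpowers, hx, h8_factorization_of_eq p 1 m _ hp.out hG hm, pow_one]
  exact ⟨Sylow.ofCard (Subgroup.zpowers x) hz, Sylow.coe_ofCard _ _⟩

/-- in a group of order 7920 with 144 Sylow 11-subgroups, anything commuting with an element of
order 11 has order dividing 55 -/
theorem m11_cent11_dvd {G : Type*} [Group G] [Finite G] (hG : Nat.card G = 7920)
    (h11 : Nat.card (Sylow 11 G) = 144) (x : G) (hx : orderOf x = 11) (y : G)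
    (hy : x * y = y * x) : orderOf y ∣ 55 := by
  haveI : Fact (Nat.Prime 11) := ⟨by norm_num⟩
  obtain ⟨P, hP⟩ := m11_sylow_of_elt 11 720 (by rw [hG]; norm_num) (by norm_num) x hx
  have hN := h8_card_normalizer_sylow 11 P
  rw [h11, hG] at hN
  have hN55 : Nat.card (Subgroup.normalizer ((P : Subgroup G) : Set G)) = 55 := by omega
  have hyN : y ∈ Subgroup.normalizer ((P : Subgroup G) : Set G) := by
    apply Subgroup.centralizer_le_normalizer
    rw [hP, Subgroup.zpowers_eq_closure, Subgroup.centralizer_closure,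
      Subgroup.mem_centralizer_singleton_iff]
    exact hy.symm
  have := Subgroup.orderOf_dvd_natCard _ hyN
  rwa [hN55] at this


/-- in a group of order 7920 with 144 Sylow 11-subgroups, a normal subgroup of order prime to 11
has order prime to 2 and 3 -/
theorem m11_normal_q_free {G : Type*} [Group G] [Finite G] (hG : Nat.card G = 7920)
    (h11 : Nat.card (Sylow 11 G) = 144) (N : Subgroup G) [N.Normal] (hN : ¬ 11 ∣ Nat.card N)
    (q : ℕ) [hqp : Fact q.Prime] (hq : q = 2 ∨ q = 3) : ¬ q ∣ Nat.card N := by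
  intro hqN
  haveI : Fact (Nat.Prime 11) := ⟨by norm_num⟩
  obtain ⟨Q⟩ : Nonempty (Sylow q N) := inferInstance
  have hfr := Sylow.normalizer_sup_eq_top Q
  set Q' : Subgroup G := (Q : Subgroup N).map N.subtype with hQ'
  set M : Subgroup G := Subgroup.normalizer (Q' : Set G) with hM
  -- 11 divides the order of M
  have h1 : N.relIndex M = N.index := by
    rw [← Subgroup.relIndex_sup_right, hfr, Subgroup.relIndex_top_right]
  have h2 : N.relIndex M ∣ Nat.card M := Subgroup.relIndex_dvd_card N M
  have h3 : Nat.card N * N.index = 7920 := by rw [Subgroup.card_mul_index, hG]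
  have h4 : 11 ∣ N.index := by
    have : (11 : ℕ) ∣ Nat.card N * N.index := by rw [h3]; norm_num
    exact ((Nat.Prime.dvd_mul (by norm_num)).mp this).resolve_left hN
  have h5 : 11 ∣ Nat.card M := dvd_trans (h1 ▸ h4) h2
  obtain ⟨x, hx⟩ := exists_prime_orderOf_dvd_card' 11 h5
  have hxo : orderOf (x : G) = 11 := by rw [Subgroup.orderOf_coe]; exact hx
  -- the order of Q'
  have hQc : Nat.card Q' = q ^ (Nat.card N).factorization q := by
    rw [hQ', Subgroup.card_subtype, Sylow.card_eq_multiplicity]
  have hdiv : Nat.card Q' ∣ 7920 := by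
    rw [← hG]; exact Subgroup.card_subgroup_dvd_card Q'
  have hkpos : 0 < (Nat.card N).factorization q :=
    Nat.Prime.factorization_pos_of_dvd hqp.out Nat.card_pos.ne' hqN
  have hcop : Nat.Coprime (Nat.card Q') 55 := by
    rw [hQc]
    apply Nat.Coprime.pow_left
    rcases hq with rfl | rfl <;> norm_num
  have hcount := m11_fix_count 11 Q' (x : G) x.2
    (by rw [← hxo]; exact pow_orderOf_eq_one _) (by
      intro y hy hc
      have hd := m11_cent11_dvd hG h11 (x : G) hxo y (by
        have := congrArg (· * (x : G)) hc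
        simpa [mul_assoc] using this)
      have hd2 : orderOf y ∣ Nat.card Q' := Subgroup.orderOf_dvd_natCard _ hy
      have : orderOf y = 1 := Nat.eq_one_of_dvd_coprimes hcop hd2 hd
      exact orderOf_eq_one_iff.mp this)
  rw [hQc] at hcount hdiv
  generalize (Nat.card N).factorization q = k at hcount hdiv hkpos
  rcases hq with rfl | rfl
  · have hk : k ≤ 4 := by
      by_contra hcon
      push Not at hcon
      have : 2 ^ 5 ∣ 7920 := dvd_trans (pow_dvd_pow 2 hcon) hdiv
      norm_num at this
    interval_cases k <;> omega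
  · have hk : k ≤ 2 := by
      by_contra hcon
      push Not at hcon
      have : 3 ^ 3 ∣ 7920 := dvd_trans (pow_dvd_pow 3 hcon) hdiv
      norm_num at this
    interval_cases k <;> omega


/-- a normal subgroup of order 144 is impossible -/
theorem m11_no_normal_144 {G : Type*} [Group G] [Finite G] (hG : Nat.card G = 7920)
    (h11 : Nat.card (Sylow 11 G) = 144) (K : Subgroup G) [K.Normal] (hK : Nat.card K = 144) :
    False := by
  haveI : Fact (Nat.Prime 2) := ⟨Nat.prime_two⟩
  exact m11_normal_q_free hG h11 K (by rw [hK]; norm_num) 2 (Or.inl rfl) (by rw [hK]; norm_num)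

/-- a normal subgroup of order 1584 is impossible -/
theorem m11_no_normal_1584 {G : Type*} [Group G] [Finite G] (hG : Nat.card G = 7920)
    (h11 : Nat.card (Sylow 11 G) = 144) (N : Subgroup G) [hNn : N.Normal]
    (hN : Nat.card N = 1584) : False := by
  haveI : Fact (Nat.Prime 11) := ⟨by norm_num⟩
  obtain ⟨x, hx⟩ := exists_prime_orderOf_dvd_card' (G := N) 11 (by rw [hN]; norm_num)
  have hxo : orderOf (x : G) = 11 := by rw [Subgroup.orderOf_coe]; exact hx
  obtain ⟨P, hP⟩ := m11_sylow_of_elt 11 720 (by rw [hG]; norm_num) (by norm_num) (x : G) hxo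
  have hPN : (P : Subgroup G) ≤ N := by
    rw [hP, Subgroup.zpowers_le]; exact x.2
  have hPc : Nat.card (P : Subgroup G) = 11 := by rw [hP, Nat.card_zpowers, hxo]
  have hN55 : Nat.card (Subgroup.normalizer ((P : Subgroup G) : Set G)) = 55 := by
    have := h8_card_normalizer_sylow 11 P
    rw [h11, hG] at this
    omega
  -- the normalizer of P in N is P
  obtain ⟨n, hn, hc⟩ := m11_sylow_count_sub 11 P N hPN
  have hle : (P : Subgroup G) ≤ Subgroup.normalizer ((P : Subgroup G) : Set G) ⊓ N :=
    le_inf Subgroup.le_normalizer hPN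
  have hd1 : 11 ∣ Nat.card (Subgroup.normalizer ((P : Subgroup G) : Set G) ⊓ N : Subgroup G) := by
    have := Subgroup.card_dvd_of_le hle
    rwa [hPc] at this
  have hd2 : Nat.card (Subgroup.normalizer ((P : Subgroup G) : Set G) ⊓ N : Subgroup G) ∣ 55 := by
    have := Subgroup.card_dvd_of_le
      (inf_le_left : Subgroup.normalizer ((P : Subgroup G) : Set G) ⊓ N ≤ _)
    rwa [hN55] at this
  have hNN : Nat.card (Subgroup.normalizer ((P : Subgroup G) : Set G) ⊓ N : Subgroup G) = 11 := by
    have hmem : Nat.card (Subgroup.normalizer ((P : Subgroup G) : Set G) ⊓ N : Subgroup G) ∈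
        Nat.divisors 55 := Nat.mem_divisors.mpr ⟨hd2, by norm_num⟩
    have e : Nat.divisors 55 = {1, 5, 11, 55} := by decide +kernel
    rw [e] at hmem
    simp only [Finset.mem_insert, Finset.mem_singleton] at hmem
    rw [hN] at hc
    rcases hmem with h | h | h | h
    · rw [h] at hd1; norm_num at hd1
    · rw [h] at hd1; norm_num at hd1
    · exact h
    · rw [h] at hc; omega
  have hNPeq : Subgroup.normalizer ((P : Subgroup G) : Set G) ⊓ N = (P : Subgroup G) :=
    (Subgroup.eq_of_le_of_card_ge hle (by rw [hNN, hPc])).symm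
  -- pass to N
  let P' : Sylow 11 N := P.subtype hPN
  have hP'c : ((P' : Sylow 11 N) : Subgroup N) = (P : Subgroup G).subgroupOf N := Sylow.coe_subtype P hPN
  have hnorm : Subgroup.normalizer (((P' : Sylow 11 N) : Subgroup N) : Set N) =
      ((P' : Sylow 11 N) : Subgroup N) := by
    rw [hP'c, ← Subgroup.subgroupOf_normalizer_eq hPN, ← Subgroup.inf_subgroupOf_right, hNPeq]
  have hcyc : ∀ a ∈ (P : Subgroup G), ∀ b ∈ (P : Subgroup G), a * b = b * a := by
    intro a ha b hb
    rw [hP] at ha hb
    obtain ⟨i, rfl⟩ := Subgroup.mem_zpowers_iff.mp ha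
    obtain ⟨j, rfl⟩ := Subgroup.mem_zpowers_iff.mp hb
    rw [← zpow_add, ← zpow_add, add_comm]
  have hNC : Subgroup.normalizer (((P' : Sylow 11 N) : Subgroup N) : Set N) ≤
      Subgroup.centralizer (((P' : Sylow 11 N) : Subgroup N) : Set N) := by
    rw [hnorm]
    intro a ha
    rw [Subgroup.mem_centralizer_iff]
    intro b hb
    rw [hP'c, Subgroup.mem_subgroupOf] at ha
    have hb' : (b : G) ∈ (P : Subgroup G) := by
      have : b ∈ (P : Subgroup G).subgroupOf N := by rw [← hP'c]; exact hb
      exact Subgroup.mem_subgroupOf.mp this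
    apply Subtype.ext
    rw [Subgroup.coe_mul, Subgroup.coe_mul]
    exact hcyc _ hb' _ ha
  have hcompl := MonoidHom.ker_transferSylow_isComplement' P' hNC
  set φ := MonoidHom.transferSylow P' hNC with hφ
  have hP'card : Nat.card ((P' : Sylow 11 N) : Subgroup N) = 11 := by
    rw [hP'c]
    rw [Nat.card_congr (Subgroup.subgroupOfEquivOfLe hPN).toEquiv, hPc]
  have hKcard : Nat.card φ.ker = 144 := by
    have := hcompl.card_mul_card
    rw [hP'card, hN] at this
    omega
  -- the kernel is the set of elements of N of order dividing 144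
  have hker : ∀ a : N, a ∈ φ.ker ↔ a ^ 144 = 1 := by
    intro a
    constructor
    · intro ha
      have h1 : (⟨a, ha⟩ : φ.ker) ^ Nat.card φ.ker = 1 := pow_card_eq_one'
      rw [hKcard] at h1
      have := congrArg (fun z : φ.ker => (z : N)) h1
      simpa using this
    · intro ha
      rw [MonoidHom.mem_ker]
      have h1 : (φ a) ^ 144 = 1 := by rw [← map_pow, ha, map_one]
      have h2 : (φ a) ^ 11 = 1 := by
        have : (φ a) ^ Nat.card ((P' : Sylow 11 N) : Subgroup N) = 1 := pow_card_eq_one'
        rwa [hP'card] at this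
      have h3 : (φ a) ^ 143 = 1 := by
        have : (143 : ℕ) = 11 * 13 := by norm_num
        rw [this, pow_mul, h2, one_pow]
      have h4 : (φ a) ^ 144 = (φ a) ^ 143 * φ a := pow_succ _ _
      rw [h1, h3, one_mul] at h4
      exact h4.symm
  -- the image of the kernel in G is normal
  have hnormal : (φ.ker.map N.subtype).Normal := by
    constructor
    intro k hk g
    obtain ⟨a, ha, rfl⟩ := Subgroup.mem_map.mp hk
    have hmem : g * (a : G) * g⁻¹ ∈ N := hNn.conj_mem _ a.2 g
    refine Subgroup.mem_map.mpr ⟨⟨g * (a : G) * g⁻¹, hmem⟩, ?_, rfl⟩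
    rw [hker] at ha ⊢
    apply Subtype.ext
    rw [Subgroup.coe_pow, Subgroup.coe_one]
    show (g * (a : G) * g⁻¹) ^ 144 = 1
    rw [conj_pow]
    have := congrArg (fun z : N => (z : G)) ha
    simp only [Subgroup.coe_pow, Subgroup.coe_one] at this
    rw [this]
    group
  haveI := hnormal
  exact m11_no_normal_144 hG h11 (φ.ker.map N.subtype)
    (by rw [Subgroup.card_subtype, hKcard])


/-- **Key lemma**: a group of order 7920 with 144 Sylow 11-subgroups and more than one Sylow
5-subgroup is simple -/
theorem m11_simple_of_sylow {G : Type*} [Group G] [Finite G] (hG : Nat.card G = 7920)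
    (h11 : Nat.card (Sylow 11 G) = 144) (h5 : Nat.card (Sylow 5 G) ≠ 1) : IsSimpleGroup G := by
  haveI : Fact (Nat.Prime 11) := ⟨by norm_num⟩
  haveI : Fact (Nat.Prime 5) := ⟨by norm_num⟩
  haveI : Fact (Nat.Prime 2) := ⟨Nat.prime_two⟩
  haveI : Fact (Nat.Prime 3) := ⟨Nat.prime_three⟩
  haveI : Nontrivial G := by
    rw [← Finite.one_lt_card_iff_nontrivial, hG]; norm_num
  refine ⟨fun N hNn => ?_⟩
  haveI := hNn
  by_contra hcon
  push Not at hcon
  obtain ⟨hNb, hNt⟩ := hcon
  have hdiv : Nat.card N ∣ 7920 := hG ▸ Subgroup.card_subgroup_dvd_card N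
  by_cases hd : 11 ∣ Nat.card N
  · -- N contains a Sylow 11-subgroup
    obtain ⟨x, hx⟩ := exists_prime_orderOf_dvd_card' (G := N) 11 hd
    have hxo : orderOf (x : G) = 11 := by rw [Subgroup.orderOf_coe]; exact hx
    obtain ⟨P, hP⟩ := m11_sylow_of_elt 11 720 (by rw [hG]; norm_num) (by norm_num) (x : G) hxo
    have hPN : (P : Subgroup G) ≤ N := by
      rw [hP, Subgroup.zpowers_le]; exact x.2
    have hN55 : Nat.card (Subgroup.normalizer ((P : Subgroup G) : Set G)) = 55 := by
      have := h8_card_normalizer_sylow 11 P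
      rw [h11, hG] at this
      omega
    have hfr : Subgroup.normalizer ((P : Subgroup G) : Set G) ⊔ N = ⊤ :=
      Sylow.normalizer_sup_eq_top' P hPN
    have h1 : N.relIndex (Subgroup.normalizer ((P : Subgroup G) : Set G)) = N.index := by
      rw [← Subgroup.relIndex_sup_right, hfr, Subgroup.relIndex_top_right]
    have h2 : N.index ∣ 55 := by
      rw [← h1, ← hN55]; exact Subgroup.relIndex_dvd_card _ _
    have h3 : Nat.card N * N.index = 7920 := by rw [Subgroup.card_mul_index, hG]
    have hmem : N.index ∈ Nat.divisors 55 := Nat.mem_divisors.mpr ⟨h2, by norm_num⟩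
    have e : Nat.divisors 55 = {1, 5, 11, 55} := by decide +kernel
    rw [e] at hmem
    simp only [Finset.mem_insert, Finset.mem_singleton] at hmem
    rcases hmem with h | h | h | h
    · exact hNt (Subgroup.index_eq_one.mp h)
    · rw [h] at h3
      exact m11_no_normal_1584 hG h11 N (by omega)
    · rw [h] at h3
      have : Nat.card N = 720 := by omega
      rw [this] at hd; norm_num at hd
    · rw [h] at h3
      have : Nat.card N = 144 := by omega
      rw [this] at hd; norm_num at hd
  · have h2 := m11_normal_q_free hG h11 N hd 2 (Or.inl rfl)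
    have h3 := m11_normal_q_free hG h11 N hd 3 (Or.inr rfl)
    have hc : Nat.Coprime (Nat.card N) 1584 := by
      have : (1584 : ℕ) = 2 ^ 4 * 3 ^ 2 * 11 := by norm_num
      rw [this]
      apply Nat.Coprime.mul_right
      · apply Nat.Coprime.mul_right
        · exact Nat.Coprime.pow_right _ ((Nat.Prime.coprime_iff_not_dvd Nat.prime_two).mpr h2).symm
        · exact Nat.Coprime.pow_right _
            ((Nat.Prime.coprime_iff_not_dvd Nat.prime_three).mpr h3).symm
      · exact ((Nat.Prime.coprime_iff_not_dvd (by norm_num)).mpr hd).symm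
    have h5' : Nat.card N ∣ 5 := by
      have : Nat.card N ∣ 1584 * 5 := by norm_num; exact hdiv
      exact Nat.Coprime.dvd_of_dvd_mul_left hc this
    have hN5 : Nat.card N = 5 := by
      rcases (Nat.dvd_prime (by norm_num)).mp h5' with h | h
      · exact absurd (Subgroup.card_eq_one.mp h) hNb
      · exact h
    -- N is a normal Sylow 5-subgroup
    have hz : Nat.card N = 5 ^ (Nat.card G).factorization 5 := by
      rw [hN5, h8_factorization_of_eq 5 1 1584 _ (by norm_num) (by rw [hG]; norm_num) (by norm_num), pow_one]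
    let Q : Sylow 5 G := Sylow.ofCard N hz
    have hQ : (Q : Subgroup G) = N := Sylow.coe_ofCard _ _
    haveI : Unique (Sylow 5 G) := Sylow.unique_of_normal Q (by rw [hQ]; exact hNn)
    exact h5 Nat.card_unique

end Cfsg.Agent.Lib.Helper29
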