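import Mathlib
import Cfsg.Agent.Lib.Helper29.M11T
import Cfsg.Agent.Lib.Helper22.CountSubgroups

set_option autoImplicit false

namespace Cfsg.Agent.Lib.Helper29

open Cfsg.Agent.Lib.helper8

/-- number of elements of order `p` when the Sylow `p`-subgroups have order `p` -/
theorem m11_card_order_p {K : Type*} [Group K] [Finite K] (p m : ℕ) [hp : Fact p.Prime]
    (hK : Nat.card K = p ^ 1 * m) (hm : ¬ p ∣ m) :
    Nat.card {g : K // orderOf g = p} = Nat.card (Sylow p K) * (p - 1) := by
  rw [Cfsg.Agent.Lib.Helper22.card_orderOf_eq_prime p]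
  congr 1
  have hfac : (Nat.card K).factorization p = 1 := h8_factorization_of_eq p 1 m _ hp.out hK hm
  apply Nat.card_congr
  have hc : ∀ C : {C : Subgroup K // Nat.card C = p},
      Nat.card (C : Subgroup K) = p ^ (Nat.card K).factorization p := by
    intro C; rw [C.2, hfac, pow_one]
  refine
    { toFun := fun C => Sylow.ofCard (p := p) C.1 (hc C)
      invFun := fun P => ⟨(P : Subgroup K), by
        have := h8_sylow_card p 1 m hK hm P
        rwa [pow_one] at this⟩
      left_inv := ?_
      right_inv := ?_ }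
  · intro C
    apply Subtype.ext
    exact Sylow.coe_ofCard (p := p) C.1 (hc C)
  · intro P
    apply Sylow.ext
    exact Sylow.coe_ofCard (p := p) _ _

/-- self-centralizing elements of prime order -/
theorem m11_selfcent {K : Type*} [Group K] [Finite K] (p : ℕ) [Fact p.Prime]
    (hp : ∀ z : K, orderOf z = p → Nat.card (Subgroup.centralizer ({z} : Set K)) = p)
    (x : K) (hx : x ≠ 1) (hd : p ∣ Nat.card (Subgroup.centralizer ({x} : Set K))) :
    orderOf x = p ∧ Nat.card (Subgroup.centralizer ({x} : Set K)) = p := by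
  obtain ⟨z, hz⟩ := exists_prime_orderOf_dvd_card' p hd
  have hzo : orderOf (z : K) = p := by rw [Subgroup.orderOf_coe]; exact hz
  have hxz : x ∈ Subgroup.centralizer ({(z : K)} : Set K) := by
    rw [Subgroup.mem_centralizer_singleton_iff]
    exact (Subgroup.mem_centralizer_singleton_iff.mp z.2).symm
  have h1 := Subgroup.orderOf_dvd_natCard _ hxz
  rw [hp _ hzo] at h1
  have h2 : orderOf x = p := by
    rcases (Nat.dvd_prime (Fact.out : p.Prime)).mp h1 with h | h
    · exact absurd (orderOf_eq_one_iff.mp h) hx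
    · exact h
  exact ⟨h2, hp x h2⟩

variable {G : Type*} [Group G] [Finite G] [IsSimpleGroup G]

/-- centralizer of an element of order 11 in a simple group of order 7920 -/
theorem m11_cent_order11 (hG : Nat.card G = 7920) (z : G) (hz : orderOf z = 11) :
    Nat.card (Subgroup.centralizer ({z} : Set G)) = 11 := by
  haveI : Fact (Nat.Prime 11) := ⟨by norm_num⟩
  obtain ⟨P, hP⟩ := m11_sylow_of_elt 11 720 (by rw [hG]; norm_num) (by norm_num) z hz
  obtain ⟨_, _, _, hC⟩ := m11_syl11 hG P
  rw [hP, Subgroup.zpowers_eq_closure, Subgroup.centralizer_closure] at hC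
  exact hC

/-- centralizer of an element of order 5 in a simple group of order 7920 -/
theorem m11_cent_order5 (hG : Nat.card G = 7920) (z : G) (hz : orderOf z = 5) :
    Nat.card (Subgroup.centralizer ({z} : Set G)) = 5 := by
  haveI : Fact (Nat.Prime 5) := ⟨by norm_num⟩
  obtain ⟨Q, hQ⟩ := m11_sylow_of_elt 5 1584 (by rw [hG]; norm_num) (by norm_num) z hz
  have hC := m11_cq_eq hG Q
  have hc : Nat.card (Q : Subgroup G) = 5 := by rw [hQ, Nat.card_zpowers, hz]
  rw [← hC] at hc
  rw [hQ, Subgroup.zpowers_eq_closure, Subgroup.centralizer_closure] at hc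
  exact hc

end Cfsg.Agent.Lib.Helper29
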