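import Mathlib
import Cfsg.Agent.Lib.Helper29.M11U

set_option autoImplicit false

namespace Cfsg.Agent.Lib.Helper29

open Cfsg.Agent.Lib.helper8

/-- the order of a group from its set of non-identity elements -/
theorem m11_card_ne_one {K : Type*} [Group K] [Finite K] :
    Nat.card K = Nat.card {k : K // k ≠ 1} + 1 := by
  classical
  rw [← Finite.card_option, Nat.card_congr (Equiv.optionSubtypeNe (1 : K))]

/-- the order of a centralizer via the commuting non-identity elements -/
theorem m11_card_cent_ne {K : Type*} [Group K] [Finite K] (a : K) :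
    Nat.card (Subgroup.centralizer ({a} : Set K)) =
      Nat.card {y : {k : K // k ≠ 1} // a * (y : K) = y * a} + 1 := by
  rw [m11_card_ne_one (K := Subgroup.centralizer ({a} : Set K))]
  congr 1
  apply Nat.card_congr
  refine
    { toFun := fun c => ⟨⟨c.1.1, fun h => c.2 (Subtype.ext h)⟩,
        (Subgroup.mem_centralizer_singleton_iff.mp c.1.2).symm⟩
      invFun := fun y => ⟨⟨y.1.1, Subgroup.mem_centralizer_singleton_iff.mpr y.2.symm⟩,
        fun h => y.1.2 (congrArg (fun c : Subgroup.centralizer ({a} : Set K) => (c : K)) h)⟩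
      left_inv := fun c => rfl
      right_inv := fun y => rfl }

/-- a finite group with the commuting graph of a simple group of order 7920 is isomorphic to it -/
theorem m11_commgraph {H M : Type*} [Group H] [Finite H] [Group M] [Finite M] [IsSimpleGroup M]
    (hM : Nat.card M = 7920) (f : {h : H // h ≠ 1} ≃ {g : M // g ≠ 1})
    (hf : ∀ x y : {h : H // h ≠ 1},
      (x : H) * y = y * x ↔ ((f x) : M) * (f y) = (f y) * (f x)) :
    Nonempty (H ≃* M) := by
  haveI : Fact (Nat.Prime 11) := ⟨by norm_num⟩
  haveI : Fact (Nat.Prime 5) := ⟨by norm_num⟩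
  have hH : Nat.card H = 7920 := by
    rw [m11_card_ne_one, Nat.card_congr f, ← m11_card_ne_one, hM]
  -- centralizer orders correspond
  have hcent : ∀ a : {h : H // h ≠ 1}, Nat.card (Subgroup.centralizer ({(a : H)} : Set H)) =
      Nat.card (Subgroup.centralizer ({((f a) : M)} : Set M)) := by
    intro a
    rw [m11_card_cent_ne, m11_card_cent_ne]
    congr 1
    exact Nat.card_congr (f.subtypeEquiv (fun y => hf a y))
  -- self-centralizing elements
  have hself : ∀ (p : ℕ) [Fact p.Prime],
      (∀ z : M, orderOf z = p → Nat.card (Subgroup.centralizer ({z} : Set M)) = p) →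
      ∀ x : H, orderOf x = p → Nat.card (Subgroup.centralizer ({x} : Set H)) = p := by
    intro p _ hp x hx
    have hx1 : x ≠ 1 := by
      intro h; rw [h, orderOf_one] at hx
      exact (Fact.out : p.Prime).one_lt.ne hx
    have h1 := hcent ⟨x, hx1⟩
    have h2 : p ∣ Nat.card (Subgroup.centralizer ({x} : Set H)) := by
      rw [← hx]
      exact Subgroup.orderOf_dvd_natCard _
        (Subgroup.mem_centralizer_singleton_iff.mpr rfl)
    change Nat.card (Subgroup.centralizer ({x} : Set H)) = _ at h1
    rw [h1] at h2 ⊢
    exact (m11_selfcent p hp _ (f ⟨x, hx1⟩).2 h2).2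
  -- Sylow 11
  have h11 : Nat.card (Sylow 11 H) = 144 := by
    obtain ⟨x, hx⟩ := exists_prime_orderOf_dvd_card' (G := H) 11 (by rw [hH]; norm_num)
    have hC := hself 11 (fun z hz => m11_cent_order11 hM z hz) x hx
    obtain ⟨P, hP⟩ := m11_sylow_of_elt 11 720 (by rw [hH]; norm_num) (by norm_num) x hx
    have hPc : Nat.card (P : Subgroup H) = 11 := by rw [hP, Nat.card_zpowers, hx]
    have hCP : Nat.card (Subgroup.centralizer ((P : Subgroup H) : Set H)) = 11 := by
      rw [hP, Subgroup.zpowers_eq_closure, Subgroup.centralizer_closure]; exact hC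
    have h1 := h8_card_centralizer_mul_relIndex (P : Subgroup H)
    have h2 := h8_relIndex_centralizer_normalizer_dvd_prime 11 (by norm_num) (P : Subgroup H) hPc
    have h3 := h8_card_normalizer_sylow 11 P
    have h4 := card_sylow_modEq_one 11 H
    rw [hCP] at h1
    rw [← h1, hH] at h3
    generalize (Subgroup.centralizer ((P : Subgroup H) : Set H)).relIndex
      (Subgroup.normalizer ((P : Subgroup H) : Set H)) = r at h2 h3
    generalize Nat.card (Sylow 11 H) = n at h3 h4 ⊢
    unfold Nat.ModEq at h4
    have hmem : r ∈ Nat.divisors 10 := Nat.mem_divisors.mpr ⟨h2, by norm_num⟩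
    have e : Nat.divisors 10 = {1, 2, 5, 10} := by decide +kernel
    rw [e] at hmem
    simp only [Finset.mem_insert, Finset.mem_singleton] at hmem
    rcases hmem with h | h | h | h <;> rw [h] at h3 <;> omega
  -- Sylow 5
  have h5 : Nat.card (Sylow 5 H) ≠ 1 := by
    intro hone
    obtain ⟨x, hx⟩ := exists_prime_orderOf_dvd_card' (G := H) 5 (by rw [hH]; norm_num)
    have hC := hself 5 (fun z hz => m11_cent_order5 hM z hz) x hx
    obtain ⟨P, hP⟩ := m11_sylow_of_elt 5 1584 (by rw [hH]; norm_num) (by norm_num) x hx
    have hPc : Nat.card (P : Subgroup H) = 5 := by rw [hP, Nat.card_zpowers, hx]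
    have hCP : Nat.card (Subgroup.centralizer ((P : Subgroup H) : Set H)) = 5 := by
      rw [hP, Subgroup.zpowers_eq_closure, Subgroup.centralizer_closure]; exact hC
    have h1 := h8_card_centralizer_mul_relIndex (P : Subgroup H)
    have h2 := h8_relIndex_centralizer_normalizer_dvd_prime 5 (by norm_num) (P : Subgroup H) hPc
    have h3 := h8_card_normalizer_sylow 5 P
    rw [hCP] at h1
    rw [← h1, hH, hone] at h3
    generalize (Subgroup.centralizer ((P : Subgroup H) : Set H)).relIndex
      (Subgroup.normalizer ((P : Subgroup H) : Set H)) = r at h2 h3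
    have hr : r ≤ 4 := Nat.le_of_dvd (by norm_num) h2
    omega
  haveI : IsSimpleGroup H := m11_simple_of_sylow hH h11 h5
  exact m11_unique hH hM

end Cfsg.Agent.Lib.Helper29
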