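import Mathlib
import Cfsg.Agent.Lib.Helper29.M11V
import Cfsg.Agent.Lib.Helper19.M11Inv
import Cfsg.Agent.Lib.helper4.MathieuSimple

set_option autoImplicit false

namespace Cfsg.Agent.Lib.Helper29

open Cfsg MulAction
open scoped Pointwise

/-- the frozen `M₁₁` has order 7920 -/
theorem m11_spor_card : Nat.card ↥Cfsg.Spor.M11 = 7920 := Cfsg.Agent.Lib.Helper19.M11Inv.card_M11

instance m11_spor_finite : Finite ↥Cfsg.Spor.M11 :=
  Nat.finite_of_card_ne_zero (by rw [m11_spor_card]; norm_num)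

/-- the frozen `M₁₁` is simple -/
instance m11_spor_simple : IsSimpleGroup ↥Cfsg.Spor.M11 := by
  haveI : IsSimpleGroup ↥(stabilizer M24 Cfsg.Spor.squareDodecad ⊓
      stabilizer M24 (some 0 : GolayPt)) :=
    Cfsg.Agent.Lib.helper4.M11_simple _ Cfsg.Agent.Lib.helper3.squareDodecad_mem_dodecads _
      Cfsg.Agent.Lib.helper3.zero_mem_squareDodecad
  exact Cfsg.Agent.Lib.Helper19.M11Inv.bridge.isSimpleGroup

end Cfsg.Agent.Lib.Helper29
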