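import Mathlib
import Cfsg.Agent.Lib.Helper29.M11W

set_option autoImplicit false

namespace Cfsg.Agent.Lib.Helper29

open Cfsg.Agent.Lib.helper8

/-- conjugation preserves the order -/
theorem m11_orderOf_conj {K : Type*} [Group K] (x y : K) : orderOf (x * y * x⁻¹) = orderOf y :=
  (MulAut.conj x).orderOf_eq y

/-- divisibility of the number of elements of a given order by a self-centralizing prime -/
theorem m11_dvd_card_order {K : Type*} [Group K] [Finite K] (p : ℕ) [hp : Fact p.Prime]
    (hd : p ∣ Nat.card K)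
    (hc : ∀ z : K, orderOf z = p → Nat.card (Subgroup.centralizer ({z} : Set K)) = p)
    (n : ℕ) (hn1 : n ≠ 1) (hnp : n ≠ p) : p ∣ Nat.card {g : K // orderOf g = n} := by
  obtain ⟨x, hx⟩ := exists_prime_orderOf_dvd_card' p hd
  have h1 := m11_fix_count_set p {g : K | orderOf g = n} x
    (fun y hy => by
      show orderOf (x * y * x⁻¹) = n
      rw [m11_orderOf_conj]; exact hy)
    (by rw [← hx]; exact pow_orderOf_eq_one _)
  haveI : IsEmpty {y : {g : K | orderOf g = n} // x * (y : K) * x⁻¹ = y} := by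
    constructor
    rintro ⟨⟨y, hy⟩, hfix⟩
    have hy' : orderOf y = n := hy
    have hcomm : y * x = x * y := by
      have := congrArg (· * x) hfix
      simpa [mul_assoc] using this.symm
    have hmem : y ∈ Subgroup.centralizer ({x} : Set K) :=
      Subgroup.mem_centralizer_singleton_iff.mpr hcomm
    have h2 := Subgroup.orderOf_dvd_natCard _ hmem
    rw [hc x hx, hy'] at h2
    rcases (Nat.dvd_prime hp.out).mp h2 with h | h
    · exact hn1 h
    · exact hnp h
  have h0 : Nat.card {y : {g : K | orderOf g = n} // x * (y : K) * x⁻¹ = y} = 0 :=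
    Nat.card_of_isEmpty
  rw [h0] at h1
  exact (Nat.modEq_zero_iff_dvd.mp h1)

/-- the numbers of elements of given orders in a simple group of order 7920 -/
theorem m11_nse_values {M : Type*} [Group M] [Finite M] [IsSimpleGroup M]
    (hM : Nat.card M = 7920) (n : ℕ) :
    Nat.card {g : M // orderOf g = n} = 1440 ∨ Nat.card {g : M // orderOf g = n} = 1584 ∨
      Nat.card {g : M // orderOf g = n} = 1 ∨ 55 ∣ Nat.card {g : M // orderOf g = n} := by
  haveI : Fact (Nat.Prime 11) := ⟨by norm_num⟩
  haveI : Fact (Nat.Prime 5) := ⟨by norm_num⟩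
  by_cases h11 : n = 11
  · left
    subst h11
    obtain ⟨P⟩ : Nonempty (Sylow 11 M) := inferInstance
    obtain ⟨_, hs, _, _⟩ := m11_syl11 hM P
    rw [m11_card_order_p 11 720 (by rw [hM]; norm_num) (by norm_num), hs]
  by_cases h5 : n = 5
  · right; left
    subst h5
    obtain ⟨Q⟩ : Nonempty (Sylow 5 M) := inferInstance
    obtain ⟨_, hs, _, _⟩ := m11_syl5 hM Q
    rw [m11_card_order_p 5 1584 (by rw [hM]; norm_num) (by norm_num), hs]
  by_cases h1 : n = 1
  · right; right; left
    subst h1
    rw [Nat.card_eq_one_iff_unique]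
    refine ⟨⟨?_⟩, ⟨⟨1, orderOf_one⟩⟩⟩
    rintro ⟨a, ha⟩ ⟨b, hb⟩
    apply Subtype.ext
    show a = b
    rw [orderOf_eq_one_iff.mp ha, orderOf_eq_one_iff.mp hb]
  · right; right; right
    have hd11 := m11_dvd_card_order (K := M) 11 (by rw [hM]; norm_num)
      (fun z hz => m11_cent_order11 hM z hz) n h1 h11
    have hd5 := m11_dvd_card_order (K := M) 5 (by rw [hM]; norm_num)
      (fun z hz => m11_cent_order5 hM z hz) n h1 h5
    have : 5 * 11 ∣ Nat.card {g : M // orderOf g = n} :=
      Nat.Coprime.mul_dvd_of_dvd_of_dvd (by norm_num) hd5 hd11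
    simpa using this

/-- a group with the order and the set of same-order counts of a simple group of order 7920 is
isomorphic to it -/
theorem m11_nse {G M : Type*} [Group G] [Finite G] [Group M] [Finite M] [IsSimpleGroup M]
    (hM : Nat.card M = 7920) (hcard : Nat.card G = Nat.card M)
    (hnse : {c : ℕ | 0 < c ∧ ∃ n : ℕ, c = Nat.card {g : G // orderOf g = n}} =
      {c : ℕ | 0 < c ∧ ∃ n : ℕ, c = Nat.card {g : M // orderOf g = n}}) :
    Nonempty (G ≃* M) := by
  haveI : Fact (Nat.Prime 11) := ⟨by norm_num⟩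
  haveI : Fact (Nat.Prime 5) := ⟨by norm_num⟩
  have hG : Nat.card G = 7920 := hcard.trans hM
  have key : ∀ p : ℕ, (∃ g : G, orderOf g = p) →
      Nat.card {g : G // orderOf g = p} = 1440 ∨ Nat.card {g : G // orderOf g = p} = 1584 ∨
      Nat.card {g : G // orderOf g = p} = 1 ∨ 55 ∣ Nat.card {g : G // orderOf g = p} := by
    rintro p ⟨g, hg⟩
    have hpos : 0 < Nat.card {g : G // orderOf g = p} :=
      Nat.card_pos_iff.mpr ⟨⟨⟨g, hg⟩⟩, inferInstance⟩
    have hmem : Nat.card {g : G // orderOf g = p} ∈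
        {c : ℕ | 0 < c ∧ ∃ n : ℕ, c = Nat.card {g : G // orderOf g = n}} := ⟨hpos, p, rfl⟩
    rw [hnse] at hmem
    obtain ⟨_, n, hn⟩ := hmem
    rw [hn]
    exact m11_nse_values hM n
  have h11 : Nat.card (Sylow 11 G) = 144 := by
    have h1 := m11_card_order_p (K := G) 11 720 (by rw [hG]; norm_num) (by norm_num)
    have h2 := h8_nsylow_mem (G := G) 11 1 720 (by rw [hG]; norm_num) (by norm_num)
    have e : (Nat.divisors 720).filter (fun d => d % 11 = 1) = {1, 12, 45, 144} := by
      decide +kernel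
    rw [e] at h2
    simp only [Finset.mem_insert, Finset.mem_singleton] at h2
    obtain ⟨x, hx⟩ := exists_prime_orderOf_dvd_card' (G := G) 11 (by rw [hG]; norm_num)
    have h3 := key 11 ⟨x, hx⟩
    rw [h1] at h3
    rcases h2 with h | h | h | h <;> rw [h] at h3 ⊢ <;> omega
  have h5 : Nat.card (Sylow 5 G) ≠ 1 := by
    intro hone
    have h1 := m11_card_order_p (K := G) 5 1584 (by rw [hG]; norm_num) (by norm_num)
    obtain ⟨x, hx⟩ := exists_prime_orderOf_dvd_card' (G := G) 5 (by rw [hG]; norm_num)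
    have h3 := key 5 ⟨x, hx⟩
    rw [h1, hone] at h3
    omega
  haveI : IsSimpleGroup G := m11_simple_of_sylow hG h11 h5
  exact m11_unique hG hM

end Cfsg.Agent.Lib.Helper29
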