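import Mathlib
import Cfsg.Agent.Lib.Helper18.PRL.Defs
import Cfsg.Agent.Lib.Helper20.PolySeq
import Cfsg.Agent.Lib.Helper21.MaxClassTwo

/-!
# Project MCP (S5238), piece PA : a self-centralizing subgroup of order `p ^ 2` provides an element
with centralizer of order `p ^ 2`
-/

set_option autoImplicit false

namespace Cfsg.Agent.Lib.helper4.MCP

open Cfsg.Agent.Lib.Helper18.PRL
open Cfsg.Agent.Lib.Helper20.PolySeq
open scoped commutatorElement

universe u

section mc
variable {p : ℕ} [Fact p.Prime] {G : Type u} [Group G] [Finite G] {n : ℕ}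

/-- MCP-PA -/
theorem exists_small_centralizer_of_abelian (h : MC p G n) (hn : 3 ≤ n) (A : Subgroup G)
    (hA : Nat.card A = p ^ 2) (hC : Subgroup.centralizer (A : Set G) = A) :
    ∃ s : G, Nat.card (Subgroup.centralizer ({s} : Set G)) ≤ p ^ 2 := by
  have hp : p.Prime := Fact.out
  have hZ : Nat.card (Subgroup.center G) = p :=
    (Cfsg.Agent.Lib.Helper21.mc_center_card p n hn G h.1 h.2).1
  have hZA : Subgroup.center G ≤ A := by
    rw [← hC]
    exact Subgroup.center_le_centralizer _
  -- an element of `A` outside the centre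
  obtain ⟨s, hsA, hsZ⟩ : ∃ s ∈ A, s ∉ Subgroup.center G := by
    by_contra hcon
    push Not at hcon
    have hle : A ≤ Subgroup.center G := fun x hx => hcon x hx
    have := Subgroup.card_le_of_le hle
    rw [hA, hZ] at this
    have h2 : p ^ 1 < p ^ 2 := Nat.pow_lt_pow_right hp.one_lt (by norm_num)
    rw [pow_one] at h2
    omega
  refine ⟨s, ?_⟩
  set B : Subgroup G := Subgroup.zpowers s ⊔ Subgroup.center G with hB
  have hBA : B ≤ A := sup_le (by rw [Subgroup.zpowers_le]; exact hsA) hZA
  have hZB : Subgroup.center G ≤ B := le_sup_right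
  have hsB : s ∈ B := (le_sup_left : Subgroup.zpowers s ≤ B) (Subgroup.mem_zpowers s)
  have hBeq : B = A := by
    apply Subgroup.eq_of_le_of_card_ge hBA
    rw [hA]
    have hdvd : Nat.card B ∣ p ^ 2 := hA ▸ Subgroup.card_dvd_of_le hBA
    obtain ⟨i, hi, hBi⟩ := (Nat.dvd_prime_pow hp).mp hdvd
    have hlt : p < Nat.card B := by
      by_contra hcon
      push Not at hcon
      have heq : Subgroup.center G = B :=
        Subgroup.eq_of_le_of_card_ge hZB (by rw [hZ]; exact hcon)
      exact hsZ (heq ▸ hsB)
    rw [hBi] at hlt ⊢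
    have h1 : 1 < i := by
      by_contra hcon
      push Not at hcon
      have : p ^ i ≤ p ^ 1 := Nat.pow_le_pow_right hp.pos hcon
      rw [pow_one] at this
      omega
    have : i = 2 := by omega
    rw [this]
  have hle : Subgroup.centralizer ({s} : Set G) ≤ A := by
    intro x hx
    rw [← hC, Subgroup.mem_centralizer_iff]
    intro a ha
    have hxs : s * x = x * s := (Subgroup.mem_centralizer_iff.mp hx) s rfl
    have hAx : A ≤ Subgroup.centralizer ({x} : Set G) := by
      rw [← hBeq, hB]
      apply sup_le
      · rw [Subgroup.zpowers_le, Subgroup.mem_centralizer_iff]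
        rintro y rfl
        exact hxs.symm
      · exact Subgroup.center_le_centralizer _
    have := (Subgroup.mem_centralizer_iff.mp (hAx ha)) x rfl
    exact this.symm
  calc Nat.card (Subgroup.centralizer ({s} : Set G)) ≤ Nat.card A := Subgroup.card_le_of_le hle
    _ = p ^ 2 := hA

end mc

end Cfsg.Agent.Lib.helper4.MCP
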