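import Mathlib
import Cfsg.Agent.Lib.helper2.MI2.Defs

/-!
# MI2 row I1 (helper29): the generic index inequality `|K : S| * |Q : Q ∩ H| ≤ |Γ : H|`

Verbatim against `Cfsg/Agent/Lib/helper2/MI2/Skel.lean.txt`.
-/

set_option autoImplicit false
set_option linter.unusedVariables false
set_option linter.unusedSectionVars false

namespace Cfsg.Agent.Lib.helper2.MI2

open Matrix

variable {m : ℕ}

/-- **I1** [S-M] Generic.  `|K : S| * |Q : Q ∩ H| ≤ |Γ : H|`. -/
theorem index_ge_of_chain {Γ : Type*} [Group Γ] [Finite Γ] (H K S Q : Subgroup Γ)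
    (hQS : Q ≤ S) (hSK : S ≤ K) (hHS : H ⊓ K ≤ S) :
    S.relIndex K * H.relIndex Q ≤ H.index := by
  have hne : ∀ A B : Subgroup Γ, A.relIndex B ≠ 0 := fun A B => Subgroup.index_ne_zero_of_finite
  have h1 : H.relIndex K ≤ H.index := by
    have := Subgroup.relIndex_le_of_le_right (H := H) (le_top : K ≤ ⊤) (hne H ⊤)
    rwa [Subgroup.relIndex_top_right] at this
  have h2 : H.relIndex K = (H ⊓ K).relIndex S * S.relIndex K := by
    rw [Subgroup.relIndex_mul_relIndex _ _ _ hHS hSK, Subgroup.inf_relIndex_right]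
  have h3 : (H ⊓ K).relIndex S = H.relIndex S := by
    rw [← Subgroup.inf_relIndex_right (H ⊓ K) S, inf_assoc, inf_eq_right.mpr hSK,
      Subgroup.inf_relIndex_right]
  have h4 : H.relIndex Q ≤ H.relIndex S := Subgroup.relIndex_le_of_le_right hQS (hne H S)
  calc S.relIndex K * H.relIndex Q ≤ S.relIndex K * H.relIndex S := Nat.mul_le_mul_left _ h4
    _ = H.relIndex K := by rw [h2, h3, mul_comm]
    _ ≤ H.index := h1

end Cfsg.Agent.Lib.helper2.MI2
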