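import Mathlib
import Cfsg.Agent.Lib.helper2.MI2.Defs

/-!
# MI2 row I2 (helper29): `|Q_v| = 2^(2m-1)`

Verbatim against `Cfsg/Agent/Lib/helper2/MI2/Skel.lean.txt`.  Proof: with `ff v x₀ = 1`, the map
`w ↦ qe v (w + ff x₀ w • v) (ff x₀ w)` is a bijection from `v^⊥` onto `Qv v` (`qe_eq_iff`, `qe_add_self`).
-/

set_option autoImplicit false
set_option linter.unusedVariables false
set_option linter.unusedSectionVars false

namespace Cfsg.Agent.Lib.helper2.MI2

open Matrix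

variable {m : ℕ}

theorem mi2i2_z2a : ∀ a c : ZMod 2, a + (a + c) = c := by decide

theorem mi2i2_z2b : ∀ a c d e : ZMod 2, d + (a + c) * e + c * e = d + a * e := by decide

theorem mi2i2_ff_shift {v x₀ : V m} (hx : ff v x₀ = 1) (w : V m) :
    ff x₀ (w + ff x₀ w • v) = 0 := by
  rw [ff_add_right, ff_smul_right, ff_comm x₀ v, hx, mul_one, z2_add_self]

theorem mi2i2_perp_shift {v w : V m} (hw : ff v w = 0) (a : ZMod 2) : ff v (w + a • v) = 0 := by
  rw [ff_add_right, ff_smul_right, ff_self, mul_zero, hw, add_zero]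

theorem mi2i2_qe_shift {v w : V m} (hw : ff v w = 0) (a c : ZMod 2) :
    qe v (w + a • v) c = qe v w c := by
  rcases z2_cases a with rfl | rfl
  · rw [zero_smul, add_zero]
  · rw [one_smul, add_comm, qe_add_self hw]

/-- **I2** [M] `|Q_v| = 2^(2m-1)` (`hc` is S1 with `a = 0`). -/
theorem card_Qv {v : V m} (hv : v ≠ 0) (hc : Nat.card {w : V m | ff v w = 0} = 2 ^ (2 * m - 1)) :
    Nat.card (Qv v) = 2 ^ (2 * m - 1) := by
  obtain ⟨x₀, hx⟩ := exists_ff_eq_one hv
  have hx' : ff x₀ v = 1 := by rw [ff_comm]; exact hx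
  rw [← hc]
  symm
  let f : {w : V m | ff v w = 0} → Qv v := fun w =>
    ⟨qe v (w.1 + ff x₀ w.1 • v) (ff x₀ w.1), qe_mem_Qv (mi2i2_perp_shift w.2 _) _⟩
  refine Nat.card_congr (Equiv.ofBijective f ⟨?_, ?_⟩)
  · rintro ⟨w₁, h₁⟩ ⟨w₂, h₂⟩ he
    have he' : qe v (w₁ + ff x₀ w₁ • v) (ff x₀ w₁) = qe v (w₂ + ff x₀ w₂ • v) (ff x₀ w₂) :=
      congrArg Subtype.val he
    have h₁' : ff v w₁ = 0 := h₁
    have h₂' : ff v w₂ = 0 := h₂
    rw [qe_eq_iff hv (mi2i2_perp_shift h₁' _) (mi2i2_perp_shift h₂' _)] at he'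
    obtain ⟨hw, hcc⟩ := he'
    apply Subtype.ext
    show w₁ = w₂
    rcases hw with hw | hw
    · rw [hcc] at hw
      exact (add_right_cancel hw).symm
    · exfalso
      have := congrArg (ff x₀) hw
      rw [mi2i2_ff_shift hx, ff_add_right, mi2i2_ff_shift hx, hx', add_zero] at this
      exact zero_ne_one this
  · rintro ⟨g, w, c, hw, rfl⟩
    have hu : ff v (w + (ff x₀ w + c) • v) = 0 := mi2i2_perp_shift hw _
    refine ⟨⟨w + (ff x₀ w + c) • v, hu⟩, ?_⟩
    apply Subtype.ext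
    show qe v (w + (ff x₀ w + c) • v + ff x₀ (w + (ff x₀ w + c) • v) • v)
      (ff x₀ (w + (ff x₀ w + c) • v)) = qe v w c
    have e1 : ff x₀ (w + (ff x₀ w + c) • v) = c := by
      rw [ff_add_right, ff_smul_right, hx', mul_one]
      exact mi2i2_z2a _ _
    rw [e1]
    have e2 : w + (ff x₀ w + c) • v + c • v = w + ff x₀ w • v := by
      funext i
      simp only [Pi.add_apply, Pi.smul_apply, smul_eq_mul]
      exact mi2i2_z2b _ _ _ _
    rw [e2, mi2i2_qe_shift hw]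

end Cfsg.Agent.Lib.helper2.MI2
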