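import Mathlib
import Cfsg.Agent.Lib.helper2.MIDefs

/-!
# Project MI (S2140), piece MI-IIb: `no_Psi`

The data `PsiData` extracted from Case II is contradictory unless `(n, q) = (4, 2)`.
-/

set_option autoImplicit false
set_option linter.unusedSectionVars false
set_option linter.unusedVariables false

namespace Cfsg.Agent.Lib.Helper29.MI

open Matrix Cfsg.Agent.Lib.helper2.MI

variable {n : ℕ} {F : Type*} [Field F]

/-- the index `0` -/
def i0 (hn : 3 ≤ n) : Fin n := ⟨0, by omega⟩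
/-- the index `n - 1` -/
def iL (hn : 3 ≤ n) : Fin n := ⟨n - 1, by omega⟩

theorem e0_eq (hn : 3 ≤ n) : (e0 hn : Fin n → F) = Pi.single (i0 hn) 1 := rfl
theorem eL_eq (hn : 3 ≤ n) : (eL hn : Fin n → F) = Pi.single (iL hn) 1 := rfl

theorem i0_ne_iL (hn : 3 ≤ n) : i0 hn ≠ iL hn := by
  intro h
  have := congrArg Fin.val h
  simp only [i0, iL] at this
  omega

/-- `equiv` multiplied by `g` on the right: no inverse appears. -/
theorem equiv' (hn : 3 ≤ n) {Ψ : (Fin n → F) → (Fin n → F)} (h : PsiData hn Ψ)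
    (g : SpecialLinearGroup (Fin n) F) (α μ : F) (hα : g.1 *ᵥ e0 hn = α • e0 hn)
    (hμ : eL hn ᵥ* g.1 = μ • eL hn) (y : Fin n → F) (hy : eL hn ⬝ᵥ y = 0) :
    ∃ κ : F, Ψ (μ⁻¹ • (g.1 *ᵥ y)) ᵥ* g.1 = α • Ψ y + κ • eL hn := by
  obtain ⟨κ, hκ⟩ := h.equiv g α μ hα hμ y hy
  refine ⟨κ * μ, ?_⟩
  have hgg : (g⁻¹ : SpecialLinearGroup (Fin n) F).1 * g.1 = 1 := by
    have := inv_mul_cancel g
    exact congrArg Subtype.val this
  rw [hκ, Matrix.add_vecMul, Matrix.smul_vecMul, Matrix.smul_vecMul, Matrix.vecMul_vecMul, hgg,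
    Matrix.vecMul_one, hμ, smul_smul]

/-- `Ψ 0 = 0`. -/
theorem Psi_zero (hn : 3 ≤ n) {Ψ : (Fin n → F) → (Fin n → F)} (h : PsiData hn Ψ) : Ψ 0 = 0 := by
  have h0 : eL hn ⬝ᵥ (0 : Fin n → F) = 0 := dotProduct_zero _
  have h1 := h.add 0 0 h0 h0
  rw [add_zero, dotProduct_zero, zero_smul, add_zero] at h1
  have h2 : Ψ 0 + Ψ 0 = Ψ 0 + 0 := by rw [add_zero]; exact h1.symm
  exact add_left_cancel h2

theorem eL_dot_single (hn : 3 ≤ n) (m : Fin n) (hm : m ≠ iL hn) :
    eL hn ⬝ᵥ (Pi.single m (1 : F)) = 0 := by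
  rw [dotProduct_single, mul_one, eL_eq, Pi.single_eq_of_ne hm]

/-- if all middle coordinates of `Ψ e_m` vanish (`m` a middle index), contradiction. -/
theorem claimA (hn : 3 ≤ n) {Ψ : (Fin n → F) → (Fin n → F)} (h : PsiData hn Ψ)
    (m : Fin n) (hm0 : m ≠ i0 hn) (hmL : m ≠ iL hn)
    (hz : ∀ k : Fin n, k ≠ i0 hn → k ≠ iL hn → Ψ (Pi.single m 1) k = 0) : False := by
  have hy := eL_dot_single (F := F) hn m hmL
  have hp := h.perp_v _ hy
  rw [e0_eq, dotProduct_single, mul_one] at hp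
  have key : Ψ (Pi.single m 1) = (Ψ (Pi.single m 1) (iL hn)) • eL hn := by
    funext k
    rw [Pi.smul_apply, smul_eq_mul, eL_eq]
    by_cases hk0 : k = i0 hn
    · subst hk0
      rw [hp, Pi.single_eq_of_ne (i0_ne_iL hn), mul_zero]
    by_cases hkL : k = iL hn
    · subst hkL
      rw [Pi.single_eq_same, mul_one]
    · rw [hz k hk0 hkL, Pi.single_eq_of_ne hkL, mul_zero]
  obtain ⟨c, hc⟩ := h.inj _ hy ⟨_, key⟩
  have := congrFun hc m
  rw [Pi.single_eq_same, Pi.smul_apply, e0_eq, Pi.single_eq_of_ne hm0, smul_zero] at this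
  exact one_ne_zero this

/-- the elementary transvection `1 + E_ij` as an element of `SL_n`. -/
def el (i j : Fin n) (hij : i ≠ j) : SpecialLinearGroup (Fin n) F :=
  tv (Pi.single i 1) (Pi.single j 1) (by
    rw [single_dotProduct, one_mul, Pi.single_eq_of_ne (Ne.symm hij)])

theorem el_mulVec (i j : Fin n) (hij : i ≠ j) (x : Fin n → F) :
    (el (F := F) i j hij).1 *ᵥ x = x + x j • Pi.single i 1 := by
  change tvM _ _ *ᵥ x = _
  rw [tvM_mulVec, single_dotProduct, one_mul]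

theorem el_vecMul (i j : Fin n) (hij : i ≠ j) (x : Fin n → F) :
    x ᵥ* (el (F := F) i j hij).1 = x + x i • Pi.single j 1 := by
  change x ᵥ* tvM _ _ = _
  rw [tvM_vecMul, dotProduct_single, mul_one]

/-- Lemma B: `(Ψ e_m)_i = 0` whenever there is a middle `j ∉ {i, m}`. -/
theorem lemB (hn : 3 ≤ n) {Ψ : (Fin n → F) → (Fin n → F)} (h : PsiData hn Ψ)
    (i j m : Fin n) (hij : i ≠ j) (hj0 : j ≠ i0 hn) (hjL : j ≠ iL hn) (hiL : i ≠ iL hn)
    (hmj : m ≠ j) (hmL : m ≠ iL hn) : Ψ (Pi.single m 1) i = 0 := by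
  have hy := eL_dot_single (F := F) hn m hmL
  have hα : (el (F := F) i j hij).1 *ᵥ e0 hn = (1 : F) • e0 hn := by
    rw [el_mulVec, e0_eq, Pi.single_eq_of_ne hj0, zero_smul, add_zero, one_smul]
  have hμ : eL hn ᵥ* (el (F := F) i j hij).1 = (1 : F) • eL hn := by
    rw [el_vecMul, eL_eq, Pi.single_eq_of_ne hiL, zero_smul, add_zero, one_smul]
  obtain ⟨κ, hκ⟩ := equiv' hn h (el i j hij) 1 1 hα hμ _ hy
  rw [inv_one, one_smul, one_smul, el_mulVec, Pi.single_eq_of_ne (Ne.symm hmj), zero_smul, add_zero,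
    el_vecMul] at hκ
  have h1 := congrFun hκ j
  rw [Pi.add_apply, Pi.add_apply, Pi.smul_apply, Pi.smul_apply, Pi.single_eq_same, eL_eq,
    Pi.single_eq_of_ne hjL, smul_eq_mul, smul_eq_mul, mul_one, mul_zero, add_zero] at h1
  exact add_left_cancel (a := Ψ (Pi.single m 1) j) (by rw [add_zero]; exact h1)

/-- Lemma C: for middle `i ≠ j`: `(Ψ e_i)_j + (Ψ e_j)_i + (Ψ e_i)_i = 0`. -/
theorem lemC (hn : 3 ≤ n) {Ψ : (Fin n → F) → (Fin n → F)} (h : PsiData hn Ψ)
    (i j : Fin n) (hij : i ≠ j) (hj0 : j ≠ i0 hn) (hjL : j ≠ iL hn) (hiL : i ≠ iL hn) :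
    Ψ (Pi.single i 1) j + Ψ (Pi.single j 1) i + Ψ (Pi.single i 1) i = 0 := by
  have hyj := eL_dot_single (F := F) hn j hjL
  have hyi := eL_dot_single (F := F) hn i hiL
  have hα : (el (F := F) i j hij).1 *ᵥ e0 hn = (1 : F) • e0 hn := by
    rw [el_mulVec, e0_eq, Pi.single_eq_of_ne hj0, zero_smul, add_zero, one_smul]
  have hμ : eL hn ᵥ* (el (F := F) i j hij).1 = (1 : F) • eL hn := by
    rw [el_vecMul, eL_eq, Pi.single_eq_of_ne hiL, zero_smul, add_zero, one_smul]
  obtain ⟨κ, hκ⟩ := equiv' hn h (el i j hij) 1 1 hα hμ _ hyj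
  rw [inv_one, one_smul, one_smul, el_mulVec, Pi.single_eq_same, one_smul, el_vecMul,
    h.add _ _ hyj hyi] at hκ
  have h1 := congrFun hκ j
  simp only [Pi.add_apply, Pi.smul_apply, smul_eq_mul, eL_eq, Pi.single_eq_same,
    Pi.single_eq_of_ne hjL, Pi.single_eq_of_ne hiL, mul_zero, mul_one, add_zero] at h1
  linear_combination h1

/-- the diagonal `diag(λ^(1-n), λ, …, λ)`. -/
def dvec (hn : 3 ≤ n) (l : F) : Fin n → F :=
  fun k => if k = i0 hn then (l⁻¹) ^ (n - 1) else l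

theorem dvec_prod (hn : 3 ≤ n) (l : F) (hl : l ≠ 0) : ∏ k, dvec hn l k = 1 := by
  rw [← Finset.mul_prod_erase Finset.univ _ (Finset.mem_univ (i0 hn))]
  have h1 : ∏ k ∈ Finset.univ.erase (i0 hn), dvec hn l k = l ^ (n - 1) := by
    have h2 : ∀ k ∈ Finset.univ.erase (i0 hn), dvec hn l k = l := by
      intro k hk
      unfold dvec
      rw [if_neg (Finset.ne_of_mem_erase hk)]
    rw [Finset.prod_congr rfl h2, Finset.prod_const,
      Finset.card_erase_of_mem (Finset.mem_univ _), Finset.card_univ, Fintype.card_fin]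
  rw [h1]
  unfold dvec
  rw [if_pos rfl, ← mul_pow, inv_mul_cancel₀ hl, one_pow]

/-- the diagonal matrix as an element of `SL_n`. -/
def gD (hn : 3 ≤ n) (l : F) (hl : l ≠ 0) : SpecialLinearGroup (Fin n) F :=
  ⟨Matrix.diagonal (dvec hn l), by rw [Matrix.det_diagonal, dvec_prod hn l hl]⟩

/-- Lemma (i): `(Ψ e_m)_k * λ = λ^(1-n) * (Ψ e_m)_k` for middle `m`, `k`. -/
theorem lemD (hn : 3 ≤ n) {Ψ : (Fin n → F) → (Fin n → F)} (h : PsiData hn Ψ)
    (m k : Fin n) (hm0 : m ≠ i0 hn) (hmL : m ≠ iL hn) (hk0 : k ≠ i0 hn) (hkL : k ≠ iL hn)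
    (l : F) (hl : l ≠ 0) :
    Ψ (Pi.single m 1) k * l = (l⁻¹) ^ (n - 1) * Ψ (Pi.single m 1) k := by
  have hy := eL_dot_single (F := F) hn m hmL
  have hα : (gD hn l hl).1 *ᵥ e0 hn = ((l⁻¹) ^ (n - 1)) • e0 hn := by
    change Matrix.diagonal (dvec hn l) *ᵥ _ = _
    rw [e0_eq, Matrix.diagonal_mulVec_single, mul_one]
    unfold dvec
    rw [if_pos rfl, ← Pi.single_smul, smul_eq_mul, mul_one]
  have hμ : eL hn ᵥ* (gD hn l hl).1 = l • eL hn := by
    change _ ᵥ* Matrix.diagonal (dvec hn l) = _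
    rw [eL_eq, Matrix.single_vecMul_diagonal, one_mul]
    unfold dvec
    rw [if_neg (Ne.symm (i0_ne_iL hn)), ← Pi.single_smul, smul_eq_mul, mul_one]
  obtain ⟨κ, hκ⟩ := equiv' hn h (gD hn l hl) _ _ hα hμ _ hy
  have hgy : (gD hn l hl).1 *ᵥ (Pi.single m (1 : F)) = l • Pi.single m 1 := by
    change Matrix.diagonal (dvec hn l) *ᵥ _ = _
    rw [Matrix.diagonal_mulVec_single, mul_one]
    unfold dvec
    rw [if_neg hm0, ← Pi.single_smul, smul_eq_mul, mul_one]
  rw [hgy, smul_smul, inv_mul_cancel₀ hl, one_smul] at hκ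
  have h1 := congrFun hκ k
  change (Ψ (Pi.single m 1) ᵥ* Matrix.diagonal (dvec hn l)) k = _ at h1
  rw [Matrix.vecMul_diagonal, Pi.add_apply, Pi.smul_apply, Pi.smul_apply, eL_eq,
    Pi.single_eq_of_ne hkL, smul_eq_mul, smul_eq_mul, mul_zero, add_zero] at h1
  unfold dvec at h1
  rw [if_neg hk0] at h1
  exact h1

theorem fin_ne_of_val_ne {a b : Fin n} (h : a.val ≠ b.val) : a ≠ b := fun e => h (congrArg Fin.val e)

/-- **MI-IIb**: the data `PsiData` is contradictory unless `(n, q) = (4, 2)`. -/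
theorem no_Psi [Fintype F] (hn : 3 ≤ n) (hex : ¬ (n = 4 ∧ Fintype.card F = 2))
    (Ψ : (Fin n → F) → (Fin n → F)) (h : PsiData hn Ψ) : False := by
  have h1n : 1 < n := by omega
  obtain ⟨m, hmdef⟩ : ∃ m : Fin n, m = ⟨1, h1n⟩ := ⟨_, rfl⟩
  have hmv : m.val = 1 := by rw [hmdef]
  have hm0 : m ≠ i0 hn := fin_ne_of_val_ne (by rw [hmv]; simp [i0])
  have hmL : m ≠ iL hn := fin_ne_of_val_ne (by rw [hmv]; simp only [iL]; omega)
  have hy := eL_dot_single (F := F) hn m hmL
  rcases (by omega : n = 3 ∨ n = 4 ∨ 5 ≤ n) with h3 | h4 | h5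
  · -- n = 3
    have hmid : ∀ k : Fin n, k ≠ i0 hn → k ≠ iL hn → k = m := by
      intro k hk0 hkL
      apply Fin.ext
      have h1 : k.val ≠ 0 := fun e => hk0 (Fin.ext e)
      have h2 : k.val ≠ n - 1 := fun e => hkL (Fin.ext e)
      have := k.isLt
      rw [hmv]
      omega
    by_cases h2 : (2 : F) = 0
    · have hadd := h.add _ _ hy hy
      have e1 : (Pi.single m (1 : F) + Pi.single m 1 : Fin n → F) = 0 := by
        rw [← Pi.single_add, one_add_one_eq_two, h2, Pi.single_zero]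
      have e2 : Ψ (Pi.single m 1) + Ψ (Pi.single m 1) = 0 := by
        rw [← two_smul F, h2, zero_smul]
      rw [e1, Psi_zero hn h, e2, zero_add, dotProduct_single, mul_one] at hadd
      have h3' := congrFun hadd (iL hn)
      rw [Pi.zero_apply, Pi.smul_apply, eL_eq, Pi.single_eq_same, smul_eq_mul, mul_one] at h3'
      apply claimA hn h m hm0 hmL
      intro k hk0 hkL
      rw [hmid k hk0 hkL]
      exact h3'.symm
    · have hD := lemD hn h m m hm0 hmL hm0 hmL (-1) (by simp)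
      have hpow : ((-1 : F)⁻¹) ^ (n - 1) = 1 := by
        rw [h3]
        norm_num
      rw [hpow, one_mul, mul_neg_one] at hD
      have hx : Ψ (Pi.single m 1) m = 0 := by
        have h4 : (2 : F) * Ψ (Pi.single m 1) m = 0 := by linear_combination -hD
        exact (mul_eq_zero.mp h4).resolve_left h2
      apply claimA hn h m hm0 hmL
      intro k hk0 hkL
      rw [hmid k hk0 hkL]
      exact hx
  · -- n = 4
    have h2n : 2 < n := by omega
    obtain ⟨m', hm'def⟩ : ∃ m' : Fin n, m' = ⟨2, h2n⟩ := ⟨_, rfl⟩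
    have hm'v : m'.val = 2 := by rw [hm'def]
    have hm'0 : m' ≠ i0 hn := fin_ne_of_val_ne (by rw [hm'v]; simp [i0])
    have hm'L : m' ≠ iL hn := fin_ne_of_val_ne (by rw [hm'v]; simp only [iL]; omega)
    have hmm' : m ≠ m' := fin_ne_of_val_ne (by rw [hmv, hm'v]; omega)
    have hy' := eL_dot_single (F := F) hn m' hm'L
    have hmid : ∀ k : Fin n, k ≠ i0 hn → k ≠ iL hn → k = m ∨ k = m' := by
      intro k hk0 hkL
      have h1 : k.val ≠ 0 := fun e => hk0 (Fin.ext e)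
      have h2 : k.val ≠ n - 1 := fun e => hkL (Fin.ext e)
      have := k.isLt
      have : k.val = 1 ∨ k.val = 2 := by omega
      rcases this with e | e
      · left; exact Fin.ext (by rw [e, hmv])
      · right; exact Fin.ext (by rw [e, hm'v])
    have a11 : Ψ (Pi.single m 1) m = 0 := lemB hn h m m' m hmm' hm'0 hm'L hmL hmm' hmL
    have a22 : Ψ (Pi.single m' 1) m' = 0 :=
      lemB hn h m' m m' (Ne.symm hmm') hm0 hmL hm'L (Ne.symm hmm') hm'L
    have hs := h.symm _ _ hy hy'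
    rw [dotProduct_single, dotProduct_single, mul_one, mul_one] at hs
    have hC := lemC hn h m' m (Ne.symm hmm') hm0 hmL hm'L
    rw [a22, add_zero, ← hs] at hC
    have h2t : (2 : F) * Ψ (Pi.single m 1) m' = 0 := by linear_combination hC
    by_cases ht : Ψ (Pi.single m 1) m' = 0
    · apply claimA hn h m hm0 hmL
      intro k hk0 hkL
      rcases hmid k hk0 hkL with e | e
      · rw [e]; exact a11
      · rw [e]; exact ht
    · have h2 : (2 : F) = 0 := (mul_eq_zero.mp h2t).resolve_right ht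
      have hall : ∀ l : F, l ≠ 0 → l = 1 := by
        intro l hl
        have hD := lemD hn h m m' hm0 hmL hm'0 hm'L l hl
        have h5 : l = (l⁻¹) ^ (n - 1) := by
          have h6 : Ψ (Pi.single m 1) m' * l = Ψ (Pi.single m 1) m' * (l⁻¹) ^ (n - 1) := by
            rw [hD, mul_comm]
          exact mul_left_cancel₀ ht h6
        rw [h4] at h5
        have h7 : l ^ 4 = 1 := by
          have h8 : l ^ 4 = l * l ^ 3 := by ring
          rw [h8]
          nth_rewrite 1 [h5]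
          rw [← mul_pow, inv_mul_cancel₀ hl, one_pow]
        have h9 : (l + 1) ^ 4 = 0 := by
          have : (l + 1) ^ 4 = l ^ 4 + 1 + 2 * (2 * l ^ 3 + 3 * l ^ 2 + 2 * l) := by ring
          rw [this, h7, h2, zero_mul, add_zero, one_add_one_eq_two, h2]
        have h10 : l + 1 = 0 := by
          exact pow_eq_zero_iff (by norm_num) |>.mp h9
        have h11 : l = -1 := eq_neg_of_add_eq_zero_left h10
        have h12 : (-1 : F) = 1 := by
          have : (1 : F) + 1 = 0 := by rw [one_add_one_eq_two, h2]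
          exact neg_eq_of_add_eq_zero_left this
        rw [h11, h12]
      apply hex
      refine ⟨h4, ?_⟩
      rw [← Nat.card_eq_fintype_card, Nat.card_eq_two_iff]
      refine ⟨0, 1, zero_ne_one, ?_⟩
      ext x
      simp only [Set.mem_univ, Set.mem_insert_iff, Set.mem_singleton_iff, iff_true]
      by_cases hx : x = 0
      · left; exact hx
      · right; exact hall x hx
  · -- n ≥ 5
    have h2n : 2 < n := by omega
    have h3n : 3 < n := by omega
    apply claimA hn h m hm0 hmL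
    intro k hk0 hkL
    by_cases hk2 : k.val = 2
    · have hj0 : (⟨3, h3n⟩ : Fin n) ≠ i0 hn := fin_ne_of_val_ne (by simp [i0])
      have hjL : (⟨3, h3n⟩ : Fin n) ≠ iL hn := fin_ne_of_val_ne (by simp only [iL]; omega)
      exact lemB hn h k ⟨3, h3n⟩ m (fin_ne_of_val_ne (by rw [hk2]; simp)) hj0 hjL hkL
        (fin_ne_of_val_ne (by rw [hmv]; simp)) hmL
    · have hj0 : (⟨2, h2n⟩ : Fin n) ≠ i0 hn := fin_ne_of_val_ne (by simp [i0])
      have hjL : (⟨2, h2n⟩ : Fin n) ≠ iL hn := fin_ne_of_val_ne (by simp only [iL]; omega)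
      exact lemB hn h k ⟨2, h2n⟩ m (fin_ne_of_val_ne (by simpa using hk2)) hj0 hjL hkL
        (fin_ne_of_val_ne (by rw [hmv]; simp)) hmL

end Cfsg.Agent.Lib.Helper29.MI
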