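import Mathlib
import Cfsg.Agent.Lib.Helper27.MSS.Base
import Cfsg.Agent.Lib.Helper29.MSSQDTA
import Cfsg.Agent.Lib.Helper29.MSSQDTB
import Cfsg.Agent.Lib.helper14.Quat

/-!
Project MSS (S5287), piece MQ (core) : the generalized quaternion groups have a bad model inside
`SL₂(q)`, given the data `GLData q (j + 2)` and the order of `SL₂(q)`.
-/

set_option autoImplicit false

namespace Cfsg.Agent.Lib.Helper27.MSS

open Cfsg Cfsg.FusionSystem Cfsg.Agent.Lib.Helper26 Cfsg.Agent.Lib.Helper27.AbInvNeg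

theorem mssmq_core (j : ℕ) (hj : 2 ≤ j) (q : ℕ) [Fact q.Prime] (D : GLData q (j + 2))
    (hcard : ∃ m : ℕ, Odd m ∧ Nat.card (MonoidHom.ker
      (Matrix.GeneralLinearGroup.det : GL (Fin 2) (ZMod q) →* (ZMod q)ˣ)) = 2 ^ (j + 2) * m) :
    HasBadModel 2 (QuaternionGroup (2 ^ j)) := by
  have hk3 : 3 ≤ j + 2 := by omega
  have hr := D.hr
  have hs := D.hs
  have hrs := D.hrs
  have hss : D.s * D.s = 1 := by rw [← pow_two, hs]
  have e1 : j + 2 - 1 = j + 1 := by omega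
  rw [e1] at hrs
  set r := D.r with hrdef
  set s := D.s with hsdef
  set c := 2 ^ (j + 1) - 1 with hc
  have hcpos : 1 ≤ 2 ^ (j + 1) := Nat.one_le_two_pow
  have hrn : r ^ 2 ^ (j + 2) = 1 := by rw [← hr]; exact pow_orderOf_eq_one r
  -- the ambient group
  let SL : Subgroup (GL (Fin 2) (ZMod q)) := MonoidHom.ker
    (Matrix.GeneralLinearGroup.det : GL (Fin 2) (ZMod q) →* (ZMod q)ˣ)
  have htmem : r ^ 2 ∈ SL := by
    rw [MonoidHom.mem_ker, map_pow, D.hdet_r, neg_one_sq]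
  have hwmem : r * s ∈ SL := by
    rw [MonoidHom.mem_ker, map_mul, D.hdet_r, D.hdet_s, neg_mul_neg, one_mul]
  have hgmem : D.g ∈ SL := MonoidHom.mem_ker.mpr D.hdet_g
  let t : ↥SL := ⟨r ^ 2, htmem⟩
  let w : ↥SL := ⟨r * s, hwmem⟩
  let g : ↥SL := ⟨D.g, hgmem⟩
  -- the quaternion relations
  have hord : orderOf t = 2 * 2 ^ j := by
    rw [Subgroup.orderOf_mk, orderOf_pow' r (by norm_num : (2 : ℕ) ≠ 0), hr]
    have h2 : (2 : ℕ) ^ (j + 2) = 2 * 2 ^ (j + 1) := by ring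
    have hg2 : Nat.gcd (2 ^ (j + 2)) 2 = 2 := Nat.gcd_eq_right ⟨2 ^ (j + 1), h2⟩
    rw [hg2, h2, Nat.mul_div_cancel_left _ (by norm_num : 0 < 2)]
    ring
  have hsr : s * r = r ^ c * s := by
    have := mssqdta_swap c hrs 1
    rwa [pow_one, mul_one] at this
  have hw2 : (r * s) * (r * s) = r ^ 2 ^ (j + 1) := by
    calc (r * s) * (r * s) = r * (s * r) * s := by group
      _ = r * (r ^ c * s) * s := by rw [hsr]
      _ = r ^ (1 + c) * (s * s) := by rw [pow_add, pow_one]; group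
      _ = r ^ 2 ^ (j + 1) := by
        rw [hss, mul_one]
        congr 1
        omega
  have hw : w * w = t ^ 2 ^ j := by
    apply Subtype.ext
    show (r * s) * (r * s) = (r ^ 2) ^ 2 ^ j
    rw [hw2, ← pow_mul]
    congr 1
    ring
  have hconj2 : s * r ^ 2 * s⁻¹ = r ^ (c * 2) := mssqdta_conj_pow c hrs 2
  have hwt : w * t * w⁻¹ = t⁻¹ := by
    apply Subtype.ext
    show (r * s) * r ^ 2 * (r * s)⁻¹ = (r ^ 2)⁻¹
    have h1 : (r * s) * r ^ 2 * (r * s)⁻¹ = r * (s * r ^ 2 * s⁻¹) * r⁻¹ := by group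
    rw [h1, hconj2]
    apply eq_inv_of_mul_eq_one_left
    have h2 : r * r ^ (c * 2) * r⁻¹ * r ^ 2 = r ^ (c * 2 + 2) := by
      rw [pow_add]
      group
    rw [h2]
    have h3 : c * 2 + 2 = 2 ^ (j + 2) := by
      have : (2 : ℕ) ^ (j + 2) = 2 * 2 ^ (j + 1) := by ring
      omega
    rw [h3, hrn]
  obtain ⟨hQcard, ⟨eQ⟩⟩ := Cfsg.Agent.Lib.helper14.quaternion_closure (2 ^ j) Nat.one_le_two_pow
    t w hord hw hwt
  set Q : Subgroup ↥SL := Subgroup.closure ({t, w} : Set ↥SL) with hQ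
  have htQ : t ∈ Q := Subgroup.subset_closure (by simp)
  have hwQ : w ∈ Q := Subgroup.subset_closure (by simp)
  -- `Q` is a Sylow `2`-subgroup
  have hQcard' : Nat.card Q = 2 ^ (j + 2) := by
    rw [hQcard]; ring
  have hQp : IsPGroup 2 Q := IsPGroup.of_card hQcard'
  obtain ⟨m, hm, hSL⟩ := hcard
  have hidx : Q.index = m := by
    have h1 := Subgroup.card_mul_index Q
    rw [hQcard'] at h1
    have h2 : Nat.card ↥SL = 2 ^ (j + 2) * m := hSL
    rw [h2] at h1
    exact Nat.eq_of_mul_eq_mul_left (by positivity) h1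
  have hndvd : ¬ 2 ∣ Q.index := by
    rw [hidx]
    exact hm.not_two_dvd_nat
  have : Fact (Nat.Prime 2) := ⟨Nat.prime_two⟩
  let T : Sylow 2 ↥SL := hQp.toSylow hndvd
  have hTQ : (T : Subgroup ↥SL) = Q := rfl
  -- the elements
  let a : ↥SL := t ^ 2 ^ (j - 1)
  let b : ↥SL := a * w
  have haQ : a ∈ Q := Subgroup.pow_mem _ htQ _
  have hbQ : b ∈ Q := Subgroup.mul_mem _ haQ hwQ
  have haval : (a : GL (Fin 2) (ZMod q)) = r ^ 2 ^ j := by
    show (r ^ 2) ^ 2 ^ (j - 1) = r ^ 2 ^ j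
    rw [← pow_mul]
    congr 1
    obtain ⟨i, rfl⟩ : ∃ i, j = i + 1 := ⟨j - 1, by omega⟩
    rw [Nat.add_sub_cancel]
    ring
  -- every element of `Q` lies in `⟨r, s⟩`
  have hQle : ∀ y ∈ Q, (y : GL (Fin 2) (ZMod q)) ∈ Subgroup.closure ({r, s} : Set _) := by
    have hle : Q ≤ (Subgroup.closure ({r, s} : Set (GL (Fin 2) (ZMod q)))).comap SL.subtype := by
      rw [hQ, Subgroup.closure_le]
      intro x hx
      rcases hx with rfl | hx
      · show r ^ 2 ∈ Subgroup.closure ({r, s} : Set (GL (Fin 2) (ZMod q)))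
        exact Subgroup.pow_mem _ (Subgroup.subset_closure (by simp)) _
      · rw [Set.mem_singleton_iff] at hx
        subst hx
        show r * s ∈ Subgroup.closure ({r, s} : Set (GL (Fin 2) (ZMod q)))
        exact Subgroup.mul_mem _ (Subgroup.subset_closure (by simp))
          (Subgroup.subset_closure (by simp))
    intro y hy
    exact hle hy
  have hnm : s ∉ Subgroup.zpowers r := by
    apply qdt_not_mem hk3 hr
    rw [e1]
    exact hrs
  refine ⟨↥SL, inferInstance, inferInstance, T, a, b, g, ⟨eQ.symm⟩, haQ, hbQ, ?_, ?_, ?_⟩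
  · -- conjugation
    apply Subtype.ext
    show D.g * (a : GL (Fin 2) (ZMod q)) * (D.g)⁻¹ = (a : GL (Fin 2) (ZMod q)) * (r * s)
    rw [haval]
    have := D.hg
    rw [show j + 2 - 2 = j by omega] at this
    exact this
  · -- `a` is a square
    refine ⟨t ^ 2 ^ (j - 2), Subgroup.pow_mem _ htQ _, ?_⟩
    show (t ^ 2 ^ (j - 2)) ^ 2 = t ^ 2 ^ (j - 1)
    rw [← pow_mul]
    congr 1
    obtain ⟨i, rfl⟩ : ∃ i, j = i + 2 := ⟨j - 2, by omega⟩
    rw [Nat.add_sub_cancel, show i + 2 - 1 = i + 1 by omega]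
    ring
  · -- `b` is not a square
    intro y hy hyb
    have h1 : (y : GL (Fin 2) (ZMod q)) ^ 2 ∈ Subgroup.zpowers r := by
      apply qdt_sq hk3 hr hs _ _ (hQle y hy)
      rw [e1]
      exact hrs
    have h2 : (y : GL (Fin 2) (ZMod q)) ^ 2 = r ^ 2 ^ j * (r * s) := by
      have := congrArg (fun z : ↥SL => (z : GL (Fin 2) (ZMod q))) hyb
      simp only [Subgroup.coe_pow] at this
      rw [this]
      show (a : GL (Fin 2) (ZMod q)) * (r * s) = _
      rw [haval]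
    rw [h2] at h1
    apply hnm
    have h3 : s = (r ^ (2 ^ j + 1))⁻¹ * (r ^ 2 ^ j * (r * s)) := by
      rw [pow_add, pow_one]
      group
    rw [h3]
    exact Subgroup.mul_mem _ (Subgroup.inv_mem _ (Subgroup.npow_mem_zpowers r _)) h1

end Cfsg.Agent.Lib.Helper27.MSS
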