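import Mathlib
import Cfsg.Agent.Lib.Helper27.MSS.Base
import Cfsg.Agent.Lib.Helper29.MSSMQcore
import Cfsg.Agent.Lib.Helper22.MSSNT
import Cfsg.Agent.Lib.Helper1.MSSCARD2
import Cfsg.Agent.Lib.Helper27.MSSDATA

/-!
Project MSS (S5287), piece MQ : `badModel_quat`.
-/

set_option autoImplicit false

namespace Cfsg.Agent.Lib.Helper27.MSS

open Cfsg Cfsg.FusionSystem Cfsg.Agent.Lib.Helper26 Cfsg.Agent.Lib.Helper27.AbInvNeg

/-- MQ -/
theorem badModel_quat (j : ℕ) (hj : 2 ≤ j) : HasBadModel 2 (QuaternionGroup (2 ^ j)) := by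
  have hk : 3 ≤ j + 2 := by omega
  obtain ⟨q, hqp, hq⟩ := exists_prime_mod (j + 2) hk
  have : Fact q.Prime := ⟨hqp⟩
  obtain ⟨D⟩ := exists_glData q (j + 2) hk hq
  exact mssmq_core j hj q D (card_sl_two q (j + 2) hk hq)

end Cfsg.Agent.Lib.Helper27.MSS
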