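import Cfsg.Agent.Lib.Helper28.N5400CENTFIX

/-!
# N5400 / CENT: `cent_P` (statement verbatim from `Helper10/N5400/Skel.lean.txt`), via `n5400cent_aux29` (CENTFIX as a hypothesis) + helper28's `cent_fix`

`z` of order 3 normalising `P` (order 25) and `Q`, `|P ⊓ Q| = 5`: `z` centralises `P`.
CENTFIX for `D = P ⊓ Q`: `|C_D(z)| ∣ 5`, `≡ 2 mod 3`: `= 5`, `D ≤ C(z)`; CENTFIX for `P`: `|C_P(z)| ∣ 25`, `5 ∣ |C_P(z)|`, `≡ 1 mod 3`: `= 25`.
-/

set_option autoImplicit false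
set_option linter.unusedVariables false
set_option linter.unusedSectionVars false

namespace Cfsg.Agent.Lib.Helper10.N5400

open Classical

universe u

variable {G : Type u} [Group G] [Finite G]

/-- CENT with CENTFIX as a hypothesis. -/
theorem n5400cent_aux29
    (hcf : ∀ (z : G), z ^ 3 = 1 → ∀ K : Subgroup G, (∀ x ∈ K, z * x * z⁻¹ ∈ K) →
      Nat.card ↥(K ⊓ Subgroup.centralizer ({z} : Set G)) ≡ Nat.card ↥K [MOD 3])
    (P Q : Sylow 5 G) (hP : Nat.card ↥(P : Subgroup G) = 25)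
    (hD : Nat.card ↥((P : Subgroup G) ⊓ (Q : Subgroup G)) = 5) (z : G) (hz : orderOf z = 3)
    (hzP : z ∈ Subgroup.normalizer ((P : Subgroup G) : Set G))
    (hzQ : z ∈ Subgroup.normalizer ((Q : Subgroup G) : Set G)) :
    z ∈ Subgroup.centralizer ((P : Subgroup G) : Set G) := by
  have hz3 : z ^ 3 = 1 := by rw [← hz]; exact pow_orderOf_eq_one z
  have hnP : ∀ x ∈ (P : Subgroup G), z * x * z⁻¹ ∈ (P : Subgroup G) := fun x hx =>
    (Subgroup.mem_normalizer_iff.mp hzP x).mp hx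
  have hnQ : ∀ x ∈ (Q : Subgroup G), z * x * z⁻¹ ∈ (Q : Subgroup G) := fun x hx =>
    (Subgroup.mem_normalizer_iff.mp hzQ x).mp hx
  have hnD : ∀ x ∈ (P : Subgroup G) ⊓ (Q : Subgroup G),
      z * x * z⁻¹ ∈ (P : Subgroup G) ⊓ (Q : Subgroup G) := fun x hx =>
    Subgroup.mem_inf.mpr ⟨hnP x (Subgroup.mem_inf.mp hx).1, hnQ x (Subgroup.mem_inf.mp hx).2⟩
  -- D ≤ C(z)
  have h1 := hcf z hz3 _ hnD
  rw [hD] at h1
  have h1d : Nat.card ↥(((P : Subgroup G) ⊓ (Q : Subgroup G)) ⊓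
      Subgroup.centralizer ({z} : Set G)) ∣ 5 := by
    have h := Subgroup.card_dvd_of_le (inf_le_left :
      ((P : Subgroup G) ⊓ (Q : Subgroup G)) ⊓ Subgroup.centralizer ({z} : Set G) ≤
        (P : Subgroup G) ⊓ (Q : Subgroup G))
    rwa [hD] at h
  have h1c : Nat.card ↥(((P : Subgroup G) ⊓ (Q : Subgroup G)) ⊓
      Subgroup.centralizer ({z} : Set G)) = 5 := by
    rcases (Nat.dvd_prime (by norm_num : Nat.Prime 5)).mp h1d with h | h
    · rw [h] at h1
      exact absurd h1 (by decide)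
    · exact h
  have hDle : (P : Subgroup G) ⊓ (Q : Subgroup G) ≤ Subgroup.centralizer ({z} : Set G) := by
    have heq : ((P : Subgroup G) ⊓ (Q : Subgroup G)) ⊓ Subgroup.centralizer ({z} : Set G) =
        (P : Subgroup G) ⊓ (Q : Subgroup G) :=
      Subgroup.eq_of_le_of_card_ge inf_le_left (by rw [h1c, hD])
    rw [← heq]
    exact inf_le_right
  -- P ≤ C(z)
  have h2 := hcf z hz3 _ hnP
  rw [hP] at h2
  have h2d : Nat.card ↥((P : Subgroup G) ⊓ Subgroup.centralizer ({z} : Set G)) ∣ 5 ^ 2 := by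
    have h := Subgroup.card_dvd_of_le (inf_le_left :
      (P : Subgroup G) ⊓ Subgroup.centralizer ({z} : Set G) ≤ (P : Subgroup G))
    rw [hP] at h
    exact h
  have h2five : 5 ∣ Nat.card ↥((P : Subgroup G) ⊓ Subgroup.centralizer ({z} : Set G)) := by
    have h := Subgroup.card_dvd_of_le (le_inf inf_le_left hDle :
      (P : Subgroup G) ⊓ (Q : Subgroup G) ≤ (P : Subgroup G) ⊓ Subgroup.centralizer ({z} : Set G))
    rwa [hD] at h
  have h2c : Nat.card ↥((P : Subgroup G) ⊓ Subgroup.centralizer ({z} : Set G)) = 25 := by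
    obtain ⟨k, hk, hk'⟩ := (Nat.dvd_prime_pow (by norm_num : Nat.Prime 5)).mp h2d
    interval_cases k
    · rw [hk'] at h2five
      exact absurd h2five (by decide)
    · rw [hk'] at h2
      exact absurd h2 (by decide)
    · rw [hk']
      norm_num
  have hPle : (P : Subgroup G) ≤ Subgroup.centralizer ({z} : Set G) := by
    have heq : (P : Subgroup G) ⊓ Subgroup.centralizer ({z} : Set G) = (P : Subgroup G) :=
      Subgroup.eq_of_le_of_card_ge inf_le_left (by rw [h2c, hP])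
    rw [← heq]
    exact inf_le_right
  rw [Subgroup.mem_centralizer_iff]
  intro x hx
  have hxz := hPle hx
  rw [Subgroup.mem_centralizer_iff] at hxz
  exact (hxz z (Set.mem_singleton z)).symm

/-- CENT [S-M]: `z` of order 3 normalising `P` (order 25) and `Q`, `|P ⊓ Q| = 5`: `z` centralises `P`.
(CENTFIX for `K = P ⊓ Q` (`z x z⁻¹ ∈ P ⊓ Q`: `Subgroup.mem_normalizer_iff`): `|C_D(z)| ∣ 5`, `≡ 2 mod 3`: `= 5`, so `D ≤ C(z)`; CENTFIX for `K = P`: `|C_P(z)| ∣ 25`, `≥ 5`, `≡ 1 mod 3`: `= 25`, `P ≤ C(z)`.) -/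
theorem cent_P (P Q : Sylow 5 G) (hP : Nat.card ↥(P : Subgroup G) = 25)
    (hD : Nat.card ↥((P : Subgroup G) ⊓ (Q : Subgroup G)) = 5) (z : G) (hz : orderOf z = 3)
    (hzP : z ∈ Subgroup.normalizer ((P : Subgroup G) : Set G)) (hzQ : z ∈ Subgroup.normalizer ((Q : Subgroup G) : Set G)) :
    z ∈ Subgroup.centralizer ((P : Subgroup G) : Set G) :=
  n5400cent_aux29 (fun z hz K hK => cent_fix z hz K hK) P Q hP hD z hz hzP hzQ

end Cfsg.Agent.Lib.Helper10.N5400
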