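import Mathlib
import Cfsg.Agent.Lib.helper8.OME.Defs
import Cfsg.Agent.Lib.Helper29.OPEARITHcore

set_option autoImplicit false
set_option linter.unusedVariables false
set_option linter.unusedSectionVars false

/-!
# Project OME (S5990; designer helper8), row ARITHSUFF: a copy of `ome_arith_suff` under the name `omearithsuff_h29` (helper29).
Twin of Helper29/OPEARITHSUFF.lean.
-/

namespace Cfsg.Agent.Lib.helper8.OME

open Cfsg.Agent.Lib.Helper18.OPE

/-- ARITHSUFF (same statement as `ome_arith_suff` of the Skel) -/
theorem omearithsuff_h29 (i c d m : ℕ) (hi1 : 1 ≤ i) (hc : c = if Even i then i else 2 * i)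
    (hme : Even m) (hm : 2 ≤ m) (hmn : m + 2 ≤ 2 * d) (hR : RM i c d m)
    (A : ℕ) (hA1 : 1 ≤ A) (hA : c * A ≤ 2 * d) (hAs : c * A = 2 * d → sg i A = -1) :
    Fits c i (-1) d m (-1) A := by
  have hc1 : 1 ≤ c := by
    rw [hc]; split_ifs <;> omega
  have hmM : c * (m / c) + m % c = m := Nat.div_add_mod m c
  have hl : m % c < c := Nat.mod_lt _ hc1
  have hnN : c * (2 * d / c) + (2 * d) % c = 2 * d := Nat.div_add_mod (2 * d) c
  have hk : (2 * d) % c < c := Nat.mod_lt _ hc1
  have hAN : A ≤ 2 * d / c := by
    by_contra hcon
    have : c * (2 * d / c + 1) ≤ c * A := Nat.mul_le_mul_left _ (not_le.mp hcon)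
    rw [Nat.mul_succ] at this
    omega
  have hcAN : c * A ≤ c * (2 * d / c) := Nat.mul_le_mul_left _ hAN
  have hA3 : c * (A - 1) + c = c * A := by
    rw [← Nat.mul_succ]; congr 1; omega
  by_cases hAm : c * A ≤ m
  · by_cases hlt : c * A < m
    · exact ⟨A, le_rfl, hAm, Or.inr (Or.inl ⟨hlt, by omega⟩)⟩
    · have hmA : m = c * A := by omega
      have hMA : m / c = A := by rw [hmA]; exact Nat.mul_div_cancel_left _ hc1
      have hl0 : m % c = 0 := by rw [hmA]; exact Nat.mul_mod_right _ _
      have hAltN' : (2 * d) % c = 0 → A < 2 * d / c := by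
        intro hk0
        by_contra hcon
        have : c * (2 * d / c) ≤ c * A := Nat.mul_le_mul_left _ (not_lt.mp hcon)
        omega
      by_cases hie : Even i
      · by_cases hAo : Odd A
        · refine ⟨A, le_rfl, hAm, Or.inl ⟨hmA, ?_⟩⟩
          rw [opearith_sg_even hie, hAo.neg_one_pow]
        · have hAe : Even A := Nat.not_odd_iff_even.mp hAo
          rw [if_pos hie] at hc
          subst hc
          have hRM : (2 * d) % c = 0 ∧ Even (2 * d / c) := by
            unfold RM at hR
            rcases hR with ⟨hio, _⟩ | ⟨_, hR⟩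
            · exact absurd hie (Nat.not_even_iff_odd.mpr hio)
            · rcases hR with ⟨hk0, hN | ⟨_, hMo⟩⟩ | ⟨hk0, _, hR⟩
              · exact ⟨hk0, hN⟩
              · rw [hMA] at hMo; exact absurd hAe (Nat.not_even_iff_odd.mpr hMo)
              · rcases hR with ⟨h1, _⟩ | ⟨_, hMo⟩ | ⟨h1, _⟩
                · omega
                · rw [hMA] at hMo; exact absurd hAe (Nat.not_even_iff_odd.mpr hMo)
                · omega
          obtain ⟨hk0, hNe⟩ := hRM
          have hAltN := hAltN' hk0
          have hNA : A + 2 ≤ 2 * d / c := by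
            obtain ⟨a', ha'⟩ := hAe
            obtain ⟨n', hn'⟩ := hNe
            omega
          have h2 : c * (A + 2) ≤ c * (2 * d / c) := Nat.mul_le_mul_left _ hNA
          rw [Nat.mul_add] at h2
          refine ⟨A - 1, Nat.sub_le _ _, by omega, Or.inr (Or.inl ⟨by omega, by omega⟩)⟩
      · have hio := Nat.not_even_iff_odd.mp hie
        have hk0 : (2 * d) % c = 0 := by
          unfold RM at hR
          rcases hR with ⟨_, hk0 | ⟨_, h1, _⟩⟩ | ⟨hie', _⟩
          · exact hk0
          · omega
          · exact absurd hie' hie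
        have hAltN := hAltN' hk0
        have h2 : c * (A + 1) ≤ c * (2 * d / c) := Nat.mul_le_mul_left _ hAltN
        rw [Nat.mul_succ] at h2
        by_cases hcf : c * A + c = c * (2 * d / c)
        · refine ⟨A - 1, Nat.sub_le _ _, by omega, Or.inr (Or.inr ⟨by omega, by omega, ?_⟩)⟩
          rw [opearith_sg_odd hie, opearith_sg_odd hie]
        · refine ⟨A - 1, Nat.sub_le _ _, by omega, Or.inr (Or.inl ⟨by omega, by omega⟩)⟩
  · have hMA : m / c < A := by
      by_contra hcon
      have : c * A ≤ c * (m / c) := Nat.mul_le_mul_left _ (not_lt.mp hcon)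
      omega
    have hcMA : c * (m / c) + c ≤ c * A := by
      have : c * (m / c + 1) ≤ c * A := Nat.mul_le_mul_left _ hMA
      rw [Nat.mul_succ] at this
      exact this
    by_cases hie : Even i
    · rw [if_pos hie] at hc
      subst hc
      unfold RM at hR
      rcases hR with ⟨hio, _⟩ | ⟨_, hR⟩
      · exact absurd hie (Nat.not_even_iff_odd.mpr hio)
      rcases hR with ⟨hk0, hN | ⟨hl0, hMo⟩⟩ | ⟨hk0, him, hR⟩
      · have hAne : A ≠ 2 * d / c := by
          intro h
          have h1 := hAs (by rw [h]; omega)
          rw [opearith_sg_even hie, h, hN.neg_one_pow] at h1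
          norm_num at h1
        have hAlt : A + 1 ≤ 2 * d / c := by omega
        have hcAN' : c * A + c ≤ c * (2 * d / c) := by
          have : c * (A + 1) ≤ c * (2 * d / c) := Nat.mul_le_mul_left _ hAlt
          rw [Nat.mul_succ] at this
          exact this
        by_cases hl0 : m % c = 0
        · by_cases hMo : Odd (m / c)
          · refine ⟨m / c, hMA.le, by omega, Or.inl ⟨by omega, ?_⟩⟩
            rw [opearith_sg_even hie, hMo.neg_one_pow]
          · have hMe : Even (m / c) := Nat.not_odd_iff_even.mp hMo
            have hM1 : 1 ≤ m / c := by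
              rcases Nat.eq_zero_or_pos (m / c) with h | h
              · rw [h] at hmM; omega
              · exact h
            have h3 : c * (m / c - 1) + c = c * (m / c) := by
              rw [← Nat.mul_succ]; congr 1; omega
            by_cases hcf : c * A + c = c * (2 * d / c)
            · have hAN1 : A + 1 = 2 * d / c := by
                have : c * (A + 1) = c * (2 * d / c) := by rw [Nat.mul_succ]; exact hcf
                exact Nat.eq_of_mul_eq_mul_left hc1 this
              have hAo : Odd A := by
                rw [← hAN1] at hN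
                rcases Nat.even_or_odd A with h | h
                · exact absurd hN (Nat.not_even_iff_odd.mpr (h.add_odd odd_one))
                · exact h
              have hM1o : Odd (m / c - 1) := by
                obtain ⟨t, ht⟩ := hMe
                exact ⟨t - 1, by omega⟩
              refine ⟨m / c - 1, by omega, by omega, Or.inr (Or.inr ⟨by omega, by omega, ?_⟩)⟩
              rw [opearith_sg_even hie, opearith_sg_even hie, hAo.neg_one_pow, hM1o.neg_one_pow]
            · refine ⟨m / c - 1, by omega, by omega, Or.inr (Or.inl ⟨by omega, by omega⟩)⟩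
        · exact ⟨m / c, hMA.le, by omega, Or.inr (Or.inl ⟨by omega, by omega⟩)⟩
      · refine ⟨m / c, hMA.le, by omega, Or.inl ⟨by omega, ?_⟩⟩
        rw [opearith_sg_even hie, hMo.neg_one_pow]
      · rcases hR with ⟨hl0, hlk⟩ | ⟨hl0, hMo⟩ | ⟨hlk, hNM⟩
        · exact ⟨m / c, hMA.le, by omega, Or.inr (Or.inl ⟨by omega, by omega⟩)⟩
        · refine ⟨m / c, hMA.le, by omega, Or.inl ⟨by omega, ?_⟩⟩
          rw [opearith_sg_even hie, hMo.neg_one_pow]
        · by_cases hcf : c * A = c * (2 * d / c)
          · have hAN' : A = 2 * d / c := Nat.eq_of_mul_eq_mul_left hc1 hcf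
            have hNMeq : (2 * d + m - 2 * ((2 * d) % c)) / c = 2 * d / c + m / c := by
              have : 2 * d + m - 2 * ((2 * d) % c) = c * (2 * d / c + m / c) := by
                rw [Nat.mul_add]; omega
              rw [this]
              exact Nat.mul_div_cancel_left _ hc1
            rw [hNMeq] at hNM
            have hiff := Nat.even_add.mp hNM
            refine ⟨m / c, hMA.le, by omega, Or.inr (Or.inr ⟨by omega, by omega, ?_⟩)⟩
            rw [opearith_sg_even hie, opearith_sg_even hie, hAN']
            rcases Nat.even_or_odd (m / c) with hM | hM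
            · rw [hM.neg_one_pow, (hiff.mpr hM).neg_one_pow]
            · have hNo : Odd (2 * d / c) := by
                by_contra hne
                exact (Nat.not_even_iff_odd.mpr hM) (hiff.mp (Nat.not_odd_iff_even.mp hne))
              rw [hM.neg_one_pow, hNo.neg_one_pow]
          · exact ⟨m / c, hMA.le, by omega, Or.inr (Or.inl ⟨by omega, by omega⟩)⟩
    · have hio := Nat.not_even_iff_odd.mp hie
      unfold RM at hR
      rcases hR with ⟨_, hR⟩ | ⟨hie', _⟩
      swap
      · exact absurd hie' hie
      rcases hR with hk0 | ⟨hcm, hl0, hlk⟩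
      · have hAne : A ≠ 2 * d / c := by
          intro h
          have h1 := hAs (by rw [h]; omega)
          rw [opearith_sg_odd hie] at h1
          norm_num at h1
        have hAlt : A + 1 ≤ 2 * d / c := by omega
        have hcAN' : c * A + c ≤ c * (2 * d / c) := by
          have : c * (A + 1) ≤ c * (2 * d / c) := Nat.mul_le_mul_left _ hAlt
          rw [Nat.mul_succ] at this
          exact this
        by_cases hl0 : m % c = 0
        · have hM1 : 1 ≤ m / c := by
            rcases Nat.eq_zero_or_pos (m / c) with h | h
            · rw [h] at hmM; omega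
            · exact h
          have h3 : c * (m / c - 1) + c = c * (m / c) := by
            rw [← Nat.mul_succ]; congr 1; omega
          by_cases hcf : c * A + c = c * (2 * d / c)
          · refine ⟨m / c - 1, by omega, by omega, Or.inr (Or.inr ⟨by omega, by omega, ?_⟩)⟩
            rw [opearith_sg_odd hie, opearith_sg_odd hie]
          · refine ⟨m / c - 1, by omega, by omega, Or.inr (Or.inl ⟨by omega, by omega⟩)⟩
        · exact ⟨m / c, hMA.le, by omega, Or.inr (Or.inl ⟨by omega, by omega⟩)⟩
      · by_cases hlf : m - c * (m / c) = 2 * d - c * A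
        · refine ⟨m / c, hMA.le, by omega, Or.inr (Or.inr ⟨by omega, hlf, ?_⟩)⟩
          rw [opearith_sg_odd hie, opearith_sg_odd hie]
        · exact ⟨m / c, hMA.le, by omega, Or.inr (Or.inl ⟨by omega, by omega⟩)⟩

end Cfsg.Agent.Lib.helper8.OME
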