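import Mathlib
import Cfsg.Agent.Lib.helper8.OME.Defs
import Cfsg.Agent.Lib.Helper29.OMEARITHSUFFh29

set_option autoImplicit false
set_option linter.unusedVariables false
set_option linter.unusedSectionVars false

/-!
# Project OME (S5990; designer helper8), row ARITHSUFF (`ome_arith_suff`), verbatim wrapper of `omearithsuff_h29` (helper29).
-/

namespace Cfsg.Agent.Lib.helper8.OME

open Polynomial Module Cfsg.Agent.Lib.Helper13.S5955 Cfsg.Agent.Lib.helper15.S5972
  Cfsg.Agent.Lib.Helper18.OPE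

/-- ARITHSUFF [L] -/
theorem ome_arith_suff (i c d m : ℕ) (hi1 : 1 ≤ i) (hc : c = if Even i then i else 2 * i)
    (hme : Even m) (hm : 2 ≤ m) (hmn : m + 2 ≤ 2 * d) (hR : RM i c d m)
    (A : ℕ) (hA1 : 1 ≤ A) (hA : c * A ≤ 2 * d) (hAs : c * A = 2 * d → sg i A = -1) :
    Fits c i (-1) d m (-1) A :=
  omearithsuff_h29 i c d m hi1 hc hme hm hmn hR A hA1 hA hAs

end Cfsg.Agent.Lib.helper8.OME
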