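import Mathlib
import Cfsg.Agent.Lib.helper17.OMP.Defs
import Cfsg.Agent.Lib.helper17.OMPA4
import Cfsg.Agent.Lib.helper17.OMPA5
import Cfsg.Agent.Lib.Helper18.OMPA9
import Cfsg.Agent.Lib.Helper22.OMPA10core
import Cfsg.Agent.Lib.Helper13.OMPE3
import Cfsg.Agent.Lib.helper2.OMPE4
import Cfsg.Agent.Lib.Helper11.OMPE6
import Cfsg.Agent.Lib.Helper5.OMPE8
import Cfsg.Agent.Lib.Helper29.OMPA14core

/-!
# Project OMP (designer helper17), row A14 (helper29): `one_all` (verbatim): type I' when `|ι| = 4`, base case with all parameters.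

Wrapper of `ompa14_core`; the four A10 statements it needs are obtained from helper22's A10 cores (`Helper22.OMPA10core`) and the landed
A4 A6 A7 E3, so the file does not depend on the A10 wrappers.
-/

set_option autoImplicit false

namespace Cfsg.Agent.Lib.helper17.OMP

open Matrix Cfsg.Agent.Lib.helper14.CTE Cfsg.Agent.Lib.helper14.CTA Cfsg.Agent.Lib.helper17.SLN Cfsg.Agent.Lib.Helper28.CTD
  Cfsg.Agent.Lib.helper3.STC Cfsg.Agent.Lib.Lead.STD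

universe u v w

section A

variable {F : Type u} [Field F] {G : Type v} [Group G] {ι : Type w} [Fintype ι] [DecidableEq ι]

/-- A14 [M]  **type I' when `|ι| = 4`**, base case with all parameters. -/
theorem one_all [Fintype F] (h4 : Fintype.card ι = 4) (p : Pts ι) (Φ : Matrix.SpecialLinearGroup ι F →* G) (y : G) (H : OG p Φ y)
    (t u : F) :
    (Commute (Φ (tv p.o2 p.o3 t)) (PP p Φ y p.o0 p.o1 p.o2 u) ∧ Commute (Φ (tv p.o3 p.o2 t)) (PP p Φ y p.o0 p.o1 p.o2 u)) ∧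
      (Commute (Φ (tv p.o2 p.o3 t)) (NN p Φ y p.o0 p.o1 p.o2 u) ∧ Commute (Φ (tv p.o3 p.o2 t)) (NN p Φ y p.o0 p.o1 p.o2 u)) := by
  have h4' : 4 ≤ Fintype.card ι := by omega
  have hA4 : ∀ (i j : ι), i ≠ j → ∀ g : Matrix.SpecialLinearGroup ι F, Mv g i j i j → Commute (yy p Φ y i j) (Φ g) :=
    fun i j hij g hg => yy_comm_blk h4' p Φ y H.cB i j hij g hg
  have hA6P : ∀ (a b k k' : ι), a ≠ b → a ≠ k → b ≠ k → a ≠ k' → b ≠ k' → ∀ t : F,
      PP p Φ y a b k t = PP p Φ y a b k' t :=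
    fun a b k k' h1 h2 h3 h5 h6 t => PP_indep h4' p Φ y H a b k k' h1 h2 h3 h5 h6 t
  have hA6N : ∀ (a b k k' : ι), a ≠ b → a ≠ k → b ≠ k → a ≠ k' → b ≠ k' → ∀ t : F,
      NN p Φ y a b k t = NN p Φ y a b k' t :=
    fun a b k k' h1 h2 h3 h5 h6 t => NN_indep h4' p Φ y H a b k k' h1 h2 h3 h5 h6 t
  have hE3 : ∀ (i j : ι), i ≠ j → ∀ s : F, s ≠ 0 → ∀ (a b : ι), a ≠ b → ∀ t : F,
      (hE i j s : Matrix.SpecialLinearGroup ι F) * tv a b t * (hE i j s)⁻¹ =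
        tv a b ((if a = i then s else if a = j then s⁻¹ else 1) *
          (if b = i then s else if b = j then s⁻¹ else 1)⁻¹ * t) :=
    fun i j hij s hs a b hab t => hE_conj_tv i j hij s hs a b hab t
  have hPf : ∀ (a b k m : ι), a ≠ b → a ≠ k → b ≠ k → m ≠ a → m ≠ b → ∀ s : F, s ≠ 0 → ∀ t : F,
      Φ (hE a m s) * PP p Φ y a b k t * (Φ (hE a m s))⁻¹ = PP p Φ y a b k (s * t) :=
    fun a b k m hab hak hbk hma hmb s hs t =>
      ompa10_PP_fst_core h4' p Φ y hA4 hA6P hE3 a b k m hab hak hbk hma hmb s hs t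
  have hNf : ∀ (a b k m : ι), a ≠ b → a ≠ k → b ≠ k → m ≠ a → m ≠ b → ∀ s : F, s ≠ 0 → ∀ t : F,
      Φ (hE a m s) * NN p Φ y a b k t * (Φ (hE a m s))⁻¹ = NN p Φ y a b k (s⁻¹ * t) :=
    fun a b k m hab hak hbk hma hmb s hs t =>
      ompa10_NN_fst_core h4' p Φ y hA4 hA6N hE3 a b k m hab hak hbk hma hmb s hs t
  have hPs : ∀ (a b k m : ι), a ≠ b → a ≠ k → b ≠ k → m ≠ a → m ≠ b → ∀ s : F, s ≠ 0 → ∀ t : F,
      Φ (hE b m s) * PP p Φ y a b k t * (Φ (hE b m s))⁻¹ = PP p Φ y a b k (s * t) :=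
    fun a b k m hab hak hbk hma hmb s hs t =>
      ompa10_PP_snd_core p Φ y hPf (fun a b k h1 h2 h3 t => PP_swap h4' p Φ y H a b k h1 h2 h3 t)
        a b k m hab hak hbk hma hmb s hs t
  have hNs : ∀ (a b k m : ι), a ≠ b → a ≠ k → b ≠ k → m ≠ a → m ≠ b → ∀ s : F, s ≠ 0 → ∀ t : F,
      Φ (hE b m s) * NN p Φ y a b k t * (Φ (hE b m s))⁻¹ = NN p Φ y a b k (s⁻¹ * t) :=
    fun a b k m hab hak hbk hma hmb s hs t =>
      ompa10_NN_snd_core p Φ y hNf (fun a b k h1 h2 h3 t => NN_swap h4' p Φ y H a b k h1 h2 h3 t)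
        a b k m hab hak hbk hma hmb s hs t
  exact ompa14_core p Φ y (H.one h4) hA6P hA6N
    (fun g a b k a' b' k' h1 h2 h3 h5 h6 h7 ha hb hk t => PP_conj h4' p Φ y H g a b k a' b' k' h1 h2 h3 h5 h6 h7 ha hb hk t)
    (fun g a b k a' b' k' h1 h2 h3 h5 h6 h7 ha hb hk t => NN_conj h4' p Φ y H g a b k a' b' k' h1 h2 h3 h5 h6 h7 ha hb hk t)
    hPf hPs hNf hNs hE3
    (fun i j m h1 h2 h3 s hs => hE_chain i j m h1 h2 h3 s hs)
    (fun i j hij s hs => hE_swap i j hij s hs)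
    (fun i j hij => Mv1_wE i j hij)
    (fun i j a hij hai haj => Mv1_wE_of_ne i j a hij hai haj)
    (fun a b hab t => wE_conj_tv_ab a b hab t)
    t u

end A

end Cfsg.Agent.Lib.helper17.OMP
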