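import Mathlib
import Cfsg.Agent.Lib.Helper18.OPE.Defs2

set_option autoImplicit false
set_option linter.unusedVariables false
set_option linter.unusedSectionVars false

/-!
# Project OPE (S5974 + S5988; designer helper18), rows AMAXADM (`amax_adm`) and CHI (`ch_of_dvd`) (helper29).
-/

namespace Cfsg.Agent.Lib.Helper18.OPE

/-- AMAXADM -/
theorem amax_adm (i c d : ℕ) (hi1 : 1 ≤ i) (hc : c = if Even i then i else 2 * i) :
    c * Amax i c d ≤ 2 * d ∧ (c * Amax i c d = 2 * d → sg i (Amax i c d) = 1) := by
  have hc1 : 1 ≤ c := by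
    rw [hc]
    split_ifs <;> omega
  unfold Amax
  split_ifs with h
  · obtain ⟨hie, hmod, hodd⟩ := h
    have hN : 1 ≤ 2 * d / c := hodd.pos
    have hle : c * (2 * d / c) ≤ 2 * d := Nat.mul_div_le _ _
    have heq : c * (2 * d / c) = 2 * d := Nat.mul_div_cancel' (Nat.dvd_of_mod_eq_zero hmod)
    constructor
    · calc c * (2 * d / c - 1) ≤ c * (2 * d / c) := Nat.mul_le_mul_left _ (Nat.sub_le _ _)
        _ ≤ 2 * d := hle
    · intro h2
      exfalso
      have h3 : c * (2 * d / c - 1) + c = c * (2 * d / c) := by
        rw [← Nat.mul_succ]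
        congr 1
        omega
      omega
  · constructor
    · exact Nat.mul_div_le _ _
    · intro h2
      unfold sg
      split_ifs with hie
      · have hmod : (2 * d) % c = 0 := by
          have : c ∣ 2 * d := ⟨_, h2.symm⟩
          exact Nat.mod_eq_zero_of_dvd this
        have hev : Even (2 * d / c) := by
          by_contra hne
          exact h ⟨hie, hmod, Nat.not_even_iff_odd.mp hne⟩
        exact hev.neg_one_pow
      · rfl

end Cfsg.Agent.Lib.Helper18.OPE
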