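import Mathlib
import Cfsg.Agent.Lib.Helper18.OPE.Defs2
import Cfsg.Agent.Lib.Helper29.OPEARITHcore

set_option autoImplicit false
set_option linter.unusedVariables false
set_option linter.unusedSectionVars false

/-!
# Project OPE (S5974 + S5988; designer helper18), row ARITHNEC (`arith_nec`) (helper29).
-/

namespace Cfsg.Agent.Lib.Helper18.OPE

/-- `i ∣ d - j` gives `2d = c q + 2j` with `sg i q = 1` -/
theorem opearithnec_keyD (i c d : ℕ) (hc : c = if Even i then i else 2 * i) (j : ℕ) (hj : j ≤ d)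
    (hdvd : i ∣ d - j) : ∃ q, 2 * d = c * q + 2 * j ∧ sg i q = 1 := by
  obtain ⟨q, hq⟩ := hdvd
  by_cases hie : Even i
  · rw [if_pos hie] at hc
    refine ⟨2 * q, ?_, ?_⟩
    · rw [hc]
      have : i * (2 * q) = 2 * (i * q) := by ring
      rw [this]; omega
    · rw [opearith_sg_even hie]; exact (even_two_mul q).neg_one_pow
  · rw [if_neg hie] at hc
    refine ⟨q, ?_, opearith_sg_odd hie _⟩
    rw [hc]
    have : 2 * i * q = 2 * (i * q) := by ring
    rw [this]; omega

/-- `(d - j - 1) % i = i / 2`, `i` even, gives `2d = c q + 2j + 2` with `sg i q = -1` -/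
theorem opearithnec_keyE (i c d : ℕ) (hc : c = if Even i then i else 2 * i) (j : ℕ) (hj : j + 1 ≤ d)
    (hie : Even i) (hmod : (d - j - 1) % i = i / 2) :
    ∃ q, 2 * d = c * q + (2 * j + 2) ∧ sg i q = -1 := by
  rw [if_pos hie] at hc
  have hdiv := Nat.div_add_mod (d - j - 1) i
  rw [hmod] at hdiv
  have hie' := hie
  obtain ⟨i2, hi2⟩ := hie'
  have hhalf : i / 2 = i2 := by omega
  refine ⟨2 * ((d - j - 1) / i) + 1, ?_, ?_⟩
  · rw [hc]
    have : i * (2 * ((d - j - 1) / i) + 1) = 2 * (i * ((d - j - 1) / i)) + i := by ring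
    rw [this]; omega
  · rw [opearith_sg_even hie]; exact (odd_two_mul_add_one _).neg_one_pow

/-- what the count condition gives -/
theorem opearithnec_cc (i c d m : ℕ) (s : ℤ) (hi1 : 1 ≤ i) (hc : c = if Even i then i else 2 * i)
    (hme : Even m) (hm : 2 ≤ m) (hmd : m < d) (hC : CC i d (m / 2) s) :
    ∃ t q, t ≤ m ∧ 2 * d = c * q + t ∧ (t = m → s = - sg i q) := by
  obtain ⟨h, hh⟩ := hme
  have hm2 : m / 2 = h := by omega
  rw [hm2] at hC
  have keyCH : ∀ h', h' ≤ h → (h' = h → s = 1) → CH i d h' →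
      ∃ t q, t ≤ m ∧ 2 * d = c * q + t ∧ (t = m → s = - sg i q) := by
    intro h' hh' hs1 hCH
    obtain ⟨j, hj, halt⟩ := hCH
    rcases halt with hdvd | ⟨hie, hmod⟩
    · obtain ⟨q, hq, hsg⟩ := opearithnec_keyD i c d hc j (by omega) hdvd
      exact ⟨2 * j, q, by omega, hq, fun ht => by omega⟩
    · obtain ⟨q, hq, hsg⟩ := opearithnec_keyE i c d hc j (by omega) hie hmod
      refine ⟨2 * j + 2, q, by omega, hq, fun ht => ?_⟩
      rw [hsg, neg_neg]
      exact hs1 (by omega)
  rcases hC with ⟨hs1, hCH⟩ | ⟨hs1, hCE⟩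
  · exact keyCH h le_rfl (fun _ => hs1) hCH
  · rcases hCE with hCH | hdvd | hdvd
    · exact keyCH (h - 1) (by omega) (fun hcon => by omega) hCH
    · have : d - h + 1 = d - (h - 1) := by omega
      rw [this] at hdvd
      obtain ⟨q, hq, hsg⟩ := opearithnec_keyD i c d hc (h - 1) (by omega) hdvd
      exact ⟨2 * (h - 1), q, by omega, hq, fun ht => by omega⟩
    · obtain ⟨q, hq, hsg⟩ := opearithnec_keyD i c d hc h (by omega) hdvd
      refine ⟨2 * h, q, by omega, hq, fun ht => ?_⟩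
      rw [hsg, hs1]

/-- ARITHNEC -/
theorem arith_nec (i c d m : ℕ) (s : ℤ) (hi1 : 1 ≤ i) (hc : c = if Even i then i else 2 * i)
    (hs : s = 1 ∨ s = -1) (hme : Even m) (hm : 2 ≤ m) (hmd : m < d) (hC : CC i d (m / 2) s)
    (hfit : 1 ≤ Amax i c d → Fits c i 1 d m s (Amax i c d)) : RR i c d m s := by
  have hc1 : 1 ≤ c := by
    rw [hc]; split_ifs <;> omega
  obtain ⟨t, q, htm, hnq, hts⟩ := opearithnec_cc i c d m s hi1 hc hme hm hmd hC
  have hmM : c * (m / c) + m % c = m := Nat.div_add_mod m c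
  have hl : m % c < c := Nat.mod_lt _ hc1
  have hnN : c * (2 * d / c) + (2 * d) % c = 2 * d := Nat.div_add_mod (2 * d) c
  have hk : (2 * d) % c < c := Nat.mod_lt _ hc1
  have hq1 : 1 ≤ q := by
    rcases Nat.eq_zero_or_pos q with h | h
    · rw [h, Nat.mul_zero] at hnq; omega
    · exact h
  have hN1 : 1 ≤ 2 * d / c := by
    have : c ≤ c * q := Nat.le_mul_of_pos_right c hq1
    exact (Nat.one_le_div_iff hc1).mpr (by omega)
  have hsmall : m < c → (2 * d) % c = t ∧ 2 * d / c = q ∧ m / c = 0 ∧ m % c = m := by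
    intro hmc
    refine ⟨?_, ?_, Nat.div_eq_of_lt hmc, Nat.mod_eq_of_lt hmc⟩
    · rw [hnq, Nat.mul_add_mod]; exact Nat.mod_eq_of_lt (by omega)
    · rw [hnq, Nat.mul_add_div hc1, Nat.div_eq_of_lt (by omega)]; rfl
  by_cases hcase : Even i ∧ (2 * d) % c = 0 ∧ Odd (2 * d / c)
  · obtain ⟨hie, hk0, hNodd⟩ := hcase
    rw [if_pos hie] at hc
    subst hc
    rw [opearith_rr_even _ d m s hie hs]
    exact Or.inl ⟨hk0, Or.inl hNodd⟩
  · have hAmax : Amax i c d = 2 * d / c := by unfold Amax; rw [if_neg hcase]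
    rw [hAmax] at hfit
    obtain ⟨b, hbN, hbm, hcl⟩ := hfit hN1
    have hbM : c * b < m → m - c * b < c → m / c = b := by
      intro h1 h2
      apply le_antisymm
      · by_contra hcon
        have : c * (b + 1) ≤ c * (m / c) := Nat.mul_le_mul_left _ (not_le.mp hcon)
        rw [Nat.mul_succ] at this
        omega
      · exact (Nat.le_div_iff_mul_le hc1).mpr (by rw [Nat.mul_comm]; exact hbm)
    have hsg0 : sg i 0 = 1 := by
      unfold sg; split_ifs <;> simp
    have hnf : (m % c = 0 ∧ s = sg i (m / c) ∧ c ≤ m) ∨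
        (c ≤ m ∧ 0 < m % c ∧ m % c < (2 * d) % c) ∨
        (c ≤ m ∧ 0 < m % c ∧ m % c = (2 * d) % c ∧ s * sg i (m / c) = sg i (2 * d / c)) := by
      rcases hcl with ⟨h1, h2⟩ | ⟨h1, h2⟩ | ⟨h1, h2, h3⟩
      · have hb : m / c = b := by rw [h1]; exact Nat.mul_div_cancel_left _ hc1
        have hl0 : m % c = 0 := by rw [h1]; exact Nat.mul_mod_right _ _
        have hb1 : 1 ≤ b := by
          rcases Nat.eq_zero_or_pos b with h | h
          · rw [h, Nat.mul_zero] at h1; omega
          · exact h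
        have : c ≤ c * b := Nat.le_mul_of_pos_right c hb1
        exact Or.inl ⟨hl0, by rw [hb]; exact h2, by omega⟩
      · have hb : m / c = b := hbM h1 (by omega)
        subst hb
        have hcm : c ≤ m := by
          by_contra hmc
          obtain ⟨e1, e2, e3, e4⟩ := hsmall (not_le.mp hmc)
          have hz : c * (m / c) = 0 := by rw [e3, Nat.mul_zero]
          omega
        exact Or.inr (Or.inl ⟨hcm, by omega, by omega⟩)
      · have hb : m / c = b := hbM h1 (by omega)
        subst hb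
        rw [one_mul] at h3
        have hcm : c ≤ m := by
          by_contra hmc
          obtain ⟨e1, e2, e3, e4⟩ := hsmall (not_le.mp hmc)
          have hz : c * (m / c) = 0 := by rw [e3, Nat.mul_zero]
          have htm' : t = m := by
            omega
          have hs2 := hts htm'
          rw [e3, hsg0, mul_one, e2] at h3
          rw [← h3] at hs2
          rcases hs with rfl | rfl <;> omega
        exact Or.inr (Or.inr ⟨hcm, by omega, by omega, h3⟩)
    by_cases hie : Even i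
    · rw [if_pos hie] at hc
      subst hc
      rw [opearith_rr_even _ d m s hie hs]
      rcases hnf with ⟨hl0, hsM, hcm⟩ | ⟨hcm, hl0, hlk⟩ | ⟨hcm, hl0, hlk, hsNM⟩
      · rw [opearith_sg_even hie] at hsM
        by_cases hk0 : (2 * d) % c = 0
        · exact Or.inl ⟨hk0, Or.inr ⟨hl0, hsM⟩⟩
        · exact Or.inr ⟨hcm, Or.inr (Or.inr ⟨hl0, Nat.pos_of_ne_zero hk0, hsM⟩)⟩
      · exact Or.inr ⟨hcm, Or.inl ⟨hl0, hlk⟩⟩
      · refine Or.inr ⟨hcm, Or.inr (Or.inl ⟨hl0, hlk, ?_⟩)⟩
        have hNM : (2 * d + m - 2 * ((2 * d) % c)) / c = 2 * d / c + m / c := by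
          have : 2 * d + m - 2 * ((2 * d) % c) = c * (2 * d / c + m / c) := by
            rw [Nat.mul_add]; omega
          rw [this]
          exact Nat.mul_div_cancel_left _ hc1
        rw [hNM, pow_add]
        rw [opearith_sg_even hie, opearith_sg_even hie] at hsNM
        have hsq : ((-1 : ℤ) ^ (m / c)) * ((-1 : ℤ) ^ (m / c)) = 1 := by
          rw [← pow_add, ← two_mul, pow_mul]; norm_num
        calc s = s * ((-1) ^ (m / c) * (-1) ^ (m / c)) := by rw [hsq, mul_one]
          _ = (s * (-1) ^ (m / c)) * (-1) ^ (m / c) := by ring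
          _ = _ := by rw [hsNM]
    · rw [opearith_rr_odd i c d m s hie hs]
      rcases hnf with ⟨hl0, hsM, hcm⟩ | ⟨hcm, hl0, hlk⟩ | ⟨hcm, hl0, hlk, hsNM⟩
      · rw [opearith_sg_odd hie] at hsM
        exact ⟨hcm, Or.inl ⟨hsM, by omega⟩⟩
      · rcases hs with rfl | rfl
        · exact ⟨hcm, Or.inl ⟨rfl, hlk.le⟩⟩
        · exact ⟨hcm, Or.inr ⟨rfl, hl0, hlk⟩⟩
      · rw [opearith_sg_odd hie, opearith_sg_odd hie, mul_one] at hsNM
        exact ⟨hcm, Or.inl ⟨hsNM, hlk.le⟩⟩

end Cfsg.Agent.Lib.Helper18.OPE
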