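import Mathlib
import Cfsg.Agent.Lib.Helper13.OTS.Defs
import Cfsg.Agent.Lib.Helper29.OTSARITHEXh29

set_option autoImplicit false
set_option linter.unusedVariables false
set_option linter.unusedSectionVars false

/-!
# Project OTS (S5973 + S5987; designer helper13), row ARITHEX: spare copy of `q_arith_ex` (RENAMED `otsarithex_h29_q_arith_ex`: helper4 landed the verbatim
`q_arith_ex` in helper4/OTSARITHEX.lean at the same minute; cite that one) (helper29).
-/

namespace Cfsg.Agent.Lib.Helper13.OTS

/-- ARITHEX [M] (brute-force checked): elements of order `r` exist. -/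
theorem otsarithex_h29_q_arith_ex (i c d m : ℕ) (ε : ℤ) (hi : 1 ≤ i) (hc : c = if Even i then i else 2 * i)
    (hε : ε = 1 ∨ ε = -1) (hm : m + 1 ≤ d) (hj : HJi i d m ε) :
    c + FMin i c d ε ≤ 2 * d ∧ c ∣ 2 * d - FMin i c d ε ∧ Even (FMin i c d ε) ∧
      (FMin i c d ε = 0 → ε = SCy i (2 * d)) :=
  otsarithex_h29 i c d m ε hi hc hε hm hj

end Cfsg.Agent.Lib.Helper13.OTS
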