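import Mathlib
import Cfsg.Agent.Lib.helper23.OrdGen3
import Cfsg.Agent.Lib.Helper1.Ord4032.DihCount

set_option autoImplicit false

namespace Cfsg.Agent.Lib.Helper29

open Cfsg.Agent.Lib.helper8 Cfsg.Agent.Lib.helper23 Cfsg.Agent.Lib.Helper1.O4032

variable {G : Type*} [Group G] [Finite G] [IsSimpleGroup G]

/-- Sylow 17 data of a simple group of order 4080 -/
theorem o4080_syl17 (hG : Nat.card G = 4080) [Fact (Nat.Prime 17)] (P : Sylow 17 G) :
    Nat.card (P : Subgroup G) = 17 ∧ Nat.card (Sylow 17 G) = 120 ∧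
    Nat.card (Subgroup.normalizer ((P : Subgroup G) : Set G)) = 34 ∧
    Nat.card (Subgroup.centralizer ((P : Subgroup G) : Set G)) = 17 := by
  have hG17 : Nat.card G = 17 ^ 1 * 240 := by rw [hG]; norm_num
  have hnd : ¬ 17 ∣ 240 := by norm_num
  obtain ⟨hP, hN, hX, r, hr16, hr1, hC⟩ := og3_sylow_data 17 240 hG17 hnd (by norm_num) P
  have h1 := h8_nsylow_mem (G := G) 17 1 240 hG17 hnd
  have e : (Nat.divisors 240).filter (fun d => d % 17 = 1) = {1, 120} := by
    decide +kernel
  rw [e] at h1
  simp only [Finset.mem_insert, Finset.mem_singleton] at h1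
  rw [hG] at hN
  rcases h1 with h | h
  · exact absurd h (h8_simple_nsylow_ne_one 17 1 240 hG17 hnd (by norm_num) (by norm_num))
  · rw [h] at hN
    have hN' : Nat.card (Subgroup.normalizer ((P : Subgroup G) : Set G)) = 34 := by omega
    rw [hN'] at hC
    refine ⟨hP, h, hN', ?_⟩
    have hr16' : r ∣ 16 := hr16
    have hmem : r ∈ Nat.divisors 16 := Nat.mem_divisors.mpr ⟨hr16', by norm_num⟩
    have e16 : Nat.divisors 16 = {1, 2, 4, 8, 16} := by decide +kernel
    rw [e16] at hmem
    simp only [Finset.mem_insert, Finset.mem_singleton] at hmem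
    rcases hmem with rfl | rfl | rfl | rfl | rfl <;> omega

/-- the dihedral structure attached to a Sylow 17-subgroup -/
noncomputable def o4080_dih (hG : Nat.card G = 4080) [Fact (Nat.Prime 17)] (P : Sylow 17 G) :
    Dih G 17 where
  P := (P : Subgroup G)
  hp := by norm_num
  hp2 := by norm_num
  hP := (o4080_syl17 hG P).1
  hN := by rw [(o4080_syl17 hG P).2.2.1]
  hC := (o4080_syl17 hG P).2.2.2

end Cfsg.Agent.Lib.Helper29
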