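import Mathlib
import Cfsg.Agent.Lib.Helper29.Ord4080A

set_option autoImplicit false

namespace Cfsg.Agent.Lib.Helper29

open Cfsg.Agent.Lib.helper8 Cfsg.Agent.Lib.helper23 Cfsg.Agent.Lib.Helper1.O4032

variable {G : Type*} [Group G] [Finite G] [IsSimpleGroup G]

/-- an element of `P` normalizing another Sylow subgroup `Q` is trivial -/
theorem o4080_semireg (hG : Nat.card G = 4080) [Fact (Nat.Prime 17)] (P Q : Sylow 17 G)
    (hQP : Q ≠ P) (y : G) (hy : y ∈ (P : Subgroup G)) (hyQ : y • Q = Q) : y = 1 := by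
  by_contra hy1
  have hP := (o4080_syl17 hG P).1
  have hz : Subgroup.zpowers y = (P : Subgroup G) :=
    h8_zpowers_eq_of_prime_card 17 (by norm_num) (P : Subgroup G) hP y hy hy1
  have hyN : y ∈ Subgroup.normalizer ((Q : Subgroup G) : Set G) :=
    Sylow.smul_eq_iff_mem_normalizer.mp hyQ
  have hle : (P : Subgroup G) ≤ (Q : Subgroup G) := by
    apply h8_le_sylow_of_le_normalizer 17 Q (P : Subgroup G) P.2
    rw [← hz, Subgroup.zpowers_le]
    exact hyN
  exact hQP (h8_sylow_eq_of_le 17 P Q hle).symm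

omit [Finite G] [IsSimpleGroup G] in
theorem o4080_smul_self [Fact (Nat.Prime 17)] (P : Sylow 17 G) (x : G)
    (hx : x ∈ (P : Subgroup G)) : x • P = P :=
  Sylow.smul_eq_iff_mem_normalizer.mpr (Subgroup.le_normalizer hx)

/-- key injectivity: translates by `P` of two `u`-fixed Sylow subgroups -/
theorem o4080_key (hG : Nat.card G = 4080) [Fact (Nat.Prime 17)] (P : Sylow 17 G)
    (u : G) (hu : orderOf u = 2) (huP : u • P = P) (x x' : G) (hx : x ∈ (P : Subgroup G))
    (hx' : x' ∈ (P : Subgroup G)) (Q Q' : Sylow 17 G) (hQ : u • Q = Q) (hQ' : u • Q' = Q')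
    (hQP : Q ≠ P) (h : x • Q = x' • Q') : x = x' ∧ Q = Q' := by
  obtain ⟨hP, hn, hN, hC⟩ := o4080_syl17 hG P
  set D := o4080_dih hG P with hD
  have huN : u ∈ Subgroup.normalizer ((P : Subgroup G) : Set G) :=
    Sylow.smul_eq_iff_mem_normalizer.mp huP
  have hunP : u ∉ (P : Subgroup G) := D.not_mem_of_order_two u hu
  have hinv : ∀ v ∈ (P : Subgroup G), u * v * u⁻¹ = v⁻¹ := fun v hv => D.inverts u huN hunP v hv
  set y := x'⁻¹ * x with hydef
  have hy : y ∈ (P : Subgroup G) := Subgroup.mul_mem _ (Subgroup.inv_mem _ hx') hx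
  have hyQ : y • Q = Q' := by
    rw [hydef, mul_smul, h, inv_smul_smul]
  -- u • (y • Q) = y⁻¹ • Q
  have h1 : u • (y • Q) = y⁻¹ • Q := by
    have e : u * y = y⁻¹ * u := by
      have := hinv y hy
      calc u * y = (u * y * u⁻¹) * u := by group
        _ = y⁻¹ * u := by rw [this]
    rw [← mul_smul, e, mul_smul, hQ]
  have h2 : y⁻¹ • Q = y • Q := by
    rw [← h1, hyQ, hQ']
  have h3 : (y * y) • Q = Q := by
    rw [mul_smul, ← h2, smul_inv_smul]
  have hy17 : y ^ 17 = 1 := D.pow_p y hy
  have h4 : y • Q = Q := by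
    have e : y = (y * y) ^ 9 := by
      rw [← pow_two, ← pow_mul]
      calc y = y ^ 17 * y := by rw [hy17, one_mul]
        _ = y ^ (2 * 9) := by rw [← pow_succ]
    have h5 : ∀ n : ℕ, ((y * y) ^ n) • Q = Q := by
      intro n
      induction n with
      | zero => simp
      | succ n ih => rw [pow_succ, mul_smul, h3, ih]
    rw [e]
    exact h5 9
  have hy1 : y = 1 := o4080_semireg hG P Q hQP y hy h4
  have hxx : x = x' := by
    have : x'⁻¹ * x = 1 := hy1
    calc x = x' * (x'⁻¹ * x) := by group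
      _ = x' := by rw [this, mul_one]
  refine ⟨hxx, ?_⟩
  rw [← hyQ, hy1, one_smul]

/-- an involution normalizing `P` normalizes at most 8 Sylow 17-subgroups -/
theorem o4080_fix_le (hG : Nat.card G = 4080) [Fact (Nat.Prime 17)] (P : Sylow 17 G)
    (u : G) (hu : orderOf u = 2) (huP : u • P = P) :
    Nat.card {Q : Sylow 17 G // u • Q = Q} ≤ 8 := by
  classical
  obtain ⟨hP, hn, hN, hC⟩ := o4080_syl17 hG P
  let F' := {Q : Sylow 17 G // u • Q = Q ∧ Q ≠ P}
  let ψ : Option ({x : G // x ∈ (P : Subgroup G)} × F') → Sylow 17 G := fun o =>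
    match o with
    | none => P
    | some (x, Q) => (x : G) • (Q : Sylow 17 G)
  have hne : ∀ (x : G), x ∈ (P : Subgroup G) → ∀ Q : Sylow 17 G, Q ≠ P → x • Q ≠ P := by
    intro x hx Q hQP h
    apply hQP
    have h1 : x⁻¹ • P = Q := by rw [← h, inv_smul_smul]
    rw [← h1]
    exact o4080_smul_self P x⁻¹ (Subgroup.inv_mem _ hx)
  have hψ : Function.Injective ψ := by
    intro a b hab
    match a, b with
    | none, none => rfl
    | none, some (x, Q) =>
      exfalso
      exact hne x.1 x.2 Q.1 Q.2.2 hab.symm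
    | some (x, Q), none =>
      exfalso
      exact hne x.1 x.2 Q.1 Q.2.2 hab
    | some (x, Q), some (x', Q') =>
      obtain ⟨h1, h2⟩ := o4080_key hG P u hu huP x.1 x'.1 x.2 x'.2 Q.1 Q'.1 Q.2.1 Q'.2.1 Q.2.2 hab
      have e1 : x = x' := Subtype.ext h1
      have e2 : Q = Q' := Subtype.ext h2
      rw [e1, e2]
  have hcard := Nat.card_le_card_of_injective ψ hψ
  rw [Finite.card_option, Nat.card_prod, hn] at hcard
  have hPc : Nat.card {x : G // x ∈ (P : Subgroup G)} = 17 := hP
  rw [hPc] at hcard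
  -- relate F to F'
  let θ : {Q : Sylow 17 G // u • Q = Q} → Option F' := fun Q =>
    if h : (Q : Sylow 17 G) = P then none else some ⟨Q.1, Q.2, h⟩
  have hθ : Function.Injective θ := by
    intro a b hab
    by_cases ha : (a : Sylow 17 G) = P
    · by_cases hb : (b : Sylow 17 G) = P
      · exact Subtype.ext (ha.trans hb.symm)
      · simp only [θ, dif_pos ha, dif_neg hb] at hab
        exact absurd hab (by simp)
    · by_cases hb : (b : Sylow 17 G) = P
      · simp only [θ, dif_neg ha, dif_pos hb] at hab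
        exact absurd hab (by simp)
      · simp only [θ, dif_neg ha, dif_neg hb, Option.some.injEq] at hab
        have h3 := congrArg (fun z : F' => (z : Sylow 17 G)) hab
        exact Subtype.ext h3
  have hcard2 := Nat.card_le_card_of_injective θ hθ
  rw [Finite.card_option] at hcard2
  omega

end Cfsg.Agent.Lib.Helper29
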