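import Mathlib
import Cfsg.Agent.Lib.Helper29.Ord4080B

set_option autoImplicit false

namespace Cfsg.Agent.Lib.Helper29

open Cfsg.Agent.Lib.helper8 Cfsg.Agent.Lib.helper23 Cfsg.Agent.Lib.Helper1.O4032

variable {G : Type*} [Group G] [Finite G] [IsSimpleGroup G]

/-- exactly 17 involutions normalize a given Sylow 17-subgroup -/
theorem o4080_invol_in_N (hG : Nat.card G = 4080) [Fact (Nat.Prime 17)] (Q : Sylow 17 G) :
    Nat.card {u : G // orderOf u = 2 ∧ u • Q = Q} = 17 := by
  classical
  obtain ⟨hP, hn, hN, hC⟩ := o4080_syl17 hG Q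
  set D := o4080_dih hG Q with hD
  have hset : {u : G | orderOf u = 2 ∧ u • Q = Q} =
      ((Subgroup.normalizer ((Q : Subgroup G) : Set G) : Subgroup G) : Set G) \
        ((Q : Subgroup G) : Set G) := by
    ext u
    simp only [Set.mem_ofPred_eq, Set.mem_sdiff, SetLike.mem_coe]
    constructor
    · rintro ⟨h2, hQ⟩
      exact ⟨Sylow.smul_eq_iff_mem_normalizer.mp hQ, D.not_mem_of_order_two u h2⟩
    · rintro ⟨hN', hnQ⟩
      exact ⟨D.orderOf_eq_two u hN' hnQ, Sylow.smul_eq_iff_mem_normalizer.mpr hN'⟩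
  have h1 : Nat.card {u : G // orderOf u = 2 ∧ u • Q = Q} =
      ({u : G | orderOf u = 2 ∧ u • Q = Q}).ncard := by
    rw [← Nat.card_coe_set_eq]; rfl
  rw [h1, hset, Set.ncard_sdiff (Subgroup.le_normalizer) (Set.toFinite _)]
  have e1 : (((Subgroup.normalizer ((Q : Subgroup G) : Set G) : Subgroup G) : Set G)).ncard = 34 :=
    (Nat.card_coe_set_eq _).symm.trans hN
  have e2 : (((Q : Subgroup G) : Set G)).ncard = 17 :=
    (Nat.card_coe_set_eq _).symm.trans hP
  rw [e1, e2]

/-- the double count -/
theorem o4080_double_count (hG : Nat.card G = 4080) [Fact (Nat.Prime 17)]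
    [Fintype G] [DecidableEq G] [Fintype (Sylow 17 G)] [DecidableEq (Sylow 17 G)] :
    ∑ u ∈ Finset.univ.filter (fun u : G => orderOf u = 2),
      (Finset.univ.filter (fun Q : Sylow 17 G => u • Q = Q)).card = 2040 := by
  classical
  have h := Finset.sum_card_bipartiteAbove_eq_sum_card_bipartiteBelow
    (s := Finset.univ.filter (fun u : G => orderOf u = 2))
    (t := (Finset.univ : Finset (Sylow 17 G))) (fun u Q => u • Q = Q)
  have e1 : ∀ u ∈ Finset.univ.filter (fun u : G => orderOf u = 2),
      ((Finset.univ : Finset (Sylow 17 G)).bipartiteAbove (fun u Q => u • Q = Q) u).card =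
      (Finset.univ.filter (fun Q : Sylow 17 G => u • Q = Q)).card := by
    intro u _
    rfl
  rw [Finset.sum_congr rfl e1] at h
  rw [h]
  have e2 : ∀ Q ∈ (Finset.univ : Finset (Sylow 17 G)),
      ((Finset.univ.filter (fun u : G => orderOf u = 2)).bipartiteBelow
        (fun u Q => u • Q = Q) Q).card = 17 := by
    intro Q _
    have h17 := o4080_invol_in_N hG Q
    rw [Nat.card_eq_fintype_card, Fintype.card_subtype] at h17
    refine Eq.trans ?_ h17
    congr 1
    ext u
    simp [Finset.bipartiteBelow]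
  rw [Finset.sum_congr rfl e2, Finset.sum_const, Finset.card_univ, ← Nat.card_eq_fintype_card,
    (o4080_syl17 hG (Classical.arbitrary (Sylow 17 G))).2.1]
  rfl

/-- per-involution bound -/
theorem o4080_fix_le' (hG : Nat.card G = 4080) [Fact (Nat.Prime 17)]
    [Fintype (Sylow 17 G)] [DecidableEq (Sylow 17 G)] (u : G) (hu : orderOf u = 2) :
    (Finset.univ.filter (fun Q : Sylow 17 G => u • Q = Q)).card ≤ 8 := by
  classical
  by_cases h : ∃ P : Sylow 17 G, u • P = P
  · obtain ⟨P, hP⟩ := h
    have := o4080_fix_le hG P u hu hP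
    rw [Nat.card_eq_fintype_card, Fintype.card_subtype] at this
    exact this
  · have : Finset.univ.filter (fun Q : Sylow 17 G => u • Q = Q) = ∅ := by
      rw [Finset.filter_eq_empty_iff]
      intro Q _ hQ
      exact h ⟨Q, hQ⟩
    rw [this]; simp

/-- at least 255 involutions -/
theorem o4080_invol_ge (hG : Nat.card G = 4080) [Fact (Nat.Prime 17)] :
    255 ≤ Nat.card {u : G // orderOf u = 2} := by
  classical
  haveI : Fintype G := Fintype.ofFinite G
  haveI : Fintype (Sylow 17 G) := Fintype.ofFinite _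
  have h := o4080_double_count hG
  have h2 : ∑ u ∈ Finset.univ.filter (fun u : G => orderOf u = 2),
      (Finset.univ.filter (fun Q : Sylow 17 G => u • Q = Q)).card ≤
      ∑ u ∈ Finset.univ.filter (fun u : G => orderOf u = 2), 8 := by
    apply Finset.sum_le_sum
    intro u hu
    exact o4080_fix_le' hG u (Finset.mem_filter.mp hu).2
  rw [h, Finset.sum_const, smul_eq_mul] at h2
  rw [Nat.card_eq_fintype_card, Fintype.card_subtype]
  omega

/-- if there are at most 255 involutions, each normalizes a Sylow 17-subgroup -/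
theorem o4080_invol_fix (hG : Nat.card G = 4080) [Fact (Nat.Prime 17)]
    (hI : Nat.card {u : G // orderOf u = 2} ≤ 255) (u : G) (hu : orderOf u = 2) :
    ∃ Q : Sylow 17 G, u • Q = Q := by
  classical
  haveI : Fintype G := Fintype.ofFinite G
  haveI : Fintype (Sylow 17 G) := Fintype.ofFinite _
  by_contra hcon
  have h := o4080_double_count hG
  rw [Nat.card_eq_fintype_card, Fintype.card_subtype] at hI
  have hmem : u ∈ Finset.univ.filter (fun u : G => orderOf u = 2) := by simp [hu]
  rw [← Finset.add_sum_erase _ _ hmem] at h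
  have h0 : (Finset.univ.filter (fun Q : Sylow 17 G => u • Q = Q)).card = 0 := by
    rw [Finset.card_eq_zero, Finset.filter_eq_empty_iff]
    intro Q _ hQ
    exact hcon ⟨Q, hQ⟩
  rw [h0, zero_add] at h
  have h2 : ∑ v ∈ (Finset.univ.filter (fun u : G => orderOf u = 2)).erase u,
      (Finset.univ.filter (fun Q : Sylow 17 G => v • Q = Q)).card ≤
      ∑ v ∈ (Finset.univ.filter (fun u : G => orderOf u = 2)).erase u, 8 := by
    apply Finset.sum_le_sum
    intro v hv
    exact o4080_fix_le' hG v (Finset.mem_filter.mp (Finset.mem_of_mem_erase hv)).2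
  rw [h, Finset.sum_const, smul_eq_mul, Finset.card_erase_of_mem hmem] at h2
  omega

end Cfsg.Agent.Lib.Helper29
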