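import Mathlib

set_option autoImplicit false

namespace Cfsg.Agent.Lib.Helper29

/-- arithmetic of the exceptional-character data at `p = 17`, `e = 2`, for order 4080 -/
theorem o4080_arith {X : Type*} [Fintype X] [DecidableEq X] (d : X → ℕ) (w : X → ℤ)
    (S : Finset X) (ε a : ℤ) (x0 : X)
    (hε : ε = 1 ∨ ε = -1) (hS : S.card = 8) (hwa : ∀ χ ∈ S, w χ = a)
    (hnorm : ∑ χ, w χ ^ 2 + 2 * ε * a = 2)
    (hdeg : ∀ θ ∈ S, ∑ χ, w χ * (d χ : ℤ) + ε * (d θ : ℤ) = 0)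
    (hcS : ∀ χ ∈ S, ∃ m : ℤ, (d χ : ℤ) = 17 * m - 2 * (8 * w χ + ε))
    (hcN : ∀ χ ∉ S, ∃ m : ℤ, (d χ : ℤ) = 17 * m - 2 * (8 * w χ))
    (hw1 : w x0 = 1) (htS : x0 ∉ S)
    (hdvd : ∀ χ, d χ ∣ 4080) (hsq : ∑ χ, (d χ : ℤ) ^ 2 = 4080)
    (hlin : ∀ χ, d χ = 1 → χ = x0) (hd0 : d x0 = 1) :
    ∑ χ, (d χ : ℤ) ≤ 256 := by
  classical
  have hdpos : ∀ χ, 1 ≤ (d χ : ℤ) := by
    intro χ
    have := Nat.pos_of_dvd_of_pos (hdvd χ) (by norm_num)
    exact_mod_cast this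
  have hx0c : x0 ∈ Sᶜ := Finset.mem_compl.mpr htS
  set T := Sᶜ.erase x0 with hT
  -- split of a general sum
  have split : ∀ f : X → ℤ, ∑ χ, f χ = ∑ χ ∈ S, f χ + (f x0 + ∑ χ ∈ T, f χ) := by
    intro f
    rw [← Finset.sum_add_sum_compl S f, ← Finset.add_sum_erase Sᶜ f hx0c]
  -- step 1: a = 0
  have hS2 : ∑ χ ∈ S, w χ ^ 2 = 8 * a ^ 2 := by
    rw [Finset.sum_congr rfl (fun χ hχ => by rw [hwa χ hχ] : ∀ χ ∈ S, w χ ^ 2 = a ^ 2),
      Finset.sum_const, hS]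
    ring
  have hTnn : 0 ≤ ∑ χ ∈ T, w χ ^ 2 := Finset.sum_nonneg (fun χ _ => sq_nonneg _)
  have hn2 := hnorm
  rw [split (fun χ => w χ ^ 2), hS2, hw1] at hn2
  have ha : a = 0 := by
    rcases hε with rfl | rfl
    · have h1 : -1 < a ∧ a < 1 := by constructor <;> nlinarith
      omega
    · have h1 : -1 < a ∧ a < 1 := by constructor <;> nlinarith
      omega
  rw [ha] at hn2
  have hT1 : ∑ χ ∈ T, w χ ^ 2 = 1 := by linarith
  -- step 2: unique x1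
  have hex : ∃ x1 ∈ T, w x1 ≠ 0 := by
    by_contra hcon
    push Not at hcon
    have : ∑ χ ∈ T, w χ ^ 2 = 0 := by
      apply Finset.sum_eq_zero
      intro χ hχ
      rw [hcon χ hχ]; ring
    rw [this] at hT1
    exact absurd hT1 (by norm_num)
  obtain ⟨x1, hx1T, hx1w⟩ := hex
  set R := T.erase x1 with hR
  have hRnn : 0 ≤ ∑ χ ∈ R, w χ ^ 2 := Finset.sum_nonneg (fun χ _ => sq_nonneg _)
  have hT1' := hT1
  rw [← Finset.add_sum_erase T _ hx1T] at hT1'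
  have hw1sq : w x1 ^ 2 = 1 := by
    have h1 : 1 ≤ w x1 ^ 2 := by
      have : w x1 ≤ -1 ∨ 1 ≤ w x1 := by omega
      rcases this with h | h <;> nlinarith
    linarith
  have hR0 : ∑ χ ∈ R, w χ ^ 2 = 0 := by linarith
  have hRw : ∀ χ ∈ R, w χ = 0 := by
    intro χ hχ
    have := (Finset.sum_eq_zero_iff_of_nonneg (fun χ _ => sq_nonneg (w χ))).mp hR0 χ hχ
    exact pow_eq_zero_iff (by norm_num) |>.mp this
  have hw1pm : w x1 = 1 ∨ w x1 = -1 := by
    have : (w x1 - 1) * (w x1 + 1) = 0 := by nlinarith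
    rcases mul_eq_zero.mp this with h | h
    · left; omega
    · right; omega
  have hx1S : x1 ∉ S := by
    have := Finset.mem_of_mem_erase hx1T
    exact Finset.mem_compl.mp this
  have hx10 : x1 ≠ x0 := Finset.ne_of_mem_erase hx1T
  -- finer split
  have split2 : ∀ f : X → ℤ, ∑ χ, f χ = ∑ χ ∈ S, f χ + (f x0 + (f x1 + ∑ χ ∈ R, f χ)) := by
    intro f
    rw [split f, ← Finset.add_sum_erase T f hx1T]
  -- step 3: the weighted degree sum
  have hwd : ∑ χ, w χ * (d χ : ℤ) = 1 + w x1 * (d x1 : ℤ) := by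
    rw [split2 (fun χ => w χ * (d χ : ℤ))]
    have e1 : ∑ χ ∈ S, w χ * (d χ : ℤ) = 0 := by
      apply Finset.sum_eq_zero
      intro χ hχ
      rw [hwa χ hχ, ha, zero_mul]
    have e2 : ∑ χ ∈ R, w χ * (d χ : ℤ) = 0 := by
      apply Finset.sum_eq_zero
      intro χ hχ
      rw [hRw χ hχ, zero_mul]
    rw [e1, e2, hw1, hd0]
    push_cast
    ring
  -- common degree on S
  have hSne : S.Nonempty := by
    rw [← Finset.card_pos, hS]; norm_num
  obtain ⟨θ0, hθ0⟩ := hSne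
  have hdS : ∀ θ ∈ S, ε * (d θ : ℤ) = -(1 + w x1 * (d x1 : ℤ)) := by
    intro θ hθ
    have := hdeg θ hθ
    rw [hwd] at this
    linarith
  have hdSeq : ∀ θ ∈ S, (d θ : ℤ) = (d θ0 : ℤ) := by
    intro θ hθ
    have h1 := hdS θ hθ
    have h2 := hdS θ0 hθ0
    rcases hε with rfl | rfl <;> linarith
  -- congruences
  obtain ⟨m0, hm0⟩ := hcS θ0 hθ0
  rw [hwa θ0 hθ0, ha] at hm0
  obtain ⟨m1, hm1⟩ := hcN x1 hx1S
  -- bound from the sum of squares
  have hsq2 := hsq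
  rw [split2 (fun χ => (d χ : ℤ) ^ 2)] at hsq2
  have hSsq : ∑ χ ∈ S, (d χ : ℤ) ^ 2 = 8 * (d θ0 : ℤ) ^ 2 := by
    rw [Finset.sum_congr rfl (fun χ hχ => by rw [hdSeq χ hχ] :
      ∀ χ ∈ S, (d χ : ℤ) ^ 2 = (d θ0 : ℤ) ^ 2), Finset.sum_const, hS]
    ring
  have hRsqnn : 0 ≤ ∑ χ ∈ R, (d χ : ℤ) ^ 2 := Finset.sum_nonneg (fun χ _ => sq_nonneg _)
  rw [hSsq, hd0] at hsq2
  push_cast at hsq2
  have hD22 : (d θ0 : ℤ) ≤ 22 := by nlinarith [hdpos x1]
  have hD1 := hdpos θ0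
  have hd11 := hdpos x1
  have h19 : ¬ (19 : ℕ) ∣ 4080 := by norm_num
  have hkey := hdS θ0 hθ0
  -- solve
  have hsol : (d θ0 : ℤ) = 15 ∧ (d x1 : ℤ) = 16 := by
    rcases hε with rfl | rfl
    · rcases hw1pm with h1 | h1
      · rw [h1] at hkey; exfalso; nlinarith
      · rw [h1] at hkey hm1
        have hm0' : 1 ≤ m0 ∧ m0 ≤ 1 := by constructor <;> omega
        have : m0 = 1 := by omega
        subst this
        constructor <;> omega
    · rcases hw1pm with h1 | h1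
      · rw [h1] at hkey hm1
        have hm0' : 0 ≤ m0 ∧ m0 ≤ 1 := by constructor <;> omega
        have : m0 = 0 ∨ m0 = 1 := by omega
        rcases this with rfl | rfl
        · exfalso
          have : (d x1 : ℤ) = 1 := by omega
          have h2 : d x1 = 1 := by exact_mod_cast this
          exact hx10 (hlin x1 h2)
        · exfalso
          have : (d θ0 : ℤ) = 19 := by omega
          have h2 : d θ0 = 19 := by exact_mod_cast this
          have := hdvd θ0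
          rw [h2] at this
          exact h19 this
      · rw [h1] at hkey; exfalso; nlinarith
  obtain ⟨hD15, hd16⟩ := hsol
  rw [hD15, hd16] at hsq2
  have hRsq : ∑ χ ∈ R, (d χ : ℤ) ^ 2 = 2023 := by linarith
  -- the rest
  have hR17 : ∀ χ ∈ R, 17 * (d χ : ℤ) ≤ (d χ : ℤ) ^ 2 := by
    intro χ hχ
    have hχT : χ ∈ T := Finset.mem_of_mem_erase hχ
    have hχS : χ ∉ S := Finset.mem_compl.mp (Finset.mem_of_mem_erase hχT)
    obtain ⟨m, hm⟩ := hcN χ hχS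
    rw [hRw χ hχ] at hm
    have h1 := hdpos χ
    have h2 : 17 ≤ (d χ : ℤ) := by omega
    nlinarith
  have hRsum : 17 * ∑ χ ∈ R, (d χ : ℤ) ≤ 2023 := by
    rw [← hRsq, Finset.mul_sum]
    exact Finset.sum_le_sum hR17
  rw [split2 (fun χ => (d χ : ℤ))]
  have hSsum : ∑ χ ∈ S, (d χ : ℤ) = 120 := by
    rw [Finset.sum_congr rfl (fun χ hχ => by rw [hdSeq χ hχ, hD15] :
      ∀ χ ∈ S, (d χ : ℤ) = 15), Finset.sum_const, hS]
    norm_num
  rw [hSsum, hd0, hd16]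
  push_cast
  omega

end Cfsg.Agent.Lib.Helper29
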