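import Mathlib
import Cfsg.Agent.Lib.Helper29.Ord4080A
import Cfsg.Agent.Lib.Helper29.Ord4080D
import Cfsg.Agent.Lib.Helper26.ExcMain
import Cfsg.Agent.Lib.Helper26.ExcFinal
import Cfsg.Agent.Lib.Helper24.Cdc1
import Cfsg.Agent.Lib.Helper24.FSCount
import Cfsg.Agent.Lib.helper7.Thompson

set_option autoImplicit false

namespace Cfsg.Agent.Lib.Helper29

open Cfsg.Agent.Lib.helper8 Cfsg.Agent.Lib.helper23 Cfsg.Agent.Lib.helper7
open Cfsg.Agent.Lib.Helper24 Cfsg.Agent.Lib.Helper25 Cfsg.Agent.Lib.Helper26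

variable {G : Type*} [Group G] [Finite G] [IsSimpleGroup G]

set_option maxHeartbeats 800000 in
/-- a simple group of order 4080 has at most 255 involutions -/
theorem o4080_invol_le (hG : Nat.card G = 4080) :
    Nat.card {u : G // orderOf u = 2} ≤ 255 := by
  classical
  haveI : Fact (Nat.Prime 17) := ⟨by norm_num⟩
  haveI : Fintype G := Fintype.ofFinite G
  haveI : Fintype (Cfsg.IrrCharacter G) := Fintype.ofFinite _
  have hnc : ¬ IsMulCommutative G := h8_not_comm_of_card (by rw [hG]; norm_num)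
  obtain ⟨P⟩ : Nonempty (Sylow 17 G) := inferInstance
  obtain ⟨hP, hn17, hNP, hCP⟩ := o4080_syl17 hG P
  haveI : Fintype ((P : Subgroup G)) := Fintype.ofFinite _
  obtain ⟨ε, S, w, a, hε, hS, hwa, hnorm, hdeg, hcS, hcN, hw1, htS⟩ :=
    exc_main (P : Subgroup G) (p := 17) (e := 2) (t := 8) hP hCP (by rw [hNP]) (by norm_num)
      (by norm_num)
  have hsq : ∑ χ : Cfsg.IrrCharacter G, ((Cfsg.charDegree (χ : G → ℂ) : ℕ) : ℤ) ^ 2 = 4080 := by
    have h := h7_sum_degree_sq G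
    rw [← Nat.card_eq_fintype_card, hG] at h
    have h2 : ((∑ χ : Cfsg.IrrCharacter G, (Cfsg.charDegree (χ : G → ℂ)) ^ 2 : ℕ) : ℤ) = 4080 := by
      rw [h]; norm_num
    push_cast at h2
    exact h2
  have hsum := o4080_arith (fun χ : Cfsg.IrrCharacter G => Cfsg.charDegree (χ : G → ℂ)) w S ε a
    (trivIrr G) hε hS hwa (by exact_mod_cast hnorm) hdeg
    (by
      intro χ hχ
      obtain ⟨m, hm⟩ := hcS χ hχ
      exact ⟨m, by push_cast at hm; linarith⟩)
    (by
      intro χ hχ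
      obtain ⟨m, hm⟩ := hcN χ hχ
      exact ⟨m, by push_cast at hm; linarith⟩)
    hw1 htS
    (by intro χ; rw [← hG]; exact cdc_degree_dvd χ)
    hsq
    (fun χ h => exc_linear_trivial hnc χ h)
    (exc_degree_triv G)
  have hfs := fs_count_int (G := G)
  have hle : ∑ χ : Cfsg.IrrCharacter G, fsEps χ * (Cfsg.charDegree (χ : G → ℂ) : ℤ) ≤
      ∑ χ : Cfsg.IrrCharacter G, (Cfsg.charDegree (χ : G → ℂ) : ℤ) := by
    apply Finset.sum_le_sum
    intro χ _
    have h3 := fsEps_le_one χ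
    have h4 : (0 : ℤ) ≤ (Cfsg.charDegree (χ : G → ℂ) : ℤ) := Int.natCast_nonneg _
    nlinarith
  have : ((Nat.card {x : G // orderOf x = 2} : ℤ) + 1) ≤ 256 := by
    rw [hfs]; exact le_trans hle hsum
  omega

end Cfsg.Agent.Lib.Helper29
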