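import Mathlib
import Cfsg.Agent.Lib.Helper29.Ord4080C
import Cfsg.Agent.Lib.Helper29.Ord4080E
import Cfsg.Agent.Lib.Helper18.ConjCount

set_option autoImplicit false

namespace Cfsg.Agent.Lib.Helper29

open Cfsg.Agent.Lib.helper8 Cfsg.Agent.Lib.helper23 Cfsg.Agent.Lib.Helper1.O4032

variable {G : Type*} [Group G] [Finite G] [IsSimpleGroup G]

/-- exactly 255 involutions -/
theorem o4080_invol_card (hG : Nat.card G = 4080) :
    Nat.card {u : G // orderOf u = 2} = 255 := by
  haveI : Fact (Nat.Prime 17) := ⟨by norm_num⟩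
  exact le_antisymm (o4080_invol_le hG) (o4080_invol_ge hG)

/-- all involutions are conjugate -/
theorem o4080_invol_conj (hG : Nat.card G = 4080) (u v : G) (hu : orderOf u = 2)
    (hv : orderOf v = 2) : IsConj u v := by
  haveI : Fact (Nat.Prime 17) := ⟨by norm_num⟩
  have hI := o4080_invol_le hG
  obtain ⟨Q, hQ⟩ := o4080_invol_fix hG hI u hu
  obtain ⟨Q', hQ'⟩ := o4080_invol_fix hG hI v hv
  obtain ⟨g, hg⟩ := MulAction.exists_smul_eq G Q Q'
  set D := o4080_dih hG Q with hD
  set v' := g⁻¹ * v * g with hv'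
  have hv'2 : orderOf v' = 2 := by rw [hv', h8_orderOf_conj, hv]
  have hv'Q : v' • Q = Q := by
    rw [hv', mul_smul, mul_smul, hg, hQ', ← hg, inv_smul_smul]
  have huN : u ∈ Subgroup.normalizer ((Q : Subgroup G) : Set G) :=
    Sylow.smul_eq_iff_mem_normalizer.mp hQ
  have hv'N : v' ∈ Subgroup.normalizer ((Q : Subgroup G) : Set G) :=
    Sylow.smul_eq_iff_mem_normalizer.mp hv'Q
  have h1 : IsConj u v' :=
    D.conj_all u v' huN (D.not_mem_of_order_two u hu) hv'N (D.not_mem_of_order_two v' hv'2)
  have h2 : IsConj v' v := by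
    rw [isConj_iff]
    exact ⟨g, by rw [hv']; group⟩
  exact h1.trans h2

/-- involution centralizers have order 16 -/
theorem o4080_cent_invol (hG : Nat.card G = 4080) (u : G) (hu : orderOf u = 2) :
    Nat.card (Subgroup.centralizer ({u} : Set G)) = 16 := by
  have h1 := Cfsg.Agent.Lib.Helper18.card_isConj_mul_card_centralizer u
  have h2 : Nat.card {h : G // IsConj u h} = Nat.card {v : G // orderOf v = 2} := by
    apply Nat.card_congr
    refine Equiv.subtypeEquivRight (fun x => ?_)
    constructor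
    · intro hc
      obtain ⟨c, hc⟩ := isConj_iff.mp hc
      rw [← hc]
      have := h8_orderOf_conj c⁻¹ u
      rw [inv_inv] at this
      rw [this, hu]
    · intro hx
      exact o4080_invol_conj hG u x hu hx
  rw [h2, o4080_invol_card hG, hG] at h1
  omega

end Cfsg.Agent.Lib.Helper29
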