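import Mathlib
import Cfsg.Agent.Lib.Helper29.Ord4080F
import Cfsg.Agent.Lib.helper8.CountOrder

set_option autoImplicit false

namespace Cfsg.Agent.Lib.Helper29

open Cfsg.Agent.Lib.helper8 Cfsg.Agent.Lib.helper23 Cfsg.Agent.Lib.Helper1.O4032

variable {G : Type*} [Group G] [Finite G] [IsSimpleGroup G]

omit [IsSimpleGroup G] [Finite G] [Group G] in
theorem o4080_fact17 (hG : Nat.card G = 4080) : (Nat.card G).factorization 17 = 1 :=
  h8_factorization_of_eq 17 1 240 _ (by norm_num) (by rw [hG]; norm_num) (by norm_num)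

omit [IsSimpleGroup G] [Finite G] [Group G] in
theorem o4080_fact5 (hG : Nat.card G = 4080) : (Nat.card G).factorization 5 = 1 :=
  h8_factorization_of_eq 5 1 816 _ (by norm_num) (by rw [hG]; norm_num) (by norm_num)

omit [IsSimpleGroup G] [Finite G] [Group G] in
theorem o4080_fact3 (hG : Nat.card G = 4080) : (Nat.card G).factorization 3 = 1 :=
  h8_factorization_of_eq 3 1 1360 _ (by norm_num) (by rw [hG]; norm_num) (by norm_num)

/-- the centralizer of an element of order 17 is the group it generates -/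
theorem o4080_cent17 (hG : Nat.card G = 4080) (y g : G) (hy : orderOf y = 17)
    (hc : Commute g y) : g ∈ Subgroup.zpowers y := by
  haveI : Fact (Nat.Prime 17) := ⟨by norm_num⟩
  let Y : Sylow 17 G := Sylow.ofCard (Subgroup.zpowers y) (by
    rw [Nat.card_zpowers, hy, o4080_fact17 hG, pow_one])
  have hY : (Y : Subgroup G) = Subgroup.zpowers y := Sylow.coe_ofCard _ _
  obtain ⟨hP, _, _, hC⟩ := o4080_syl17 hG Y
  have hle : (Y : Subgroup G) ≤ Subgroup.centralizer ((Y : Subgroup G) : Set G) := by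
    rw [hY]
    intro a ha
    rw [Subgroup.mem_centralizer_iff]
    intro b hb
    obtain ⟨i, rfl⟩ := Subgroup.mem_zpowers_iff.mp ha
    obtain ⟨j, rfl⟩ := Subgroup.mem_zpowers_iff.mp hb
    exact ((Commute.refl y).zpow_zpow j i).eq
  have heq : (Y : Subgroup G) = Subgroup.centralizer ((Y : Subgroup G) : Set G) :=
    Subgroup.eq_of_le_of_card_ge hle (by rw [hP, hC])
  have hg : g ∈ Subgroup.centralizer ((Y : Subgroup G) : Set G) := by
    rw [hY, Subgroup.mem_centralizer_iff]
    intro b hb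
    obtain ⟨j, rfl⟩ := Subgroup.mem_zpowers_iff.mp hb
    exact (hc.zpow_right j).eq.symm
  rw [← heq, hY] at hg
  exact hg

theorem o4080_no_comm17 (hG : Nat.card G = 4080) (y g : G) (hy : orderOf y = 17)
    (hc : Commute g y) : orderOf g ∣ 17 := by
  have h := o4080_cent17 hG y g hy hc
  have h1 := orderOf_dvd_natCard (x := (⟨g, h⟩ : Subgroup.zpowers y))
  rw [Nat.card_zpowers, hy] at h1
  rw [← Subgroup.orderOf_coe] at h1
  exact h1

/-- `17` does not divide the order of the centralizer of a set containing an element whose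
order is not `1` or `17`. -/
theorem o4080_not17_dvd_centralizer (hG : Nat.card G = 4080) (S : Set G) (g : G) (hg : g ∈ S)
    (hg1 : orderOf g ≠ 1) (hg17 : orderOf g ≠ 17) :
    ¬ 17 ∣ Nat.card (Subgroup.centralizer S) := by
  haveI : Fact (Nat.Prime 17) := ⟨by norm_num⟩
  intro h
  obtain ⟨y', hy'⟩ := exists_prime_orderOf_dvd_card' 17 h
  have hy : orderOf (y' : G) = 17 := by rw [Subgroup.orderOf_coe]; exact hy'
  have hc : Commute g (y' : G) := (Subgroup.mem_centralizer_iff.mp y'.2 g hg)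
  have hd := o4080_no_comm17 hG (y' : G) g hy hc
  rcases (Nat.dvd_prime (by norm_num : Nat.Prime 17)).mp hd with h1 | h1
  · exact hg1 h1
  · exact hg17 h1

/-- an element commuting with an involution has order dividing 16 -/
theorem o4080_comm_invol (hG : Nat.card G = 4080) (s g : G) (hs : orderOf s = 2)
    (hc : Commute g s) : orderOf g ∣ 16 := by
  have hmem : g ∈ Subgroup.centralizer ({s} : Set G) := by
    rw [Subgroup.mem_centralizer_iff]
    intro b hb
    rw [Set.mem_singleton_iff] at hb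
    rw [hb]
    exact hc.eq.symm
  have h1 := orderOf_dvd_natCard (x := (⟨g, hmem⟩ : Subgroup.centralizer ({s} : Set G)))
  rw [o4080_cent_invol hG s hs, ← Subgroup.orderOf_coe] at h1
  exact h1

/-- `2` does not divide the order of the centralizer of a set containing an element whose order
does not divide 16 -/
theorem o4080_not2_dvd_centralizer (hG : Nat.card G = 4080) (S : Set G) (g : G) (hg : g ∈ S)
    (hg16 : ¬ orderOf g ∣ 16) : ¬ 2 ∣ Nat.card (Subgroup.centralizer S) := by
  haveI : Fact (Nat.Prime 2) := ⟨Nat.prime_two⟩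
  intro h
  obtain ⟨s', hs'⟩ := exists_prime_orderOf_dvd_card' 2 h
  have hs : orderOf (s' : G) = 2 := by rw [Subgroup.orderOf_coe]; exact hs'
  have hc : Commute g (s' : G) := (Subgroup.mem_centralizer_iff.mp s'.2 g hg)
  exact hg16 (o4080_comm_invol hG (s' : G) g hs hc)

/-- an element of even order has order dividing 16 -/
theorem o4080_even_order (hG : Nat.card G = 4080) (g : G) (h2 : 2 ∣ orderOf g) :
    orderOf g ∣ 16 := by
  obtain ⟨k, hk⟩ := h2
  have hpos : 0 < orderOf g := orderOf_pos g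
  have hs : orderOf (g ^ k) = 2 := by
    rw [orderOf_pow_of_dvd (by omega) ⟨2, by rw [hk]; ring⟩, hk]
    have hk0 : 0 < k := by omega
    exact Nat.mul_div_cancel 2 hk0
  exact o4080_comm_invol hG (g ^ k) g hs (Commute.pow_right (Commute.refl g) k)

/-- the possible orders of the centralizer of a Sylow subgroup for `5` -/
theorem o4080_syl5 (hG : Nat.card G = 4080) [Fact (Nat.Prime 5)] (Q : Sylow 5 G) :
    Nat.card (Q : Subgroup G) = 5 ∧ Nat.card (Sylow 5 G) = 136 ∧
    Nat.card (Subgroup.normalizer ((Q : Subgroup G) : Set G)) = 30 ∧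
    Nat.card (Subgroup.centralizer ((Q : Subgroup G) : Set G)) = 15 := by
  have hG5 : Nat.card G = 5 ^ 1 * 816 := by rw [hG]; norm_num
  have hnd : ¬ 5 ∣ 816 := by norm_num
  obtain ⟨hQc, hN, _, r, hr, hr1, hC⟩ := og3_sylow_data 5 816 hG5 hnd (by norm_num) Q
  -- an element of order 5 in Q
  obtain ⟨y', hy'⟩ := exists_prime_orderOf_dvd_card' 5 (by rw [hQc] : 5 ∣ Nat.card (Q : Subgroup G))
  have hy : orderOf (y' : G) = 5 := by rw [Subgroup.orderOf_coe]; exact hy'
  have hyQ : (y' : G) ∈ ((Q : Subgroup G) : Set G) := y'.2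
  have h17 := o4080_not17_dvd_centralizer hG ((Q : Subgroup G) : Set G) (y' : G) hyQ
    (by rw [hy]; norm_num) (by rw [hy]; norm_num)
  have h2 := o4080_not2_dvd_centralizer hG ((Q : Subgroup G) : Set G) (y' : G) hyQ
    (by rw [hy]; norm_num)
  have hQC : (Q : Subgroup G) ≤ Subgroup.centralizer ((Q : Subgroup G) : Set G) := by
    haveI : IsCyclic (Q : Subgroup G) := isCyclic_of_prime_card (hp := ⟨by norm_num⟩) hQc
    exact Subgroup.le_centralizer_iff_isMulCommutative.mpr inferInstance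
  have h5 : 5 ∣ Nat.card (Subgroup.centralizer ((Q : Subgroup G) : Set G)) := by
    have := Subgroup.card_dvd_of_le hQC
    rwa [hQc] at this
  have hdvd : Nat.card (Subgroup.centralizer ((Q : Subgroup G) : Set G)) ∣ 4080 := by
    rw [← hG]; exact Subgroup.card_subgroup_dvd_card _
  have hmem : Nat.card (Subgroup.centralizer ((Q : Subgroup G) : Set G)) ∈
      (Nat.divisors 4080).filter (fun d => ¬ 2 ∣ d ∧ ¬ 17 ∣ d ∧ 5 ∣ d) := by
    rw [Finset.mem_filter, Nat.mem_divisors]
    exact ⟨⟨hdvd, by norm_num⟩, h2, h17, h5⟩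
  have e : (Nat.divisors 4080).filter (fun d => ¬ 2 ∣ d ∧ ¬ 17 ∣ d ∧ 5 ∣ d) = {5, 15} := by
    decide +kernel
  rw [e] at hmem
  simp only [Finset.mem_insert, Finset.mem_singleton] at hmem
  have hr4 : r ∣ 4 := hr
  have hrmem : r ∈ Nat.divisors 4 := Nat.mem_divisors.mpr ⟨hr4, by norm_num⟩
  have e4 : Nat.divisors 4 = {1, 2, 4} := by decide +kernel
  rw [e4] at hrmem
  simp only [Finset.mem_insert, Finset.mem_singleton] at hrmem
  have h1 := h8_nsylow_mem (G := G) 5 1 816 hG5 hnd
  have e5 : (Nat.divisors 816).filter (fun d => d % 5 = 1) = {1, 6, 16, 51, 136, 816} := by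
    decide +kernel
  rw [e5] at h1
  simp only [Finset.mem_insert, Finset.mem_singleton] at h1
  rw [hG] at hN
  refine ⟨hQc, ?_⟩
  rcases hmem with hc | hc <;> rcases hrmem with rfl | rfl | rfl <;>
    rcases h1 with h | h | h | h | h | h <;> rw [hc] at hC <;> rw [h] at hN <;>
    first
    | omega
    | exact absurd rfl hr1
    | (refine ⟨h, ?_, hc⟩; omega)

/-- Sylow 3 data -/
theorem o4080_syl3 (hG : Nat.card G = 4080) [Fact (Nat.Prime 3)] (Q : Sylow 3 G) :
    Nat.card (Q : Subgroup G) = 3 ∧ Nat.card (Sylow 3 G) = 136 := by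
  have hG3 : Nat.card G = 3 ^ 1 * 1360 := by rw [hG]; norm_num
  have hnd : ¬ 3 ∣ 1360 := by norm_num
  obtain ⟨hQc, hN, _, r, hr, hr1, hC⟩ := og3_sylow_data 3 1360 hG3 hnd (by norm_num) Q
  obtain ⟨y', hy'⟩ := exists_prime_orderOf_dvd_card' 3 (by rw [hQc] : 3 ∣ Nat.card (Q : Subgroup G))
  have hy : orderOf (y' : G) = 3 := by rw [Subgroup.orderOf_coe]; exact hy'
  have hyQ : (y' : G) ∈ ((Q : Subgroup G) : Set G) := y'.2
  have h17 := o4080_not17_dvd_centralizer hG ((Q : Subgroup G) : Set G) (y' : G) hyQ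
    (by rw [hy]; norm_num) (by rw [hy]; norm_num)
  have h2 := o4080_not2_dvd_centralizer hG ((Q : Subgroup G) : Set G) (y' : G) hyQ
    (by rw [hy]; norm_num)
  have hQC : (Q : Subgroup G) ≤ Subgroup.centralizer ((Q : Subgroup G) : Set G) := by
    haveI : IsCyclic (Q : Subgroup G) := isCyclic_of_prime_card (hp := ⟨by norm_num⟩) hQc
    exact Subgroup.le_centralizer_iff_isMulCommutative.mpr inferInstance
  have h3 : 3 ∣ Nat.card (Subgroup.centralizer ((Q : Subgroup G) : Set G)) := by
    have := Subgroup.card_dvd_of_le hQC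
    rwa [hQc] at this
  have hdvd : Nat.card (Subgroup.centralizer ((Q : Subgroup G) : Set G)) ∣ 4080 := by
    rw [← hG]; exact Subgroup.card_subgroup_dvd_card _
  have hmem : Nat.card (Subgroup.centralizer ((Q : Subgroup G) : Set G)) ∈
      (Nat.divisors 4080).filter (fun d => ¬ 2 ∣ d ∧ ¬ 17 ∣ d ∧ 3 ∣ d) := by
    rw [Finset.mem_filter, Nat.mem_divisors]
    exact ⟨⟨hdvd, by norm_num⟩, h2, h17, h3⟩
  have e : (Nat.divisors 4080).filter (fun d => ¬ 2 ∣ d ∧ ¬ 17 ∣ d ∧ 3 ∣ d) = {3, 15} := by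
    decide +kernel
  rw [e] at hmem
  simp only [Finset.mem_insert, Finset.mem_singleton] at hmem
  have hr2 : r ∣ 2 := hr
  have hrmem : r ∈ Nat.divisors 2 := Nat.mem_divisors.mpr ⟨hr2, by norm_num⟩
  have e2 : Nat.divisors 2 = {1, 2} := by decide +kernel
  rw [e2] at hrmem
  simp only [Finset.mem_insert, Finset.mem_singleton] at hrmem
  have h1 := h8_nsylow_mem (G := G) 3 1 1360 hG3 hnd
  have e3 : (Nat.divisors 1360).filter (fun d => d % 3 = 1) =
      {1, 4, 10, 16, 34, 40, 85, 136, 340, 1360} := by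
    decide +kernel
  rw [e3] at h1
  simp only [Finset.mem_insert, Finset.mem_singleton] at h1
  rw [hG] at hN
  refine ⟨hQc, ?_⟩
  rcases hmem with hc | hc <;> rcases hrmem with rfl | rfl <;>
    rcases h1 with h | h | h | h | h | h | h | h | h | h <;> rw [hc] at hC <;> rw [h] at hN <;>
    first
    | omega
    | exact absurd rfl hr1
    | exact h

end Cfsg.Agent.Lib.Helper29
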