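import Mathlib
import Cfsg.Agent.Lib.Helper29.Ord4080G

set_option autoImplicit false

namespace Cfsg.Agent.Lib.Helper29

open Cfsg.Agent.Lib.helper8 Cfsg.Agent.Lib.helper23 Cfsg.Agent.Lib.Helper1.O4032

variable {G : Type*} [Group G] [Finite G] [IsSimpleGroup G]

/-- every element of order 5 commutes with an element of order 3 -/
theorem o4080_exists_comm3 (hG : Nat.card G = 4080) (y : G) (hy : orderOf y = 5) :
    ∃ u : G, orderOf u = 3 ∧ Commute y u := by
  haveI : Fact (Nat.Prime 5) := ⟨by norm_num⟩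
  haveI : Fact (Nat.Prime 3) := ⟨by norm_num⟩
  let Y : Sylow 5 G := Sylow.ofCard (Subgroup.zpowers y) (by
    rw [Nat.card_zpowers, hy, o4080_fact5 hG, pow_one])
  have hY : (Y : Subgroup G) = Subgroup.zpowers y := Sylow.coe_ofCard _ _
  obtain ⟨_, _, _, hC⟩ := o4080_syl5 hG Y
  have h3 : 3 ∣ Nat.card (Subgroup.centralizer ((Y : Subgroup G) : Set G)) := by
    rw [hC]; norm_num
  obtain ⟨u', hu'⟩ := exists_prime_orderOf_dvd_card' 3 h3
  refine ⟨(u' : G), by rw [Subgroup.orderOf_coe]; exact hu', ?_⟩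
  have hyY : y ∈ ((Y : Subgroup G) : Set G) := by
    rw [hY]; exact Subgroup.mem_zpowers y
  exact (Subgroup.mem_centralizer_iff.mp u'.2 y hyY)

/-- at least 1088 elements of order 15 -/
theorem o4080_card_order15 (hG : Nat.card G = 4080) :
    1088 ≤ Nat.card {g : G // orderOf g = 15} := by
  classical
  haveI : Fact (Nat.Prime 5) := ⟨by norm_num⟩
  have h5 : Nat.card {g : G // orderOf g = 5} = 544 := by
    rw [h8_card_orderOf_eq_prime 5 816 (by rw [hG]) (by norm_num),
      (o4080_syl5 hG (Classical.arbitrary (Sylow 5 G))).2.1]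
  choose u hu3 hucomm using fun y : {g : G // orderOf g = 5} => o4080_exists_comm3 hG y.1 y.2
  have hord : ∀ (y : {g : G // orderOf g = 5}) (i : Fin 2),
      orderOf ((y : G) * (u y) ^ ((i : ℕ) + 1)) = 15 := by
    intro y i
    have hui : orderOf ((u y) ^ ((i : ℕ) + 1)) = 3 := by
      have hcop : Nat.Coprime (orderOf (u y)) ((i : ℕ) + 1) := by
        rw [hu3 y]
        have : (i : ℕ) = 0 ∨ (i : ℕ) = 1 := by omega
        rcases this with h | h <;> rw [h] <;> norm_num
      rw [hcop.orderOf_pow, hu3 y]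
    rw [Commute.orderOf_mul_eq_mul_orderOf_of_coprime ((hucomm y).pow_right _)
      (by rw [y.2, hui]; norm_num), y.2, hui]
  let φ : {g : G // orderOf g = 5} × Fin 2 → {g : G // orderOf g = 15} :=
    fun p => ⟨(p.1 : G) * (u p.1) ^ ((p.2 : ℕ) + 1), hord p.1 p.2⟩
  have hpow6 : ∀ (y : {g : G // orderOf g = 5}) (i : Fin 2),
      ((y : G) * (u y) ^ ((i : ℕ) + 1)) ^ 6 = (y : G) := by
    intro y i
    rw [((hucomm y).pow_right _).mul_pow]
    have hy5 : (y : G) ^ 5 = 1 := by
      have := pow_orderOf_eq_one (y : G)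
      rwa [y.2] at this
    have hu3' : (u y) ^ 3 = 1 := by
      have := pow_orderOf_eq_one (u y)
      rwa [hu3 y] at this
    have e1 : (y : G) ^ 6 = (y : G) := by rw [pow_succ, hy5, one_mul]
    have e2 : ((u y) ^ ((i : ℕ) + 1)) ^ 6 = 1 := by
      rw [← pow_mul, show ((i : ℕ) + 1) * 6 = 3 * (2 * ((i : ℕ) + 1)) by ring, pow_mul, hu3',
        one_pow]
    rw [e1, e2, mul_one]
  have hφ : Function.Injective φ := by
    intro p q hpq
    have h1 : (p.1 : G) * (u p.1) ^ ((p.2 : ℕ) + 1) = (q.1 : G) * (u q.1) ^ ((q.2 : ℕ) + 1) :=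
      congrArg Subtype.val hpq
    have hy : (p.1 : G) = (q.1 : G) := by
      rw [← hpow6 p.1 p.2, ← hpow6 q.1 q.2, h1]
    have hy' : p.1 = q.1 := Subtype.ext hy
    have h2 : (u p.1) ^ ((p.2 : ℕ) + 1) = (u p.1) ^ ((q.2 : ℕ) + 1) := by
      rw [hy'] at h1 ⊢
      exact mul_left_cancel h1
    have hi : (p.2 : ℕ) = (q.2 : ℕ) := by
      by_contra hne
      have hp2 : (p.2 : ℕ) = 0 ∨ (p.2 : ℕ) = 1 := by omega
      have hq2 : (q.2 : ℕ) = 0 ∨ (q.2 : ℕ) = 1 := by omega
      have hu1 : u p.1 = 1 := by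
        rcases hp2 with h | h <;> rcases hq2 with h' | h' <;> rw [h, h'] at h2
        · exact absurd (h.trans h'.symm) hne
        · rw [zero_add, pow_one, pow_two] at h2
          exact (mul_eq_left.mp h2.symm)
        · rw [zero_add, pow_one, pow_two] at h2
          exact (mul_eq_left.mp h2)
        · exact absurd (h.trans h'.symm) hne
      have := hu3 p.1
      rw [hu1, orderOf_one] at this
      omega
    exact Prod.ext hy' (Fin.ext hi)
  have hcard := Nat.card_le_card_of_injective φ hφ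
  rw [Nat.card_prod, h5, Nat.card_eq_fintype_card (α := Fin 2), Fintype.card_fin] at hcard
  omega

/-- no element of order 4 -/
theorem o4080_no_order4 (hG : Nat.card G = 4080) (g : G) : orderOf g ≠ 4 := by
  classical
  haveI : Fact (Nat.Prime 5) := ⟨by norm_num⟩
  haveI : Fact (Nat.Prime 3) := ⟨by norm_num⟩
  haveI : Fact (Nat.Prime 17) := ⟨by norm_num⟩
  intro h4
  have h5 : Nat.card {g : G // orderOf g = 5} = 544 := by
    rw [h8_card_orderOf_eq_prime 5 816 (by rw [hG]) (by norm_num),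
      (o4080_syl5 hG (Classical.arbitrary (Sylow 5 G))).2.1]
  have h3 : Nat.card {g : G // orderOf g = 3} = 272 := by
    rw [h8_card_orderOf_eq_prime 3 1360 (by rw [hG]) (by norm_num),
      (o4080_syl3 hG (Classical.arbitrary (Sylow 3 G))).2]
  have h17 : Nat.card {g : G // orderOf g = 17} = 1920 := by
    rw [h8_card_orderOf_eq_prime 17 240 (by rw [hG]) (by norm_num),
      (o4080_syl17 hG (Classical.arbitrary (Sylow 17 G))).2.1]
  have h2 := o4080_invol_card hG
  have h15 := o4080_card_order15 hG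
  have h1 : Nat.card {g : G // orderOf g = 1} = 1 := by
    have : Nat.card {g : G // orderOf g = 1} = Nat.card {g : G // g = 1} := by
      apply Nat.card_congr
      exact Equiv.subtypeEquivRight (fun x => orderOf_eq_one_iff)
    rw [this]
    simp
  have h4' : 1 ≤ Nat.card {x : G // orderOf x = 4} := by
    apply Nat.card_pos_iff.mpr
    exact ⟨⟨⟨g, h4⟩⟩, inferInstance⟩
  have hsum := h8_sum_card_orderOf_le (G := G) ({1, 2, 3, 4, 5, 15, 17} : Finset ℕ)
  rw [hG] at hsum
  simp only [Finset.mem_insert, Finset.mem_singleton, Nat.reduceEqDiff, or_self,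
    not_false_eq_true, Finset.sum_insert, Finset.sum_singleton,
    OfNat.one_ne_ofNat] at hsum
  omega

end Cfsg.Agent.Lib.Helper29
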