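import Mathlib
import Cfsg.Agent.Lib.Helper29.Ord4080H

set_option autoImplicit false

namespace Cfsg.Agent.Lib.Helper29

open Cfsg.Agent.Lib.helper8 Cfsg.Agent.Lib.helper23 Cfsg.Agent.Lib.Helper1.O4032

variable {G : Type*} [Group G] [Finite G] [IsSimpleGroup G]

omit [IsSimpleGroup G] in
theorem o4080_syl2_card (hG : Nat.card G = 4080) [Fact (Nat.Prime 2)] (S : Sylow 2 G) :
    Nat.card (S : Subgroup G) = 16 := by
  have := h8_sylow_card 2 4 255 (by rw [hG]; norm_num) (by norm_num) S
  rw [this]; norm_num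

/-- elements of a Sylow 2-subgroup square to one -/
theorem o4080_syl2_sq (hG : Nat.card G = 4080) [Fact (Nat.Prime 2)] (S : Sylow 2 G) (s : G)
    (hs : s ∈ (S : Subgroup G)) : s * s = 1 := by
  have h1 : orderOf s ∣ 16 := by
    have := Subgroup.orderOf_dvd_natCard _ hs
    rwa [o4080_syl2_card hG S] at this
  have hmem : orderOf s ∈ Nat.divisors 16 := Nat.mem_divisors.mpr ⟨h1, by norm_num⟩
  have e16 : Nat.divisors 16 = {1, 2, 4, 8, 16} := by decide +kernel
  rw [e16] at hmem
  simp only [Finset.mem_insert, Finset.mem_singleton] at hmem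
  rcases hmem with h | h | h | h | h
  · rw [orderOf_eq_one_iff.mp h, mul_one]
  · rw [← pow_two, ← h]; exact pow_orderOf_eq_one s
  · exact absurd h (o4080_no_order4 hG s)
  · exfalso
    apply o4080_no_order4 hG (s ^ 2)
    rw [orderOf_pow_of_dvd (by norm_num) (by rw [h]; norm_num), h]
  · exfalso
    apply o4080_no_order4 hG (s ^ 4)
    rw [orderOf_pow_of_dvd (by norm_num) (by rw [h]; norm_num), h]

/-- a Sylow 2-subgroup is the centralizer of each of its involutions -/
theorem o4080_syl2_eq_cent (hG : Nat.card G = 4080) [Fact (Nat.Prime 2)] (S : Sylow 2 G) (u : G)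
    (hu : orderOf u = 2) (huS : u ∈ (S : Subgroup G)) :
    (S : Subgroup G) = Subgroup.centralizer ({u} : Set G) := by
  apply Subgroup.eq_of_le_of_card_ge
  · intro s hs
    rw [Subgroup.mem_centralizer_iff]
    intro b hb
    rw [Set.mem_singleton_iff] at hb
    rw [hb]
    have h1 := o4080_syl2_sq hG S s hs
    have h2 := o4080_syl2_sq hG S u huS
    have h3 := o4080_syl2_sq hG S (s * u) (Subgroup.mul_mem _ hs huS)
    -- (s u)(s u) = 1, s s = 1, u u = 1 ⟹ u s = s u
    have hsi : s⁻¹ = s := inv_eq_of_mul_eq_one_left h1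
    have hui : u⁻¹ = u := inv_eq_of_mul_eq_one_left h2
    have : (s * u)⁻¹ = s * u := inv_eq_of_mul_eq_one_left h3
    rw [mul_inv_rev, hsi, hui] at this
    exact this
  · rw [o4080_cent_invol hG u hu, o4080_syl2_card hG S]

/-- two Sylow 2-subgroups sharing an involution are equal -/
theorem o4080_syl2_unique (hG : Nat.card G = 4080) [Fact (Nat.Prime 2)] (S S' : Sylow 2 G) (u : G)
    (hu : orderOf u = 2) (huS : u ∈ (S : Subgroup G)) (huS' : u ∈ (S' : Subgroup G)) : S = S' := by
  apply Sylow.ext
  rw [o4080_syl2_eq_cent hG S u hu huS, o4080_syl2_eq_cent hG S' u hu huS']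

/-- each Sylow 2-subgroup contains exactly 15 involutions -/
theorem o4080_syl2_invol (hG : Nat.card G = 4080) [Fact (Nat.Prime 2)] (S : Sylow 2 G) :
    Nat.card {u : G // orderOf u = 2 ∧ u ∈ (S : Subgroup G)} = 15 := by
  classical
  have h1 : Nat.card {u : G // orderOf u = 2 ∧ u ∈ (S : Subgroup G)} =
      Nat.card {u : (S : Subgroup G) // u ≠ 1} := by
    apply Nat.card_congr
    refine
      { toFun := fun u => ⟨⟨u.1, u.2.2⟩, ?_⟩
        invFun := fun u => ⟨u.1.1, ?_, u.1.2⟩
        left_inv := fun u => rfl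
        right_inv := fun u => rfl }
    · intro h
      have h2 : (u.1 : G) = 1 := congrArg Subtype.val h
      have := u.2.1
      rw [h2, orderOf_one] at this
      omega
    · apply orderOf_eq_prime
      · rw [pow_two]; exact o4080_syl2_sq hG S u.1.1 u.1.2
      · intro h
        exact u.2 (Subtype.ext h)
  rw [h1]
  have h2 : Nat.card {u : (S : Subgroup G) // u ≠ 1} = Nat.card (S : Subgroup G) - 1 := by
    haveI : Fintype (S : Subgroup G) := Fintype.ofFinite _
    rw [Nat.card_eq_fintype_card, Nat.card_eq_fintype_card, Fintype.card_subtype_compl,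
      Fintype.card_subtype_eq]
  rw [h2, o4080_syl2_card hG S]

/-- there are exactly 17 Sylow 2-subgroups -/
theorem o4080_n2 (hG : Nat.card G = 4080) [Fact (Nat.Prime 2)] :
    Nat.card (Sylow 2 G) = 17 := by
  classical
  haveI : Fintype G := Fintype.ofFinite G
  haveI : Fintype (Sylow 2 G) := Fintype.ofFinite _
  have h := Finset.sum_card_bipartiteAbove_eq_sum_card_bipartiteBelow
    (s := Finset.univ.filter (fun u : G => orderOf u = 2))
    (t := (Finset.univ : Finset (Sylow 2 G))) (fun (u : G) (S : Sylow 2 G) => u ∈ (S : Subgroup G))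
  have e1 : ∀ u ∈ Finset.univ.filter (fun u : G => orderOf u = 2),
      ((Finset.univ : Finset (Sylow 2 G)).bipartiteAbove
        (fun (u : G) (S : Sylow 2 G) => u ∈ (S : Subgroup G)) u).card = 1 := by
    intro u hu
    have hu2 : orderOf u = 2 := (Finset.mem_filter.mp hu).2
    rw [Finset.card_eq_one]
    have hp : IsPGroup 2 (Subgroup.zpowers u) := by
      apply IsPGroup.of_card (n := 1)
      rw [Nat.card_zpowers, hu2, pow_one]
    obtain ⟨S, hS⟩ := hp.exists_le_sylow
    have huS : u ∈ (S : Subgroup G) := hS (Subgroup.mem_zpowers u)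
    refine ⟨S, ?_⟩
    ext S'
    simp only [Finset.bipartiteAbove, Finset.mem_filter, Finset.mem_univ, true_and,
      Finset.mem_singleton]
    constructor
    · intro h'
      exact (o4080_syl2_unique hG S S' u hu2 huS h').symm
    · intro h'
      rw [h']; exact huS
  have e2 : ∀ S ∈ (Finset.univ : Finset (Sylow 2 G)),
      ((Finset.univ.filter (fun u : G => orderOf u = 2)).bipartiteBelow
        (fun (u : G) (S : Sylow 2 G) => u ∈ (S : Subgroup G)) S).card = 15 := by
    intro S _
    have h15 := o4080_syl2_invol hG S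
    rw [Nat.card_eq_fintype_card, Fintype.card_subtype] at h15
    refine Eq.trans ?_ h15
    congr 1
    ext u
    simp [Finset.bipartiteBelow]
  rw [Finset.sum_congr rfl e1, Finset.sum_congr rfl e2, Finset.sum_const, Finset.sum_const,
    smul_eq_mul, smul_eq_mul, mul_one, Finset.card_univ] at h
  have hI := o4080_invol_card hG
  rw [Nat.card_eq_fintype_card, Fintype.card_subtype] at hI
  rw [hI] at h
  rw [Nat.card_eq_fintype_card]
  omega

end Cfsg.Agent.Lib.Helper29
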