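import Mathlib
import Cfsg.Agent.Lib.Helper29.Ord4080I
import Cfsg.Agent.S4706
import Cfsg.Agent.Lib.helper6.PGLSL
import Cfsg.Agent.Lib.helper6.SylowPSL

set_option autoImplicit false

namespace Cfsg.Agent.Lib.Helper29

open Cfsg.Agent.Lib.helper8 Cfsg.Agent.Lib.helper23 Cfsg.Agent.Lib.Helper1.O4032

/-- a simple group of order 4080 is `SL₂` of a field with 16 elements -/
theorem o4080_sl2 {G : Type*} [Group G] [Finite G] [IsSimpleGroup G] (hG : Nat.card G = 4080) :
    ∃ (F : Type) (_ : Field F) (_ : Fintype F), Fintype.card F = 16 ∧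
      Nonempty (G ≃* Matrix.SpecialLinearGroup (Fin 2) F) := by
  classical
  haveI : Fact (Nat.Prime 2) := ⟨Nat.prime_two⟩
  haveI : Fact (Nat.Prime 17) := ⟨by norm_num⟩
  haveI : Fintype (Sylow 2 G) := Fintype.ofFinite _
  have hα : Fintype.card (Sylow 2 G) = 17 := by
    rw [← Nat.card_eq_fintype_card]; exact o4080_n2 hG
  let φ : G →* Equiv.Perm (Sylow 2 G) := MulAction.toPermHom G (Sylow 2 G)
  have hker : φ.ker = ⊥ := by
    rcases IsSimpleGroup.eq_bot_or_eq_top_of_normal φ.ker inferInstance with h | h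
    · exact h
    · exfalso
      -- the action is transitive on 17 points
      obtain ⟨S⟩ : Nonempty (Sylow 2 G) := inferInstance
      have hall : ∀ S' : Sylow 2 G, S' = S := by
        intro S'
        obtain ⟨g, hg⟩ := MulAction.exists_smul_eq G S S'
        have hgk : g ∈ φ.ker := by rw [h]; trivial
        have h1 : φ g = 1 := MonoidHom.mem_ker.mp hgk
        have h2 : g • S = S := by
          have := congrArg (fun σ : Equiv.Perm (Sylow 2 G) => σ S) h1
          simpa [φ] using this
        rw [← hg, h2]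
      have : Fintype.card (Sylow 2 G) ≤ 1 := by
        rw [Fintype.card_le_one_iff]
        intro a b
        rw [hall a, hall b]
      omega
  have hinj : Function.Injective φ := (MonoidHom.ker_eq_bot_iff φ).mp hker
  let e : G ≃* φ.range := MonoidHom.ofInjective hinj
  haveI : IsSimpleGroup φ.range := MulEquiv.isSimpleGroup e.symm
  have hG' : Nat.card φ.range = 4080 := by
    rw [← hG]; exact (Nat.card_congr e.toEquiv).symm
  obtain ⟨P'⟩ : Nonempty (Sylow 17 φ.range) := inferInstance
  obtain ⟨_, _, hN', _⟩ := o4080_syl17 hG' P'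
  have hres := Cfsg.Agent.S4706.result (α := Sylow 2 G) (p := 17) (by norm_num) hα φ.range P'
    (by rw [hN'])
  rcases hres with hn | ⟨a, F, hField, hFin, h17, hFc, ⟨e2⟩⟩
  · exfalso
    have : Subgroup.normalizer ((P' : Subgroup φ.range) : Set φ.range) = ⊤ :=
      Subgroup.normalizer_eq_top_iff.mpr hn
    rw [this, Subgroup.card_top, hG'] at hN'
    omega
  · refine ⟨F, hField, hFin, ?_, ⟨e.trans e2⟩⟩
    rw [hFc]; omega

/-- a simple group of order 4080 is `PSL₂(F)` for any field `F` with 16 elements -/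
theorem o4080_main {G : Type*} [Group G] [Finite G] [IsSimpleGroup G] (hG : Nat.card G = 4080)
    {F : Type*} [Field F] [Fintype F] (hF : Fintype.card F = 16) :
    Nonempty (G ≃* Matrix.ProjectiveSpecialLinearGroup (Fin 2) F) := by
  obtain ⟨F', hField, hFin, hFc, ⟨e⟩⟩ := o4080_sl2 hG
  have h2 : (2 : F') = 0 := by
    have h16 := FiniteField.cast_card_eq_zero F'
    rw [hFc] at h16
    have : (2 : F') ^ 4 = 0 := by
      have e16 : ((16 : ℕ) : F') = (2 : F') ^ 4 := by norm_num
      rw [← e16]; exact h16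
    exact pow_eq_zero_iff (by norm_num) |>.mp this
  have e2 : Matrix.ProjectiveSpecialLinearGroup (Fin 2) F' ≃*
      Matrix.SpecialLinearGroup (Fin 2) F' := by
    unfold Matrix.ProjectiveSpecialLinearGroup
    exact (QuotientGroup.quotientMulEquivOfEq
      (Cfsg.Agent.Lib.helper6.PGLSL.center_SL2_bot h2)).trans (QuotientGroup.quotientBot)
  have e3 : F' ≃+* F := FiniteField.ringEquivOfCardEq (by rw [hFc, hF])
  obtain ⟨e4⟩ := Cfsg.Agent.Lib.helper6.SylowPSL.psl_congr e3
  exact ⟨(e.trans e2.symm).trans e4⟩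

end Cfsg.Agent.Lib.Helper29
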