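import Mathlib
import Cfsg.Prelude.Def_Classical
import Cfsg.Agent.Lib.helper23.P4S.Defs
import Cfsg.Agent.S0246
import Cfsg.Agent.S2469
import Cfsg.Agent.Lib.helper15.SpCons

set_option autoImplicit false

/-!
# Project P4S (S3466, designer helper23), row L3A: `exists_mixed_odd` (helper29).
-/

namespace Cfsg.Agent.Lib.helper23.P4S

open Matrix Polynomial

/-- the product of an element of order `N` prime to `p` and a unipotent element of order `p` (`p` odd), embedded in `Sp₄`,
has the same order `p N` in `PSp₄` -/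
theorem p4sl3a_core {F : Type*} [Field F] (p : ℕ) [Fact p.Prime] [CharP F p] (hp2 : p ≠ 2) (N : ℕ)
    (hcop : Nat.Coprime N p)
    (x1 : Matrix.symplecticGroup (Fin 1) F) (hx1 : orderOf x1 = N) :
    ∃ y : Cfsg.PSp 2 F, orderOf y = p * N := by
  have hp : p.Prime := Fact.out
  obtain ⟨u, hu⟩ := Cfsg.Agent.Lib.helper15.SpCons.exists_unip_order (F := F) p hp2 1 1 (Or.inr (by simp))
  rw [pow_one] at hu
  obtain ⟨φ, hinj, hφ⟩ := Cfsg.Agent.Lib.helper15.SpCons.exists_prod_emb_sc (F := F) 1 1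
  have hg : orderOf (φ (x1, u)) = p * N := by
    rw [orderOf_injective φ hinj, Prod.orderOf_mk, hx1, hu, hcop.lcm_eq_mul, mul_comm]
  refine ⟨QuotientGroup.mk (φ (x1, u) : Matrix.symplecticGroup (Fin 2) F), ?_⟩
  rw [← hg]
  apply orderOf_eq_orderOf_iff.mpr
  intro k
  constructor
  · intro hk
    rw [← QuotientGroup.mk_pow, QuotientGroup.eq_one_iff] at hk
    rcases Cfsg.Agent.S0246.center_cases (by norm_num) _ hk with h | h
    · exact h
    · exfalso
      have h1 : ((φ ((x1, u) ^ k) : Matrix.symplecticGroup (Fin (1 + 1)) F) :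
          Matrix (Fin (1 + 1) ⊕ Fin (1 + 1)) (Fin (1 + 1) ⊕ Fin (1 + 1)) F) = (-1 : F) • 1 := by
        rw [map_pow]
        have := congrArg (fun z : Matrix.symplecticGroup (Fin 2) F =>
          (z : Matrix (Fin 2 ⊕ Fin 2) (Fin 2 ⊕ Fin 2) F)) h
        simp only [Cfsg.Agent.S0246.negOne_coe] at this
        rw [neg_one_smul]
        exact this
      obtain ⟨-, h2⟩ := hφ ((x1, u) ^ k) (-1) h1
      have h2' : ((u ^ k : Matrix.symplecticGroup (Fin 1) F) :
          Matrix (Fin 1 ⊕ Fin 1) (Fin 1 ⊕ Fin 1) F) = (-1 : F) • 1 := h2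
      have hu2k : u ^ (k * 2) = 1 := by
        rw [pow_mul]
        apply Subtype.ext
        rw [pow_two, Submonoid.coe_mul, h2', Submonoid.coe_one]
        simp
      have hd : p ∣ k * 2 := by rw [← hu]; exact orderOf_dvd_of_pow_eq_one hu2k
      have hpk : p ∣ k := by
        have hc2 : Nat.Coprime p 2 := (Nat.coprime_primes hp Nat.prime_two).mpr hp2
        exact hc2.dvd_of_dvd_mul_right hd
      have huk : u ^ k = 1 := by
        rw [← hu] at hpk
        exact orderOf_dvd_iff_pow_eq_one.mp hpk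
      rw [huk, Submonoid.coe_one] at h2'
      have h3 := congrFun (congrFun h2' (Sum.inl 0)) (Sum.inl 0)
      simp only [Matrix.one_apply_eq, Matrix.smul_apply, smul_eq_mul, mul_one] at h3
      have h4 : ((2 : ℕ) : F) = 0 := by
        have : (2 : F) = 1 - (-1 : F) := by ring
        push_cast
        rw [this, ← h3]; ring
      have h5 : p ∣ 2 := (CharP.cast_eq_zero_iff F p 2).mp h4
      exact hp2 ((Nat.prime_dvd_prime_iff_eq hp Nat.prime_two).mp h5)
  · intro hk
    rw [← QuotientGroup.mk_pow, hk, QuotientGroup.mk_one]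

/-- L3a [M] (`p` odd): elements of order `p (q ± 1)` in `PSp₄(q)`. -/
theorem exists_mixed_odd {F : Type*} [Field F] [Fintype F] (p : ℕ) [Fact p.Prime] [CharP F p] (hp2 : p ≠ 2) :
    (∃ y : Cfsg.PSp 2 F, orderOf y = p * (Fintype.card F + 1)) ∧
      (∃ y : Cfsg.PSp 2 F, orderOf y = p * (Fintype.card F - 1)) := by
  have hp : p.Prime := Fact.out
  obtain ⟨n, hn⟩ := FiniteField.card F p
  have hpq : p ∣ Fintype.card F := by
    rw [hn.2]
    exact dvd_pow_self p n.pos.ne'
  have hq1 : 1 ≤ Fintype.card F := Fintype.card_pos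
  have hc1 : Nat.Coprime (Fintype.card F + 1) p := by
    rw [Nat.coprime_comm, Nat.Prime.coprime_iff_not_dvd hp]
    intro h
    have : p ∣ 1 := (Nat.dvd_add_right hpq).mp h
    exact hp.one_lt.ne' (Nat.dvd_one.mp this)
  have hc2 : Nat.Coprime (Fintype.card F - 1) p := by
    rw [Nat.coprime_comm, Nat.Prime.coprime_iff_not_dvd hp]
    intro h
    have h' : p ∣ (Fintype.card F - 1) + 1 := by rw [Nat.sub_add_cancel hq1]; exact hpq
    have : p ∣ 1 := (Nat.dvd_add_right h).mp h'
    exact hp.one_lt.ne' (Nat.dvd_one.mp this)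
  obtain ⟨x1, hx1⟩ := Cfsg.Agent.S2469.exists_cyc_sp_even (F := F) 1 1 (Fintype.card F + 1) one_pos le_rfl
    (by rw [pow_one])
  obtain ⟨x2, hx2⟩ := Cfsg.Agent.S2469.exists_cyc_sp_odd (F := F) 1 1 (Fintype.card F - 1) one_pos le_rfl
    (by rw [pow_one])
  exact ⟨p4sl3a_core p hp2 _ hc1 x1 hx1, p4sl3a_core p hp2 _ hc2 x2 hx2⟩

end Cfsg.Agent.Lib.helper23.P4S
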