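import Mathlib
import Cfsg.Prelude.Def_Classical
import Cfsg.Agent.Lib.helper23.P4S.Defs
import Cfsg.Agent.S2469
import Cfsg.Agent.Lib.helper15.SpCons
import Cfsg.Agent.Lib.helper2.SO8A1

set_option autoImplicit false

/-!
# Project P4S (S3466, designer helper23), row L3B: `exists_mixed_two` (helper29).
-/

namespace Cfsg.Agent.Lib.helper23.P4S

open Matrix Polynomial

/-- an involution of `Sp₂(F)` in characteristic 2 -/
theorem p4sl3b_invol {F : Type*} [Field F] [CharP F 2] :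
    ∃ u : Matrix.symplecticGroup (Fin 1) F, orderOf u = 2 := by
  have hmem : (Matrix.fromBlocks (1 : Matrix (Fin 1) (Fin 1) F) 1 0 1) ∈ Matrix.symplecticGroup (Fin 1) F := by
    rw [SymplecticGroup.mem_iff, Matrix.J, Matrix.fromBlocks_multiply, Matrix.fromBlocks_transpose,
      Matrix.fromBlocks_multiply]
    simp
  refine ⟨⟨_, hmem⟩, ?_⟩
  have h11 : (1 : Matrix (Fin 1) (Fin 1) F) + 1 = 0 := by
    ext i j
    have hi : i = 0 := Subsingleton.elim _ _
    have hj : j = 0 := Subsingleton.elim _ _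
    subst hi; subst hj
    simp [CharTwo.add_self_eq_zero]
  apply orderOf_eq_prime
  · apply Subtype.ext
    rw [pow_two, Submonoid.coe_mul, Submonoid.coe_one]
    show Matrix.fromBlocks (1 : Matrix (Fin 1) (Fin 1) F) 1 0 1 * Matrix.fromBlocks 1 1 0 1 = 1
    rw [Matrix.fromBlocks_multiply]
    simp only [mul_one, mul_zero, add_zero, zero_add]
    rw [h11, Matrix.fromBlocks_one]
  · intro h
    have h1 := congrArg (fun z : Matrix.symplecticGroup (Fin 1) F =>
      (z : Matrix (Fin 1 ⊕ Fin 1) (Fin 1 ⊕ Fin 1) F) (Sum.inl 0) (Sum.inr 0)) h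
    simp at h1

/-- the product of an element of odd order `N` and an involution, embedded in `Sp₄`, char 2 -/
theorem p4sl3b_core {F : Type*} [Field F] [CharP F 2] (N : ℕ) (hodd : Odd N)
    (x1 : Matrix.symplecticGroup (Fin 1) F) (hx1 : orderOf x1 = N) :
    ∃ y : Cfsg.PSp 2 F, orderOf y = 2 * N := by
  obtain ⟨u, hu⟩ := p4sl3b_invol (F := F)
  obtain ⟨φ, hinj, -⟩ := Cfsg.Agent.Lib.helper15.SpCons.exists_prod_emb_sc (F := F) 1 1
  have hcop : Nat.Coprime N 2 := Nat.Coprime.symm (Nat.coprime_two_left.mpr hodd)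
  have hg : orderOf (φ (x1, u)) = 2 * N := by
    rw [orderOf_injective φ hinj, Prod.orderOf_mk, hx1, hu, hcop.lcm_eq_mul, mul_comm]
  have hmem : 2 * N ∈ Set.range (orderOf : Matrix.symplecticGroup (Fin 2) F → ℕ) :=
    ⟨(φ (x1, u) : Matrix.symplecticGroup (Fin 2) F), hg⟩
  rw [← Cfsg.Agent.Lib.Helper19.SO8.psp_range 2 (by norm_num)] at hmem
  exact hmem

/-- L3b [M] (`p = 2`): elements of order `2 (q ± 1)` in `PSp₄(q)`. -/
theorem exists_mixed_two {F : Type*} [Field F] [Fintype F] [CharP F 2] :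
    (∃ y : Cfsg.PSp 2 F, orderOf y = 2 * (Fintype.card F + 1)) ∧
      (∃ y : Cfsg.PSp 2 F, orderOf y = 2 * (Fintype.card F - 1)) := by
  have : Fact (Nat.Prime 2) := ⟨Nat.prime_two⟩
  obtain ⟨n, hn⟩ := FiniteField.card F 2
  have heven : Even (Fintype.card F) := by
    rw [hn.2]
    exact (Nat.even_pow' n.pos.ne').mpr even_two
  have hq1 : 1 ≤ Fintype.card F := Fintype.card_pos
  have ho1 : Odd (Fintype.card F + 1) := heven.add_one
  have ho2 : Odd (Fintype.card F - 1) := by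
    obtain ⟨r, hr⟩ := heven
    refine ⟨r - 1, ?_⟩
    omega
  obtain ⟨x1, hx1⟩ := Cfsg.Agent.S2469.exists_cyc_sp_even (F := F) 1 1 (Fintype.card F + 1) one_pos le_rfl
    (by rw [pow_one])
  obtain ⟨x2, hx2⟩ := Cfsg.Agent.S2469.exists_cyc_sp_odd (F := F) 1 1 (Fintype.card F - 1) one_pos le_rfl
    (by rw [pow_one])
  exact ⟨p4sl3b_core _ ho1 x1 hx1, p4sl3b_core _ ho2 x2 hx2⟩

end Cfsg.Agent.Lib.helper23.P4S
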