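import Mathlib
import Cfsg.Agent.Lib.helper23.P4V.Defs

/-!
# P4V (designer helper23), row C3B: cores of `qp_absorb` / `qm_absorb` on the statements of C3A / C3AT.
-/

set_option autoImplicit false

namespace Cfsg.Agent.Lib.helper23.P4V

open Matrix

universe u

variable {F : Type u} [Field F]

theorem p4vc3b_inv_left (A : M2 F) (hA : A.det ≠ 0) : Aᵀ * (A⁻¹)ᵀ = 1 := by
  rw [← Matrix.transpose_mul, Matrix.nonsing_inv_mul A (isUnit_iff_ne_zero.mpr hA),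
    Matrix.transpose_one]

theorem p4vc3b_inv_right (A : M2 F) (hA : A.det ≠ 0) : (A⁻¹)ᵀ * Aᵀ = 1 := by
  rw [← Matrix.transpose_mul, Matrix.mul_nonsing_inv A (isUnit_iff_ne_zero.mpr hA),
    Matrix.transpose_one]

/-- `lv A * qp t` is conjugate to `lv A` by `qp (-r)` when `A r Aᵀ - r = A t Aᵀ`. -/
theorem p4vc3b_qp (A : M2 F) (hA : A.det ≠ 0) (t r : M2 F) (ht : tᵀ = t) (hr : rᵀ = r)
    (h : A * r * Aᵀ - r = A * t * Aᵀ) : Cj (lvS A hA) (lvS A hA * qpS t ht) := by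
  have hnr : (-r)ᵀ = -r := by rw [Matrix.transpose_neg, hr]
  refine ⟨qpS (-r) hnr, ?_⟩
  apply eq_mul_inv_of_mul_eq
  apply Subtype.ext
  show lvM A * qpM t * qpM (-r) = qpM (-r) * lvM A
  have key : A * r - r * (A⁻¹)ᵀ = A * t := by
    have := congrArg (· * (A⁻¹)ᵀ) h
    simp only [Matrix.sub_mul, Matrix.mul_assoc, p4vc3b_inv_left A hA, Matrix.mul_one] at this
    exact this
  rw [lvM, qpM, qpM, Matrix.fromBlocks_multiply, Matrix.fromBlocks_multiply,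
    Matrix.fromBlocks_multiply]
  simp only [Matrix.mul_one, Matrix.mul_zero, Matrix.zero_mul, Matrix.one_mul, add_zero, zero_add]
  congr 1
  rw [← key, Matrix.mul_neg, Matrix.neg_mul]
  abel

/-- `qm s * lv A` is conjugate to `lv A` by `qm (-r)` when `Aᵀ r A - r = -(Aᵀ s A)`. -/
theorem p4vc3b_qm (A : M2 F) (hA : A.det ≠ 0) (s r : M2 F) (hs : sᵀ = s) (hr : rᵀ = r)
    (h : Aᵀ * r * A - r = -(Aᵀ * s * A)) : Cj (lvS A hA) (qmS s hs * lvS A hA) := by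
  have hnr : (-r)ᵀ = -r := by rw [Matrix.transpose_neg, hr]
  refine ⟨qmS (-r) hnr, ?_⟩
  apply eq_mul_inv_of_mul_eq
  apply Subtype.ext
  show qmM s * lvM A * qmM (-r) = qmM (-r) * lvM A
  have key : r * A - (A⁻¹)ᵀ * r = -(s * A) := by
    have := congrArg ((A⁻¹)ᵀ * ·) h
    simp only [Matrix.mul_sub, Matrix.mul_neg, ← Matrix.mul_assoc, p4vc3b_inv_right A hA,
      Matrix.one_mul] at this
    exact this
  rw [lvM, qmM, qmM, Matrix.fromBlocks_multiply, Matrix.fromBlocks_multiply,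
    Matrix.fromBlocks_multiply]
  simp only [Matrix.mul_one, Matrix.mul_zero, Matrix.zero_mul, Matrix.one_mul, add_zero, zero_add]
  congr 1
  have h2 : s * A = -(r * A - (A⁻¹)ᵀ * r) := by rw [key, neg_neg]
  rw [h2, Matrix.mul_neg, Matrix.neg_mul]
  abel

/-- C3B core, first half: from the statement of C3A `sym_solve`. -/
theorem p4vc3b_qp_core (τ ν : F) (hG : Good τ ν) (t : M2 F) (ht : tᵀ = t)
    (hC3A : ∀ s : M2 F, sᵀ = s → ∃ r : M2 F, rᵀ = r ∧ cmp τ ν * r * (cmp τ ν)ᵀ - r = s) :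
    Cj (xS τ ν hG.nu_ne_zero) (xS τ ν hG.nu_ne_zero * qpS t ht) := by
  have hsym : (cmp τ ν * t * (cmp τ ν)ᵀ)ᵀ = cmp τ ν * t * (cmp τ ν)ᵀ := by
    rw [Matrix.transpose_mul, Matrix.transpose_mul, Matrix.transpose_transpose, ht, Matrix.mul_assoc]
  obtain ⟨r, hr, h⟩ := hC3A _ hsym
  exact p4vc3b_qp (cmp τ ν) _ t r ht hr h

/-- C3B core, second half: from the statement of C3AT `sym_solveT`. -/
theorem p4vc3b_qm_core (τ ν : F) (hG : Good τ ν) (s : M2 F) (hs : sᵀ = s)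
    (hC3AT : ∀ s : M2 F, sᵀ = s → ∃ r : M2 F, rᵀ = r ∧ (cmp τ ν)ᵀ * r * cmp τ ν - r = s) :
    Cj (xS τ ν hG.nu_ne_zero) (qmS s hs * xS τ ν hG.nu_ne_zero) := by
  have hsym : (-((cmp τ ν)ᵀ * s * cmp τ ν))ᵀ = -((cmp τ ν)ᵀ * s * cmp τ ν) := by
    rw [Matrix.transpose_neg, Matrix.transpose_mul, Matrix.transpose_mul, Matrix.transpose_transpose,
      hs, Matrix.mul_assoc]
  obtain ⟨r, hr, h⟩ := hC3AT _ hsym
  exact p4vc3b_qm (cmp τ ν) _ s r hs hr h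

end Cfsg.Agent.Lib.helper23.P4V
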