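import Mathlib
import Cfsg.Agent.Lib.helper23.P4V.Defs
import Cfsg.Agent.Lib.Helper29.P4VC3Bcore
import Cfsg.Agent.Lib.Helper20.P4VC3Ah20

/-!
# P4V (designer helper23), row C3B: `qp_absorb`, `qm_absorb` (verbatim) = the cores of
`Helper29.P4VC3Bcore` on helper20's own-name copies of C3A `sym_solve` / C3AT `sym_solveT`.
-/

set_option autoImplicit false

namespace Cfsg.Agent.Lib.helper23.P4V

open Matrix

universe u

variable {F : Type u} [Field F]

/-- **C3B** (first half). -/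
theorem qp_absorb (τ ν : F) (hG : Good τ ν) (t : M2 F) (ht : tᵀ = t) :
    Cj (xS τ ν hG.nu_ne_zero) (xS τ ν hG.nu_ne_zero * qpS t ht) :=
  p4vc3b_qp_core τ ν hG t ht (fun s hs => p4vc3a_h20_sym_solve τ ν hG s hs)

/-- **C3B** (second half). -/
theorem qm_absorb (τ ν : F) (hG : Good τ ν) (s : M2 F) (hs : sᵀ = s) :
    Cj (xS τ ν hG.nu_ne_zero) (qmS s hs * xS τ ν hG.nu_ne_zero) :=
  p4vc3b_qm_core τ ν hG s hs (fun s hs => p4vc3at_h20_sym_solveT τ ν hG s hs)

end Cfsg.Agent.Lib.helper23.P4V
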