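import Cfsg.Agent.Lib.Helper1.PLK.Defs
import Cfsg.Agent.Lib.helper7.PLKU9a

/-!
# PLK row U10 (`comp_eq_of_count`), second copy by helper29 under an own name
-/

set_option autoImplicit false

namespace Cfsg.Agent.Lib.Helper1.PLK

open Polynomial
open Cfsg.Agent.Lib.Helper29.GLK
open Cfsg.Agent.Lib.Helper1.SLK

universe u

section U10

variable {F : Type u} [Field F]

/-- `P(ζ X) = ζ^(deg P) (tw ζ P)` -/
theorem plku10_h29_comp (ζ : Fˣ) (P : F[X]) :
    P.comp (C (ζ : F) * X) = C ((ζ : F) ^ P.natDegree) * tw ζ P := by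
  unfold tw
  rw [← mul_assoc, ← C_mul, ← mul_pow, ← Units.val_mul, mul_inv_cancel, Units.val_one, one_pow,
    C_1, one_mul]

/-- `tw ζ⁻¹ (tw ζ P) = P` for every `P` -/
theorem plku10_h29_tw_inv (ζ : Fˣ) (P : F[X]) : tw ζ⁻¹ (tw ζ P) = P := by
  have hdeg := plku9a_natDegree ζ P
  show C ((((ζ⁻¹)⁻¹ : Fˣ) : F) ^ (tw ζ P).natDegree) * (tw ζ P).comp (C ((ζ⁻¹ : Fˣ) : F) * X) = P
  rw [hdeg, inv_inv]
  unfold tw
  rw [mul_comp, C_comp, plku9a_comp_comp, ← mul_assoc, ← C_mul, ← mul_pow, ← Units.val_mul,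
    mul_inv_cancel, Units.val_one, one_pow, C_1, one_mul]

theorem plku10_h29_tw_inv' (ζ : Fˣ) (P : F[X]) : tw ζ (tw ζ⁻¹ P) = P := by
  have := plku10_h29_tw_inv ζ⁻¹ P
  rwa [inv_inv] at this

theorem plku10_h29_tw_inj (ζ : Fˣ) : Function.Injective (tw (F := F) ζ) := by
  intro P Q h
  rw [← plku10_h29_tw_inv ζ P, ← plku10_h29_tw_inv ζ Q, h]

/-- the substitution on a product of monic polynomials -/
theorem plku10_h29_prod (ζ : Fˣ) (s : Multiset F[X]) (hs : ∀ P ∈ s, P.Monic) :
    (s.prod).comp (C (ζ : F) * X) =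
      C ((ζ : F) ^ (s.prod).natDegree) * (s.map (tw ζ)).prod := by
  induction s using Multiset.induction_on with
  | empty => simp
  | cons P s ih =>
    have hP : P.Monic := hs P (Multiset.mem_cons_self P s)
    have hs' : ∀ Q ∈ s, Q.Monic := fun Q hQ => hs Q (Multiset.mem_cons_of_mem hQ)
    have hsm' : (s.prod).Monic := by
      have := monic_multiset_prod_of_monic s id (fun Q hQ => hs' Q hQ)
      rwa [Multiset.map_id] at this
    rw [Multiset.prod_cons, Multiset.map_cons, Multiset.prod_cons, mul_comp, ih hs',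
      plku10_h29_comp ζ P, hP.natDegree_mul hsm', pow_add, C_mul]
    ring

end U10

/-- **U10**, own-name copy with the exact Skel statement. -/
theorem plku10_h29_comp_eq_of_count {F : Type u} [Field F] [DecidableEq F] (ζ : Fˣ) (g : F[X])
    (hg : g.Monic)
    (h : ∀ P : F[X], Irreducible P → P.Monic →
      Multiset.count P (UniqueFactorizationMonoid.normalizedFactors g) =
        Multiset.count (tw ζ P) (UniqueFactorizationMonoid.normalizedFactors g)) :
    g.comp (C (ζ : F) * X) = C ((ζ : F) ^ g.natDegree) * g := by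
  classical
  set s := UniqueFactorizationMonoid.normalizedFactors g with hs
  have hmem : ∀ P ∈ s, Irreducible P ∧ P.Monic := by
    intro P hP
    have hirr : Irreducible P := UniqueFactorizationMonoid.irreducible_of_normalized_factor P hP
    refine ⟨hirr, ?_⟩
    have hn : normalize P = P := UniqueFactorizationMonoid.normalize_normalized_factor P hP
    rw [← hn]
    exact Polynomial.monic_normalize hirr.ne_zero
  have hprod : s.prod = g := by
    have h1 := UniqueFactorizationMonoid.prod_normalizedFactors_eq (a := g) hg.ne_zero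
    rw [hg.normalize_eq_self] at h1
    exact h1
  -- the multiset is `tw ζ`-invariant
  have hmap : s.map (tw ζ) = s := by
    apply Multiset.ext.2
    intro Q
    have hQ : Q = tw ζ (tw ζ⁻¹ Q) := (plku10_h29_tw_inv' ζ Q).symm
    rw [hQ, Multiset.count_map_eq_count' (tw ζ) s (plku10_h29_tw_inj ζ)]
    by_cases hP : Irreducible (tw ζ⁻¹ Q) ∧ (tw ζ⁻¹ Q).Monic
    · exact h _ hP.1 hP.2
    · have h0 : Multiset.count (tw ζ⁻¹ Q) s = 0 :=
        Multiset.count_eq_zero.2 (fun hm => hP (hmem _ hm))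
      have h1 : Multiset.count (tw ζ (tw ζ⁻¹ Q)) s = 0 := by
        rw [← hQ]
        apply Multiset.count_eq_zero.2
        intro hm
        obtain ⟨hi, hmo⟩ := hmem Q hm
        obtain ⟨a, b, -, -⟩ := tw_props ζ⁻¹ Q hi hmo
        exact hP ⟨a, b⟩
      rw [h0, h1]
  have := plku10_h29_prod ζ s (fun P hP => (hmem P hP).2)
  rw [hmap, hprod] at this
  exact this

end Cfsg.Agent.Lib.Helper1.PLK
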