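import Mathlib

/-!
# Project PSL (S4504), piece ALGA : the algebra of case A (pure algebra over `ℂ`, `ℝ`)
-/

set_option autoImplicit false
set_option linter.unusedVariables false
set_option linter.unusedSectionVars false
open scoped ComplexConjugate
open Classical

namespace Cfsg.Agent.Lib.helper15.PSL

/-- ALGA : the algebra of case A -/
theorem caseA_alg (f : ℕ) (hf : 2 ≤ f) (y : ℂ)
    (h1 : (1 + (y * conj y - 1) / ((2 * f + 1 : ℕ) + 1 : ℂ) +
      (y * conj y - conj y) / ((2 * f + 1 : ℕ) - 1 : ℂ) + ((f : ℂ) + 1) * conj y / (f : ℂ)).im = 0)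
    (h2 : 0 ≤ (1 + (y * conj y - 1) / ((2 * f + 1 : ℕ) + 1 : ℂ) +
      (y * conj y - conj y) / ((2 * f + 1 : ℕ) - 1 : ℂ) + ((f : ℂ) + 1) * conj y / (f : ℂ)).re)
    (h3 : (1 + (y * conj y - 1) / ((2 * f + 1 : ℕ) + 1 : ℂ) +
      (y * conj y - conj y) / ((2 * f + 1 : ℕ) - 1 : ℂ) - (f : ℂ) * conj y / (f : ℂ)).im = 0)
    (h4 : 0 ≤ (1 + (y * conj y - 1) / ((2 * f + 1 : ℕ) + 1 : ℂ) +
      (y * conj y - conj y) / ((2 * f + 1 : ℕ) - 1 : ℂ) - (f : ℂ) * conj y / (f : ℂ)).re)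
    (hle : Complex.normSq y ≤ (f : ℝ) ^ 2) :
    Complex.normSq y ≤ 1 ∨ Complex.normSq y = (f : ℝ) ^ 2 := by
  have hf0 : (0 : ℝ) < f := by exact_mod_cast (by omega : 0 < f)
  have hfC : (f : ℂ) ≠ 0 := by exact_mod_cast (by omega : f ≠ 0)
  obtain ⟨a, b⟩ := y
  have hd1 : ((2 * f + 1 : ℕ) + 1 : ℂ) = ((2 * (f : ℝ) + 2 : ℝ) : ℂ) := by push_cast; ring
  have hd2 : ((2 * f + 1 : ℕ) - 1 : ℂ) = ((2 * (f : ℝ) : ℝ) : ℂ) := by push_cast; ring
  have hfr : (f : ℂ) = ((f : ℝ) : ℂ) := by push_cast; rfl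
  have hN : (⟨a, b⟩ : ℂ) * conj (⟨a, b⟩ : ℂ) = ((a ^ 2 + b ^ 2 : ℝ) : ℂ) := by
    rw [Complex.mul_conj]
    simp [Complex.normSq_apply]
    ring
  have hc : conj (⟨a, b⟩ : ℂ) = ⟨a, -b⟩ := rfl
  rw [hd1, hd2, hN, hc] at h1 h2 h3 h4
  simp only [Complex.add_im, Complex.add_re, Complex.sub_im, Complex.sub_re, Complex.div_ofReal_im,
    Complex.div_ofReal_re, Complex.one_im, Complex.one_re, Complex.ofReal_im, Complex.ofReal_re,
    Complex.mul_im, Complex.mul_re, Complex.natCast_im, Complex.natCast_re, Complex.div_natCast_re,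
    Complex.div_natCast_im] at h1 h2 h3 h4
  -- `b = 0`
  have hb : b = 0 := by
    have e : 0 + (0 - 0) / (2 * (f : ℝ) + 2) + (0 - -b) / (2 * (f : ℝ)) +
        (((f : ℝ) + 1) * -b + (0 + 0) * a) / (f : ℝ) = -(b * (2 * (f : ℝ) + 1)) / (2 * (f : ℝ)) := by
      field_simp
      ring
    rw [e, div_eq_zero_iff] at h1
    rcases h1 with h | h
    · have : b * (2 * (f : ℝ) + 1) = 0 := by linarith
      rcases mul_eq_zero.mp this with h' | h'
      · exact h'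
      · exfalso; linarith
    · exfalso; linarith
  subst hb
  have e2 : 1 + (a ^ 2 + (0 : ℝ) ^ 2 - 1) / (2 * (f : ℝ) + 2) + (a ^ 2 + (0 : ℝ) ^ 2 - a) / (2 * (f : ℝ)) +
      (((f : ℝ) + 1) * a - (0 + 0) * -(0 : ℝ)) / (f : ℝ) =
      (2 * (f : ℝ) + 1) * ((a + f) * (a + 1)) / (2 * (f : ℝ) * ((f : ℝ) + 1)) := by
    field_simp
    ring
  have e4 : 1 + (a ^ 2 + (0 : ℝ) ^ 2 - 1) / (2 * (f : ℝ) + 2) + (a ^ 2 + (0 : ℝ) ^ 2 - a) / (2 * (f : ℝ)) -
      ((f : ℝ) * a - 0 * -(0 : ℝ)) / (f : ℝ) =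
      (2 * (f : ℝ) + 1) * ((a - f) * (a - 1)) / (2 * (f : ℝ) * ((f : ℝ) + 1)) := by
    field_simp
    ring
  rw [e2] at h2
  rw [e4] at h4
  have hpos : (0 : ℝ) < 2 * (f : ℝ) * ((f : ℝ) + 1) := by positivity
  have hpos2 : (0 : ℝ) < 2 * (f : ℝ) + 1 := by positivity
  have k2 : 0 ≤ (a + f) * (a + 1) := by
    have := (div_nonneg_iff.mp h2)
    rcases this with ⟨h, _⟩ | ⟨_, h⟩
    · exact nonneg_of_mul_nonneg_right h hpos2
    · exfalso; linarith
  have k4 : 0 ≤ (a - f) * (a - 1) := by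
    have := (div_nonneg_iff.mp h4)
    rcases this with ⟨h, _⟩ | ⟨_, h⟩
    · exact nonneg_of_mul_nonneg_right h hpos2
    · exfalso; linarith
  rw [Complex.normSq_mk] at hle ⊢
  simp only [mul_zero, add_zero] at hle ⊢
  have hf1 : (2 : ℝ) ≤ f := by exact_mod_cast hf
  by_cases h1a : a * a ≤ 1
  · exact Or.inl h1a
  · right
    rw [not_le] at h1a
    rcases lt_or_ge 0 a with ha | ha
    · -- `a > 1`
      have ha1 : 1 < a := by nlinarith
      have : 0 ≤ a - f := by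
        by_contra hneg
        rw [not_le] at hneg
        nlinarith
      nlinarith
    · have ha1 : a < -1 := by nlinarith
      have : a + f ≤ 0 := by
        by_contra hneg
        rw [not_le] at hneg
        nlinarith
      nlinarith

end Cfsg.Agent.Lib.helper15.PSL
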