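import Mathlib
import Cfsg.Agent.Lib.helper7.REE.Defs
import Cfsg.Agent.Lib.Helper29.REEARA

set_option autoImplicit false

/-!
# Project REE (designer helper7), row G4G (`D_w`): second copy, core `reeg4g_h29_core` on the statements of
PA (`so2_eq_cent`), PB (`so2_props`, clauses 5 and 6), PD (`so2_anti`) and `L_basic` (clause 7)  (helper29).
-/

namespace Cfsg.Agent.Lib.helper7.REE

open Matrix Cfsg.Agent.Lib.helper8

universe u v

namespace ReeAx

variable {G : Type u} [Group G] [Finite G] {K : Type v} [Field K] [Fintype K] {m : ℕ}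

/-- `2 ≠ 0` in `K` -/
theorem reeg4g_h29_two_ne (R : ReeAx G K m) : (2 : K) ≠ 0 := by
  apply Ring.two_ne_zero
  intro h
  have h1 := FiniteField.even_card_iff_char_two.mp h
  rw [R.hK] at h1
  have := (ar_basic m).1
  omega

/-- an element of `SL₂(K)` is not its own negative -/
theorem reeg4g_h29_ne_neg (R : ReeAx G K m) (M : SpecialLinearGroup (Fin 2) K) : M ≠ -M := by
  intro h
  have h2 := R.reeg4g_h29_two_ne
  have hz : ∀ i j : Fin 2, M i j = 0 := by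
    intro i j
    have h1 : M i j = (-M) i j := by rw [← h]
    have h3 : (-M) i j = -(M i j) := by simp
    rw [h3] at h1
    have h4 : (2 : K) * M i j = 0 := by linear_combination h1
    rcases mul_eq_zero.mp h4 with h5 | h5
    · exact absurd h5 h2
    · exact h5
  have hdet := M.det_coe
  rw [Matrix.det_fin_two] at hdet
  have e00 : (M : Matrix (Fin 2) (Fin 2) K) 0 0 = 0 := hz 0 0
  have e01 : (M : Matrix (Fin 2) (Fin 2) K) 0 1 = 0 := hz 0 1
  rw [e00, e01] at hdet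
  simp at hdet

/-- G4G core (second copy) -/
theorem reeg4g_h29_core (R : ReeAx G K m)
    (hPA : ∀ g : SpecialLinearGroup (Fin 2) K, g ∈ so2 K ↔ g * h8slW = h8slW * g)
    (hPB5 : ∀ x : SpecialLinearGroup (Fin 2) K, (∀ d ∈ so2 K, x * d * x⁻¹ ∈ so2 K) → x ∉ so2 K →
      x * x = -1 ∧ ∀ d ∈ so2 K, x * d * x⁻¹ = d⁻¹)
    (hPB6 : ∃ x : SpecialLinearGroup (Fin 2) K, x ∉ so2 K ∧ x * x = -1 ∧
      ∀ d ∈ so2 K, x * d * x⁻¹ = d⁻¹)
    (hPD : ∀ x : SpecialLinearGroup (Fin 2) K,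
      (x * h8slW = h8slW * x ∨ x * h8slW = -(h8slW * x)) → ∀ d ∈ so2 K, x * d * x⁻¹ ∈ so2 K)
    (hL7 : ∀ x y : SpecialLinearGroup (Fin 2) K, R.psi x = R.psi y ↔ x = y ∨ x = -y) :
    ∃ w ∈ R.L, w ∉ R.D ∧ w * w = 1 ∧ (∀ d ∈ R.D, w * d * w⁻¹ = d⁻¹) ∧
      ∀ l ∈ R.L, l * R.n0 = R.n0 * l → l ∈ R.D ∨ ∃ d ∈ R.D, l = d * w := by
  obtain ⟨x, hxs, hxx, hxinv⟩ := hPB6
  have hneg : ∀ d : SpecialLinearGroup (Fin 2) K, d ∈ so2 K → -d ∈ so2 K := by
    intro d hd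
    rw [hPA] at hd ⊢
    rw [neg_mul, mul_neg, hd]
  have hW : (h8slW : SpecialLinearGroup (Fin 2) K) ∈ so2 K := (hPA _).mpr rfl
  refine ⟨R.psi x, ⟨x, rfl⟩, ?_, ?_, ?_, ?_⟩
  · rintro ⟨d, hd, hdx⟩
    rcases (hL7 d x).mp hdx with h | h
    · exact hxs (h ▸ hd)
    · apply hxs
      have : x = -d := by rw [h, neg_neg]
      rw [this]
      exact hneg d hd
  · rw [← map_mul, hxx, R.psi_neg]
  · rintro _ ⟨e, he, rfl⟩
    rw [← map_inv, ← map_mul, ← map_mul, hxinv e he, map_inv]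
  · rintro _ ⟨y, rfl⟩ hl
    rw [← R.psi_W, ← map_mul, ← map_mul] at hl
    rcases (hL7 _ _).mp hl with h | h
    · left
      exact ⟨y, (hPA y).mpr h, rfl⟩
    · right
      have hyn := hPD y (Or.inr h)
      have hys : y ∉ so2 K := by
        intro hy
        rw [(hPA y).mp hy] at h
        exact R.reeg4g_h29_ne_neg _ h
      obtain ⟨-, hyinv⟩ := hPB5 y hyn hys
      -- z = y x⁻¹ centralizes so2
      have hxinv' : ∀ d ∈ so2 K, x⁻¹ * d * x = d⁻¹ := by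
        intro d hd
        have := hxinv d⁻¹ ((so2 K).inv_mem hd)
        rw [inv_inv] at this
        calc x⁻¹ * d * x = x⁻¹ * (x * d⁻¹ * x⁻¹) * x := by rw [this]
          _ = d⁻¹ := by group
      have hz : y * x⁻¹ ∈ so2 K := by
        rw [hPA]
        have h1 : y * x⁻¹ * h8slW * (y * x⁻¹)⁻¹ = h8slW := by
          have e : y * x⁻¹ * h8slW * (y * x⁻¹)⁻¹ = y * (x⁻¹ * h8slW * x) * y⁻¹ := by group
          rw [e, hxinv' _ hW, hyinv _ ((so2 K).inv_mem hW), inv_inv]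
        calc y * x⁻¹ * h8slW = (y * x⁻¹ * h8slW * (y * x⁻¹)⁻¹) * (y * x⁻¹) := by group
          _ = h8slW * (y * x⁻¹) := by rw [h1]
      refine ⟨R.psi (y * x⁻¹), ⟨_, hz, rfl⟩, ?_⟩
      rw [← map_mul, inv_mul_cancel_right]

end ReeAx

end Cfsg.Agent.Lib.helper7.REE
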