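import Mathlib
import Cfsg.Agent.Lib.helper8.RSM.Defs
import Cfsg.Agent.Lib.Helper5.StemQ
import Cfsg.Agent.Lib.helper4.RSMC1
import Cfsg.Agent.Lib.Helper22.RSMC234h22
import Cfsg.Agent.Lib.helper17.RSMD5core
import Cfsg.Agent.Lib.Helper29.RSMD46core
import Cfsg.Agent.Lib.Helper29.RSMD4

/-!
# Project RSM (helper8), row D6 (`bet_sym`), verbatim.

It does not wait for the verbatim C3 `x_comm_U2` / D5 `hall_witt`: it uses helper22's own-name copies
`rsmc3_h22`, `rsmc4_h22` and an own-name copy `rsmd6_hall_witt` of the statement of D5, obtained from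
helper17's landed `rsmd5_core` and the landed D4 `U2_abelian`.
-/

set_option autoImplicit false

namespace Cfsg.Agent.Lib.helper8.RSM

open Cfsg.Agent.Lib.Helper5.Stem
open scoped commutatorElement

universe u v w

variable {G : Type u} [Group G] {K : Type v} [Field K] [Fintype K] {m : ℕ}
variable {Γ : Type w} [Group Γ] {σ : Γ →* G}

/-- the statement of D5 `hall_witt` (own-name copy) -/
theorem rsmd6_hall_witt (RU : ReeU G K m) (hs : Function.Surjective σ)
    (hcen : σ.ker ≤ Subgroup.center Γ) (g y w : Γ) (hg : RU.InU (σ g)) (hy : RU.InU (σ y))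
    (hw : RU.InU2 (σ w)) : ⁅g, ⁅y, w⁆⁆ = ⁅y, ⁅g, w⁆⁆ :=
  rsmd5_core RU hcen (x_basic RU).2.2.2.2.2.2 (rsmc3_h22 RU) (rsmc4_h22 RU)
    (U2_abelian RU hs hcen) g y w hg hy hw

/-- D6 [S-M]. D5 for lifts of `x t 0 0`, `x s 0 0`, `x 0 u 0`, with C3 and `bet_eq`. -/
theorem bet_sym (RU : ReeU G K m) (hs : Function.Surjective σ) (hcen : σ.ker ≤ Subgroup.center Γ)
    (s t u : K) :
    bet hs (RU.x t 0 0) (RU.x 0 0 (s * u)) = bet hs (RU.x s 0 0) (RU.x 0 0 (t * u)) :=
  rsmd6_core RU hs hcen (rsmc3_h22 RU) (rsmd6_hall_witt RU hs hcen) s t u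

end Cfsg.Agent.Lib.helper8.RSM
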