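import Mathlib
import Cfsg.Agent.Lib.helper7.REE.Defs
import Cfsg.Agent.Lib.helper8.SylowConj
import Cfsg.Agent.Lib.Helper29.REEG3core

set_option autoImplicit false

/-!
# Project RSS (S2361, designer helper6), row T3: `rss_three` (helper29).
-/

namespace Cfsg.Agent.Lib.helper7.REE

open Matrix Cfsg.Agent.Lib.helper8

universe u v

namespace ReeAx

variable {G : Type u} [Group G] [Finite G] {K : Type v} [Field K] [Fintype K] {m : ℕ}

/-- T3 [M]: a subgroup normalising a nontrivial 3-subgroup normalises a Sylow 3-subgroup. -/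
theorem rss_three (R : ReeAx G K m) (S Q : Subgroup G) (hQ : Q ≠ ⊥) (hQ3 : IsPGroup 3 Q)
    (hn : ∀ s ∈ S, ∀ x ∈ Q, s * x * s⁻¹ ∈ Q) :
    ∃ P : Sylow 3 G, S ≤ Subgroup.normalizer ((P : Subgroup G) : Set G) := by
  have : Fact (Nat.Prime 3) := ⟨Nat.prime_three⟩
  obtain ⟨P, hQP⟩ := hQ3.exists_le_sylow
  obtain ⟨g, hg⟩ := MulAction.exists_smul_eq G (R.reeg3_U_pgroup.toSylow R.reeg3_U_index) P
  have hmem : ∀ x : G, x ∈ (P : Subgroup G) ↔ g⁻¹ * x * g ∈ R.U := by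
    intro x
    rw [← hg, h8_mem_smul_sylow, IsPGroup.toSylow_coe]
  refine ⟨P, fun s hs => ?_⟩
  obtain ⟨z, hz1⟩ := (Subgroup.ne_bot_iff_exists_ne_one.mp hQ)
  have hzQ' : (z : G) ∈ Q := z.2
  have hz1' : (z : G) ≠ 1 := fun h => hz1 (Subtype.ext h)
  have hyU : g⁻¹ * (z : G) * g ∈ R.U := (hmem _).mp (hQP hzQ')
  have hy1 : g⁻¹ * (z : G) * g ≠ 1 := by
    intro h
    apply hz1'
    have e : (z : G) = g * (g⁻¹ * (z : G) * g) * g⁻¹ := by group
    rw [e, h]; group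
  have hconj : g⁻¹ * s * g * (g⁻¹ * (z : G) * g) * (g⁻¹ * s * g)⁻¹ ∈ R.U := by
    have e : g⁻¹ * s * g * (g⁻¹ * (z : G) * g) * (g⁻¹ * s * g)⁻¹ = g⁻¹ * (s * (z : G) * s⁻¹) * g := by
      group
    rw [e]
    exact (hmem _).mp (hQP (hn s hs _ hzQ'))
  have haB : g⁻¹ * s * g ∈ R.B := R.ti _ _ hyU hy1 (R.reeg3_U_le_B hconj)
  have haN : g⁻¹ * s * g ∈ Subgroup.normalizer
      (((R.reeg3_U_pgroup.toSylow R.reeg3_U_index : Sylow 3 G) : Subgroup G) : Set G) := by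
    apply h8_mem_normalizer_of_conj_le 3
    intro x hx
    rw [IsPGroup.toSylow_coe] at hx ⊢
    have := R.reeg3_B_norm (g⁻¹ * s * g)⁻¹ (R.B.inv_mem haB) x hx
    rwa [inv_inv] at this
  have ha := Sylow.smul_eq_iff_mem_normalizer.mpr haN
  apply Sylow.smul_eq_iff_mem_normalizer.mp
  calc s • P = s • g • (R.reeg3_U_pgroup.toSylow R.reeg3_U_index) := by rw [hg]
    _ = (s * g) • (R.reeg3_U_pgroup.toSylow R.reeg3_U_index) := (mul_smul _ _ _).symm
    _ = (g * (g⁻¹ * s * g)) • (R.reeg3_U_pgroup.toSylow R.reeg3_U_index) := by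
        congr 1; group
    _ = g • (g⁻¹ * s * g) • (R.reeg3_U_pgroup.toSylow R.reeg3_U_index) := mul_smul _ _ _
    _ = g • (R.reeg3_U_pgroup.toSylow R.reeg3_U_index) := by rw [ha]
    _ = P := hg

end ReeAx

end Cfsg.Agent.Lib.helper7.REE
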