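import Mathlib
import Cfsg.Prelude.Def_Spor_Ru
import Cfsg.Agent.Lib.Helper29.RvLMain
import Cfsg.Agent.Lib.helper14.RuSpan
import Cfsg.Agent.Lib.helper14.RuAut

set_option autoImplicit false

/-!
# Project RU, row GENS: automorphisms of the lattice from frames (generic constructor)

A frame `W : RuIdx → RuVec` defines the `ℤ[i]`-linear map `ruaF W x = (⟨x, W p⟩)_p`, i.e. `x ↦ M x` for the
matrix `M p q = star (W p q)`.  If `M Mᴴ = 16 = Mᴴ M` and `M`, `Mᴴ` map helper14's basis `ruB t` into `4 L`,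
then `x ↦ M x / 4` is an element of `fourRu` (`ruaAut`, `ruaAut_spec`).
-/

namespace Cfsg.Agent.Lib.Helper29

open Cfsg.Spor Cfsg.Agent.Lib.helper14

/-- the map `x ↦ (⟨x, W p⟩)_p` -/
def ruaF (W : RuIdx → RuVec) (x : RuVec) : RuVec := fun p => rvlHerm x (W p)

theorem ruaF_add (W : RuIdx → RuVec) (x y : RuVec) : ruaF W (x + y) = ruaF W x + ruaF W y := by
  funext p
  exact rvlHerm_add_left x y (W p)

theorem ruaF_smul (W : RuIdx → RuVec) (c : GaussianInt) (x : RuVec) :
    ruaF W (c • x) = c • ruaF W x := by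
  funext p
  exact rvlHerm_smul_left c x (W p)

theorem ruaF_zero (W : RuIdx → RuVec) : ruaF W 0 = 0 := by
  funext p
  exact rvlHerm_zero_left (W p)

theorem ruaF_sum (W : RuIdx → RuVec) {ι : Type*} (s : Finset ι) (f : ι → RuVec) :
    ruaF W (∑ t ∈ s, f t) = ∑ t ∈ s, ruaF W (f t) := by
  classical
  induction s using Finset.induction_on with
  | empty => simp [ruaF_zero]
  | insert a s ha ih => rw [Finset.sum_insert ha, Finset.sum_insert ha, ruaF_add, ih]

/-- the adjoint frame -/
def ruaAdj (W : RuIdx → RuVec) : RuIdx → RuVec := fun q p => star (W p q)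

/-- adjointness -/
theorem rua_adj (W : RuIdx → RuVec) (x y : RuVec) :
    rvlHerm (ruaF W x) y = rvlHerm x (ruaF (ruaAdj W) y) := by
  simp only [rvlHerm, ruaF, ruaAdj, star_sum, star_mul', star_star, Finset.sum_mul, Finset.mul_sum]
  rw [Finset.sum_comm]
  refine Finset.sum_congr rfl fun q _ => Finset.sum_congr rfl fun p _ => ?_
  ring

/-- `Mᴴ M = 16` -/
def ruaUnit (W : RuIdx → RuVec) : Prop :=
  ∀ q q' : RuIdx, ∑ p, W p q * star (W p q') = if q = q' then 16 else 0

theorem rua_unit_apply {W : RuIdx → RuVec} (h : ruaUnit W) (x : RuVec) :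
    ruaF (ruaAdj W) (ruaF W x) = (16 : GaussianInt) • x := by
  funext q
  simp only [rvlHerm, ruaF, ruaAdj, star_star, Finset.sum_mul, Pi.smul_apply, smul_eq_mul]
  rw [Finset.sum_comm]
  have : ∀ q' : RuIdx, ∑ p, x q' * star (W p q') * W p q = x q' * (if q = q' then 16 else 0) := by
    intro q'
    rw [← h q q', Finset.mul_sum]
    refine Finset.sum_congr rfl fun p _ => ?_
    ring
  rw [Finset.sum_congr rfl fun q' _ => this q']
  simp [mul_comm]

theorem rua_four_cancel {x y : RuVec} (h : (4 : GaussianInt) • x = (4 : GaussianInt) • y) : x = y := by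
  funext p
  have := congrFun h p
  simp only [Pi.smul_apply, smul_eq_mul] at this
  exact mul_left_cancel₀ (by norm_num : (4 : GaussianInt) ≠ 0) this

theorem rua_sixteen_cancel {x y : RuVec} (h : (16 : GaussianInt) • x = (16 : GaussianInt) • y) :
    x = y := by
  funext p
  have := congrFun h p
  simp only [Pi.smul_apply, smul_eq_mul] at this
  exact mul_left_cancel₀ (by norm_num : (16 : GaussianInt) ≠ 0) this

/-- the frame `W` maps the basis `ruB t` to `4 Z t` with `Z t` in the lattice -/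
structure RuaFrame (W : RuIdx → RuVec) (Z : Fin 28 → RuVec) : Prop where
  memZ : ∀ t, Z t ∈ ruLattice
  img : ∀ t, ruaF W (ruB t) = (4 : GaussianInt) • Z t

theorem rua_exists {W : RuIdx → RuVec} {Z : Fin 28 → RuVec} (h : RuaFrame W Z) {x : RuVec}
    (hx : x ∈ ruLattice) : ∃ y ∈ ruLattice, (4 : GaussianInt) • y = ruaF W x := by
  obtain ⟨c, -, hc⟩ := ru_span hx
  refine ⟨∑ t, c t • Z t, sum_mem fun t _ => ru_smul_mem _ (h.memZ t), ?_⟩
  conv_rhs => rw [hc]
  rw [ruaF_sum, Finset.smul_sum]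
  refine Finset.sum_congr rfl fun t _ => ?_
  rw [ruaF_smul, h.img, smul_comm]

/-- the map `x ↦ M x / 4` on the lattice -/
noncomputable def ruaMap {W : RuIdx → RuVec} {Z : Fin 28 → RuVec} (h : RuaFrame W Z)
    (x : ruLattice) : ruLattice :=
  ⟨Classical.choose (rua_exists h x.2), (Classical.choose_spec (rua_exists h x.2)).1⟩

theorem ruaMap_spec {W : RuIdx → RuVec} {Z : Fin 28 → RuVec} (h : RuaFrame W Z) (x : ruLattice) :
    (4 : GaussianInt) • ((ruaMap h x : ruLattice) : RuVec) = ruaF W (x : RuVec) :=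
  (Classical.choose_spec (rua_exists h x.2)).2

/-- the data of a unitary automorphism: a frame, its adjoint, the images of the basis -/
structure RuaData (W : RuIdx → RuVec) (Z Z' : Fin 28 → RuVec) : Prop where
  fr : RuaFrame W Z
  fr' : RuaFrame (ruaAdj W) Z'
  un : ruaUnit W
  un' : ruaUnit (ruaAdj W)

theorem ruaAdj_adj (W : RuIdx → RuVec) : ruaAdj (ruaAdj W) = W := by
  funext p q
  simp [ruaAdj]

theorem ruaMap_left {W : RuIdx → RuVec} {Z Z' : Fin 28 → RuVec} (h : RuaData W Z Z')
    (x : ruLattice) : ruaMap h.fr' (ruaMap h.fr x) = x := by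
  apply Subtype.ext
  apply rua_sixteen_cancel
  calc (16 : GaussianInt) • ((ruaMap h.fr' (ruaMap h.fr x) : ruLattice) : RuVec)
      = (4 : GaussianInt) • ((4 : GaussianInt) •
          ((ruaMap h.fr' (ruaMap h.fr x) : ruLattice) : RuVec)) := by
        rw [smul_smul]; norm_num
    _ = (4 : GaussianInt) • ruaF (ruaAdj W) ((ruaMap h.fr x : ruLattice) : RuVec) := by
        rw [ruaMap_spec h.fr']
    _ = ruaF (ruaAdj W) ((4 : GaussianInt) • ((ruaMap h.fr x : ruLattice) : RuVec)) :=
        (ruaF_smul _ _ _).symm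
    _ = ruaF (ruaAdj W) (ruaF W (x : RuVec)) := by rw [ruaMap_spec h.fr]
    _ = (16 : GaussianInt) • (x : RuVec) := rua_unit_apply h.un _

theorem ruaMap_right {W : RuIdx → RuVec} {Z Z' : Fin 28 → RuVec} (h : RuaData W Z Z')
    (x : ruLattice) : ruaMap h.fr (ruaMap h.fr' x) = x := by
  apply Subtype.ext
  apply rua_sixteen_cancel
  have hu := rua_unit_apply h.un' (x : RuVec)
  rw [ruaAdj_adj] at hu
  calc (16 : GaussianInt) • ((ruaMap h.fr (ruaMap h.fr' x) : ruLattice) : RuVec)
      = (4 : GaussianInt) • ((4 : GaussianInt) •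
          ((ruaMap h.fr (ruaMap h.fr' x) : ruLattice) : RuVec)) := by
        rw [smul_smul]; norm_num
    _ = (4 : GaussianInt) • ruaF W ((ruaMap h.fr' x : ruLattice) : RuVec) := by
        rw [ruaMap_spec h.fr]
    _ = ruaF W ((4 : GaussianInt) • ((ruaMap h.fr' x : ruLattice) : RuVec)) :=
        (ruaF_smul _ _ _).symm
    _ = ruaF W (ruaF (ruaAdj W) (x : RuVec)) := by rw [ruaMap_spec h.fr']
    _ = (16 : GaussianInt) • (x : RuVec) := hu

/-- the permutation of the lattice -/
noncomputable def ruaPerm {W : RuIdx → RuVec} {Z Z' : Fin 28 → RuVec} (h : RuaData W Z Z') :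
    Equiv.Perm ruLattice where
  toFun := ruaMap h.fr
  invFun := ruaMap h.fr'
  left_inv := ruaMap_left h
  right_inv := ruaMap_right h

theorem ruaPerm_mem {W : RuIdx → RuVec} {Z Z' : Fin 28 → RuVec} (h : RuaData W Z Z') :
    ruaPerm h ∈ fourRu := by
  refine ⟨fun v w => ?_, fun v => ?_, fun v => ?_⟩
  · apply Subtype.ext
    apply rua_four_cancel
    show (4 : GaussianInt) • ((ruaMap h.fr (v + w) : ruLattice) : RuVec) =
      (4 : GaussianInt) • (((ruaMap h.fr v : ruLattice) : RuVec) + ((ruaMap h.fr w : ruLattice) : RuVec))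
    rw [smul_add, ruaMap_spec, ruaMap_spec, ruaMap_spec]
    exact ruaF_add W _ _
  · apply Subtype.ext
    apply rua_four_cancel
    show (4 : GaussianInt) • ((ruaMap h.fr (ruI v) : ruLattice) : RuVec) =
      (4 : GaussianInt) • (gI • ((ruaMap h.fr v : ruLattice) : RuVec))
    rw [smul_comm, ruaMap_spec, ruaMap_spec]
    exact ruaF_smul W gI _
  · show ruNorm ((ruaMap h.fr v : ruLattice) : RuVec) = ruNorm (v : RuVec)
    have h1 : ruNorm ((4 : GaussianInt) • ((ruaMap h.fr v : ruLattice) : RuVec)) =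
        16 * ruNorm ((ruaMap h.fr v : ruLattice) : RuVec) := by
      rw [ruNorm_smul]
      congr 1
    have h2 : ruNorm (ruaF W (v : RuVec)) = 16 * ruNorm (v : RuVec) := by
      have e1 := rvlHerm_self (ruaF W (v : RuVec))
      rw [rua_adj, rua_unit_apply h.un, rvlHerm_smul_right, rvlHerm_self] at e1
      have e2 : star (16 : GaussianInt) = ((16 : ℤ) : GaussianInt) := by
        rw [show (16 : GaussianInt) = ((16 : ℤ) : GaussianInt) by norm_cast, star_intCast]
      rw [e2, ← Int.cast_mul] at e1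
      exact (Int.cast_injective e1).symm
    rw [ruaMap_spec, h2] at h1
    omega

/-- the automorphism `x ↦ M x / 4` as an element of `fourRu` -/
noncomputable def ruaAut {W : RuIdx → RuVec} {Z Z' : Fin 28 → RuVec} (h : RuaData W Z Z') : fourRu :=
  ⟨ruaPerm h, ruaPerm_mem h⟩

theorem ruaAut_spec {W : RuIdx → RuVec} {Z Z' : Fin 28 → RuVec} (h : RuaData W Z Z')
    (v : ruLattice) (p : RuIdx) :
    4 * (((ruaAut h).1 v : ruLattice) : RuVec) p = rvlHerm (v : RuVec) (W p) :=
  congrFun (ruaMap_spec h.fr v) p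

end Cfsg.Agent.Lib.Helper29
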