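import Cfsg.Agent.Lib.Helper29.RUCover

set_option autoImplicit false

/-!
# Project RU, row GENS: the monomial maps `Sign`, `Shift` as elements of `fourRu`
(`ruAutRj`, `ruAutRk` are in `RUCover`)
-/

namespace Cfsg.Agent.Lib.Helper29

open Cfsg.Spor

theorem ruc_Sign_Sign (v : RuVec) : ruSign (ruSign v) = v := by
  funext p
  simp only [ruSign]
  split_ifs <;> simp

theorem ruc_Sign_add (v w : RuVec) : ruSign (v + w) = ruSign v + ruSign w := by
  funext p
  simp only [ruSign, Pi.add_apply]
  split_ifs <;> simp [add_comm]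

theorem ruc_Sign_gI (v : RuVec) : ruSign (gI • v) = gI • ruSign v := by
  funext p
  simp only [ruSign, Pi.smul_apply]
  split_ifs <;> simp

theorem ruc_Shift_add (v w : RuVec) : ruShift (v + w) = ruShift v + ruShift w := rfl

theorem ruc_Shift_gI (v : RuVec) : ruShift (gI • v) = gI • ruShift v := rfl

theorem ruc_Shift_ShInv (v : RuVec) : ruShift (rvlShInv v) = v := by
  funext p
  simp [ruShift, rvlShInv]

theorem ruc_ShInv_Shift (v : RuVec) : rvlShInv (ruShift v) = v := by
  funext p
  simp [ruShift, rvlShInv]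

/-- `Sign` as a permutation of the lattice -/
def ruPermSign : Equiv.Perm ruLattice where
  toFun v := ⟨ruSign v, rvl_Sign_mem v.2⟩
  invFun v := ⟨ruSign v, rvl_Sign_mem v.2⟩
  left_inv v := Subtype.ext (ruc_Sign_Sign v)
  right_inv v := Subtype.ext (ruc_Sign_Sign v)

/-- `Shift` as a permutation of the lattice -/
def ruPermShift : Equiv.Perm ruLattice where
  toFun v := ⟨ruShift v, rvl_Shift_mem v.2⟩
  invFun v := ⟨rvlShInv v, rvl_ShInv_mem v.2⟩
  left_inv v := Subtype.ext (ruc_ShInv_Shift v)
  right_inv v := Subtype.ext (ruc_Shift_ShInv v)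

theorem ruPermSign_mem : ruPermSign ∈ fourRu :=
  ⟨fun v w => Subtype.ext (ruc_Sign_add v w), fun v => Subtype.ext (ruc_Sign_gI v),
    fun v => ruNorm_Sign v⟩

theorem ruPermShift_mem : ruPermShift ∈ fourRu :=
  ⟨fun v w => Subtype.ext (ruc_Shift_add v w), fun v => Subtype.ext (ruc_Shift_gI v),
    fun v => ruNorm_Shift v⟩

/-- `Sign` as an element of `fourRu` -/
def ruAutSign : fourRu := ⟨ruPermSign, ruPermSign_mem⟩

/-- `Shift` as an element of `fourRu` -/
def ruAutShift : fourRu := ⟨ruPermShift, ruPermShift_mem⟩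

theorem ruAutSign_apply (v : ruLattice) : ((ruAutSign.1 v : ruLattice) : RuVec) = ruSign v := rfl

theorem ruAutShift_apply (v : ruLattice) : ((ruAutShift.1 v : ruLattice) : RuVec) = ruShift v := rfl

end Cfsg.Agent.Lib.Helper29
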