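import Cfsg.Agent.Lib.Helper29.RUBridgeB

set_option autoImplicit false

/-!
# Project RU, row BRIDGE (helper29), part C1: kernel checks for the list vectors 4032 ≤ i < 8064
-/

namespace Cfsg.Agent.Lib.Helper29

theorem rub_chk_4 : rubChkR 4032 1008 = true := by decide +kernel

theorem rub_chk_5 : rubChkR 5040 1008 = true := by decide +kernel

theorem rub_chk_6 : rubChkR 6048 1008 = true := by decide +kernel

theorem rub_chk_7 : rubChkR 7056 1008 = true := by decide +kernel

end Cfsg.Agent.Lib.Helper29
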