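import Cfsg.Agent.Lib.Helper29.RUBridgeB

set_option autoImplicit false

/-!
# Project RU, row BRIDGE (helper29), part C2: kernel checks for the list vectors 8064 ≤ i < 12096
-/

namespace Cfsg.Agent.Lib.Helper29

theorem rub_chk_8 : rubChkR 8064 1008 = true := by decide +kernel

theorem rub_chk_9 : rubChkR 9072 1008 = true := by decide +kernel

theorem rub_chk_10 : rubChkR 10080 1008 = true := by decide +kernel

theorem rub_chk_11 : rubChkR 11088 1008 = true := by decide +kernel

end Cfsg.Agent.Lib.Helper29
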