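import Cfsg.Agent.Lib.Helper29.RUBridgeB

set_option autoImplicit false

/-!
# Project RU, row BRIDGE (helper29), part C3: kernel checks for the list vectors 12096 ≤ i < 16128
-/

namespace Cfsg.Agent.Lib.Helper29

theorem rub_chk_12 : rubChkR 12096 1008 = true := by decide +kernel

theorem rub_chk_13 : rubChkR 13104 1008 = true := by decide +kernel

theorem rub_chk_14 : rubChkR 14112 1008 = true := by decide +kernel

theorem rub_chk_15 : rubChkR 15120 1008 = true := by decide +kernel

end Cfsg.Agent.Lib.Helper29
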