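import Cfsg.Agent.Lib.Helper29.RUBridgeC0
import Cfsg.Agent.Lib.Helper29.RUBridgeC1
import Cfsg.Agent.Lib.Helper29.RUBridgeC2
import Cfsg.Agent.Lib.Helper29.RUBridgeC3

set_option autoImplicit false

/-!
# Project RU, row BRIDGE (helper29): the bridge between `ruLattice` and helper23's masks

* **B1** `ru_four_single_mem p a : Pi.single p (4 * a) ∈ ruLattice` (in `RUBridgeA`);
* **B3** `ru_rulVec_mem : i < 16128 → rulVec i ∈ ruLattice`, with `ru_rulVec_norm`;
* **B2** `ru_bridge : x ∈ ruLattice → ruNorm x = 16 → x = 4 u e_p ∨ ∃ c n z, …, x = rulDec c n z ∧ rulSat c n z`;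
* `ru_rulMin_mem : x ∈ rulMin → x ∈ ruLattice ∧ ruNorm x = 16`, and, relative to the mask theorem,
  `ru_min_of_masks` / `ru_min_iff_of_masks`.
-/

namespace Cfsg.Agent.Lib.Helper29

open Cfsg.Spor Cfsg.Agent.Lib.helper23 Cfsg.Agent.Lib.helper14

/-- **B3**: the 16128 unit-type list vectors lie in the lattice -/
theorem ru_rulVec_mem {i : ℕ} (hi : i < 16128) : rulVec i ∈ ruLattice := by
  apply rub_mem_of_chk
  obtain ⟨j, hj, h1, h2⟩ : ∃ j, j < 16 ∧ 1008 * j ≤ i ∧ i < 1008 * j + 1008 :=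
    ⟨i / 1008, by omega, by omega, by omega⟩
  interval_cases j
  · exact rubChkR_sound rub_chk_0 (by omega) (by omega)
  · exact rubChkR_sound rub_chk_1 (by omega) (by omega)
  · exact rubChkR_sound rub_chk_2 (by omega) (by omega)
  · exact rubChkR_sound rub_chk_3 (by omega) (by omega)
  · exact rubChkR_sound rub_chk_4 (by omega) (by omega)
  · exact rubChkR_sound rub_chk_5 (by omega) (by omega)
  · exact rubChkR_sound rub_chk_6 (by omega) (by omega)
  · exact rubChkR_sound rub_chk_7 (by omega) (by omega)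
  · exact rubChkR_sound rub_chk_8 (by omega) (by omega)
  · exact rubChkR_sound rub_chk_9 (by omega) (by omega)
  · exact rubChkR_sound rub_chk_10 (by omega) (by omega)
  · exact rubChkR_sound rub_chk_11 (by omega) (by omega)
  · exact rubChkR_sound rub_chk_12 (by omega) (by omega)
  · exact rubChkR_sound rub_chk_13 (by omega) (by omega)
  · exact rubChkR_sound rub_chk_14 (by omega) (by omega)
  · exact rubChkR_sound rub_chk_15 (by omega) (by omega)

/-- weights of the supports and `n ⊆ s` for the list -/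
def rubChkW : Bool :=
  pgAll 16128 fun i => pgForce (rulS i) fun s => pgForce (rulN i) fun n =>
    Nat.beq (rulWtF s) 16 && Nat.beq (Nat.land n s) n

theorem rub_chk_w : rubChkW = true := by decide +kernel

theorem rub_S_wt {i : ℕ} (hi : i < 16128) : rulWt (rulS i) = 16 := by
  have h := (pgAll_iff _ _).1 rub_chk_w i hi
  rw [pgForce_eq, pgForce_eq, Bool.and_eq_true] at h
  rw [← rulWtF_eq (rub_S_lt i)]
  exact Nat.eq_of_beq_eq_true h.1

theorem rub_N_sub {i : ℕ} (hi : i < 16128) : rulN i &&& rulS i = rulN i := by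
  have h := (pgAll_iff _ _).1 rub_chk_w i hi
  rw [pgForce_eq, pgForce_eq, Bool.and_eq_true] at h
  exact Nat.eq_of_beq_eq_true h.2

/-- the norm of a unit-type mask vector is the weight of its support -/
theorem rub_norm_dec (c n : ℕ) : ruNorm (rulDec c n 0) = rulWt c := by
  have h := rvlHerm_self (rulDec c n 0)
  have h2 : (rvlHerm (rulDec c n 0) (rulDec c n 0)).re = ruNorm (rulDec c n 0) := by
    rw [h, Zsqrtd.re_intCast]
  rw [← h2, rub_herm_dec, rub_wt_cast]
  refine Finset.sum_congr rfl fun k _ => ?_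
  unfold rulVal
  rw [Nat.zero_testBit]
  cases n.testBit k <;> cases c.testBit k <;> simp

theorem ru_rulVec_norm {i : ℕ} (hi : i < 16128) : ruNorm (rulVec i) = 16 := by
  unfold rulVec
  rw [rub_norm_dec, rub_S_wt hi]
  rfl

/-- **B2**: a minimal vector of the lattice is `4 u e_p` or a mask vector satisfying the integrality
conditions against the list -/
theorem ru_bridge {x : RuVec} (hx : x ∈ ruLattice) (hn : ruNorm x = 16) :
    (∃ p : RuIdx, ∃ u : GaussianInt, IsUnit u ∧ x = Pi.single p (4 * u)) ∨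
      ∃ c n z : ℕ, c < 2 ^ 56 ∧ n < 2 ^ 56 ∧ z < 2 ^ 56 ∧ c &&& z = 0 ∧ n &&& (c ||| z) = n ∧
        rulWt c + 4 * rulWt z = 16 ∧ x = rulDec c n z ∧ rulSat c n z :=
  ru_bridge_of (fun _ hi => ru_rulVec_mem hi) hx hn

theorem rub_norm_unit {u : GaussianInt} (hu : IsUnit u) : u.norm = 1 := by
  have h1 := (Zsqrtd.norm_eq_one_iff).2 hu
  have h2 := rvl_norm_nonneg u
  omega

/-- the vectors of `rulMin` are minimal vectors of the lattice -/
theorem ru_rulMin_mem {x : RuVec} (hx : x ∈ rulMin) : x ∈ ruLattice ∧ ruNorm x = 16 := by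
  rcases hx with ⟨p, u, hu, rfl⟩ | ⟨i, hi, rfl⟩
  · refine ⟨ru_four_single_mem p u, ?_⟩
    rw [ruNorm_single, Zsqrtd.norm_mul, rub_norm_unit hu]
    decide
  · exact ⟨ru_rulVec_mem hi, ru_rulVec_norm hi⟩

/-- the minimal vectors are the vectors of `rulMin`, relative to the mask theorem -/
theorem ru_min_of_masks
    (hM : ∀ c n z : ℕ, c < 2 ^ 56 → n < 2 ^ 56 → z < 2 ^ 56 → c &&& z = 0 → n &&& (c ||| z) = n →
      rulWt c + 4 * rulWt z = 16 → rulSat c n z → z = 0 ∧ ∃ i < 16128, rulS i = c ∧ rulN i = n)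
    {x : RuVec} (hx : x ∈ ruLattice) (hn : ruNorm x = 16) : x ∈ rulMin := by
  rcases ru_bridge hx hn with h | ⟨c, n, z, hc, hn', hz, hcz, hncz, hw, rfl, hs⟩
  · exact Or.inl h
  · obtain ⟨rfl, i, hi, rfl, rfl⟩ := hM c n z hc hn' hz hcz hncz hw hs
    exact Or.inr ⟨i, hi, rfl⟩

theorem ru_min_iff_of_masks
    (hM : ∀ c n z : ℕ, c < 2 ^ 56 → n < 2 ^ 56 → z < 2 ^ 56 → c &&& z = 0 → n &&& (c ||| z) = n →
      rulWt c + 4 * rulWt z = 16 → rulSat c n z → z = 0 ∧ ∃ i < 16128, rulS i = c ∧ rulN i = n)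
    (x : RuVec) : x ∈ rulMin ↔ x ∈ ruLattice ∧ ruNorm x = 16 :=
  ⟨ru_rulMin_mem, fun h => ru_min_of_masks hM h.1 h.2⟩

end Cfsg.Agent.Lib.Helper29
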