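import Cfsg.Agent.Lib.Helper29.RUAutA
import Cfsg.Agent.Lib.Helper29.RUGensU
import Cfsg.Agent.Lib.Helper29.RUBridge

set_option autoImplicit false

/-!
# Project RU, row GENS: the extra automorphism `U` as an element of `fourRu`

`ruAutU : fourRu` with `4 * (ruAutU v) p = rvlHerm v (rugW rugFU p)`, i.e. `ruAutU v = Ui v / 4` for the matrix
`Ui` of `scripts/helper23/ru/aut1.pkl` (the rows of `Ui` are the conjugates of the frame vectors `rugW rugFU p`).
-/

namespace Cfsg.Agent.Lib.Helper29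

open Cfsg.Spor Cfsg.Agent.Lib.helper23 Cfsg.Agent.Lib.helper14

/-- list indices of the images `U (ruB t)` -/
def ruaZU : List ℕ := [7940, 3492, 15092, 15359, 4273, 15260, 12669, 11307, 706, 4996, 1817, 8853, 15098, 5080, 4101, 2393, 1466, 5421, 2308, 14651, 5136, 9240, 4467, 7766, 777, 824, 5988, 12126]

/-- list indices of the images `U⁻¹ (ruB t)` -/
def ruaZU' : List ℕ := [13889, 5018, 9843, 7472, 696, 94, 3117, 1064, 1096, 2441, 8114, 6456, 3063, 10984, 12600, 10233, 9453, 5213, 2308, 1352, 13283, 10263, 3084, 5261, 7897, 7706, 7221, 195]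

theorem ruaU_lt : ∀ t : Fin 28, ruaZU.getD t.val 0 < 16128 ∧ ruaZU'.getD t.val 0 < 16128 := by
  decide

set_option maxRecDepth 100000 in
theorem ruaU_img : ∀ t : Fin 28, ∀ p : RuIdx,
    rvlHerm (ruB t) (rugW rugFU p) = 4 * rulVec (ruaZU.getD t.val 0) p := by
  decide +kernel

set_option maxRecDepth 100000 in
theorem ruaU_img' : ∀ t : Fin 28, ∀ p : RuIdx,
    rvlHerm (ruB t) (ruaAdj (rugW rugFU) p) = 4 * rulVec (ruaZU'.getD t.val 0) p := by
  decide +kernel

set_option maxRecDepth 100000 in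
theorem ruaU_un : ruaUnit (rugW rugFU) := by
  unfold ruaUnit
  decide +kernel

set_option maxRecDepth 100000 in
theorem ruaU_un' : ruaUnit (ruaAdj (rugW rugFU)) := by
  unfold ruaUnit
  decide +kernel

theorem ruaU_data : RuaData (rugW rugFU) (fun t => rulVec (ruaZU.getD t.val 0))
    (fun t => rulVec (ruaZU'.getD t.val 0)) where
  fr := ⟨fun t => ru_rulVec_mem (ruaU_lt t).1, fun t => funext fun p => ruaU_img t p⟩
  fr' := ⟨fun t => ru_rulVec_mem (ruaU_lt t).2, fun t => funext fun p => ruaU_img' t p⟩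
  un := ruaU_un
  un' := ruaU_un'

/-- the extra automorphism `U` as an element of `fourRu` -/
noncomputable def ruAutU : fourRu := ruaAut ruaU_data

theorem ruAutU_spec (v : ruLattice) (p : RuIdx) :
    4 * ((ruAutU.1 v : ruLattice) : RuVec) p = rvlHerm (v : RuVec) (rugW rugFU p) :=
  ruaAut_spec ruaU_data v p

end Cfsg.Agent.Lib.Helper29
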