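import Cfsg.Agent.Lib.Helper29.RUBridgeA
import Cfsg.Agent.Lib.helper14.RuAut
import Cfsg.Agent.Lib.helper23.PgB
import Cfsg.Agent.Lib.Helper10.RULBITSWT

set_option autoImplicit false

/-!
# Project RU, row BRIDGE (helper29), part B: the membership test for the list vectors

`rulVec i ∈ ruLattice` is tested against helper14's basis `ruB t` of minimal vectors
(`ru_mem_of_basis`): the 56 real test vectors `ruB t`, `gI • ruB t` are unit-type mask vectors, and
the real scalar products are computed modulo `4` by popcounts (`rubChkI`, sound by `rub_mem_of_chk`).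
-/

namespace Cfsg.Agent.Lib.Helper29

open Cfsg.Spor Cfsg.Agent.Lib.helper23 Cfsg.Agent.Lib.helper14

/-- masks (support, negative positions) of the 56 real test vectors `ruB t`, `gI • ruB t` -/
def rubT : List (ℕ × ℕ) := [
  (37161338041668225, 1132496993910785),
  (9333224317272422, 9333222169116676),
  (186458908432896, 636728901632),
  (18722827767207304, 703687576014856),
  (22676484947847240, 18155293099819008),
  (11296728481355041, 9009398546448641),
  (5208462279917926, 4644337115742210),
  (22524056608838728, 4509099334046728),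
  (46518694213947522, 36033201508552704),
  (1794684926575176, 1689125358928392),
  (1847336729318472, 1829744266444808),
  (19184590804097174, 1161359693711382),
  (4795384712562728, 9895606353928),
  (9658132021780756, 580559320391936),
  (111050685508185, 109951164950544),
  (111050685508185, 4398046538241),
  (111050680079705, 1099513075008),
  (1550698500212745, 1269188609968128),
  (2841505408567302, 26474186866688),
  (18461385454323973, 162728795767041),
  (2841505408567302, 2815028939980800),
  (9361389370639001, 9361243341718153),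
  (6923766794291466, 2411371002071050),
  (40604509457687049, 36030446319960064),
  (36703974808113157, 670779469484033),
  (6920618918846474, 2276006790438912),
  (43140992568680578, 40814421668274176),
  (4794992781002818, 4513495251486786),
  (20276117594513730, 20275015924646210),
  (5088850393531033, 562985387229209),
  (95016051565824, 92532990035200),
  (36390124120091204, 16818240),
  (45141654232962180, 36028832066573316),
  (5648880045828626, 1143493703533074),
  (9361389370639001, 9288675573661712),
  (45047272276306052, 9018473613174784),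
  (25482566161555521, 4512679188373569),
  (2692164324983172, 2269943001513984),
  (2638932701620356, 2251834211172352),
  (38303155343402089, 2256765869949032),
  (9577365854569492, 2268835365904),
  (4961040028996136, 4538818428731904),
  (169324796351910, 149533585965348),
  (169324796351910, 26388284604422),
  (169324801780390, 19791211948676),
  (2886927002993670, 2252504465211396),
  (1447688591803401, 1442732195316737),
  (36707489917568522, 45374201005570),
  (1447688591803401, 4957537305601),
  (5208462279917926, 703763140591618),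
  (10245327336769029, 41790568923136),
  (27164985805377798, 2203322421508),
  (18464241178943498, 18155273571311618),
  (10249132342267909, 114383644803077),
  (28860265254654017, 10696049693818945),
  (9576791418487937, 9009398311698560)]

set_option maxRecDepth 100000 in
theorem rub_tests_B : ∀ t : Fin 28,
    ruB t = rulDec (rubT.getD t.val (0, 0)).1 (rubT.getD t.val (0, 0)).2 0 := by
  decide +kernel

set_option maxRecDepth 100000 in
theorem rub_tests_IB : ∀ t : Fin 28,
    gI • ruB t = rulDec (rubT.getD (28 + t.val) (0, 0)).1 (rubT.getD (28 + t.val) (0, 0)).2 0 := by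
  decide +kernel

/-- one integrality test on masks -/
def rubChk1 (S N s n : ℕ) : Bool :=
  pgForce (Nat.land s S) fun a =>
  Nat.beq (Nat.land (Nat.add (rulWtF a) (Nat.mul 2 (rulWtF (Nat.land a (Nat.xor N n))))) 3) 0

/-- all 56 tests for the list vector `i` -/
def rubChkI (i : ℕ) : Bool :=
  pgForce (rulS i) fun s => pgForce (rulN i) fun n => pgAllL rubT fun T => rubChk1 T.1 T.2 s n

/-- all tests for the list vectors `lo ≤ i < lo + len` -/
def rubChkR (lo len : ℕ) : Bool := pgAll len fun k => rubChkI (Nat.add lo k)

theorem rub_S_lt (i : ℕ) : rulS i < 2 ^ 56 := by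
  unfold rulS
  exact Nat.lt_succ_of_le Nat.and_le_right

theorem rubChk1_sound {S N s n : ℕ} (hs : s < 2 ^ 56) (h : rubChk1 S N s n = true) :
    (rulWt (s &&& S) + 2 * rulWt (s &&& S &&& (N ^^^ n)) + 2 * rulWt (s &&& 0)) % 4 = 0 := by
  unfold rubChk1 at h
  rw [pgForce_eq] at h
  have h1 : s &&& S < 2 ^ 56 := lt_of_le_of_lt Nat.and_le_left hs
  have h2 : s &&& S &&& (N ^^^ n) < 2 ^ 56 := lt_of_le_of_lt Nat.and_le_left h1
  have e1 : rulWtF (Nat.land s S) = rulWt (s &&& S) := rulWtF_eq h1
  have e2 : rulWtF (Nat.land (Nat.land s S) (Nat.xor N n)) = rulWt (s &&& S &&& (N ^^^ n)) :=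
    rulWtF_eq h2
  rw [e1, e2] at h
  have h3 := Nat.eq_of_beq_eq_true h
  have h4 : (rulWt (s &&& S) + 2 * rulWt (s &&& S &&& (N ^^^ n))) &&& 3 = 0 := h3
  have h5 : (3 : ℕ) = 2 ^ 2 - 1 := by norm_num
  rw [h5, Nat.and_two_pow_sub_one_eq_mod] at h4
  rw [Nat.and_zero, rulWt_zero]
  omega

theorem rubChkI_sound {i : ℕ} (h : rubChkI i = true) :
    ∀ T ∈ rubT, (rulWt (rulS i &&& T.1) + 2 * rulWt (rulS i &&& T.1 &&& (T.2 ^^^ rulN i))
      + 2 * rulWt (rulS i &&& 0)) % 4 = 0 := by
  unfold rubChkI at h
  rw [pgForce_eq, pgForce_eq, pgAllL_iff] at h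
  intro T hT
  exact rubChk1_sound (rub_S_lt i) (h T hT)

theorem rubChkR_sound {lo len : ℕ} (h : rubChkR lo len = true) {i : ℕ} (h1 : lo ≤ i)
    (h2 : i < lo + len) : rubChkI i = true := by
  unfold rubChkR at h
  rw [pgAll_iff] at h
  have := h (i - lo) (by omega)
  have e : Nat.add lo (i - lo) = i := by
    show lo + (i - lo) = i
    omega
  rw [e] at this
  exact this

/-- a list vector is integral against a unit-type mask vector passing the test -/
theorem rub_re_of_chk {i : ℕ} {T : ℕ × ℕ}
    (h : (rulWt (rulS i &&& T.1) + 2 * rulWt (rulS i &&& T.1 &&& (T.2 ^^^ rulN i))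
      + 2 * rulWt (rulS i &&& 0)) % 4 = 0) :
    (4 : ℤ) ∣ (rvlHerm (rulDec T.1 T.2 0) (rulVec i)).re := by
  unfold rulVec
  rw [rub_herm_dec]
  have h6 := rub_dot T.1 T.2 0 (rulS i) (rulN i)
  refine (Int.dvd_iff_dvd_of_dvd_sub h6).2 ?_
  exact_mod_cast Nat.dvd_of_mod_eq_zero h

theorem rub_getD_mem {t : ℕ} (ht : t < 56) : rubT.getD t (0, 0) ∈ rubT := by
  rw [List.getD_eq_getElem _ _ (by simpa [rubT] using ht)]
  exact List.getElem_mem _

/-- **B3** from the checks -/
theorem rub_mem_of_chk {i : ℕ} (h : rubChkI i = true) : rulVec i ∈ ruLattice := by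
  apply ru_mem_of_basis
  intro t
  have ht := t.isLt
  have hs := rubChkI_sound h
  rw [rvlHerm_conj (ruB t) (rulVec i)]
  apply rvl_four_dvd_star
  rw [rvl_four_dvd_iff]
  constructor
  · have := rub_re_of_chk (hs _ (rub_getD_mem (t := t.val) (by omega)))
    rw [← rub_tests_B t] at this
    exact this
  · have := rub_re_of_chk (hs _ (rub_getD_mem (t := 28 + t.val) (by omega)))
    rw [← rub_tests_IB t, rvlHerm_smul_left] at this
    have e : (gI * rvlHerm (ruB t) (rulVec i)).re = -(rvlHerm (ruB t) (rulVec i)).im := by
      simp [gI, Zsqrtd.re_mul]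
    rw [e] at this
    exact (dvd_neg).1 this

end Cfsg.Agent.Lib.Helper29
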