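import Cfsg.Agent.Lib.Helper29.RUBridgeB

set_option autoImplicit false

/-!
# Project RU, row BRIDGE (helper29), part C0: kernel checks for the list vectors 0 ≤ i < 4032
-/

namespace Cfsg.Agent.Lib.Helper29

theorem rub_chk_0 : rubChkR 0 1008 = true := by decide +kernel

theorem rub_chk_1 : rubChkR 1008 1008 = true := by decide +kernel

theorem rub_chk_2 : rubChkR 2016 1008 = true := by decide +kernel

theorem rub_chk_3 : rubChkR 3024 1008 = true := by decide +kernel

end Cfsg.Agent.Lib.Helper29
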