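import Cfsg.Agent.Lib.Helper29.RULines
import Cfsg.Agent.Lib.helper23.RULGramB
import Cfsg.Agent.Lib.helper23.RULDfs
import Cfsg.Agent.Lib.helper23.RuData
import Cfsg.Agent.Lib.Helper10.RULBITSWT

set_option autoImplicit false

/-!
# Project RU, row GENS (mask level), part A: the checker and its soundness

For a unitary automorphism `g` with `4 g = M`, the rows of `M` are the conjugates of 28 minimal vectors
`w_p` (the frame), so `(M x)_p = rvlHerm x w_p`.  For a frame of unit type, given by masks, and a list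
vector `x`, the products `rvlHerm x w_p` are computed by popcounts and compared with `4 (gI ^ k • y)_p`.
-/

namespace Cfsg.Agent.Lib.Helper29

open Cfsg.Spor Cfsg.Agent.Lib.helper23

/-- one real row `e = (r, S, N)`: the real scalar product of `(s, n)` with `(S, N)` is `4` times the real
coordinate `r` of `(sy, ny)` -/
def rugRow (s n sy ny : ℕ) (e : ℕ × ℕ × ℕ) : Bool :=
  pgForce (Nat.land s e.2.1) fun a =>
  pgForce (rulWtF a) fun A =>
  pgForce (rulWtF (Nat.land a (Nat.xor n e.2.2))) fun B =>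
  cond (rulBit sy e.1)
    (cond (rulBit ny e.1) (Nat.beq (Nat.add A 4) (Nat.mul 2 B)) (Nat.beq A (Nat.add (Nat.mul 2 B) 4)))
    (Nat.beq A (Nat.mul 2 B))

theorem rugRow_sound {s n sy ny : ℕ} {e : ℕ × ℕ × ℕ} (hs : s < 2 ^ 56)
    (h : rugRow s n sy ny e = true) :
    (rvlHerm (rulDec s n 0) (rulDec e.2.1 e.2.2 0)).re = 4 * rulVal sy ny 0 e.1 := by
  rw [rulG_re]
  unfold rugRow at h
  rw [pgForce_eq, pgForce_eq, pgForce_eq, rulBit_eq, rulBit_eq] at h
  have h1 : s &&& e.2.1 < 2 ^ 56 := lt_of_le_of_lt Nat.and_le_left hs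
  have h2 : s &&& e.2.1 &&& (n ^^^ e.2.2) < 2 ^ 56 := lt_of_le_of_lt Nat.and_le_left h1
  have e1 : rulWtF (Nat.land s e.2.1) = rulWt (s &&& e.2.1) := rulWtF_eq h1
  have e2 : rulWtF (Nat.land (Nat.land s e.2.1) (Nat.xor n e.2.2)) =
      rulWt (s &&& e.2.1 &&& (n ^^^ e.2.2)) := rulWtF_eq h2
  rw [e1, e2] at h
  unfold rulVal
  rw [Nat.zero_testBit]
  generalize rulWt (s &&& e.2.1) = A at h ⊢
  generalize rulWt (s &&& e.2.1 &&& (n ^^^ e.2.2)) = B at h ⊢
  cases hsy : sy.testBit e.1 <;> cases hny : ny.testBit e.1 <;> rw [hsy] at h <;>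
    simp only [hny, cond_true, cond_false] at h <;>
    have h3 := Nat.eq_of_beq_eq_true h <;>
    simp only [Nat.add_eq, Nat.mul_eq] at h3 <;> simp <;> omega

/-- the real rows of a frame: `(2 q, w_q)` and `(2 q + 1, gI • w_q)` -/
def rugRowsOK (F : List (ℕ × ℕ)) (R : List (ℕ × ℕ × ℕ)) : Prop :=
  ∀ q : Fin 28, R.getD (2 * q.val) (0, 0, 0) = (2 * q.val, F.getD q.val (0, 0)) ∧
    R.getD (2 * q.val + 1) (0, 0, 0) = (2 * q.val + 1, rubGI (F.getD q.val (0, 0)))

instance (F : List (ℕ × ℕ)) (R : List (ℕ × ℕ × ℕ)) : Decidable (rugRowsOK F R) := by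
  unfold rugRowsOK; infer_instance

/-- the frame vector of the coordinate `p` -/
def rugW (F : List (ℕ × ℕ)) (p : RuIdx) : RuVec :=
  rulDec (F.getD (4 * p.1.val + p.2.val) (0, 0)).1 (F.getD (4 * p.1.val + p.2.val) (0, 0)).2 0

theorem rug_im (x w : RuVec) : (rvlHerm x (gI • w)).re = (rvlHerm x w).im := by
  rw [rvlHerm_smul_right, rvl_star_gI]
  simp [gI, Zsqrtd.re_mul]

/-- all rows pass: the Hermitian products with the frame are `4 (sy, ny)` -/
theorem rug_rows_sound {F : List (ℕ × ℕ)} {R : List (ℕ × ℕ × ℕ)} (hR : rugRowsOK F R)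
    (hlen : R.length = 56) {s n sy ny : ℕ} (hs : s < 2 ^ 56)
    (h : pgAllL R (rugRow s n sy ny) = true) (p : RuIdx) :
    rvlHerm (rulDec s n 0) (rugW F p) = 4 * rulDec sy ny 0 p := by
  rw [pgAllL_iff] at h
  have hq : 4 * p.1.val + p.2.val < 28 := by
    have h1 := p.1.isLt
    have h2 := p.2.isLt
    omega
  obtain ⟨r0, r1⟩ := hR ⟨4 * p.1.val + p.2.val, hq⟩
  simp only at r0 r1
  have m0 : R.getD (2 * (4 * p.1.val + p.2.val)) (0, 0, 0) ∈ R := by
    rw [List.getD_eq_getElem _ _ (by omega)]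
    exact List.getElem_mem _
  have m1 : R.getD (2 * (4 * p.1.val + p.2.val) + 1) (0, 0, 0) ∈ R := by
    rw [List.getD_eq_getElem _ _ (by omega)]
    exact List.getElem_mem _
  have t0 := rugRow_sound hs (h _ m0)
  have t1 := rugRow_sound hs (h _ m1)
  rw [r0] at t0
  rw [r1] at t1
  simp only at t0 t1
  rw [← rub_gI_unit, rug_im] at t1
  refine Zsqrtd.ext ?_ ?_
  · rw [show (4 : GaussianInt) = ((4 : ℤ) : GaussianInt) by norm_cast, Zsqrtd.re_smul, rub_dec_re]
    exact t0
  · rw [show (4 : GaussianInt) = ((4 : ℤ) : GaussianInt) by norm_cast, Zsqrtd.im_smul, rub_dec_im]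
    exact t1

/-- the check for the point `j`: unit-type source and image, with the exponent from the table `K` -/
def rugChkJ (R : List (ℕ × ℕ × ℕ)) (T K : ℕ) (sp : List ℕ) (j : ℕ) : Bool :=
  pgForce (ruLnCode j) fun a =>
  pgForce (ruLnCode (rulk T j)) fun b =>
  cond (Nat.blt a 16128 && Nat.blt b 16128)
    (pgForce (rulS a) fun s => pgForce (rulN a) fun n =>
      pgForce (Nat.land (Nat.shiftRight K (Nat.mul 2 j)) 3) fun k =>
      pgForce (rubGIp k (rulS b, rulN b)).1 fun sy =>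
      pgForce (rubGIp k (rulS b, rulN b)).2 fun ny =>
      pgAllL R (rugRow s n sy ny))
    (sp.elem j)

theorem rugChkJ_sound {F : List (ℕ × ℕ)} {R : List (ℕ × ℕ × ℕ)} (hR : rugRowsOK F R)
    (hlen : R.length = 56) {T K : ℕ} {sp : List ℕ} {j : ℕ} (h : rugChkJ R T K sp j = true) :
    j ∈ sp ∨ ∃ k : ℕ, ∀ p : RuIdx,
      rvlHerm (ruLineRep j) (rugW F p) = 4 * (gI ^ k • ruLineRep (rulk T j)) p := by
  unfold rugChkJ at h
  rw [pgForce_eq, pgForce_eq] at h
  by_cases hab : (Nat.blt (ruLnCode j) 16128 && Nat.blt (ruLnCode (rulk T j)) 16128) = true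
  · right
    rw [hab, cond_true, pgForce_eq, pgForce_eq, pgForce_eq, pgForce_eq, pgForce_eq] at h
    rw [Bool.and_eq_true] at hab
    have ha : ruLnCode j < 16128 := by simpa using hab.1
    have hb : ruLnCode (rulk T j) < 16128 := by simpa using hab.2
    refine ⟨Nat.land (Nat.shiftRight K (Nat.mul 2 j)) 3, fun p => ?_⟩
    rw [ruLineRep_unit ha, ruLineRep_unit hb]
    have := rug_rows_sound hR hlen (rub_S_lt (ruLnCode j)) h p
    rw [← rub_gI_pow] at this
    exact this
  · left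
    rw [Bool.not_eq_true] at hab
    rw [hab, cond_false] at h
    exact List.elem_iff.mp h

end Cfsg.Agent.Lib.Helper29
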