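import Mathlib
import Cfsg.Prelude.Def_Characters
import Cfsg.Agent.Lib.Helper25.CharBasic
import Cfsg.Agent.Lib.Helper29.AbFrobDual

set_option autoImplicit false
open scoped ComplexConjugate

/-!
Isotypic projections of a complex representation with respect to the linear characters of an
abelian normal subgroup `A`, and their basic calculus (orthogonality, completeness, conjugation).
-/

namespace Cfsg.Agent.Lib.Helper29

section RuIdem

variable {G : Type*} [Group G] {V : Type*} [AddCommGroup V] [Module ℂ V]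
  (ρ : Representation ℂ G V) (A : Subgroup G) [Fintype ↥A]

/-- the isotypic projection attached to a linear character of `A` -/
noncomputable def ruE (θ : ↥A →* ℂˣ) : Module.End ℂ V :=
  (Fintype.card ↥A : ℂ)⁻¹ • ∑ x : ↥A, (((θ x)⁻¹ : ℂˣ) : ℂ) • ρ (x : G)

theorem ruE_mul_left (θ : ↥A →* ℂˣ) (y : ↥A) :
    ρ (y : G) * ruE ρ A θ = ((θ y : ℂˣ) : ℂ) • ruE ρ A θ := by
  have h : ρ (y : G) * ∑ x : ↥A, (((θ x)⁻¹ : ℂˣ) : ℂ) • ρ (x : G) =
      ((θ y : ℂˣ) : ℂ) • ∑ x : ↥A, (((θ x)⁻¹ : ℂˣ) : ℂ) • ρ (x : G) := by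
    rw [Finset.mul_sum, Finset.smul_sum]
    refine Fintype.sum_equiv (Equiv.mulLeft y) _ _ ?_
    intro x
    rw [Equiv.coe_mulLeft, mul_smul_comm, smul_smul, Subgroup.coe_mul, map_mul ρ]
    congr 1
    rw [← Units.val_mul, map_mul, mul_inv_rev, mul_inv_cancel_comm_assoc]
  unfold ruE
  rw [mul_smul_comm, h, smul_comm]

theorem ruE_mul_right (θ : ↥A →* ℂˣ) (y : ↥A) :
    ruE ρ A θ * ρ (y : G) = ((θ y : ℂˣ) : ℂ) • ruE ρ A θ := by
  have h : (∑ x : ↥A, (((θ x)⁻¹ : ℂˣ) : ℂ) • ρ (x : G)) * ρ (y : G) =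
      ((θ y : ℂˣ) : ℂ) • ∑ x : ↥A, (((θ x)⁻¹ : ℂˣ) : ℂ) • ρ (x : G) := by
    rw [Finset.sum_mul, Finset.smul_sum]
    refine Fintype.sum_equiv (Equiv.mulRight y) _ _ ?_
    intro x
    rw [Equiv.coe_mulRight, smul_mul_assoc, smul_smul, Subgroup.coe_mul, map_mul ρ]
    congr 1
    rw [← Units.val_mul, map_mul, mul_inv_rev, mul_inv_cancel_left]
  unfold ruE
  rw [smul_mul_assoc, h, smul_comm]

theorem ruE_mul_ruE (θ θ' : ↥A →* ℂˣ) [Decidable (θ = θ')] :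
    ruE ρ A θ * ruE ρ A θ' = if θ = θ' then ruE ρ A θ else 0 := by
  classical
  have hne : (Fintype.card ↥A : ℂ) ≠ 0 := by exact_mod_cast Fintype.card_ne_zero
  have h1 : ruE ρ A θ * ruE ρ A θ' =
      ((Fintype.card ↥A : ℂ)⁻¹ * ∑ x : ↥A, (((θ⁻¹ * θ') x : ℂˣ) : ℂ)) • ruE ρ A θ' := by
    conv_lhs => rw [ruE]
    rw [smul_mul_assoc, Finset.sum_mul, mul_smul, Finset.sum_smul]
    congr 1
    apply Finset.sum_congr rfl
    intro x _
    rw [smul_mul_assoc, ruE_mul_left, smul_smul, MonoidHom.mul_apply, MonoidHom.inv_apply,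
      Units.val_mul]
  rw [h1, afd_sum_elems]
  by_cases h : θ = θ'
  · subst h
    rw [if_pos rfl, if_pos (inv_mul_cancel θ), inv_mul_cancel₀ hne, one_smul]
  · rw [if_neg h, if_neg, mul_zero, zero_smul]
    intro h2
    apply h
    exact inv_mul_eq_one.mp h2

theorem ruE_idem (θ : ↥A →* ℂˣ) : ruE ρ A θ * ruE ρ A θ = ruE ρ A θ := by
  classical
  rw [ruE_mul_ruE, if_pos rfl]

theorem ruE_orth (θ θ' : ↥A →* ℂˣ) (h : θ ≠ θ') : ruE ρ A θ * ruE ρ A θ' = 0 := by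
  classical
  rw [ruE_mul_ruE, if_neg h]

theorem ruE_sum (hcomm : ∀ a b : ↥A, a * b = b * a) [Fintype (↥A →* ℂˣ)] :
    ∑ θ : ↥A →* ℂˣ, ruE ρ A θ = 1 := by
  classical
  have hne : (Fintype.card ↥A : ℂ) ≠ 0 := by exact_mod_cast Fintype.card_ne_zero
  unfold ruE
  rw [← Finset.smul_sum, Finset.sum_comm]
  have h1 : ∀ x : ↥A, ∑ θ : ↥A →* ℂˣ, (((θ x)⁻¹ : ℂˣ) : ℂ) • ρ (x : G) =
      (if x = 1 then (Fintype.card ↥A : ℂ) else 0) • ρ (x : G) := by
    intro x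
    rw [← Finset.sum_smul]
    congr 1
    have h2 := afd_sum_chars hcomm x⁻¹
    simp only [map_inv, inv_eq_one, Nat.card_eq_fintype_card] at h2
    exact h2
  simp only [h1]
  rw [Finset.sum_eq_single (1 : ↥A)]
  · rw [if_pos rfl, smul_smul, inv_mul_cancel₀ hne, one_smul, Subgroup.coe_one, map_one]
  · intro x _ hx
    rw [if_neg hx, zero_smul]
  · intro h
    exact absurd (Finset.mem_univ _) h

end RuIdem

section RuConj

variable {G : Type*} [Group G] {V : Type*} [AddCommGroup V] [Module ℂ V]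
  (ρ : Representation ℂ G V) (A : Subgroup G) [hA : A.Normal]

/-- the conjugation action of `G` on the linear characters of a normal subgroup -/
noncomputable def ruCj (g : G) (θ : ↥A →* ℂˣ) : ↥A →* ℂˣ :=
  θ.comp (MulAut.conjNormal g⁻¹ : MulAut ↥A).toMonoidHom

theorem ruCj_apply (g : G) (θ : ↥A →* ℂˣ) (x : ↥A) :
    ruCj A g θ x = θ ⟨g⁻¹ * (x : G) * g, by
      have := hA.conj_mem (x : G) x.2 g⁻¹
      simpa using this⟩ := by
  unfold ruCj
  rw [MonoidHom.comp_apply]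
  congr 1
  apply Subtype.ext
  rw [MulEquiv.coe_toMonoidHom, MulAut.conjNormal_apply]
  simp

theorem ruCj_one (θ : ↥A →* ℂˣ) : ruCj A 1 θ = θ := by
  ext x
  rw [ruCj_apply]
  congr 3
  simp

theorem ruCj_mul (g h : G) (θ : ↥A →* ℂˣ) : ruCj A g (ruCj A h θ) = ruCj A (g * h) θ := by
  ext x
  rw [ruCj_apply, ruCj_apply, ruCj_apply]
  congr 3
  simp only
  group

theorem ruCj_one_right (g : G) : ruCj A g (1 : ↥A →* ℂˣ) = 1 := by
  ext x
  rw [ruCj_apply]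
  rfl

theorem ruCj_mul_right (g : G) (θ θ' : ↥A →* ℂˣ) :
    ruCj A g (θ * θ') = ruCj A g θ * ruCj A g θ' := by
  ext x
  rw [MonoidHom.mul_apply, ruCj_apply, ruCj_apply, ruCj_apply, MonoidHom.mul_apply]

theorem ruCj_inv_cancel (g : G) (θ : ↥A →* ℂˣ) : ruCj A g⁻¹ (ruCj A g θ) = θ := by
  rw [ruCj_mul, inv_mul_cancel, ruCj_one]

theorem ruCj_cancel_inv (g : G) (θ : ↥A →* ℂˣ) : ruCj A g (ruCj A g⁻¹ θ) = θ := by
  rw [ruCj_mul, mul_inv_cancel, ruCj_one]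

theorem ruCj_injective (g : G) : Function.Injective (ruCj A g) := by
  intro θ θ' h
  have := congrArg (ruCj A g⁻¹) h
  rwa [ruCj_inv_cancel, ruCj_inv_cancel] at this

theorem ruCj_eq_one_iff (g : G) (θ : ↥A →* ℂˣ) : ruCj A g θ = 1 ↔ θ = 1 := by
  constructor
  · intro h
    apply ruCj_injective A g
    rw [h, ruCj_one_right]
  · intro h
    rw [h, ruCj_one_right]

theorem ruCj_of_mem_centralizer (c : G) (hc : c ∈ Subgroup.centralizer (A : Set G))
    (θ : ↥A →* ℂˣ) : ruCj A c θ = θ := by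
  ext x
  rw [ruCj_apply]
  congr 3
  have := (Subgroup.mem_centralizer_iff.mp hc) (x : G) x.2
  rw [mul_assoc, this, inv_mul_cancel_left]

theorem ruE_conj [Fintype ↥A] (g : G) (θ : ↥A →* ℂˣ) :
    ρ g * ruE ρ A θ * ρ g⁻¹ = ruE ρ A (ruCj A g θ) := by
  unfold ruE
  rw [mul_smul_comm, smul_mul_assoc, Finset.mul_sum, Finset.sum_mul]
  congr 1
  refine Fintype.sum_equiv (MulAut.conjNormal g : MulAut ↥A).toEquiv _ _ ?_
  intro x
  rw [mul_smul_comm, smul_mul_assoc, ← map_mul ρ, ← map_mul ρ]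
  have h1 : ((MulAut.conjNormal g : MulAut ↥A).toEquiv x : ↥A) = MulAut.conjNormal g x := rfl
  rw [h1, MulAut.conjNormal_apply]
  congr 3
  rw [ruCj_apply]
  congr 1
  apply Subtype.ext
  simp only [MulAut.conjNormal_apply]
  group

theorem ruE_conj' [Fintype ↥A] (g : G) (θ : ↥A →* ℂˣ) :
    ρ g * ruE ρ A θ = ruE ρ A (ruCj A g θ) * ρ g := by
  rw [← ruE_conj, mul_assoc, ← map_mul ρ, inv_mul_cancel, map_one, mul_one]

end RuConj

end Cfsg.Agent.Lib.Helper29
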