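import Mathlib
import Cfsg.Agent.Lib.Helper29.RuIdem
import Cfsg.Agent.Lib.Helper29.ScDet

set_option autoImplicit false
open scoped ComplexConjugate

/-!
Multiplicities of the isotypic projections, the Clifford orbit statement for an abelian normal
subgroup, and the Parseval identity on a coset `g A`.
-/

namespace Cfsg.Agent.Lib.Helper29

section RuCount

variable {G : Type*} [Group G] {V : Type*} [AddCommGroup V] [Module ℂ V] [FiniteDimensional ℂ V]
  (ρ : Representation ℂ G V) (A : Subgroup G) [Fintype ↥A]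

/-- multiplicity of the linear character `θ` of `A` in the representation -/
noncomputable def ruM (θ : ↥A →* ℂˣ) : ℕ := Module.finrank ℂ (LinearMap.range (ruE ρ A θ))

theorem ruE_trace (θ : ↥A →* ℂˣ) : LinearMap.trace ℂ V (ruE ρ A θ) = (ruM ρ A θ : ℂ) :=
  scd_trace_idem _ (ruE_idem ρ A θ)

theorem ruM_eq_zero_iff (θ : ↥A →* ℂˣ) : ruM ρ A θ = 0 ↔ ruE ρ A θ = 0 := by
  unfold ruM
  rw [Submodule.finrank_eq_zero, LinearMap.range_eq_bot]

theorem ruM_conj [A.Normal] (g : G) (θ : ↥A →* ℂˣ) : ruM ρ A (ruCj A g θ) = ruM ρ A θ := by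
  have h : ((ruM ρ A (ruCj A g θ) : ℕ) : ℂ) = (ruM ρ A θ : ℂ) := by
    rw [← ruE_trace, ← ruE_trace, ← ruE_conj, LinearMap.trace_mul_comm, ← mul_assoc, ← map_mul ρ,
      inv_mul_cancel, map_one, one_mul]
  exact_mod_cast h

theorem ru_finrank_eq_sum (hcomm : ∀ a b : ↥A, a * b = b * a) [Fintype (↥A →* ℂˣ)] :
    Module.finrank ℂ V = ∑ θ : ↥A →* ℂˣ, ruM ρ A θ := by
  have h : ((Module.finrank ℂ V : ℕ) : ℂ) = ((∑ θ : ↥A →* ℂˣ, ruM ρ A θ : ℕ) : ℂ) := by
    rw [← LinearMap.trace_one ℂ V, ← ruE_sum ρ A hcomm, map_sum]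
    push_cast
    apply Finset.sum_congr rfl
    intro θ _
    exact ruE_trace ρ A θ
  exact_mod_cast h

/-- the Fourier coefficient of `x ↦ χ(g x)` at `θ` -/
noncomputable def ruB (g : G) (θ : ↥A →* ℂˣ) : ℂ := LinearMap.trace ℂ V (ρ g * ruE ρ A θ)

theorem ruB_one (θ : ↥A →* ℂˣ) : ruB ρ A 1 θ = (ruM ρ A θ : ℂ) := by
  unfold ruB
  rw [map_one, one_mul, ruE_trace]

theorem ru_char_expand (hcomm : ∀ a b : ↥A, a * b = b * a) [Fintype (↥A →* ℂˣ)] (g : G)
    (x : ↥A) :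
    ρ.character (g * (x : G)) = ∑ θ : ↥A →* ℂˣ, ((θ x : ℂˣ) : ℂ) * ruB ρ A g θ := by
  have h1 : ρ (g * (x : G)) = ∑ θ : ↥A →* ℂˣ, ((θ x : ℂˣ) : ℂ) • (ρ g * ruE ρ A θ) := by
    rw [map_mul ρ]
    conv_lhs => rw [← mul_one (ρ (x : G)), ← ruE_sum ρ A hcomm, Finset.mul_sum, Finset.mul_sum]
    apply Finset.sum_congr rfl
    intro θ _
    rw [ruE_mul_left, mul_smul_comm]
  show LinearMap.trace ℂ V (ρ (g * (x : G))) = _
  rw [h1, map_sum]
  apply Finset.sum_congr rfl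
  intro θ _
  rw [map_smul, smul_eq_mul]
  rfl

theorem ru_parseval [Finite ↥A] (hcomm : ∀ a b : ↥A, a * b = b * a) [Fintype (↥A →* ℂˣ)] (g : G) :
    ∑ x : ↥A, ρ.character (g * (x : G)) * conj (ρ.character (g * (x : G))) =
      (Fintype.card ↥A : ℂ) * ∑ θ : ↥A →* ℂˣ, ruB ρ A g θ * conj (ruB ρ A g θ) := by
  classical
  have h1 : ∀ x : ↥A, ρ.character (g * (x : G)) * conj (ρ.character (g * (x : G))) =
      ∑ θ : ↥A →* ℂˣ, ∑ θ' : ↥A →* ℂˣ,
        (ruB ρ A g θ * conj (ruB ρ A g θ')) * (((θ * θ'⁻¹) x : ℂˣ) : ℂ) := by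
    intro x
    rw [ru_char_expand ρ A hcomm g x, map_sum, Finset.sum_mul_sum]
    apply Finset.sum_congr rfl
    intro θ _
    apply Finset.sum_congr rfl
    intro θ' _
    rw [map_mul, afd_conj, MonoidHom.mul_apply, MonoidHom.inv_apply, Units.val_mul, map_inv]
    ring
  simp only [h1]
  rw [Finset.sum_comm]
  rw [Finset.mul_sum]
  apply Finset.sum_congr rfl
  intro θ _
  rw [Finset.sum_comm]
  have h2 : ∀ θ' : ↥A →* ℂˣ, ∑ x : ↥A,
      (ruB ρ A g θ * conj (ruB ρ A g θ')) * (((θ * θ'⁻¹) x : ℂˣ) : ℂ) =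
      if θ' = θ then (Fintype.card ↥A : ℂ) * (ruB ρ A g θ * conj (ruB ρ A g θ)) else 0 := by
    intro θ'
    rw [← Finset.mul_sum, afd_sum_elems]
    by_cases h : θ' = θ
    · subst h
      rw [if_pos rfl, if_pos (mul_inv_cancel θ')]
      ring
    · rw [if_neg h, if_neg, mul_zero]
      intro h3
      apply h
      exact (mul_inv_eq_one.mp h3).symm
  simp only [h2]
  rw [Finset.sum_ite_eq' Finset.univ θ, if_pos (Finset.mem_univ _)]

theorem ruB_eq_zero [A.Normal] (g : G) (θ : ↥A →* ℂˣ) (h : ruCj A g θ ≠ θ) :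
    ruB ρ A g θ = 0 := by
  unfold ruB
  have h1 : ρ g * ruE ρ A θ = ruE ρ A (ruCj A g θ) * ρ g * ruE ρ A θ := by
    conv_lhs => rw [← ruE_idem ρ A θ, ← mul_assoc, ruE_conj']
  rw [h1, LinearMap.trace_mul_comm, ← mul_assoc, ruE_orth ρ A θ (ruCj A g θ) (Ne.symm h), zero_mul,
    map_zero]

theorem ru_mul_eq_smul [A.Normal] (g : G) (θ : ↥A →* ℂˣ) (h : ruCj A g θ = θ)
    (hm : ruM ρ A θ = 1) : ρ g * ruE ρ A θ = ruB ρ A g θ • ruE ρ A θ := by
  have hcomm : ρ g * ruE ρ A θ = ruE ρ A θ * ρ g := by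
    rw [ruE_conj', h]
  obtain ⟨v, hv0, hv⟩ := finrank_eq_one_iff'.mp hm
  have hev : ruE ρ A θ (v : V) = (v : V) := by
    obtain ⟨w, hw⟩ := LinearMap.mem_range.mp v.2
    rw [← hw, ← Module.End.mul_apply, ruE_idem]
  have hgv : ∃ a : ℂ, ρ g (v : V) = a • (v : V) := by
    have h1 : ρ g (v : V) ∈ LinearMap.range (ruE ρ A θ) := by
      rw [LinearMap.mem_range]
      refine ⟨ρ g (v : V), ?_⟩
      rw [← Module.End.mul_apply, ← hcomm, Module.End.mul_apply, hev]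
    obtain ⟨a, ha⟩ := hv ⟨ρ g (v : V), h1⟩
    refine ⟨a, ?_⟩
    have := congrArg Subtype.val ha
    simpa using this.symm
  obtain ⟨a, ha⟩ := hgv
  have h2 : ρ g * ruE ρ A θ = a • ruE ρ A θ := by
    apply LinearMap.ext
    intro w
    obtain ⟨c, hc⟩ := hv ⟨ruE ρ A θ w, LinearMap.mem_range_self _ w⟩
    have hc' : ruE ρ A θ w = c • (v : V) := by
      have := congrArg Subtype.val hc
      simpa using this.symm
    rw [Module.End.mul_apply, LinearMap.smul_apply, hc', map_smul, ha, smul_comm]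
  have h3 : ruB ρ A g θ = a := by
    unfold ruB
    rw [h2, map_smul, ruE_trace, hm, Nat.cast_one, smul_eq_mul, mul_one]
  rw [h3, h2]

theorem ruB_pow_eq_one [A.Normal] (g : G) (θ : ↥A →* ℂˣ) (h : ruCj A g θ = θ)
    (hm : ruM ρ A θ = 1) (k : ℕ) (hk : g ^ k = 1) : ruB ρ A g θ ^ k = 1 := by
  have h2 := ru_mul_eq_smul ρ A g θ h hm
  have he : ruE ρ A θ ≠ 0 := by
    intro h0
    have := (ruM_eq_zero_iff ρ A θ).mpr h0
    omega
  have h4 : ∀ n : ℕ, ρ (g ^ n) * ruE ρ A θ = ruB ρ A g θ ^ n • ruE ρ A θ := by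
    intro n
    induction n with
    | zero => simp
    | succ n ih =>
      rw [pow_succ, map_mul ρ, mul_assoc, h2, mul_smul_comm, ih, smul_smul, pow_succ, mul_comm]
  have h5 := h4 k
  rw [hk, map_one, one_mul] at h5
  have h6 : (ruB ρ A g θ ^ k - 1) • ruE ρ A θ = 0 := by
    rw [sub_smul, one_smul, ← h5, sub_self]
  rcases smul_eq_zero.mp h6 with h7 | h7
  · exact sub_eq_zero.mp h7
  · exact absurd h7 he

theorem ruB_norm [A.Normal] [Finite G] (g : G) (θ : ↥A →* ℂˣ) (h : ruCj A g θ = θ)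
    (hm : ruM ρ A θ = 1) : ruB ρ A g θ * conj (ruB ρ A g θ) = 1 := by
  have h1 := ruB_pow_eq_one ρ A g θ h hm (orderOf g) (pow_orderOf_eq_one g)
  have h2 : ‖ruB ρ A g θ‖ = 1 :=
    Complex.norm_eq_one_of_pow_eq_one h1 (orderOf_pos g).ne'
  rw [Complex.mul_conj, Complex.normSq_eq_norm_sq, h2]
  norm_num

/-- Clifford for an abelian normal subgroup: the characters of `A` occurring in an irreducible
representation form a single orbit. -/
theorem ru_orbit [A.Normal] [ρ.IsIrreducible] [Fintype (↥A →* ℂˣ)]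
    (θ₀ : ↥A →* ℂˣ) (h0 : ruE ρ A θ₀ ≠ 0) (θ : ↥A →* ℂˣ) (h : ruE ρ A θ ≠ 0) :
    ∃ g : G, θ = ruCj A g θ₀ := by
  classical
  by_contra hne
  push Not at hne
  set S : Finset (↥A →* ℂˣ) := Finset.univ.filter (fun η => ∃ g : G, η = ruCj A g θ₀) with hS
  set E : Module.End ℂ V := ∑ η ∈ S, ruE ρ A η with hE
  have hmem0 : θ₀ ∈ S := by
    rw [hS, Finset.mem_filter]
    exact ⟨Finset.mem_univ _, 1, (ruCj_one A θ₀).symm⟩
  have hcomm : ∀ g : G, E ∘ₗ ρ g = ρ g ∘ₗ E := by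
    intro g
    rw [← Module.End.mul_eq_comp, ← Module.End.mul_eq_comp, hE, Finset.sum_mul, Finset.mul_sum]
    symm
    refine Finset.sum_bij (fun η _ => ruCj A g η) ?_ ?_ ?_ ?_
    · intro η hη
      rw [hS, Finset.mem_filter] at hη ⊢
      obtain ⟨g', hg'⟩ := hη.2
      exact ⟨Finset.mem_univ _, g * g', by rw [hg', ruCj_mul]⟩
    · intro η _ η' _ hh
      exact ruCj_injective A g hh
    · intro η hη
      rw [hS, Finset.mem_filter] at hη
      obtain ⟨g', hg'⟩ := hη.2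
      refine ⟨ruCj A g⁻¹ η, ?_, ruCj_cancel_inv A g η⟩
      rw [hS, Finset.mem_filter]
      exact ⟨Finset.mem_univ _, g⁻¹ * g', by rw [hg', ruCj_mul]⟩
    · intro η _
      exact ruE_conj' ρ A g η
  obtain ⟨c, hc⟩ := Cfsg.Agent.Lib.Helper25.commuting_end_scalar ρ E hcomm
  have h1 : E * ruE ρ A θ₀ = ruE ρ A θ₀ := by
    rw [hE, Finset.sum_mul, Finset.sum_eq_single_of_mem θ₀ hmem0]
    · exact ruE_idem ρ A θ₀
    · intro η _ hη
      exact ruE_orth ρ A η θ₀ hη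
  have hc1 : c = 1 := by
    rw [hc, smul_mul_assoc] at h1
    have h2 : (c - 1) • ruE ρ A θ₀ = 0 := by
      rw [sub_smul, one_smul]
      have : (LinearMap.id : Module.End ℂ V) * ruE ρ A θ₀ = ruE ρ A θ₀ := one_mul _
      rw [this] at h1
      rw [h1, sub_self]
    rcases smul_eq_zero.mp h2 with h3 | h3
    · exact sub_eq_zero.mp h3
    · exact absurd h3 h0
  have h2 : E * ruE ρ A θ = 0 := by
    rw [hE, Finset.sum_mul]
    apply Finset.sum_eq_zero
    intro η hη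
    apply ruE_orth
    rintro rfl
    rw [hS, Finset.mem_filter] at hη
    obtain ⟨g, hg⟩ := hη.2
    exact hne g hg
  rw [hc, hc1, one_smul] at h2
  apply h
  have : (LinearMap.id : Module.End ℂ V) * ruE ρ A θ = ruE ρ A θ := one_mul _
  rw [← this, h2]

end RuCount

end Cfsg.Agent.Lib.Helper29
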