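import Mathlib
import Cfsg.Agent.Lib.Helper29.RuCount

set_option autoImplicit false
open scoped ComplexConjugate

/-!
A faithful irreducible non-linear representation whose character has absolute value one on all
`p`-singular elements, and an abelian normal `p`-subgroup `A ≠ 1`: the restriction to `A` is the
sum of all non-principal linear characters of `A`, each once, and `G` permutes them transitively.
-/

namespace Cfsg.Agent.Lib.Helper29

theorem ru_arith (a m e t : ℕ) (he : e ≠ 0) (ht1 : 1 ≤ t) (ht : t ≤ a - 1)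
    (ha : 2 ≤ a) (hm : m = t * e) (hm1 : m ≠ 1)
    (heq : m * m + (a - 1) = a * (t * (e * e))) : e = 1 ∧ t = a - 1 := by
  obtain ⟨s, hs⟩ : ∃ s, a = t + s + 1 := ⟨a - 1 - t, by omega⟩
  subst hs hm
  have h1 : t + s = (s + 1) * (t * (e * e)) := by
    have : (t + s + 1 - 1) = t + s := by omega
    rw [this] at heq
    nlinarith
  have he1 : 1 ≤ e * e := Nat.one_le_iff_ne_zero.mpr (mul_ne_zero he he)
  have h2 : (s + 1) * t ≤ t + s := by
    calc (s + 1) * t = (s + 1) * (t * 1) := by ring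
      _ ≤ (s + 1) * (t * (e * e)) := by gcongr
      _ = t + s := h1.symm
  have hsq : ∀ n : ℕ, n * n = 1 → n = 1 := by
    intro n hn
    rcases Nat.eq_zero_or_pos n with h | h
    · subst h; simp at hn
    · nlinarith
  rcases Nat.eq_zero_or_pos s with hs0 | hs0
  · subst hs0
    have h4 : t * (e * e) = t * 1 := by linarith
    have h5 : e * e = 1 := Nat.eq_of_mul_eq_mul_left ht1 h4
    exact ⟨hsq e h5, by omega⟩
  · have ht' : t = 1 := by
      have : t ≤ 1 := by
        by_contra hh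
        push Not at hh
        nlinarith
      omega
    subst ht'
    have h4 : (s + 1) * (e * e) = (s + 1) * 1 := by nlinarith
    have h5 : e * e = 1 := Nat.eq_of_mul_eq_mul_left (by omega) h4
    have h6 : e = 1 := hsq e h5
    exact absurd (by rw [h6]) hm1

section RuMain

variable {G : Type*} [Group G] [Fintype G] {V : Type*} [AddCommGroup V] [Module ℂ V]
  [FiniteDimensional ℂ V] (p : ℕ) [hp : Fact p.Prime] (ρ : Representation ℂ G V)
  (A : Subgroup G) [Fintype ↥A]

/-- the standing hypotheses -/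
structure RuHyp : Prop where
  faith : ∀ g : G, ρ g = 1 → g = 1
  nl : Module.finrank ℂ V ≠ 1
  root : ∀ g : G, p ∣ orderOf g → ρ.character g * conj (ρ.character g) = 1
  pgrp : IsPGroup p ↥A
  ne : A ≠ ⊥
  comm : ∀ a b : ↥A, a * b = b * a

variable {p ρ A}

theorem RuHyp.card_ge (h : RuHyp p ρ A) : 2 ≤ Fintype.card ↥A := by
  have := (Subgroup.one_lt_card_iff_ne_bot (H := A)).mpr h.ne
  rw [Nat.card_eq_fintype_card] at this
  exact this

theorem RuHyp.dvd_orderOf (h : RuHyp p ρ A) (x : ↥A) (hx : x ≠ 1) : p ∣ orderOf (x : G) := by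
  obtain ⟨k, hk⟩ := (IsPGroup.iff_orderOf.mp h.pgrp) x
  rw [Subgroup.orderOf_coe, hk]
  rcases Nat.eq_zero_or_pos k with hk0 | hk0
  · subst hk0
    rw [pow_zero, orderOf_eq_one_iff] at hk
    exact absurd hk hx
  · exact dvd_pow_self p hk0.ne'

theorem RuHyp.parseval_one (h : RuHyp p ρ A) [Fintype (↥A →* ℂˣ)] :
    Module.finrank ℂ V * Module.finrank ℂ V + (Fintype.card ↥A - 1) =
      Fintype.card ↥A * ∑ θ : ↥A →* ℂˣ, ruM ρ A θ * ruM ρ A θ := by
  classical
  have h1 := ru_parseval ρ A h.comm 1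
  have h2 : ∀ x : ↥A, ρ.character (1 * (x : G)) * conj (ρ.character (1 * (x : G))) =
      if x = 1 then ((Module.finrank ℂ V : ℕ) : ℂ) * (Module.finrank ℂ V : ℕ) else 1 := by
    intro x
    rw [one_mul]
    split_ifs with hx
    · subst hx
      rw [Subgroup.coe_one, Representation.char_one, Complex.conj_natCast]
    · exact h.root _ (h.dvd_orderOf x hx)
  simp only [h2, ruB_one, Complex.conj_natCast] at h1
  rw [Finset.sum_ite, Finset.sum_const, Finset.sum_const] at h1
  have h3 : (Finset.univ.filter (fun x : ↥A => x = 1)).card = 1 := by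
    rw [Finset.filter_eq', if_pos (Finset.mem_univ _), Finset.card_singleton]
  have h4 : (Finset.univ.filter (fun x : ↥A => ¬ x = 1)).card = Fintype.card ↥A - 1 := by
    have := Finset.card_filter_add_card_filter_not (s := (Finset.univ : Finset ↥A))
      (fun x : ↥A => x = 1)
    rw [h3, Finset.card_univ] at this
    omega
  rw [h3, h4, one_smul, nsmul_eq_mul, mul_one] at h1
  exact_mod_cast h1

variable [A.Normal] [ρ.IsIrreducible]

/-- the main counting statement -/
theorem RuHyp.core (h : RuHyp p ρ A) [Fintype (↥A →* ℂˣ)] :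
    Module.finrank ℂ V + 1 = Fintype.card ↥A ∧ (∀ θ : ↥A →* ℂˣ, θ ≠ 1 → ruM ρ A θ = 1) ∧
      ruM ρ A 1 = 0 ∧
      ∀ θ θ' : ↥A →* ℂˣ, θ ≠ 1 → θ' ≠ 1 → ∃ g : G, θ' = ruCj A g θ := by
  classical
  have ha2 := h.card_ge
  have hm0 : Module.finrank ℂ V ≠ 0 := Cfsg.Agent.Lib.Helper25.finrank_ne_zero_of_irr ρ
  have hsum := ru_finrank_eq_sum ρ A h.comm
  have hpar := h.parseval_one
  obtain ⟨θ₀, -, hθ₀⟩ : ∃ θ₀ ∈ (Finset.univ : Finset (↥A →* ℂˣ)), ruM ρ A θ₀ ≠ 0 := by
    apply Finset.exists_ne_zero_of_sum_ne_zero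
    rw [← hsum]
    exact hm0
  set S : Finset (↥A →* ℂˣ) := Finset.univ.filter (fun η => ∃ g : G, η = ruCj A g θ₀) with hS
  have hS1 : ∀ θ ∈ S, ruM ρ A θ = ruM ρ A θ₀ := by
    intro θ hθ
    rw [hS, Finset.mem_filter] at hθ
    obtain ⟨g, hg⟩ := hθ.2
    rw [hg, ruM_conj]
  have hS0 : ∀ θ, θ ∉ S → ruM ρ A θ = 0 := by
    intro θ hθ
    by_contra hne
    apply hθ
    rw [hS, Finset.mem_filter]
    refine ⟨Finset.mem_univ _, ?_⟩
    apply ru_orbit ρ A θ₀ _ θ _
    · intro h0
      exact hθ₀ ((ruM_eq_zero_iff ρ A θ₀).mpr h0)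
    · intro h0
      exact hne ((ruM_eq_zero_iff ρ A θ).mpr h0)
  have hmS : Module.finrank ℂ V = S.card * ruM ρ A θ₀ := by
    rw [hsum]
    have : ∀ θ : ↥A →* ℂˣ, ruM ρ A θ = if θ ∈ S then ruM ρ A θ₀ else 0 := by
      intro θ
      split_ifs with hθ
      · exact hS1 θ hθ
      · exact hS0 θ hθ
    rw [Finset.sum_congr rfl (fun θ _ => this θ), Finset.sum_ite_mem, Finset.univ_inter,
      Finset.sum_const, smul_eq_mul]
  have hsqS : ∑ θ : ↥A →* ℂˣ, ruM ρ A θ * ruM ρ A θ =
      S.card * (ruM ρ A θ₀ * ruM ρ A θ₀) := by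
    have : ∀ θ : ↥A →* ℂˣ, ruM ρ A θ * ruM ρ A θ =
        if θ ∈ S then ruM ρ A θ₀ * ruM ρ A θ₀ else 0 := by
      intro θ
      split_ifs with hθ
      · rw [hS1 θ hθ]
      · rw [hS0 θ hθ]
    rw [Finset.sum_congr rfl (fun θ _ => this θ), Finset.sum_ite_mem, Finset.univ_inter,
      Finset.sum_const, smul_eq_mul]
  have hmem0 : θ₀ ∈ S := by
    rw [hS, Finset.mem_filter]
    exact ⟨Finset.mem_univ _, 1, (ruCj_one A θ₀).symm⟩
  have ht1 : 1 ≤ S.card := Finset.card_pos.mpr ⟨θ₀, hmem0⟩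
  -- the trivial character does not occur
  have h1S : (1 : ↥A →* ℂˣ) ∉ S := by
    intro h1
    rw [hS, Finset.mem_filter] at h1
    obtain ⟨g, hg⟩ := h1.2
    have hθ₀1 : θ₀ = 1 := (ruCj_eq_one_iff A g θ₀).mp hg.symm
    have hS' : S = {1} := by
      ext η
      rw [hS, Finset.mem_filter, Finset.mem_singleton]
      constructor
      · rintro ⟨-, g', hg'⟩
        rw [hg', hθ₀1, ruCj_one_right]
      · intro hη
        exact ⟨Finset.mem_univ _, 1, by rw [hη, hθ₀1, ruCj_one_right]⟩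
    rw [hS', Finset.card_singleton, one_mul] at hmS hsqS
    rw [hsqS, ← hmS] at hpar
    have : Module.finrank ℂ V * Module.finrank ℂ V = 1 := by
      set m := Module.finrank ℂ V
      set a := Fintype.card ↥A
      have h3 : (a - 1) * (m * m) = (a - 1) * 1 := by
        have : a = (a - 1) + 1 := by omega
        nlinarith
      exact Nat.eq_of_mul_eq_mul_left (by omega) h3
    apply h.nl
    set m := Module.finrank ℂ V
    rcases Nat.eq_zero_or_pos m with h0 | h0
    · rw [h0] at this; simp at this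
    · nlinarith
  have hcardD : Fintype.card (↥A →* ℂˣ) = Fintype.card ↥A := by
    have := afd_card_dual (W := ↥A) h.comm
    rwa [Nat.card_eq_fintype_card, Nat.card_eq_fintype_card] at this
  have htle : S.card ≤ Fintype.card ↥A - 1 := by
    have hsub : S ⊆ Finset.univ.erase (1 : ↥A →* ℂˣ) := by
      intro η hη
      rw [Finset.mem_erase]
      refine ⟨?_, Finset.mem_univ _⟩
      rintro rfl
      exact h1S hη
    have := Finset.card_le_card hsub
    rw [Finset.card_erase_of_mem (Finset.mem_univ _), Finset.card_univ, hcardD] at this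
    exact this
  rw [hsqS] at hpar
  obtain ⟨he1, ht⟩ := ru_arith (Fintype.card ↥A) (Module.finrank ℂ V) (ruM ρ A θ₀) S.card hθ₀ ht1
    htle ha2 hmS h.nl hpar
  have hSeq : S = Finset.univ.erase (1 : ↥A →* ℂˣ) := by
    apply Finset.eq_of_subset_of_card_le
    · intro η hη
      rw [Finset.mem_erase]
      refine ⟨?_, Finset.mem_univ _⟩
      rintro rfl
      exact h1S hη
    · rw [Finset.card_erase_of_mem (Finset.mem_univ _), Finset.card_univ, hcardD, ht]
  have hmemS : ∀ θ : ↥A →* ℂˣ, θ ≠ 1 → θ ∈ S := by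
    intro θ hθ
    rw [hSeq, Finset.mem_erase]
    exact ⟨hθ, Finset.mem_univ _⟩
  refine ⟨?_, ?_, hS0 1 h1S, ?_⟩
  · rw [hmS, he1, ht, mul_one]
    omega
  · intro θ hθ
    rw [hS1 θ (hmemS θ hθ), he1]
  · intro θ θ' hθ hθ'
    have h1 := hmemS θ hθ
    have h2 := hmemS θ' hθ'
    rw [hS, Finset.mem_filter] at h1 h2
    obtain ⟨g1, hg1⟩ := h1.2
    obtain ⟨g2, hg2⟩ := h2.2
    refine ⟨g2 * g1⁻¹, ?_⟩
    rw [hg1, ruCj_mul, inv_mul_cancel_right, hg2]

end RuMain

end Cfsg.Agent.Lib.Helper29
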