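import Mathlib
import Cfsg.Agent.Lib.Helper29.RuMain

set_option autoImplicit false
open scoped ComplexConjugate

/-!
Structural consequences: the centralizer of `A`, the intersection with the centre, and the
fixed characters of a `p`-element outside `A`.
-/

namespace Cfsg.Agent.Lib.Helper29

/-- unit complex numbers whose sum has the maximal possible absolute value are all equal -/
theorem ru_all_eq {ι : Type*} (s : Finset ι) (z : ι → ℂ)
    (hz : ∀ i ∈ s, z i * conj (z i) = 1)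
    (hsum : (∑ i ∈ s, z i) * conj (∑ i ∈ s, z i) = (s.card : ℂ) ^ 2) :
    ∀ i ∈ s, ∀ j ∈ s, z i = z j := by
  have h1 : ∑ i ∈ s, ∑ j ∈ s, ((Complex.normSq (z i - z j) : ℝ) : ℂ) = 0 := by
    have h2 : ∀ i ∈ s, ∀ j ∈ s, ((Complex.normSq (z i - z j) : ℝ) : ℂ) =
        2 - z i * conj (z j) - z j * conj (z i) := by
      intro i hi j hj
      rw [← Complex.mul_conj, map_sub, sub_mul, mul_sub, mul_sub, hz i hi, hz j hj]
      ring
    rw [Finset.sum_congr rfl (fun i hi => Finset.sum_congr rfl (fun j hj => h2 i hi j hj))]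
    simp only [Finset.sum_sub_distrib, Finset.sum_const, nsmul_eq_mul]
    have h3 : ∑ i ∈ s, ∑ j ∈ s, z i * conj (z j) = (s.card : ℂ) ^ 2 := by
      rw [← hsum, map_sum, Finset.sum_mul_sum]
    have h4 : ∑ i ∈ s, ∑ j ∈ s, z j * conj (z i) = (s.card : ℂ) ^ 2 := by
      rw [Finset.sum_comm, h3]
    rw [h3, h4]
    ring
  have h5 : ∑ i ∈ s, ∑ j ∈ s, Complex.normSq (z i - z j) = 0 := by
    have : ((∑ i ∈ s, ∑ j ∈ s, Complex.normSq (z i - z j) : ℝ) : ℂ) = 0 := by
      rw [← h1]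
      push_cast
      rfl
    exact_mod_cast this
  intro i hi j hj
  have h6 := (Finset.sum_eq_zero_iff_of_nonneg (fun i _ =>
    Finset.sum_nonneg (fun j _ => Complex.normSq_nonneg _))).mp h5 i hi
  have h7 := (Finset.sum_eq_zero_iff_of_nonneg (fun j _ => Complex.normSq_nonneg _)).mp h6 j hj
  exact sub_eq_zero.mp (Complex.normSq_eq_zero.mp h7)

/-- a nontrivial element killed by a power of `p` has order divisible by `p` -/
theorem ru_dvd_orderOf {G : Type*} [Group G] (p : ℕ) [hp : Fact p.Prime] (y : G)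
    (hy : ∃ n : ℕ, y ^ (p ^ n) = 1) (hy1 : y ≠ 1) : p ∣ orderOf y := by
  obtain ⟨n, hn⟩ := hy
  obtain ⟨i, -, hi⟩ := (Nat.dvd_prime_pow hp.out).mp (orderOf_dvd_of_pow_eq_one hn)
  rcases Nat.eq_zero_or_pos i with h0 | h0
  · subst h0
    rw [pow_zero, orderOf_eq_one_iff] at hi
    exact absurd hi hy1
  · rw [hi]
    exact dvd_pow_self p h0.ne'

section RuStruct

variable {G : Type*} [Group G] [Fintype G] {V : Type*} [AddCommGroup V] [Module ℂ V]
  [FiniteDimensional ℂ V] {p : ℕ} [hp : Fact p.Prime] {ρ : Representation ℂ G V}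
  {A : Subgroup G} [Fintype ↥A] [A.Normal] [ρ.IsIrreducible] [Fintype (↥A →* ℂˣ)]

theorem RuHyp.coset_sum (h : RuHyp p ρ A) (g : G)
    [DecidablePred (fun θ : ↥A →* ℂˣ => θ ≠ 1 ∧ ruCj A g θ = θ)] :
    ∑ x : ↥A, ρ.character (g * (x : G)) * conj (ρ.character (g * (x : G))) =
      (Fintype.card ↥A : ℂ) *
        ((Finset.univ.filter (fun θ : ↥A →* ℂˣ => θ ≠ 1 ∧ ruCj A g θ = θ)).card : ℂ) := by
  classical
  obtain ⟨-, hm1, hm0, -⟩ := h.core
  rw [ru_parseval ρ A h.comm g]
  congr 1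
  have h1 : ∀ θ : ↥A →* ℂˣ, ruB ρ A g θ * conj (ruB ρ A g θ) =
      if θ ≠ 1 ∧ ruCj A g θ = θ then 1 else 0 := by
    intro θ
    split_ifs with hθ
    · exact ruB_norm ρ A g θ hθ.2 (hm1 θ hθ.1)
    · by_cases h1 : θ = 1
      · subst h1
        have : ruB ρ A g 1 = 0 := by
          unfold ruB
          rw [(ruM_eq_zero_iff ρ A 1).mp hm0, mul_zero, map_zero]
        rw [this, zero_mul]
      · have h2 : ruCj A g θ ≠ θ := fun h3 => hθ ⟨h1, h3⟩
        rw [ruB_eq_zero ρ A g θ h2, zero_mul]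
  rw [Finset.sum_congr rfl (fun θ _ => h1 θ), Finset.sum_boole]

theorem RuHyp.card_nontriv (h : RuHyp p ρ A)
    [DecidablePred (fun θ : ↥A →* ℂˣ => θ ≠ 1)] :
    (Finset.univ.filter (fun θ : ↥A →* ℂˣ => θ ≠ 1)).card = Fintype.card ↥A - 1 := by
  classical
  have hcardD : Fintype.card (↥A →* ℂˣ) = Fintype.card ↥A := by
    have := afd_card_dual (W := ↥A) h.comm
    rwa [Nat.card_eq_fintype_card, Nat.card_eq_fintype_card] at this
  have h1 : (Finset.univ.filter (fun θ : ↥A →* ℂˣ => θ = 1)).card = 1 := by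
    rw [Finset.filter_eq', if_pos (Finset.mem_univ _), Finset.card_singleton]
  have := Finset.card_filter_add_card_filter_not (s := (Finset.univ : Finset (↥A →* ℂˣ)))
    (fun θ : ↥A →* ℂˣ => θ = 1)
  rw [h1, Finset.card_univ, hcardD] at this
  have h2 : (Finset.univ.filter (fun θ : ↥A →* ℂˣ => θ ≠ 1)) =
      (Finset.univ.filter (fun θ : ↥A →* ℂˣ => ¬ θ = 1)) := by
    ext θ
    simp
  rw [h2]
  omega

/-- a `p`-element centralizing `A` lies in `A` -/
theorem RuHyp.pelt_mem (h : RuHyp p ρ A) (c : G) (hc : c ∈ Subgroup.centralizer (A : Set G))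
    (hcp : ∃ k : ℕ, orderOf c = p ^ k) : c ∈ A := by
  classical
  by_contra hcA
  obtain ⟨hcard, -, -, -⟩ := h.core
  obtain ⟨k, hk⟩ := hcp
  have h1 : ∀ x : ↥A, ρ.character (c * (x : G)) * conj (ρ.character (c * (x : G))) = 1 := by
    intro x
    apply h.root
    apply ru_dvd_orderOf p
    · obtain ⟨j, hj⟩ := (IsPGroup.iff_orderOf.mp h.pgrp) x
      refine ⟨k + j, ?_⟩
      have hcomm : Commute c (x : G) := ((Subgroup.mem_centralizer_iff.mp hc) (x : G) x.2).symm
      rw [hcomm.mul_pow, pow_add, pow_mul, ← hk, pow_orderOf_eq_one, one_pow, one_mul,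
        mul_comm, pow_mul, ← hj, ← Subgroup.orderOf_coe, pow_orderOf_eq_one, one_pow]
    · intro h2
      apply hcA
      have : c = ((x⁻¹ : ↥A) : G) := by
        rw [Subgroup.coe_inv]
        exact eq_inv_of_mul_eq_one_left h2
      rw [this]
      exact (x⁻¹).2
  have h2 := h.coset_sum c
  rw [Finset.sum_congr rfl (fun x _ => h1 x), Finset.sum_const, Finset.card_univ,
    nsmul_eq_mul, mul_one] at h2
  have h3 : (Finset.univ.filter (fun θ : ↥A →* ℂˣ => θ ≠ 1 ∧ ruCj A c θ = θ)) =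
      (Finset.univ.filter (fun θ : ↥A →* ℂˣ => θ ≠ 1)) := by
    ext θ
    simp only [Finset.mem_filter, Finset.mem_univ, true_and, and_iff_left_iff_imp]
    intro _
    exact ruCj_of_mem_centralizer A c hc θ
  rw [h3, h.card_nontriv] at h2
  have h4 : Fintype.card ↥A = Fintype.card ↥A * (Fintype.card ↥A - 1) := by exact_mod_cast h2
  have ha2 := h.card_ge
  have h5 : Fintype.card ↥A - 1 = 1 := by
    have : Fintype.card ↥A * 1 = Fintype.card ↥A * (Fintype.card ↥A - 1) := by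
      rw [mul_one]; exact h4
    exact (Nat.eq_of_mul_eq_mul_left (by omega) this).symm
  apply h.nl
  omega

/-- a `p'`-element centralizing `A` is central -/
theorem RuHyp.pprime_central (h : RuHyp p ρ A) (c : G)
    (hc : c ∈ Subgroup.centralizer (A : Set G)) (hcp : (orderOf c).Coprime p) :
    c ∈ Subgroup.center G := by
  classical
  obtain ⟨hcard, hm1, hm0, -⟩ := h.core
  have ha2 := h.card_ge
  -- values on the coset
  have h1 : ∀ x : ↥A, x ≠ 1 →
      ρ.character (c * (x : G)) * conj (ρ.character (c * (x : G))) = 1 := by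
    intro x hx
    apply h.root
    have hcomm : Commute c (x : G) := ((Subgroup.mem_centralizer_iff.mp hc) (x : G) x.2).symm
    obtain ⟨j, hj⟩ := (IsPGroup.iff_orderOf.mp h.pgrp) x
    have hj0 : j ≠ 0 := by
      rintro rfl
      rw [pow_zero, orderOf_eq_one_iff] at hj
      exact hx hj
    rw [hcomm.orderOf_mul_eq_mul_orderOf_of_coprime, Subgroup.orderOf_coe, hj]
    · exact Dvd.dvd.mul_left (dvd_pow_self p hj0) _
    · rw [Subgroup.orderOf_coe, hj]
      exact Nat.Coprime.pow_right j hcp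
  have h2 := h.coset_sum c
  have h3 : (Finset.univ.filter (fun θ : ↥A →* ℂˣ => θ ≠ 1 ∧ ruCj A c θ = θ)) =
      (Finset.univ.filter (fun θ : ↥A →* ℂˣ => θ ≠ 1)) := by
    ext θ
    simp only [Finset.mem_filter, Finset.mem_univ, true_and, and_iff_left_iff_imp]
    intro _
    exact ruCj_of_mem_centralizer A c hc θ
  rw [h3, h.card_nontriv, ← Finset.add_sum_erase Finset.univ _ (Finset.mem_univ (1 : ↥A)),
    Finset.sum_congr rfl (fun x hx => h1 x (Finset.ne_of_mem_erase hx)), Finset.sum_const,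
    Finset.card_erase_of_mem (Finset.mem_univ _), Finset.card_univ, nsmul_eq_mul, mul_one,
    Subgroup.coe_one, mul_one] at h2
  -- |χ(c)|² = (a-1)²
  have h4 : ρ.character c * conj (ρ.character c) = ((Fintype.card ↥A - 1 : ℕ) : ℂ) ^ 2 := by
    have h5 : ((Fintype.card ↥A : ℕ) : ℂ) = ((Fintype.card ↥A - 1 : ℕ) : ℂ) + 1 := by
      have : Fintype.card ↥A = (Fintype.card ↥A - 1) + 1 := by omega
      conv_lhs => rw [this]
      push_cast
      rfl
    rw [h5] at h2
    linear_combination h2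
  -- expansion of ρ c
  set T : Finset (↥A →* ℂˣ) := Finset.univ.filter (fun θ : ↥A →* ℂˣ => θ ≠ 1) with hT
  have hfix : ∀ θ : ↥A →* ℂˣ, ruCj A c θ = θ := ruCj_of_mem_centralizer A c hc
  have hE1 : ruE ρ A 1 = 0 := (ruM_eq_zero_iff ρ A 1).mp hm0
  have h6 : ρ c = ∑ θ ∈ T, ruB ρ A c θ • ruE ρ A θ := by
    conv_lhs => rw [← mul_one (ρ c), ← ruE_sum ρ A h.comm, Finset.mul_sum]
    rw [hT, Finset.sum_filter]
    apply Finset.sum_congr rfl
    intro θ _
    split_ifs with hθ
    · exact ru_mul_eq_smul ρ A c θ (hfix θ) (hm1 θ hθ)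
    · push Not at hθ
      rw [hθ, hE1, mul_zero]
  have h7 : ρ.character c = ∑ θ ∈ T, ruB ρ A c θ := by
    show LinearMap.trace ℂ V (ρ c) = _
    rw [h6, map_sum]
    apply Finset.sum_congr rfl
    intro θ hθ
    rw [hT, Finset.mem_filter] at hθ
    rw [map_smul, ruE_trace, hm1 θ hθ.2, Nat.cast_one, smul_eq_mul, mul_one]
  have hTcard : T.card = Fintype.card ↥A - 1 := h.card_nontriv
  have h8 := ru_all_eq T (fun θ => ruB ρ A c θ)
    (fun θ hθ => by
      rw [hT, Finset.mem_filter] at hθ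
      exact ruB_norm ρ A c θ (hfix θ) (hm1 θ hθ.2))
    (by rw [← h7, h4, hTcard])
  -- T is nonempty
  have hTne : T.Nonempty := by
    rw [← Finset.card_pos, hTcard]
    omega
  obtain ⟨θ₁, hθ₁⟩ := hTne
  have h9 : ρ c = ruB ρ A c θ₁ • (1 : Module.End ℂ V) := by
    rw [h6, ← ruE_sum ρ A h.comm, Finset.smul_sum, hT, Finset.sum_filter]
    apply Finset.sum_congr rfl
    intro θ _
    split_ifs with hθ
    · rw [h8 θ (by rw [hT, Finset.mem_filter]; exact ⟨Finset.mem_univ _, hθ⟩) θ₁ hθ₁]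
    · push Not at hθ
      rw [hθ, hE1, smul_zero]
  rw [Subgroup.mem_center_iff]
  intro g
  have hinj : ∀ x y : G, ρ x = ρ y → x = y := by
    intro x y hxy
    have : ρ (x * y⁻¹) = 1 := by
      rw [map_mul ρ, hxy, ← map_mul ρ, mul_inv_cancel, map_one]
    exact mul_inv_eq_one.mp (h.faith _ this)
  apply hinj
  rw [map_mul ρ, map_mul ρ, h9, mul_smul_comm, smul_mul_assoc, mul_one, one_mul]

theorem RuHyp.inf_center (h : RuHyp p ρ A) : A ⊓ Subgroup.center G = ⊥ := by
  classical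
  rw [Subgroup.eq_bot_iff_forall]
  intro z hz
  by_contra hz1
  obtain ⟨hzA, hzZ⟩ := Subgroup.mem_inf.mp hz
  have hcomm : ∀ g : G, ρ z ∘ₗ ρ g = ρ g ∘ₗ ρ z := by
    intro g
    rw [← Module.End.mul_eq_comp, ← Module.End.mul_eq_comp, ← map_mul ρ, ← map_mul ρ,
      (Subgroup.mem_center_iff.mp hzZ g)]
  obtain ⟨c, hc⟩ := Cfsg.Agent.Lib.Helper25.commuting_end_scalar ρ (ρ z) hcomm
  have hm0 : Module.finrank ℂ V ≠ 0 := Cfsg.Agent.Lib.Helper25.finrank_ne_zero_of_irr ρ
  have hn : (Module.finrank ℂ V : ℂ) ≠ 0 := by exact_mod_cast hm0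
  have hcpow : c ^ orderOf z = 1 := by
    have h1 : ρ (z ^ orderOf z) = c ^ orderOf z • (1 : Module.End ℂ V) := by
      rw [map_pow ρ, hc]
      have : (c • (LinearMap.id : Module.End ℂ V)) = c • (1 : Module.End ℂ V) := rfl
      rw [this, smul_pow, one_pow]
    rw [pow_orderOf_eq_one, map_one] at h1
    have h2 := congrArg (LinearMap.trace ℂ V) h1
    rw [map_smul, LinearMap.trace_one, smul_eq_mul] at h2
    have h3 : (c ^ orderOf z - 1) * (Module.finrank ℂ V : ℂ) = 0 := by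
      rw [sub_mul, one_mul, ← h2, sub_self]
    rcases mul_eq_zero.mp h3 with h4 | h4
    · exact sub_eq_zero.mp h4
    · exact absurd h4 hn
  have hcn : c * conj c = 1 := by
    have h2 : ‖c‖ = 1 := Complex.norm_eq_one_of_pow_eq_one hcpow (orderOf_pos z).ne'
    rw [Complex.mul_conj, Complex.normSq_eq_norm_sq, h2]
    norm_num
  have hchar : ρ.character z = c * (Module.finrank ℂ V : ℂ) := by
    show LinearMap.trace ℂ V (ρ z) = _
    rw [hc, map_smul, LinearMap.trace_id, smul_eq_mul]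
  have hroot := h.root z (h.dvd_orderOf ⟨z, hzA⟩ (by
    intro h1
    apply hz1
    exact congrArg Subtype.val h1))
  rw [hchar, map_mul, Complex.conj_natCast] at hroot
  have h5 : ((Module.finrank ℂ V : ℕ) : ℂ) * (Module.finrank ℂ V : ℕ) = 1 := by
    have : c * (Module.finrank ℂ V : ℂ) * (conj c * (Module.finrank ℂ V : ℂ)) =
        (c * conj c) * ((Module.finrank ℂ V : ℂ) * (Module.finrank ℂ V : ℂ)) := by ring
    rw [this, hcn, one_mul] at hroot
    exact hroot
  have h6 : Module.finrank ℂ V * Module.finrank ℂ V = 1 := by exact_mod_cast h5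
  apply h.nl
  rcases Nat.eq_zero_or_pos (Module.finrank ℂ V) with h0 | h0
  · exact absurd h0 hm0
  · nlinarith

/-- a `p`-element outside `A` fixes exactly one non-principal linear character of `A` -/
theorem RuHyp.fix_card (h : RuHyp p ρ A) (g : G) (hg : ∃ k : ℕ, orderOf g = p ^ k)
    (hgA : g ∉ A) [DecidablePred (fun θ : ↥A →* ℂˣ => θ ≠ 1 ∧ ruCj A g θ = θ)] :
    (Finset.univ.filter (fun θ : ↥A →* ℂˣ => θ ≠ 1 ∧ ruCj A g θ = θ)).card = 1 := by
  classical
  obtain ⟨k, hk⟩ := hg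
  have hZ : IsPGroup p ↥(Subgroup.zpowers g) := by
    rw [IsPGroup.iff_orderOf]
    rintro ⟨y, hy⟩
    obtain ⟨n, rfl⟩ := Subgroup.mem_zpowers_iff.mp hy
    have h1 : (g ^ n) ^ (p ^ k) = 1 := by
      rw [← zpow_natCast, ← zpow_mul, mul_comm, zpow_mul, zpow_natCast, ← hk, pow_orderOf_eq_one,
        one_zpow]
    have h2 : orderOf (⟨g ^ n, hy⟩ : ↥(Subgroup.zpowers g)) ∣ p ^ k := by
      apply orderOf_dvd_of_pow_eq_one
      apply Subtype.ext
      rw [Subgroup.coe_pow]
      exact h1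
    obtain ⟨i, -, hi⟩ := (Nat.dvd_prime_pow hp.out).mp h2
    exact ⟨i, hi⟩
  have hK : IsPGroup p ↥(Subgroup.zpowers g ⊔ A) := hZ.to_sup_of_normal_right h.pgrp
  have h1 : ∀ x : ↥A, ρ.character (g * (x : G)) * conj (ρ.character (g * (x : G))) = 1 := by
    intro x
    apply h.root
    apply ru_dvd_orderOf p
    · have hmem : g * (x : G) ∈ Subgroup.zpowers g ⊔ A :=
        Subgroup.mul_mem_sup (Subgroup.mem_zpowers g) x.2
      obtain ⟨n, hn⟩ := hK ⟨g * (x : G), hmem⟩
      refine ⟨n, ?_⟩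
      have := congrArg Subtype.val hn
      simpa using this
    · intro h2
      apply hgA
      have : g = ((x⁻¹ : ↥A) : G) := by
        rw [Subgroup.coe_inv]
        exact eq_inv_of_mul_eq_one_left h2
      rw [this]
      exact (x⁻¹).2
  have h2 := h.coset_sum g
  rw [Finset.sum_congr rfl (fun x _ => h1 x), Finset.sum_const, Finset.card_univ,
    nsmul_eq_mul, mul_one] at h2
  have h4 : Fintype.card ↥A * 1 = Fintype.card ↥A *
      (Finset.univ.filter (fun θ : ↥A →* ℂˣ => θ ≠ 1 ∧ ruCj A g θ = θ)).card := by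
    rw [mul_one]
    exact_mod_cast h2
  have ha2 := h.card_ge
  exact (Nat.eq_of_mul_eq_mul_left (by omega) h4).symm

end RuStruct

end Cfsg.Agent.Lib.Helper29
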