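import Mathlib
import Cfsg.Agent.Lib.Helper29.RuStruct

set_option autoImplicit false
open scoped ComplexConjugate

/-!
The situation where some `p`-element lies outside `A`: then `p = 2`, `|A| = 4` and
`G / C_G(A)` is the full symmetric group on the three non-principal characters of `A`.
-/

namespace Cfsg.Agent.Lib.Helper29

section RuFixDefs

variable {G : Type*} [Group G] (A : Subgroup G) [hA : A.Normal]

theorem ruCj_inv_right (g : G) (θ : ↥A →* ℂˣ) : ruCj A g θ⁻¹ = (ruCj A g θ)⁻¹ := by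
  ext x
  rw [ruCj_apply, MonoidHom.inv_apply, MonoidHom.inv_apply, ruCj_apply]

/-- the subgroup of linear characters of `A` fixed by `g` -/
def ruFixSub (g : G) : Subgroup (↥A →* ℂˣ) where
  carrier := {θ | ruCj A g θ = θ}
  mul_mem' := by
    intro a b ha hb
    show ruCj A g (a * b) = a * b
    rw [ruCj_mul_right, ha, hb]
  one_mem' := ruCj_one_right A g
  inv_mem' := by
    intro a ha
    show ruCj A g a⁻¹ = a⁻¹
    rw [ruCj_inv_right, ha]

theorem mem_ruFixSub (g : G) (θ : ↥A →* ℂˣ) : θ ∈ ruFixSub A g ↔ ruCj A g θ = θ := Iff.rfl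

/-- the permutation action of `G` on the non-principal linear characters of `A` -/
noncomputable def ruPerm : G →* Equiv.Perm {θ : ↥A →* ℂˣ // θ ≠ 1} where
  toFun g :=
    { toFun := fun θ => ⟨ruCj A g θ.1, fun h => θ.2 ((ruCj_eq_one_iff A g θ.1).mp h)⟩
      invFun := fun θ => ⟨ruCj A g⁻¹ θ.1, fun h => θ.2 ((ruCj_eq_one_iff A g⁻¹ θ.1).mp h)⟩
      left_inv := by
        intro θ
        apply Subtype.ext
        exact ruCj_inv_cancel A g θ.1
      right_inv := by
        intro θ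
        apply Subtype.ext
        exact ruCj_cancel_inv A g θ.1 }
  map_one' := by
    apply Equiv.ext
    intro θ
    apply Subtype.ext
    exact ruCj_one A θ.1
  map_mul' := by
    intro g g'
    apply Equiv.ext
    intro θ
    apply Subtype.ext
    exact (ruCj_mul A g g' θ.1).symm

theorem ruPerm_apply (g : G) (θ : {θ : ↥A →* ℂˣ // θ ≠ 1}) :
    ((ruPerm A g) θ : ↥A →* ℂˣ) = ruCj A g θ.1 := rfl

theorem ruPerm_ker [Finite ↥A] (hcomm : ∀ a b : ↥A, a * b = b * a) :
    (ruPerm A).ker = Subgroup.centralizer (A : Set G) := by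
  ext g
  rw [MonoidHom.mem_ker]
  constructor
  · intro hg
    have h1 : ∀ θ : ↥A →* ℂˣ, ruCj A g θ = θ := by
      intro θ
      by_cases hθ : θ = 1
      · rw [hθ, ruCj_one_right]
      · have := congrArg (fun σ => ((σ ⟨θ, hθ⟩ : {θ : ↥A →* ℂˣ // θ ≠ 1}) : ↥A →* ℂˣ)) hg
        simpa [ruPerm_apply] using this
    rw [Subgroup.mem_centralizer_iff]
    intro x hx
    have hmem : g⁻¹ * x * g ∈ A := by
      have := hA.conj_mem x hx g⁻¹
      simpa using this
    by_contra hne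
    have hy : (⟨g⁻¹ * x * g, hmem⟩ * (⟨x, hx⟩ : ↥A)⁻¹ : ↥A) ∉ (⊥ : Subgroup ↥A) := by
      rw [Subgroup.mem_bot]
      intro h2
      apply hne
      have h3 := congrArg Subtype.val (mul_inv_eq_one.mp h2)
      simp only at h3
      calc x * g = g * (g⁻¹ * x * g) := by group
        _ = g * x := by rw [h3]
    obtain ⟨φ, -, hφ⟩ := Cfsg.Agent.Lib.Helper11.exists_linChar_ne_one hcomm ⊥ _ hy
    apply hφ
    rw [map_mul, map_inv, mul_inv_eq_one]
    have := DFunLike.congr_fun (h1 φ) ⟨x, hx⟩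
    rw [ruCj_apply] at this
    exact this
  · intro hg
    apply Equiv.ext
    intro θ
    apply Subtype.ext
    rw [ruPerm_apply, ruCj_of_mem_centralizer A g hg]
    rfl

end RuFixDefs

section RuFix

variable {G : Type*} [Group G] [Fintype G] {V : Type*} [AddCommGroup V] [Module ℂ V]
  [FiniteDimensional ℂ V] {p : ℕ} [hp : Fact p.Prime] {ρ : Representation ℂ G V}
  {A : Subgroup G} [Fintype ↥A] [A.Normal] [ρ.IsIrreducible] [Fintype (↥A →* ℂˣ)]

theorem RuHyp.card_dual (h : RuHyp p ρ A) : Fintype.card (↥A →* ℂˣ) = Fintype.card ↥A := by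
  have := afd_card_dual (W := ↥A) h.comm
  rwa [Nat.card_eq_fintype_card, Nat.card_eq_fintype_card] at this

/-- `A` is elementary abelian -/
theorem RuHyp.elem_abelian (h : RuHyp p ρ A) : ∀ a ∈ A, a ^ p = 1 := by
  classical
  obtain ⟨-, -, -, htrans⟩ := h.core
  have hdvd : p ∣ Nat.card (↥A →* ℂˣ) := by
    rw [Nat.card_eq_fintype_card, h.card_dual]
    obtain ⟨n, hn⟩ := IsPGroup.iff_card.mp h.pgrp
    rw [Nat.card_eq_fintype_card] at hn
    have ha2 := h.card_ge
    rw [hn]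
    rcases Nat.eq_zero_or_pos n with h0 | h0
    · subst h0
      rw [hn] at ha2
      norm_num at ha2
    · exact dvd_pow_self p h0.ne'
  obtain ⟨θ₁, hθ₁⟩ := exists_prime_orderOf_dvd_card' p hdvd
  have hθ₁ne : θ₁ ≠ 1 := by
    intro h1
    rw [h1, orderOf_one] at hθ₁
    exact hp.out.one_lt.ne hθ₁
  have hθ₁p : ∀ x : ↥A, (θ₁ x) ^ p = 1 := by
    intro x
    have h1 : θ₁ ^ p = 1 := by
      rw [← hθ₁]
      exact pow_orderOf_eq_one θ₁
    exact DFunLike.congr_fun h1 x
  have hall : ∀ (θ : ↥A →* ℂˣ) (x : ↥A), (θ x) ^ p = 1 := by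
    intro θ x
    by_cases hθ : θ = 1
    · rw [hθ, MonoidHom.one_apply, one_pow]
    · obtain ⟨g, hg⟩ := htrans θ₁ θ hθ₁ne hθ
      rw [hg, ruCj_apply]
      exact hθ₁p _
  intro a ha
  by_contra hne
  have hy : ((⟨a, ha⟩ : ↥A) ^ p) ∉ (⊥ : Subgroup ↥A) := by
    rw [Subgroup.mem_bot]
    intro h2
    apply hne
    have := congrArg Subtype.val h2
    simpa using this
  obtain ⟨φ, -, hφ⟩ := Cfsg.Agent.Lib.Helper11.exists_linChar_ne_one h.comm ⊥ _ hy
  apply hφ
  rw [map_pow]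
  exact hall φ _

/-- if a `p`-element `g ∉ A` has `g ^ p ∈ A`, then `p = 2` and `|A| = 4` -/
theorem RuHyp.two_four (h : RuHyp p ρ A) (g : G) (hg : ∃ k : ℕ, orderOf g = p ^ k)
    (hgA : g ∉ A) (hgp : g ^ p ∈ A) : p = 2 ∧ Fintype.card ↥A = 4 := by
  classical
  have hfix := h.fix_card g hg hgA
  -- the fixed subgroup has order two
  have hF : Nat.card ↥(ruFixSub A g) = 2 := by
    rw [Nat.card_eq_fintype_card, Fintype.card_subtype]
    have h1 : (Finset.univ.filter (fun θ : ↥A →* ℂˣ => θ ∈ ruFixSub A g)) =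
        insert 1 (Finset.univ.filter (fun θ : ↥A →* ℂˣ => θ ≠ 1 ∧ ruCj A g θ = θ)) := by
      ext θ
      simp only [Finset.mem_filter, Finset.mem_univ, true_and, Finset.mem_insert, mem_ruFixSub]
      constructor
      · intro h2
        by_cases h3 : θ = 1
        · exact Or.inl h3
        · exact Or.inr ⟨h3, h2⟩
      · rintro (h2 | h2)
        · rw [h2, ruCj_one_right]
        · exact h2.2
    rw [h1, Finset.card_insert_of_notMem, hfix]
    simp
  obtain ⟨n, hn⟩ := IsPGroup.iff_card.mp h.pgrp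
  rw [Nat.card_eq_fintype_card] at hn
  have hp2 : p = 2 := by
    have h1 : Nat.card ↥(ruFixSub A g) ∣ Nat.card (↥A →* ℂˣ) := Subgroup.card_subgroup_dvd_card _
    rw [hF, Nat.card_eq_fintype_card, h.card_dual, hn] at h1
    have h2 := (Nat.Prime.dvd_of_dvd_pow Nat.prime_two h1)
    exact ((Nat.prime_dvd_prime_iff_eq Nat.prime_two hp.out).mp h2).symm
  refine ⟨hp2, ?_⟩
  -- exponent two
  have hexp := h.elem_abelian
  have hsq : ∀ θ : ↥A →* ℂˣ, θ * θ = 1 := by
    intro θ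
    ext x
    rw [MonoidHom.mul_apply, ← map_mul, MonoidHom.one_apply]
    have : x * x = 1 := by
      apply Subtype.ext
      have := hexp (x : G) x.2
      rw [hp2, pow_two] at this
      simpa using this
    rw [this, map_one]
  have hg2 : ∀ θ : ↥A →* ℂˣ, ruCj A g (ruCj A g θ) = θ := by
    intro θ
    rw [ruCj_mul]
    apply ruCj_of_mem_centralizer A
    rw [Subgroup.mem_centralizer_iff]
    intro x hx
    have hgg : g * g ∈ A := by
      rw [hp2, pow_two] at hgp
      exact hgp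
    have := h.comm ⟨x, hx⟩ ⟨g * g, hgg⟩
    exact congrArg Subtype.val this
  let T : (↥A →* ℂˣ) →* (↥A →* ℂˣ) :=
    { toFun := fun θ => θ * ruCj A g θ
      map_one' := by rw [ruCj_one_right, one_mul]
      map_mul' := by
        intro a b
        rw [ruCj_mul_right]
        exact mul_mul_mul_comm a b _ _ }
  have hker : T.ker ≤ ruFixSub A g := by
    intro θ hθ
    rw [MonoidHom.mem_ker] at hθ
    rw [mem_ruFixSub]
    have h1 : θ * ruCj A g θ = 1 := hθ
    ext x
    have h2 : θ x * ruCj A g θ x = 1 := by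
      have := DFunLike.congr_fun h1 x
      rwa [MonoidHom.mul_apply] at this
    have h3 : θ x * θ x = 1 := by
      have := DFunLike.congr_fun (hsq θ) x
      rwa [MonoidHom.mul_apply] at this
    have h4 : ruCj A g θ x = θ x := mul_left_cancel (h2.trans h3.symm)
    rw [h4]
  have hrange : T.range ≤ ruFixSub A g := by
    rintro _ ⟨θ, rfl⟩
    rw [mem_ruFixSub]
    show ruCj A g (θ * ruCj A g θ) = θ * ruCj A g θ
    rw [ruCj_mul_right, hg2]
    exact mul_comm (ruCj A g θ) θ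
  have h1 : Nat.card ↥T.ker ≤ 2 := by
    rw [← hF]
    exact Subgroup.card_le_of_le hker
  have h2 : Nat.card ↥T.range ≤ 2 := by
    rw [← hF]
    exact Subgroup.card_le_of_le hrange
  have h3 : Nat.card ↥T.ker * Nat.card ↥T.range = Fintype.card ↥A := by
    rw [← Subgroup.index_ker, Subgroup.card_mul_index, Nat.card_eq_fintype_card, h.card_dual]
  have hle : Fintype.card ↥A ≤ 4 := by
    rw [← h3]
    calc Nat.card ↥T.ker * Nat.card ↥T.range ≤ 2 * 2 := Nat.mul_le_mul h1 h2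
      _ = 4 := by norm_num
  obtain ⟨hcard, -, -, -⟩ := h.core
  have hnl := h.nl
  have ha2 := h.card_ge
  -- |A| = 2^n with 3 ≤ |A| ≤ 4
  rw [hp2] at hn
  have hn2 : n ≤ 2 := by
    by_contra hh
    push Not at hh
    have : 2 ^ 3 ≤ 2 ^ n := Nat.pow_le_pow_right (by norm_num) hh
    omega
  interval_cases n
  · omega
  · exfalso
    apply hnl
    omega
  · omega

/-- when `p = 2` and `|A| = 4`: `C_G(A)` has index `6` and `G / C_G(A)` is not abelian -/
theorem RuHyp.index_centralizer (h : RuHyp p ρ A) (g : G) (hg : ∃ k : ℕ, orderOf g = p ^ k)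
    (hgA : g ∉ A) (hgp : g ^ p ∈ A) :
    (Subgroup.centralizer (A : Set G)).index = 6 ∧
      ∃ u v : G, u * v * u⁻¹ * v⁻¹ ∉ Subgroup.centralizer (A : Set G) := by
  classical
  obtain ⟨hp2, hcard4⟩ := h.two_four g hg hgA hgp
  obtain ⟨-, -, -, htrans⟩ := h.core
  have hfix := h.fix_card g hg hgA
  obtain ⟨θ₁, hθ₁⟩ := Finset.card_eq_one.mp hfix
  have hθ₁mem : θ₁ ≠ 1 ∧ ruCj A g θ₁ = θ₁ := by
    have : θ₁ ∈ Finset.univ.filter (fun θ : ↥A →* ℂˣ => θ ≠ 1 ∧ ruCj A g θ = θ) := by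
      rw [hθ₁]
      exact Finset.mem_singleton_self _
    exact (Finset.mem_filter.mp this).2
  have hθ₁uniq : ∀ θ : ↥A →* ℂˣ, θ ≠ 1 → ruCj A g θ = θ → θ = θ₁ := by
    intro θ h1 h2
    have : θ ∈ Finset.univ.filter (fun θ : ↥A →* ℂˣ => θ ≠ 1 ∧ ruCj A g θ = θ) :=
      Finset.mem_filter.mpr ⟨Finset.mem_univ _, h1, h2⟩
    rw [hθ₁] at this
    exact Finset.mem_singleton.mp this
  -- the number of non-principal characters is three
  have hcard3 : Fintype.card {θ : ↥A →* ℂˣ // θ ≠ 1} = 3 := by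
    rw [Fintype.card_subtype, h.card_nontriv, hcard4]
  -- a second non-principal character
  obtain ⟨θ₂, hθ₂ne, hθ₂1⟩ : ∃ θ₂ : ↥A →* ℂˣ, θ₂ ≠ θ₁ ∧ θ₂ ≠ 1 := by
    have h1 : 1 < Fintype.card {θ : ↥A →* ℂˣ // θ ≠ 1} := by omega
    obtain ⟨a, b, hab⟩ := Fintype.one_lt_card_iff.mp h1
    by_cases ha : a.1 = θ₁
    · refine ⟨b.1, ?_, b.2⟩
      intro hb
      apply hab
      apply Subtype.ext
      rw [ha, hb]
    · exact ⟨a.1, ha, a.2⟩
  obtain ⟨t, ht⟩ := htrans θ₁ θ₂ hθ₁mem.1 hθ₂1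
  have hker := ruPerm_ker A h.comm
  -- the commutator of g and t acts nontrivially
  have hcommut : g * t * g⁻¹ * t⁻¹ ∉ Subgroup.centralizer (A : Set G) := by
    intro hc
    have h1 := ruCj_of_mem_centralizer A _ hc (ruCj A t (ruCj A g θ₁))
    rw [ruCj_mul, ruCj_mul] at h1
    have h2 : g * t * g⁻¹ * t⁻¹ * t * g = g * t := by group
    rw [h2, ← ruCj_mul, hθ₁mem.2, ← ht] at h1
    exact hθ₂ne (hθ₁uniq θ₂ hθ₂1 h1)
  refine ⟨?_, g, t, hcommut⟩
  rw [← hker, Subgroup.index_ker]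
  -- the image has order dividing 6
  have hdvd : Nat.card ↥(ruPerm A).range ∣ 6 := by
    have h1 : Nat.card ↥(ruPerm A).range ∣ Nat.card (Equiv.Perm {θ : ↥A →* ℂˣ // θ ≠ 1}) :=
      Subgroup.card_subgroup_dvd_card _
    rw [Nat.card_eq_fintype_card (α := Equiv.Perm _), Fintype.card_perm, hcard3] at h1
    exact h1
  -- the image of g has order two
  have hgC : g ∉ Subgroup.centralizer (A : Set G) := fun hc => hgA (h.pelt_mem g hc hg)
  have hτ1 : ruPerm A g ≠ 1 := by
    intro h1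
    apply hgC
    rw [← hker, MonoidHom.mem_ker]
    exact h1
  have hτ2 : ruPerm A g ^ 2 = 1 := by
    rw [← map_pow, ← MonoidHom.mem_ker, hker, Subgroup.mem_centralizer_iff]
    intro x hx
    rw [hp2] at hgp
    have := h.comm ⟨x, hx⟩ ⟨g ^ 2, hgp⟩
    exact congrArg Subtype.val this
  have hτord : orderOf (ruPerm A g) = 2 := orderOf_eq_prime hτ2 hτ1
  have h2dvd : 2 ∣ Nat.card ↥(ruPerm A).range := by
    have hmem : ruPerm A g ∈ (ruPerm A).range := ⟨g, rfl⟩
    have h1 : orderOf (⟨ruPerm A g, hmem⟩ : ↥(ruPerm A).range) = 2 := by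
      rw [Subgroup.orderOf_mk, hτord]
    rw [← h1]
    exact orderOf_dvd_natCard _
  -- the image is not of order two
  have hne2 : Nat.card ↥(ruPerm A).range ≠ 2 := by
    intro h2
    have hle : Subgroup.zpowers (ruPerm A g) ≤ (ruPerm A).range := by
      rw [Subgroup.zpowers_le]
      exact ⟨g, rfl⟩
    have heq : Subgroup.zpowers (ruPerm A g) = (ruPerm A).range := by
      apply Subgroup.eq_of_le_of_card_ge hle
      rw [h2, Nat.card_zpowers, hτord]
    have hmem : ruPerm A t ∈ Subgroup.zpowers (ruPerm A g) := by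
      rw [heq]
      exact ⟨t, rfl⟩
    obtain ⟨k, hk⟩ := Subgroup.mem_zpowers_iff.mp hmem
    have hfixτ : ruPerm A g ⟨θ₁, hθ₁mem.1⟩ = ⟨θ₁, hθ₁mem.1⟩ := by
      apply Subtype.ext
      rw [ruPerm_apply]
      exact hθ₁mem.2
    have h3 := Equiv.Perm.zpow_apply_eq_self_of_apply_eq_self hfixτ k
    rw [hk] at h3
    have h4 := congrArg Subtype.val h3
    rw [ruPerm_apply] at h4
    simp only at h4
    apply hθ₂ne
    rw [ht, h4]
  have hpos : 0 < Nat.card ↥(ruPerm A).range := Nat.card_pos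
  have hle := Nat.le_of_dvd (by norm_num) hdvd
  have h6 : ∀ n : ℕ, n ∣ 6 → 2 ∣ n → n ≠ 2 → 0 < n → n ≤ 6 → n = 6 := by
    intro n h1 h2 h3 h4 h5
    interval_cases n <;> omega
  exact h6 _ hdvd h2dvd hne2 hpos hle

end RuFix

end Cfsg.Agent.Lib.Helper29
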