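import Mathlib

set_option autoImplicit false

/-!
A group of order `24` with a self-centralizing normal subgroup of order `4` is the symmetric
group of degree `4`.
-/

namespace Cfsg.Agent.Lib.Helper29

theorem ru_four_elts {N : Type*} [Group N] [Finite N] (hN : Nat.card N = 4) (a b c d : N)
    (hab : a ≠ b) (hac : a ≠ c) (had : a ≠ d) (hbc : b ≠ c) (hbd : b ≠ d) (hcd : c ≠ d)
    (x : N) : x = a ∨ x = b ∨ x = c ∨ x = d := by
  classical
  have := Fintype.ofFinite N
  have hs : ({a, b, c, d} : Finset N).card = Fintype.card N := by
    rw [← Nat.card_eq_fintype_card, hN]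
    rw [Finset.card_insert_of_notMem, Finset.card_insert_of_notMem, Finset.card_insert_of_notMem,
      Finset.card_singleton]
    · simp [hcd]
    · simp [hbc, hbd]
    · simp [hab, hac, had]
  have h1 := Finset.eq_univ_of_card _ hs
  have h2 : x ∈ ({a, b, c, d} : Finset N) := by rw [h1]; exact Finset.mem_univ x
  simpa using h2

theorem ru_lemmaS4 {H : Type*} [Group H] [Finite H] (hcard : Nat.card H = 24)
    (N : Subgroup H) [hNn : N.Normal] (hN : Nat.card N = 4)
    (hself : ∀ h : H, (∀ n ∈ N, h * n = n * h) → h ∈ N) :
    Nonempty (H ≃* Equiv.Perm (Fin 4)) := by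
  classical
  have : Fact (Nat.Prime 3) := ⟨by norm_num⟩
  -- elements of `N` have order dividing `4`
  have hN4 : ∀ n ∈ N, n ^ 4 = 1 := by
    intro n hn
    have : (⟨n, hn⟩ : ↥N) ^ Nat.card ↥N = 1 := pow_card_eq_one'
    rw [hN] at this
    simpa using congrArg Subtype.val this
  -- an element of order dividing 3 in `N` is trivial
  have hN3 : ∀ n ∈ N, n ^ 3 = 1 → n = 1 := by
    intro n hn h3
    have h4 := hN4 n hn
    have : n ^ 4 = n ^ 3 * n := pow_succ n 3
    rw [h4, h3, one_mul] at this
    exact this.symm
  obtain ⟨P⟩ : Nonempty (Sylow 3 H) := inferInstance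
  -- `|P| = 3`
  have hP3 : Nat.card (P : Subgroup H) = 3 := by
    obtain ⟨n, hn⟩ := IsPGroup.iff_card.mp P.isPGroup'
    have h1 : 3 ∣ Nat.card (P : Subgroup H) := P.dvd_card_of_dvd_card (by rw [hcard]; norm_num)
    have h2 : Nat.card (P : Subgroup H) ∣ 24 := by
      rw [← hcard]; exact Subgroup.card_subgroup_dvd_card _
    rw [hn] at h1 h2 ⊢
    rcases n with _ | _ | n
    · norm_num at h1
    · norm_num
    · exfalso
      have : 9 ∣ 24 := by
        refine dvd_trans ?_ h2
        rw [pow_succ, pow_succ]
        exact ⟨3 ^ n, by ring⟩
      norm_num at this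
  have hPidx : (P : Subgroup H).index = 8 := by
    have := Subgroup.card_mul_index (P : Subgroup H)
    rw [hP3, hcard] at this
    omega
  -- every element of `P` has cube one
  have hPcube : ∀ x ∈ (P : Subgroup H), x ^ 3 = 1 := by
    intro x hx
    have : (⟨x, hx⟩ : ↥(P : Subgroup H)) ^ Nat.card ↥(P : Subgroup H) = 1 := pow_card_eq_one'
    rw [hP3] at this
    simpa using congrArg Subtype.val this
  -- `P` is not contained in `N`
  have hPN : ¬ (P : Subgroup H) ≤ N := by
    intro hle
    have := Subgroup.card_dvd_of_le hle
    rw [hP3, hN] at this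
    norm_num at this
  obtain ⟨x, hxP, hxN⟩ : ∃ x ∈ (P : Subgroup H), x ∉ N := by
    by_contra hcon
    push Not at hcon
    exact hPN hcon
  have hx3 : x ^ 3 = 1 := hPcube x hxP
  have hx1 : x ≠ 1 := fun h => hxN (h ▸ N.one_mem)
  -- the number of Sylow 3-subgroups
  have hn3 : Nat.card (Sylow 3 H) = 1 ∨ Nat.card (Sylow 3 H) = 4 := by
    have h1 : Nat.card (Sylow 3 H) ≡ 1 [MOD 3] := card_sylow_modEq_one 3 H
    have h2 : Nat.card (Sylow 3 H) ∣ 8 := hPidx ▸ P.card_dvd_index
    have h2' : Nat.card (Sylow 3 H) ∣ 2 ^ 3 := by norm_num; exact h2
    obtain ⟨m, hm, hm'⟩ := (Nat.dvd_prime_pow Nat.prime_two).mp h2'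
    unfold Nat.ModEq at h1
    generalize Nat.card (Sylow 3 H) = n at h1 hm'
    interval_cases m <;> omega
  rcases hn3 with hn3 | hn3
  · -- `P` is normal: contradiction
    exfalso
    have hsub : Subsingleton (Sylow 3 H) := (Nat.card_eq_one_iff_unique.mp hn3).1
    have hPn : (P : Subgroup H).Normal := Sylow.normal_of_subsingleton P
    have hbot : (P : Subgroup H) ⊓ N = ⊥ := by
      apply disjoint_iff.mp
      apply Subgroup.disjoint_of_coprime_natCard
      rw [hP3, hN]; norm_num
    apply hxN
    apply hself
    intro n hn
    have h1 : x * n * x⁻¹ * n⁻¹ ∈ (P : Subgroup H) ⊓ N := by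
      refine Subgroup.mem_inf.mpr ⟨?_, ?_⟩
      · have : x * n * x⁻¹ * n⁻¹ = x * (n * x⁻¹ * n⁻¹) := by group
        rw [this]
        have hxi : x⁻¹ ∈ (P : Subgroup H) := (P : Subgroup H).inv_mem hxP
        exact (P : Subgroup H).mul_mem hxP (hPn.conj_mem _ hxi n)
      · exact N.mul_mem (hNn.conj_mem _ hn x) (N.inv_mem hn)
    rw [hbot, Subgroup.mem_bot] at h1
    have : x * n = (x * n * x⁻¹ * n⁻¹) * (n * x) := by group
    rw [this, h1, one_mul]
  · -- four Sylow 3-subgroups
    have hnorm : Nat.card (Subgroup.normalizer (P : Set H)) = 6 := by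
      have h1 := P.card_eq_index_normalizer
      have h2 := Subgroup.card_mul_index (Subgroup.normalizer (P : Set H))
      rw [hn3] at h1
      rw [← h1, hcard] at h2
      omega
    set φ : H →* Equiv.Perm (Sylow 3 H) := MulAction.toPermHom H (Sylow 3 H) with hφ
    have hker : ∀ g : H, g ∈ φ.ker ↔ ∀ Q : Sylow 3 H, g ∈ Subgroup.normalizer (Q : Set H) := by
      intro g
      rw [MonoidHom.mem_ker]
      constructor
      · intro hg Q
        rw [← Sylow.smul_eq_iff_mem_normalizer]
        have := congrArg (fun σ : Equiv.Perm (Sylow 3 H) => σ Q) hg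
        simpa [hφ] using this
      · intro hg
        apply Equiv.ext
        intro Q
        have := Sylow.smul_eq_iff_mem_normalizer.mpr (hg Q)
        simpa [hφ] using this
    have hKle : φ.ker ≤ Subgroup.normalizer (P : Set H) := fun g hg => (hker g).mp hg P
    have hKdvd : Nat.card φ.ker ∣ 6 := hnorm ▸ Subgroup.card_dvd_of_le hKle
    have hK3 : ¬ 3 ∣ Nat.card φ.ker := by
      intro h3
      obtain ⟨k, hk⟩ := exists_prime_orderOf_dvd_card' (G := ↥φ.ker) 3 h3
      have hkord : orderOf (k : H) = 3 := by rw [Subgroup.orderOf_coe]; exact hk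
      have hZp : IsPGroup 3 ↥(Subgroup.zpowers (k : H)) := by
        apply IsPGroup.of_card (n := 1)
        rw [Nat.card_zpowers, hkord, pow_one]
      have hall : ∀ Q : Sylow 3 H, (Q : Subgroup H) = Subgroup.zpowers (k : H) := by
        intro Q
        have h1 : (k : H) ∈ Subgroup.zpowers (k : H) ⊓ Subgroup.normalizer (Q : Set H) :=
          ⟨Subgroup.mem_zpowers _, (hker k).mp k.2 Q⟩
        rw [hZp.inf_normalizer_sylow Q] at h1
        have h2 : Subgroup.zpowers (k : H) ≤ (Q : Subgroup H) := by
          rw [Subgroup.zpowers_le]; exact h1.2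
        have hQ3 : Nat.card (Q : Subgroup H) = 3 := by
          rw [Sylow.card_eq_multiplicity, ← Sylow.card_eq_multiplicity P, hP3]
        symm
        apply Subgroup.eq_of_le_of_card_ge h2
        rw [hQ3, Nat.card_zpowers, hkord]
      have hsub : Subsingleton (Sylow 3 H) := by
        constructor
        intro Q₁ Q₂
        apply Sylow.ext
        rw [hall Q₁, hall Q₂]
      have := Finite.card_le_one_iff_subsingleton.mpr hsub
      omega
    have hK12 : Nat.card φ.ker = 1 ∨ Nat.card φ.ker = 2 := by
      have h3 : Nat.card φ.ker ≤ 6 := Nat.le_of_dvd (by norm_num) hKdvd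
      have h0 : 0 < Nat.card φ.ker := Nat.card_pos
      generalize Nat.card φ.ker = n at h3 hKdvd hK3 h0
      interval_cases n <;> omega
    have hKbot : φ.ker = ⊥ := by
      rcases hK12 with h1 | h2
      · exact Subgroup.card_eq_one.mp h1
      · exfalso
        -- the central involution
        obtain ⟨k, hk⟩ := exists_prime_orderOf_dvd_card' (G := ↥φ.ker) 2 (by rw [h2])
        have hk1 : k ≠ 1 := by
          intro h
          rw [h, orderOf_one] at hk
          norm_num at hk
        have hKelts : ∀ y : ↥φ.ker, y = 1 ∨ y = k := by
          intro y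
          by_contra hcon
          push Not at hcon
          have : 3 ≤ Nat.card ↥φ.ker := by
            have := Fintype.ofFinite ↥φ.ker
            rw [Nat.card_eq_fintype_card]
            have h3 : ({1, k, y} : Finset ↥φ.ker).card = 3 := by
              rw [Finset.card_insert_of_notMem, Finset.card_insert_of_notMem,
                Finset.card_singleton]
              · simp [hcon.2.symm]
              · simp [hk1.symm, hcon.1.symm]
            have h4 := Finset.card_le_univ ({1, k, y} : Finset ↥φ.ker)
            omega
          omega
        have hkc : ∀ g : H, g * (k : H) * g⁻¹ = (k : H) := by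
          intro g
          have hmem : g * (k : H) * g⁻¹ ∈ φ.ker := (inferInstance : φ.ker.Normal).conj_mem _ k.2 g
          rcases hKelts ⟨_, hmem⟩ with h | h
          · exfalso
            have h' : g * (k : H) * g⁻¹ = 1 := congrArg Subtype.val h
            apply hk1
            apply Subtype.ext
            have : (k : H) = g⁻¹ * (g * (k : H) * g⁻¹) * g := by group
            rw [this, h']; simp
          · exact congrArg Subtype.val h
        have hkcomm : ∀ g : H, g * (k : H) = (k : H) * g := by
          intro g
          have := hkc g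
          calc g * (k : H) = (g * (k : H) * g⁻¹) * g := by group
            _ = (k : H) * g := by rw [this]
        have hkN : (k : H) ∈ N := hself _ (fun n _ => (hkcomm n).symm)
        have hkH1 : (k : H) ≠ 1 := fun h => hk1 (Subtype.ext h)
        -- `x * x` centralizes `N`
        have hxx : x * x ∈ N := by
          apply hself
          intro n hn
          by_cases hn1 : n = 1
          · rw [hn1, mul_one, one_mul]
          by_cases hnk : n = (k : H)
          · rw [hnk]; exact hkcomm _
          set n' := x * n * x⁻¹ with hn'
          have hn'N : n' ∈ N := hNn.conj_mem _ hn x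
          have hn'1 : n' ≠ 1 := by
            intro h
            apply hn1
            have : n = x⁻¹ * n' * x := by rw [hn']; group
            rw [this, h]; simp
          have hn'k : n' ≠ (k : H) := by
            intro h
            apply hnk
            have : n = x⁻¹ * n' * x := by rw [hn']; group
            rw [this, h, mul_assoc, ← hkcomm x, ← mul_assoc, inv_mul_cancel, one_mul]
          set n'' := x * n' * x⁻¹ with hn''
          have hn''N : n'' ∈ N := hNn.conj_mem _ hn'N x
          have key : n'' = n := by
            by_cases hnn' : n' = n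
            · rw [hn'', hnn', ← hn', hnn']
            · have h4 := ru_four_elts hN (⟨1, N.one_mem⟩ : ↥N) ⟨k, hkN⟩ ⟨n, hn⟩ ⟨n', hn'N⟩
                (by intro h; exact hkH1 (congrArg Subtype.val h).symm)
                (by intro h; exact hn1 (congrArg Subtype.val h).symm)
                (by intro h; exact hn'1 (congrArg Subtype.val h).symm)
                (by intro h; exact hnk (congrArg Subtype.val h).symm)
                (by intro h; exact hn'k (congrArg Subtype.val h).symm)
                (by intro h; exact hnn' (congrArg Subtype.val h).symm)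
                ⟨n'', hn''N⟩
              rcases h4 with h | h | h | h
              · exfalso
                have h' : n'' = 1 := congrArg Subtype.val h
                apply hn'1
                have : n' = x⁻¹ * n'' * x := by rw [hn'']; group
                rw [this, h']; simp
              · exfalso
                have h' : n'' = (k : H) := congrArg Subtype.val h
                apply hn'k
                have : n' = x⁻¹ * n'' * x := by rw [hn'']; group
                rw [this, h', mul_assoc, ← hkcomm x, ← mul_assoc, inv_mul_cancel, one_mul]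
              · exact congrArg Subtype.val h
              · exfalso
                have h' : n'' = n' := congrArg Subtype.val h
                apply hnn'
                have h1 : n' = x⁻¹ * n'' * x := by rw [hn'']; group
                have h2 : n = x⁻¹ * n' * x := by rw [hn']; group
                calc n' = x⁻¹ * n'' * x := h1
                  _ = x⁻¹ * n' * x := by rw [h']
                  _ = n := h2.symm
          have : x * x * n = n'' * (x * x) := by rw [hn'', hn']; group
          rw [this, key]
        have h1 : x * x = 1 := by
          apply hN3 _ hxx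
          have : (x * x) ^ 3 = x ^ 3 * x ^ 3 := by
            simp only [pow_succ, pow_zero, one_mul, mul_assoc]
          rw [this, hx3, one_mul]
        apply hx1
        have : x = x ^ 3 * (x * x)⁻¹ := by group
        rw [this, hx3, h1]; simp
    have hinj : Function.Injective φ := (MonoidHom.ker_eq_bot_iff φ).mp hKbot
    have hbij : Function.Bijective φ := by
      rw [Nat.bijective_iff_injective_and_card]
      refine ⟨hinj, ?_⟩
      rw [Nat.card_perm, hn3, hcard]
      rfl
    exact ⟨(MulEquiv.ofBijective φ hbij).trans (Equiv.permCongrHom (Finite.equivFinOfCardEq hn3))⟩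

end Cfsg.Agent.Lib.Helper29
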