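import Mathlib

set_option autoImplicit false

/-!
A splitting lemma: a finite group `Y` with a central subgroup `W` of odd order and index `6`
such that `Y / W` is not abelian has a subgroup of order `6` meeting `W` trivially.
-/

namespace Cfsg.Agent.Lib.Helper29

theorem ru_lemmaY {Y : Type*} [Group Y] [Finite Y] (W : Subgroup Y)
    (hW : W ≤ Subgroup.center Y) (hodd : Odd (Nat.card W)) (hidx : W.index = 6)
    (hna : ∃ u v : Y, u * v * u⁻¹ * v⁻¹ ∉ W) :
    ∃ D : Subgroup Y, Nat.card D = 6 ∧ D ⊓ W = ⊥ := by
  classical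
  have hWn : W.Normal := by
    constructor
    intro n hn g
    have := Subgroup.mem_center_iff.mp (hW hn) g
    rw [this, mul_inv_cancel_right]
    exact hn
  have hcardQ : Nat.card (Y ⧸ W) = 6 := by
    rw [← Subgroup.index_eq_card, hidx]
  have : Fact (Nat.Prime 3) := ⟨Nat.prime_three⟩
  have : Fact (Nat.Prime 2) := ⟨Nat.prime_two⟩
  obtain ⟨q₃, hq₃⟩ := exists_prime_orderOf_dvd_card' (G := Y ⧸ W) 3 (by rw [hcardQ]; norm_num)
  set N₃ : Subgroup (Y ⧸ W) := Subgroup.zpowers q₃ with hN₃
  have hN₃card : Nat.card N₃ = 3 := by rw [hN₃, Nat.card_zpowers, hq₃]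
  have hN₃idx : N₃.index = 2 := by
    have := Subgroup.card_mul_index N₃
    rw [hN₃card, hcardQ] at this
    omega
  set M : Subgroup Y := N₃.comap (QuotientGroup.mk' W) with hM
  have hMidx : M.index = 2 := by
    rw [hM, Subgroup.index_comap_of_surjective _ (QuotientGroup.mk'_surjective W), hN₃idx]
  have hWM : W ≤ M := by
    intro w hw
    rw [hM, Subgroup.mem_comap]
    have : (QuotientGroup.mk' W) w = 1 := by
      rw [QuotientGroup.mk'_apply, QuotientGroup.eq_one_iff]
      exact hw
    rw [this]
    exact one_mem _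
  have hMn : M.Normal := Subgroup.normal_of_index_eq_two hMidx
  have hcardY : Nat.card W * 6 = Nat.card Y := by
    rw [← hidx]
    exact Subgroup.card_mul_index W
  have hcardM : Nat.card M * 2 = Nat.card Y := by
    rw [← hMidx]
    exact Subgroup.card_mul_index M
  have hcardM3 : Nat.card M = 3 * Nat.card W := by omega
  -- an involution
  obtain ⟨s, hs⟩ := exists_prime_orderOf_dvd_card' (G := Y) 2 (by rw [← hcardY]; omega)
  have hs2 : s * s = 1 := by
    rw [← pow_two, ← hs]
    exact pow_orderOf_eq_one s
  have hsinv : s⁻¹ = s := inv_eq_of_mul_eq_one_left hs2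
  have hsM : s ∉ M := by
    intro hsm
    have h1 : orderOf (⟨s, hsm⟩ : ↥M) ∣ Nat.card M := orderOf_dvd_natCard _
    rw [Subgroup.orderOf_mk, hs, hcardM3] at h1
    obtain ⟨k, hk⟩ := hodd
    omega
  -- M is abelian
  have hMc : ∀ a b : ↥M, a * b = b * a := by
    let f : ↥M →* ↥N₃ := (QuotientGroup.mk' W).subgroupComap N₃
    have : IsCyclic ↥N₃ := by rw [hN₃]; infer_instance
    apply commutative_of_cyclic_center_quotient f
    intro u hu
    rw [MonoidHom.mem_ker] at hu
    have h1 : (u : Y) ∈ W := by
      have h2 : ((f u : ↥N₃) : Y ⧸ W) = 1 := by rw [hu]; rfl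
      have h3 : ((f u : ↥N₃) : Y ⧸ W) = (QuotientGroup.mk' W) (u : Y) := rfl
      rw [h3, QuotientGroup.mk'_apply, QuotientGroup.eq_one_iff] at h2
      exact h2
    rw [Subgroup.mem_center_iff]
    intro v
    apply Subtype.ext
    have := Subgroup.mem_center_iff.mp (hW h1) (v : Y)
    simpa using this
  have hMc' : ∀ a ∈ M, ∀ b ∈ M, a * b = b * a := by
    intro a ha b hb
    exact congrArg Subtype.val (hMc ⟨a, ha⟩ ⟨b, hb⟩)
  -- every element is in M or in s M
  have hdecomp : ∀ y : Y, y ∈ M ∨ s * y ∈ M := by
    intro y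
    by_cases hy : y ∈ M
    · exact Or.inl hy
    · right
      rw [Subgroup.mul_mem_iff_of_index_two hMidx]
      exact ⟨fun h => absurd h hsM, fun h => absurd h hy⟩
  -- the endomorphism u ↦ u⁻¹ (s u s⁻¹)
  have hconj : ∀ u ∈ M, s * u * s ∈ M := by
    intro u hu
    have := hMn.conj_mem u hu s
    rwa [hsinv] at this
  let φ : ↥M →* ↥M :=
    { toFun := fun u => u⁻¹ * ⟨s * (u : Y) * s, hconj u u.2⟩
      map_one' := by
        apply Subtype.ext
        simp [hs2]
      map_mul' := by
        intro a b
        have h1 : (⟨s * ((a * b : ↥M) : Y) * s, hconj _ (a * b).2⟩ : ↥M) =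
            ⟨s * (a : Y) * s, hconj a a.2⟩ * ⟨s * (b : Y) * s, hconj b b.2⟩ := by
          apply Subtype.ext
          simp only [Subgroup.coe_mul]
          calc s * ((a : Y) * b) * s = s * a * (s * s) * b * s := by rw [hs2]; group
            _ = s * a * s * (s * b * s) := by group
        rw [h1, mul_inv_rev]
        calc b⁻¹ * a⁻¹ * (⟨s * (a : Y) * s, hconj a a.2⟩ * ⟨s * (b : Y) * s, hconj b b.2⟩)
            = b⁻¹ * (a⁻¹ * ⟨s * (a : Y) * s, hconj a a.2⟩) * ⟨s * (b : Y) * s, hconj b b.2⟩ := by
              group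
          _ = (a⁻¹ * ⟨s * (a : Y) * s, hconj a a.2⟩) * b⁻¹ * ⟨s * (b : Y) * s, hconj b b.2⟩ := by
              rw [hMc b⁻¹ _]
          _ = a⁻¹ * ⟨s * (a : Y) * s, hconj a a.2⟩ * (b⁻¹ * ⟨s * (b : Y) * s, hconj b b.2⟩) := by
              group }
  have hφ_apply : ∀ u : ↥M, ((φ u : ↥M) : Y) = (u : Y)⁻¹ * (s * (u : Y) * s) := by
    intro u
    rfl
  -- the kernel is not everything
  have hker_ne : φ.ker ≠ ⊤ := by
    intro htop
    have h1 : ∀ u ∈ M, s * u = u * s := by
      intro u hu
      have h2 : (⟨u, hu⟩ : ↥M) ∈ φ.ker := by rw [htop]; exact Subgroup.mem_top _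
      rw [MonoidHom.mem_ker] at h2
      have h3 := congrArg Subtype.val h2
      rw [hφ_apply] at h3
      simp only [Subgroup.coe_one] at h3
      have h4 : s * u * s = u := by
        have := congrArg (fun z => u * z) h3
        simpa using this
      calc s * u = s * u * (s * s) := by rw [hs2, mul_one]
        _ = (s * u * s) * s := by group
        _ = u * s := by rw [h4]
    have hcomm : ∀ a b : Y, a * b = b * a := by
      intro a b
      rcases hdecomp a with ha | ha <;> rcases hdecomp b with hb | hb
      · exact hMc' a ha b hb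
      · -- b = s * (s*b)
        have hb' : b = s * (s * b) := by rw [← mul_assoc, hs2, one_mul]
        rw [hb']
        calc a * (s * (s * b)) = (a * s) * (s * b) := by group
          _ = (s * a) * (s * b) := by rw [h1 a ha]
          _ = s * (a * (s * b)) := by group
          _ = s * ((s * b) * a) := by rw [hMc' a ha _ hb]
          _ = s * (s * b) * a := by group
      · have ha' : a = s * (s * a) := by rw [← mul_assoc, hs2, one_mul]
        rw [ha']
        calc s * (s * a) * b = s * ((s * a) * b) := by group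
          _ = s * (b * (s * a)) := by rw [hMc' _ ha b hb]
          _ = (s * b) * (s * a) := by group
          _ = (b * s) * (s * a) := by rw [h1 b hb]
          _ = b * (s * (s * a)) := by group
      · have ha' : a = s * (s * a) := by rw [← mul_assoc, hs2, one_mul]
        have hb' : b = s * (s * b) := by rw [← mul_assoc, hs2, one_mul]
        rw [ha', hb']
        calc s * (s * a) * (s * (s * b)) = s * ((s * a) * s) * (s * b) := by group
          _ = s * (s * (s * a)) * (s * b) := by rw [h1 _ ha]
          _ = s * s * ((s * a) * (s * b)) := by group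
          _ = s * s * ((s * b) * (s * a)) := by rw [hMc' _ ha _ hb]
          _ = s * (s * (s * b)) * (s * a) := by group
          _ = s * ((s * b) * s) * (s * a) := by rw [h1 _ hb]
          _ = s * (s * b) * (s * (s * a)) := by group
    obtain ⟨u, v, huv⟩ := hna
    apply huv
    rw [hcomm u v, mul_inv_cancel_right, mul_inv_cancel]
    exact one_mem _
  -- W is contained in the kernel
  have hWker : W.subgroupOf M ≤ φ.ker := by
    intro u hu
    rw [Subgroup.mem_subgroupOf] at hu
    rw [MonoidHom.mem_ker]
    apply Subtype.ext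
    rw [hφ_apply]
    have := Subgroup.mem_center_iff.mp (hW hu) s
    simp only [Subgroup.coe_one]
    rw [this, mul_assoc, hs2, mul_one, inv_mul_cancel]
  -- cardinalities
  have hcardW' : Nat.card ↥(W.subgroupOf M) = Nat.card W :=
    Nat.card_congr (Subgroup.subgroupOfEquivOfLe hWM).toEquiv
  have hrange3 : Nat.card ↥φ.range = 3 := by
    have h1 : Nat.card W ∣ Nat.card ↥φ.ker := by
      rw [← hcardW']
      exact Subgroup.card_dvd_of_le hWker
    have h2 : Nat.card ↥φ.ker * Nat.card ↥φ.range = Nat.card ↥M := by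
      rw [← Subgroup.index_ker]
      exact Subgroup.card_mul_index _
    have h3 : Nat.card ↥φ.ker ≠ Nat.card ↥M := by
      intro h
      exact hker_ne ((Subgroup.card_eq_iff_eq_top _).mp h)
    obtain ⟨d, hd⟩ := h1
    have hWpos : 0 < Nat.card W := Nat.card_pos
    rw [hd, hcardM3] at h2
    rw [hd, hcardM3] at h3
    have h4 : d * Nat.card ↥φ.range = 3 := by
      have : Nat.card W * (d * Nat.card ↥φ.range) = Nat.card W * 3 := by
        rw [← mul_assoc, h2, mul_comm]
      exact Nat.eq_of_mul_eq_mul_left hWpos this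
    have hd3 : d ∣ 3 := ⟨_, h4.symm⟩
    rcases (Nat.dvd_prime Nat.prime_three).mp hd3 with hd1 | hd1
    · rw [hd1, one_mul] at h4
      exact h4
    · exfalso
      apply h3
      rw [hd1, mul_comm]
  set R : Subgroup Y := φ.range.map M.subtype with hR
  have hRcard : Nat.card R = 3 := by
    rw [hR, Subgroup.card_map_of_injective (Subgroup.subtype_injective M), hrange3]
  have hRM : R ≤ M := by
    rw [hR]
    intro r hr
    obtain ⟨r', -, rfl⟩ := Subgroup.mem_map.mp hr
    exact r'.2
  have hRs : ∀ r ∈ R, s * r * s = r⁻¹ := by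
    intro r hr
    rw [hR] at hr
    obtain ⟨r', hr', rfl⟩ := Subgroup.mem_map.mp hr
    obtain ⟨u, rfl⟩ := hr'
    rw [Subgroup.coe_subtype, hφ_apply]
    calc s * ((u : Y)⁻¹ * (s * (u : Y) * s)) * s
        = (s * (u : Y)⁻¹ * s) * (u : Y) * (s * s) := by group
      _ = ((u : Y)⁻¹ * (s * (u : Y) * s))⁻¹ := by
        rw [hs2, mul_one, mul_inv_rev, mul_inv_rev, mul_inv_rev, hsinv, inv_inv]
        group
  have hRn : R.Normal := by
    constructor
    intro r hr y
    rcases hdecomp y with hy | hy
    · have : y * r * y⁻¹ = r := by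
        rw [hMc' y hy r (hRM hr), mul_inv_cancel_right]
      rw [this]
      exact hr
    · have hy' : y = s * (s * y) := by rw [← mul_assoc, hs2, one_mul]
      have h1 : (s * y) * r * (s * y)⁻¹ = r := by
        rw [hMc' _ hy r (hRM hr), mul_inv_cancel_right]
      have h2 : y * r * y⁻¹ = s * ((s * y) * r * (s * y)⁻¹) * s := by
        conv_lhs => rw [hy']
        rw [mul_inv_rev, hsinv]
        group
      rw [h2, h1, hRs r hr]
      exact inv_mem hr
  refine ⟨Subgroup.zpowers s ⊔ R, ?_, ?_⟩
  swap
  · -- trivial intersection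
    rw [Subgroup.eq_bot_iff_forall]
    intro d hd
    obtain ⟨hdD, hdW⟩ := Subgroup.mem_inf.mp hd
    have h1 : d ∈ (↑(Subgroup.zpowers s ⊔ R) : Set Y) := hdD
    rw [Subgroup.mul_normal] at h1
    obtain ⟨h, hh, r, hr, rfl⟩ := Set.mem_mul.mp h1
    obtain ⟨k, rfl⟩ := Subgroup.mem_zpowers_iff.mp hh
    have hk : s ^ k = 1 ∨ s ^ k = s := by
      rw [← zpow_mod_orderOf, hs]
      rcases Int.emod_two_eq_zero_or_one k with h0 | h0
      · left
        rw [show ((2 : ℕ) : ℤ) = 2 from rfl, h0, zpow_zero]
      · right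
        rw [show ((2 : ℕ) : ℤ) = 2 from rfl, h0, zpow_one]
    have hr' : r ∈ R := hr
    rcases hk with hk | hk
    · rw [hk, one_mul] at hdW ⊢
      -- r ∈ R ∩ W
      have h2 : s * r * s = r := by
        have := Subgroup.mem_center_iff.mp (hW hdW) s
        rw [this, mul_assoc, hs2, mul_one]
      have h3 : r * r = 1 := by
        have := hRs r hr'
        rw [h2] at this
        calc r * r = r * r⁻¹ := by rw [← this]
          _ = 1 := mul_inv_cancel r
      have h4 : orderOf r ∣ 2 := by
        apply orderOf_dvd_of_pow_eq_one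
        rw [pow_two, h3]
      have h5 : orderOf r ∣ 3 := by
        have : orderOf (⟨r, hr'⟩ : ↥R) ∣ Nat.card R := orderOf_dvd_natCard _
        rwa [Subgroup.orderOf_mk, hRcard] at this
      have h6 : r = 1 := by
        have := Nat.dvd_gcd h4 h5
        norm_num at this
        exact this
      exact h6
    · exfalso
      rw [hk] at hdW
      apply hsM
      have h2 : s * r ∈ M := hWM hdW
      have h3 : s = (s * r) * r⁻¹ := by group
      rw [h3]
      exact M.mul_mem h2 (M.inv_mem (hRM hr'))
  · -- cardinality: postponed until the intersection is known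
    have hinter : (Subgroup.zpowers s ⊔ R) ⊓ W = ⊥ := by
      rw [Subgroup.eq_bot_iff_forall]
      intro d hd
      obtain ⟨hdD, hdW⟩ := Subgroup.mem_inf.mp hd
      have h1 : d ∈ (↑(Subgroup.zpowers s ⊔ R) : Set Y) := hdD
      rw [Subgroup.mul_normal] at h1
      obtain ⟨h, hh, r, hr, rfl⟩ := Set.mem_mul.mp h1
      obtain ⟨k, rfl⟩ := Subgroup.mem_zpowers_iff.mp hh
      have hk : s ^ k = 1 ∨ s ^ k = s := by
        rw [← zpow_mod_orderOf, hs]
        rcases Int.emod_two_eq_zero_or_one k with h0 | h0
        · left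
          rw [show ((2 : ℕ) : ℤ) = 2 from rfl, h0, zpow_zero]
        · right
          rw [show ((2 : ℕ) : ℤ) = 2 from rfl, h0, zpow_one]
      have hr' : r ∈ R := hr
      rcases hk with hk | hk
      · rw [hk, one_mul] at hdW ⊢
        have h2 : s * r * s = r := by
          have := Subgroup.mem_center_iff.mp (hW hdW) s
          rw [this, mul_assoc, hs2, mul_one]
        have h3 : r * r = 1 := by
          have := hRs r hr'
          rw [h2] at this
          calc r * r = r * r⁻¹ := by rw [← this]
            _ = 1 := mul_inv_cancel r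
        have h4 : orderOf r ∣ 2 := by
          apply orderOf_dvd_of_pow_eq_one
          rw [pow_two, h3]
        have h5 : orderOf r ∣ 3 := by
          have : orderOf (⟨r, hr'⟩ : ↥R) ∣ Nat.card R := orderOf_dvd_natCard _
          rwa [Subgroup.orderOf_mk, hRcard] at this
        have h6 : r = 1 := by
          have := Nat.dvd_gcd h4 h5
          norm_num at this
          exact this
        exact h6
      · exfalso
        rw [hk] at hdW
        apply hsM
        have h2 : s * r ∈ M := hWM hdW
        have h3 : s = (s * r) * r⁻¹ := by group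
        rw [h3]
        exact M.mul_mem h2 (M.inv_mem (hRM hr'))
    set D : Subgroup Y := Subgroup.zpowers s ⊔ R with hD
    have h2 : 2 ∣ Nat.card D := by
      have hsD : s ∈ D := by
        rw [hD]
        exact Subgroup.mem_sup_left (Subgroup.mem_zpowers s)
      have : orderOf (⟨s, hsD⟩ : ↥D) ∣ Nat.card D := orderOf_dvd_natCard _
      rwa [Subgroup.orderOf_mk, hs] at this
    have h3 : 3 ∣ Nat.card D := by
      rw [← hRcard]
      exact Subgroup.card_dvd_of_le le_sup_right
    have h6 : 6 ∣ Nat.card D := by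
      have : Nat.Coprime 2 3 := by norm_num
      exact this.mul_dvd_of_dvd_of_dvd h2 h3
    have hle : Nat.card D ≤ 6 := by
      rw [← hcardQ]
      let f : ↥D →* Y ⧸ W := (QuotientGroup.mk' W).comp D.subtype
      apply Nat.card_le_card_of_injective f
      rw [injective_iff_map_eq_one]
      intro d hd
      have h4 : (d : Y) ∈ W := by
        have : (QuotientGroup.mk' W) (d : Y) = 1 := hd
        rwa [QuotientGroup.mk'_apply, QuotientGroup.eq_one_iff] at this
      have h5 : (d : Y) ∈ D ⊓ W := Subgroup.mem_inf.mpr ⟨d.2, h4⟩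
      rw [hinter, Subgroup.mem_bot] at h5
      exact Subtype.ext h5
    have hpos : 0 < Nat.card D := Nat.card_pos
    obtain ⟨k, hk⟩ := h6
    rw [hk] at hle hpos ⊢
    have : k = 1 := by omega
    rw [this]

end Cfsg.Agent.Lib.Helper29
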