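import Mathlib
import Cfsg.Agent.Lib.Helper29.RuFix
import Cfsg.Agent.Lib.Helper29.RuGroupY
import Cfsg.Agent.Lib.Helper29.RuGroupS4

set_option autoImplicit false
open scoped ComplexConjugate

/-!
Assembly: a faithful irreducible non-linear representation whose character has absolute value
one on `p`-singular elements, in a group with a non-trivial normal `p`-subgroup `P` containing
every normal `p`-subgroup.
-/

namespace Cfsg.Agent.Lib.Helper29

/-- decomposition of an element into its `p`-part and its `p'`-part -/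
theorem ru_decomp {G : Type*} [Group G] [Finite G] (p : ℕ) [hp : Fact p.Prime] (c : G) :
    ∃ c₁ c₂ : G, c₁ ∈ Subgroup.zpowers c ∧ c₂ ∈ Subgroup.zpowers c ∧ c = c₂ * c₁ ∧
      (∃ k : ℕ, orderOf c₁ = p ^ k) ∧ (orderOf c₂).Coprime p := by
  have hn : orderOf c ≠ 0 := (orderOf_pos c).ne'
  obtain ⟨e, m, hm, hnm⟩ := Nat.exists_eq_pow_mul_and_not_dvd hn p hp.out.ne_one
  have hpm : Nat.Coprime p m := (Nat.Prime.coprime_iff_not_dvd hp.out).mpr hm
  have hcop : Nat.Coprime (p ^ e) m := Nat.Coprime.pow_left e hpm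
  have hb := Nat.gcd_eq_gcd_ab (p ^ e) m
  rw [hcop] at hb
  set a := Nat.gcdA (p ^ e) m with ha
  set b := Nat.gcdB (p ^ e) m with hb'
  have hcn : c ^ (((p ^ e : ℕ) : ℤ) * (m : ℤ)) = 1 := by
    rw [← Nat.cast_mul, zpow_natCast, ← hnm, pow_orderOf_eq_one]
  refine ⟨c ^ ((m : ℤ) * b), c ^ (((p ^ e : ℕ) : ℤ) * a), Subgroup.zpow_mem_zpowers c _,
    Subgroup.zpow_mem_zpowers c _, ?_, ?_, ?_⟩
  · rw [← zpow_add, ← hb]
    simp
  · have h1 : (c ^ ((m : ℤ) * b)) ^ (p ^ e) = 1 := by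
      rw [← zpow_natCast, ← zpow_mul]
      have : (m : ℤ) * b * ((p ^ e : ℕ) : ℤ) = (((p ^ e : ℕ) : ℤ) * (m : ℤ)) * b := by ring
      rw [this, zpow_mul, hcn, one_zpow]
    obtain ⟨k, -, hk⟩ := (Nat.dvd_prime_pow hp.out).mp (orderOf_dvd_of_pow_eq_one h1)
    exact ⟨k, hk⟩
  · have h1 : (c ^ (((p ^ e : ℕ) : ℤ) * a)) ^ m = 1 := by
      rw [← zpow_natCast, ← zpow_mul]
      have : ((p ^ e : ℕ) : ℤ) * a * (m : ℤ) = (((p ^ e : ℕ) : ℤ) * (m : ℤ)) * a := by ring
      rw [this, zpow_mul, hcn, one_zpow]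
    exact Nat.Coprime.coprime_dvd_left (orderOf_dvd_of_pow_eq_one h1) hpm.symm

/-- a `p`-element outside `P` with `p`-th power inside, when `P` is a proper subgroup of a Sylow
`p`-subgroup -/
theorem ru_exists_elt {G : Type*} [Group G] [Finite G] (p : ℕ) [hp : Fact p.Prime]
    (P : Subgroup G) (S : Sylow p G) (hPS : P ≤ S) (hne : P ≠ S) :
    ∃ g : G, (∃ k : ℕ, orderOf g = p ^ k) ∧ g ∉ P ∧ g ^ p ∈ P := by
  classical
  have hlt : P < (S : Subgroup G) := lt_of_le_of_ne hPS hne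
  obtain ⟨g, hgS, hgP⟩ := SetLike.exists_of_lt hlt
  have hSp : ∀ y ∈ (S : Subgroup G), ∃ k : ℕ, orderOf y = p ^ k := by
    intro y hy
    obtain ⟨k, hk⟩ := (IsPGroup.iff_orderOf.mp S.isPGroup') ⟨y, hy⟩
    exact ⟨k, by rw [← hk, Subgroup.orderOf_mk]⟩
  obtain ⟨j, hj⟩ := hSp g hgS
  have hex : ∃ i : ℕ, g ^ (p ^ i) ∈ P := ⟨j, by rw [← hj, pow_orderOf_eq_one]; exact P.one_mem⟩
  have hmin : ∀ m : ℕ, m < Nat.find hex → ¬ g ^ (p ^ m) ∈ P := fun m hm => Nat.find_min hex hm
  have hspec := Nat.find_spec hex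
  set i := Nat.find hex with hi
  rcases Nat.eq_zero_or_pos i with h0 | hpos
  · exfalso
    rw [h0, pow_zero, pow_one] at hspec
    exact hgP hspec
  · obtain ⟨i', hi'⟩ : ∃ i', i = i' + 1 := ⟨i - 1, by omega⟩
    refine ⟨g ^ (p ^ i'), hSp _ ((S : Subgroup G).pow_mem hgS _), hmin i' (by omega), ?_⟩
    rw [← pow_mul, ← pow_succ, ← hi']
    exact hspec

section RuFinal

variable {G : Type*} [Group G] [Fintype G] {V : Type*} [AddCommGroup V] [Module ℂ V]
  [FiniteDimensional ℂ V] {p : ℕ} [hp : Fact p.Prime] {ρ : Representation ℂ G V}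
  [ρ.IsIrreducible]

/-- a normal `p`-subgroup is abelian -/
theorem ru_abelian (faith : ∀ g : G, ρ g = 1 → g = 1) (nl : Module.finrank ℂ V ≠ 1)
    (root : ∀ g : G, p ∣ orderOf g → ρ.character g * conj (ρ.character g) = 1)
    (P : Subgroup G) [hPn : P.Normal] (hPp : IsPGroup p ↥P) (hPne : P ≠ ⊥) :
    ∀ a b : ↥P, a * b = b * a := by
  classical
  set A : Subgroup G := P ⊓ Subgroup.centralizer (P : Set G) with hA
  have hAn : A.Normal := inferInstance
  have hAcomm : ∀ a b : ↥A, a * b = b * a := by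
    intro a b
    apply Subtype.ext
    have := (Subgroup.mem_centralizer_iff.mp a.2.2) b b.2.1
    exact this.symm
  have hAne : A ≠ ⊥ := by
    have : Nontrivial ↥P := (Subgroup.nontrivial_iff_ne_bot P).mpr hPne
    have : Nontrivial (Subgroup.center ↥P) := hPp.center_nontrivial
    obtain ⟨z, hz⟩ := exists_ne (1 : Subgroup.center ↥P)
    intro hbot
    apply hz
    have hzA : ((z : ↥P) : G) ∈ A := by
      refine Subgroup.mem_inf.mpr ⟨(z : ↥P).2, ?_⟩
      rw [Subgroup.mem_centralizer_iff]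
      intro h hh
      have := Subgroup.mem_center_iff.mp z.2 ⟨h, hh⟩
      exact congrArg Subtype.val this
    rw [hbot, Subgroup.mem_bot] at hzA
    exact Subtype.ext (Subtype.ext hzA)
  letI : Fintype ↥A := Fintype.ofFinite _
  have : Finite (↥A →* ℂˣ) := Nat.finite_of_card_ne_zero (by
    rw [afd_card_dual hAcomm]
    exact Nat.card_pos.ne')
  letI : Fintype (↥A →* ℂˣ) := Fintype.ofFinite _
  have h : RuHyp p ρ A := ⟨faith, nl, root, hPp.to_le inf_le_left, hAne, hAcomm⟩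
  have hPA : P ≤ A := by
    intro c hc
    apply h.pelt_mem c
    · rw [Subgroup.mem_centralizer_iff]
      intro a ha
      exact ((Subgroup.mem_centralizer_iff.mp ha.2) c hc).symm
    · obtain ⟨k, hk⟩ := (IsPGroup.iff_orderOf.mp hPp) ⟨c, hc⟩
      exact ⟨k, by rw [← hk, Subgroup.orderOf_mk]⟩
  intro a b
  apply Subtype.ext
  have ha := hPA a.2
  exact ((Subgroup.mem_centralizer_iff.mp ha.2) b b.2).symm

variable {P : Subgroup G} [Fintype ↥P] [hPn : P.Normal] [Fintype (↥P →* ℂˣ)]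

theorem ru_centralizer (h : RuHyp p ρ P) :
    Subgroup.centralizer (P : Set G) = P ⊔ Subgroup.center G := by
  apply le_antisymm
  · intro c hc
    obtain ⟨c₁, c₂, h1, h2, hc12, hk, hcop⟩ := ru_decomp p c
    have hz : Subgroup.zpowers c ≤ Subgroup.centralizer (P : Set G) := Subgroup.zpowers_le.mpr hc
    rw [hc12]
    have e1 := h.pelt_mem c₁ (hz h1) hk
    have e2 := h.pprime_central c₂ (hz h2) hcop
    exact Subgroup.mul_mem _ (Subgroup.mem_sup_right e2) (Subgroup.mem_sup_left e1)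
  · apply sup_le
    · intro a ha
      rw [Subgroup.mem_centralizer_iff]
      intro b hb
      exact congrArg Subtype.val (h.comm ⟨b, hb⟩ ⟨a, ha⟩)
    · exact Subgroup.center_le_centralizer _

theorem ru_S4 (h : RuHyp p ρ P) (g : G) (hg : ∃ k : ℕ, orderOf g = p ^ k)
    (hgP : g ∉ P) (hgp : g ^ p ∈ P) :
    p = 2 ∧ Odd (Nat.card ↥(Subgroup.center G)) ∧ ∃ H : Subgroup G,
      Nonempty (↥H ≃* Equiv.Perm (Fin 4)) ∧ H ⊓ Subgroup.center G = ⊥ ∧
        H ⊔ Subgroup.center G = ⊤ := by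
  classical
  obtain ⟨hp2, hcard4⟩ := h.two_four g hg hgP hgp
  obtain ⟨hidx, u, v, huv⟩ := h.index_centralizer g hg hgP hgp
  have hC := ru_centralizer h
  have hPZ := h.inf_center
  -- the centre has odd order
  have hodd : Odd (Nat.card ↥(Subgroup.center G)) := by
    rw [← Nat.not_even_iff_odd]
    intro heven
    have h2 : 2 ∣ Nat.card ↥(Subgroup.center G) := even_iff_two_dvd.mp heven
    have : Fact (Nat.Prime 2) := ⟨Nat.prime_two⟩
    obtain ⟨z, hz⟩ := exists_prime_orderOf_dvd_card' (G := ↥(Subgroup.center G)) 2 h2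
    have hzG : orderOf (z : G) = 2 := by rw [Subgroup.orderOf_coe]; exact hz
    have hzP : (z : G) ∈ P :=
      h.pelt_mem _ (Subgroup.center_le_centralizer _ z.2) ⟨1, by rw [hzG, hp2, pow_one]⟩
    have hmem : (z : G) ∈ P ⊓ Subgroup.center G := ⟨hzP, z.2⟩
    rw [hPZ, Subgroup.mem_bot] at hmem
    rw [hmem, orderOf_one] at hzG
    norm_num at hzG
  set π : G →* G ⧸ P := QuotientGroup.mk' P with hπ
  have hπs : Function.Surjective π := QuotientGroup.mk'_surjective P
  have hπ1 : ∀ x : G, π x = 1 ↔ x ∈ P := fun x => QuotientGroup.eq_one_iff x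
  set W : Subgroup (G ⧸ P) := (Subgroup.center G).map π with hW
  have hWc : W ≤ Subgroup.center (G ⧸ P) := by
    rintro _ ⟨z, hz, rfl⟩
    rw [Subgroup.mem_center_iff]
    intro y
    obtain ⟨y', rfl⟩ := hπs y
    rw [← map_mul, ← map_mul, Subgroup.mem_center_iff.mp hz y']
  have hWodd : Odd (Nat.card ↥W) := Odd.of_dvd_nat hodd (Subgroup.card_map_dvd _ _)
  have hcomap : W.comap π = Subgroup.centralizer (P : Set G) := by
    rw [hW, Subgroup.comap_map_eq, hπ, QuotientGroup.ker_mk', hC, sup_comm]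
  have hWidx : W.index = 6 := by
    rw [← Subgroup.index_comap_of_surjective W hπs, hcomap, hidx]
  have hna : ∃ u' v' : G ⧸ P, u' * v' * u'⁻¹ * v'⁻¹ ∉ W := by
    refine ⟨π u, π v, ?_⟩
    intro hmem
    apply huv
    rw [← hcomap, Subgroup.mem_comap]
    simpa using hmem
  obtain ⟨D, hD6, hDW⟩ := ru_lemmaY W hWc hWodd hWidx hna
  set H : Subgroup G := D.comap π with hH
  have hPH : P ≤ H := by
    intro x hx
    rw [hH, Subgroup.mem_comap, (hπ1 x).mpr hx]
    exact D.one_mem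
  have hHC : ∀ x ∈ H, x ∈ Subgroup.centralizer (P : Set G) → x ∈ P := by
    intro x hxH hxC
    have h1 : π x ∈ D := hxH
    have h2 : π x ∈ W := by rw [← hcomap] at hxC; exact hxC
    have h3 : π x ∈ D ⊓ W := ⟨h1, h2⟩
    rw [hDW, Subgroup.mem_bot] at h3
    exact (hπ1 x).mp h3
  have hcardH : Nat.card ↥H = 24 := by
    have e1 : Nat.card ↥H * H.index = Nat.card G := Subgroup.card_mul_index H
    have e2 : H.index = D.index := Subgroup.index_comap_of_surjective D hπs
    have e3 : Nat.card G = Nat.card (G ⧸ P) * Nat.card ↥P :=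
      Subgroup.card_eq_card_quotient_mul_card_subgroup P
    have e4 : Nat.card ↥D * D.index = Nat.card (G ⧸ P) := Subgroup.card_mul_index D
    have e5 : D.index ≠ 0 := Subgroup.index_ne_zero_of_finite
    have e6 : Nat.card ↥P = 4 := by rw [Nat.card_eq_fintype_card, hcard4]
    rw [e2, e3, ← e4, hD6, e6] at e1
    have e7 : Nat.card ↥H * D.index = 24 * D.index := by rw [e1]; ring
    exact Nat.eq_of_mul_eq_mul_right (Nat.pos_of_ne_zero e5) e7
  refine ⟨hp2, hodd, H, ?_, ?_, ?_⟩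
  · have hN : (P.subgroupOf H).Normal := inferInstance
    apply ru_lemmaS4 hcardH (P.subgroupOf H)
    · rw [Nat.card_congr (Subgroup.subgroupOfEquivOfLe hPH).toEquiv, Nat.card_eq_fintype_card,
        hcard4]
    · intro x hx
      rw [Subgroup.mem_subgroupOf]
      apply hHC _ x.2
      rw [Subgroup.mem_centralizer_iff]
      intro a ha
      have := hx ⟨a, hPH ha⟩ (by rw [Subgroup.mem_subgroupOf]; exact ha)
      exact (congrArg Subtype.val this).symm
  · rw [eq_bot_iff]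
    rintro x ⟨hxH, hxZ⟩
    have hxP := hHC x hxH (Subgroup.center_le_centralizer _ hxZ)
    have hmem : x ∈ P ⊓ Subgroup.center G := ⟨hxP, hxZ⟩
    rw [hPZ] at hmem
    exact hmem
  · have hcompl : Subgroup.IsComplement' D W := by
      apply Subgroup.isComplement'_of_card_mul_and_disjoint
      · rw [hD6, ← hWidx, mul_comm]
        exact Subgroup.card_mul_index W
      · exact disjoint_iff.mpr hDW
    rw [eq_top_iff]
    intro x _
    obtain ⟨⟨⟨d, hd⟩, ⟨w, hw⟩⟩, hdw, -⟩ := hcompl.existsUnique (π x)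
    obtain ⟨z, hz, rfl⟩ := hw
    have hxz : x * z⁻¹ ∈ H := by
      rw [hH, Subgroup.mem_comap, map_mul, map_inv, ← hdw]
      simpa using hd
    have hx : x = (x * z⁻¹) * z := by group
    rw [hx]
    exact Subgroup.mul_mem _ (Subgroup.mem_sup_left hxz) (Subgroup.mem_sup_right hz)

end RuFinal

section RuFinal2

variable {G : Type*} [Group G] [Fintype G] {V : Type*} [AddCommGroup V] [Module ℂ V]
  [FiniteDimensional ℂ V] {p : ℕ} [hp : Fact p.Prime] {ρ : Representation ℂ G V}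
  [ρ.IsIrreducible]

theorem ru_final (faith : ∀ g : G, ρ g = 1 → g = 1) (nl : Module.finrank ℂ V ≠ 1)
    (root : ∀ g : G, p ∣ orderOf g → ρ.character g * conj (ρ.character g) = 1)
    (P : Subgroup G) [hPn : P.Normal] (hPp : IsPGroup p ↥P) (hPne : P ≠ ⊥) :
    ((Nat.card ↥P).factorization p = (Nat.card G).factorization p ∧
      (∀ a b : ↥P, a * b = b * a) ∧ (∀ a ∈ P, a ^ p = 1) ∧
      Subgroup.centralizer (P : Set G) = P ⊔ Subgroup.center G ∧
      P ⊓ Subgroup.center G = ⊥ ∧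
      (∀ θ θ' : ↥P →* ℂˣ, θ ≠ 1 → θ' ≠ 1 → ∃ g : G, ∀ x : ↥P,
        θ' x = θ ⟨g * (x : G) * g⁻¹, hPn.conj_mem _ x.2 g⟩) ∧
      Module.finrank ℂ V + 1 = Nat.card ↥P) ∨
    (p = 2 ∧ Odd (Nat.card ↥(Subgroup.center G)) ∧ ∃ H : Subgroup G,
      Nonempty (↥H ≃* Equiv.Perm (Fin 4)) ∧ H ⊓ Subgroup.center G = ⊥ ∧
        H ⊔ Subgroup.center G = ⊤) := by
  classical
  have hcomm := ru_abelian faith nl root P hPp hPne
  letI : Fintype ↥P := Fintype.ofFinite _
  have : Finite (↥P →* ℂˣ) := Nat.finite_of_card_ne_zero (by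
    rw [afd_card_dual hcomm]
    exact Nat.card_pos.ne')
  letI : Fintype (↥P →* ℂˣ) := Fintype.ofFinite _
  have h : RuHyp p ρ P := ⟨faith, nl, root, hPp, hPne, hcomm⟩
  obtain ⟨S, hPS⟩ := hPp.exists_le_sylow
  by_cases hS : P = (S : Subgroup G)
  · left
    obtain ⟨hcard, -, -, htrans⟩ := h.core
    refine ⟨?_, hcomm, h.elem_abelian, ru_centralizer h, h.inf_center, ?_, ?_⟩
    · rw [hS, Sylow.card_eq_multiplicity, Nat.factorization_pow_self hp.out]
    · intro θ θ' hθ hθ'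
      obtain ⟨g₀, hg₀⟩ := htrans θ θ' hθ hθ'
      refine ⟨g₀⁻¹, fun x => ?_⟩
      rw [hg₀, ruCj_apply]
      congr 1
      apply Subtype.ext
      simp
    · rw [hcard, Nat.card_eq_fintype_card]
  · right
    obtain ⟨g, hg, hgP, hgp⟩ := ru_exists_elt p P S hPS hS
    exact ru_S4 h g hg hgP hgp

end RuFinal2

end Cfsg.Agent.Lib.Helper29
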