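import Mathlib

/-!
# S3797 piece P-B (helper3's PLAN.md): fibre count for the squaring map on an invariant subgroup
`Q < S` containing all involutions: squaring is injective modulo the involutions.
-/

namespace Cfsg.Agent.Lib.Helper29

theorem pb_arith (n a φ : ℕ) (hn : 1 ≤ n) (h1 : 2 ^ a = 2 ^ n + (2 ^ n - 1) * φ)
    (h2 : 2 * 2 ^ a ≤ (2 ^ n) ^ 3) (hφ : 0 < φ) : φ = 2 ^ n := by
  obtain ⟨q', hq'⟩ : ∃ q', 2 ^ n = q' + 1 :=
    ⟨2 ^ n - 1, by have := Nat.one_le_two_pow (n := n); omega⟩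
  have hq'1 : 1 ≤ q' := by
    have : 2 ^ 1 ≤ 2 ^ n := Nat.pow_le_pow_right (by norm_num) hn
    omega
  have hna : n ≤ a := by
    by_contra hlt
    push Not at hlt
    have : 2 ^ a < 2 ^ n := Nat.pow_lt_pow_right (by norm_num) hlt
    rw [h1] at this
    omega
  obtain ⟨m, rfl⟩ := Nat.exists_eq_add_of_le hna
  rw [pow_add, hq'] at h1 h2
  simp only [Nat.add_sub_cancel] at h1
  -- h1 : (q'+1) * 2^m = q' + 1 + q' * φ
  have hdvd : (q' + 1) ∣ q' * φ := by
    have : (q' + 1) ∣ (q' + 1) + q' * φ := ⟨2 ^ m, h1.symm⟩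
    exact (Nat.dvd_add_right (dvd_refl _)).mp this
  have hcop : Nat.Coprime (q' + 1) q' := by simp
  obtain ⟨ψ, rfl⟩ := hcop.dvd_of_dvd_mul_left hdvd
  have hψ : 1 ≤ ψ := by
    rcases Nat.eq_zero_or_pos ψ with h | h
    · simp [h] at hφ
    · exact h
  -- cancel `q' + 1`
  have h3 : 2 ^ m = 1 + q' * ψ := by
    have : (q' + 1) * 2 ^ m = (q' + 1) * (1 + q' * ψ) := by rw [h1]; ring
    exact Nat.eq_of_mul_eq_mul_left (by omega) this
  have h4 : 2 * 2 ^ m ≤ (q' + 1) ^ 2 := by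
    have : (q' + 1) * (2 * 2 ^ m) ≤ (q' + 1) * (q' + 1) ^ 2 := by
      calc (q' + 1) * (2 * 2 ^ m) = 2 * ((q' + 1) * 2 ^ m) := by ring
        _ ≤ (q' + 1) ^ 3 := h2
        _ = (q' + 1) * (q' + 1) ^ 2 := by ring
    exact Nat.le_of_mul_le_mul_left this (by omega)
  -- `m < 2 n`
  have hm2 : m < 2 * n := by
    rw [← hq', ← pow_mul, ← pow_succ'] at h4
    have := (Nat.pow_le_pow_iff_right (by norm_num : 1 < 2)).mp h4
    omega
  -- `n ≤ m`
  have hnm : n ≤ m := by
    by_contra hlt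
    push Not at hlt
    have h5 : 2 ^ m < 2 ^ n := Nat.pow_lt_pow_right (by norm_num) hlt
    rw [h3, hq'] at h5
    have : q' * 1 ≤ q' * ψ := Nat.mul_le_mul_left _ hψ
    omega
  obtain ⟨r, rfl⟩ := Nat.exists_eq_add_of_le hnm
  have hr : r < n := by omega
  rw [pow_add, hq'] at h3
  have hc : 2 ^ r < q' + 1 := by
    rw [← hq']; exact Nat.pow_lt_pow_right (by norm_num) hr
  have hc1 : 1 ≤ 2 ^ r := Nat.one_le_two_pow
  obtain ⟨c, hcdef⟩ : ∃ c, c = 2 ^ r := ⟨_, rfl⟩
  rw [← hcdef] at h3 hc hc1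
  -- (q'+1) * c = 1 + q' * ψ, 1 ≤ c ≤ q'
  have hψc : ψ = c := by
    rcases lt_trichotomy ψ c with h | h | h
    · exfalso
      have : q' * (ψ + 1) ≤ q' * c := Nat.mul_le_mul_left _ h
      nlinarith
    · exact h
    · exfalso
      have : q' * (c + 1) ≤ q' * ψ := Nat.mul_le_mul_left _ h
      nlinarith
  subst hψc
  have : ψ = 1 := by nlinarith
  rw [this, hq']; ring

open Classical in
theorem sq_inj_mod {S : Type*} [Group S] [Finite S]
    (hcent : ∀ x : S, x ^ 2 = 1 → ∀ y : S, x * y = y * x)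
    (hsq : ∀ x : S, (x ^ 2) ^ 2 = 1)
    (hbound : Nat.card S ≤ (Nat.card {x : S // x ^ 2 = 1}) ^ 3)
    (A : Subgroup (MulAut S))
    (htr : ∀ x y : S, x ≠ 1 → x ^ 2 = 1 → y ≠ 1 → y ^ 2 = 1 → ∃ a ∈ A, a x = y)
    (Q : Subgroup S) (hQA : ∀ a ∈ A, ∀ x ∈ Q, a x ∈ Q) (hWQ : ∀ x : S, x ^ 2 = 1 → x ∈ Q)
    (hQ : Q ≠ ⊤) :
    ∀ x ∈ Q, ∀ y ∈ Q, x ^ 2 = y ^ 2 → (x⁻¹ * y) ^ 2 = 1 := by
  have : Fintype S := Fintype.ofFinite S
  -- the subgroup `W`
  let W : Subgroup S :=
    { carrier := {x | x ^ 2 = 1}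
      mul_mem' := by
        intro a b ha hb
        simp only [Set.mem_ofPred_eq] at ha hb ⊢
        have hc : Commute a b := hcent a ha b
        rw [hc.mul_pow, ha, hb, one_mul]
      one_mem' := one_pow 2
      inv_mem' := by
        intro a ha
        simp only [Set.mem_ofPred_eq] at ha ⊢
        rw [inv_pow, ha, inv_one] }
  have hWmem : ∀ x : S, x ∈ W ↔ x ^ 2 = 1 := fun x => Iff.rfl
  have hS2 : IsPGroup 2 S := by
    intro g
    refine ⟨2, ?_⟩
    have := hsq g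
    rw [← pow_mul] at this
    exact this
  obtain ⟨n, hn⟩ := (hS2.to_subgroup W).exists_card_eq
  obtain ⟨a, ha⟩ := (hS2.to_subgroup Q).exists_card_eq
  have hWcard : Nat.card {x : S // x ^ 2 = 1} = 2 ^ n := hn
  rw [hWcard] at hbound
  -- `2 |Q| ≤ |S|`
  have hQS : 2 * Nat.card Q ≤ Nat.card S := by
    have h1 := Q.card_mul_index
    have h2 : Q.index ≠ 1 := fun h => hQ (Subgroup.index_eq_one.mp h)
    have h3 : Q.index ≠ 0 := Subgroup.index_ne_zero_of_finite
    have h4 : 2 ≤ Q.index := by omega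
    calc 2 * Nat.card Q = Nat.card Q * 2 := by ring
      _ ≤ Nat.card Q * Q.index := Nat.mul_le_mul_left _ h4
      _ = Nat.card S := h1
  have h2a : 2 * 2 ^ a ≤ (2 ^ n) ^ 3 := by rw [← ha]; exact hQS.trans hbound
  -- finsets
  let Wf : Finset S := Finset.univ.filter (fun x => x ^ 2 = 1)
  let Qf : Finset S := Finset.univ.filter (fun x => x ∈ Q)
  let F : S → Finset S := fun w => Qf.filter (fun x => x ^ 2 = w)
  have hWf : Wf.card = 2 ^ n := by
    rw [← hn, Nat.card_eq_fintype_card, Fintype.card_subtype]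
    rfl
  have hQf : Qf.card = 2 ^ a := by
    rw [← ha, Nat.card_eq_fintype_card, Fintype.card_subtype]
  have hF1 : F 1 = Wf := by
    ext x
    simp only [F, Qf, Wf, Finset.mem_filter, Finset.mem_univ, true_and]
    exact ⟨fun h => h.2, fun h => ⟨hWQ x h, h⟩⟩
  -- fibre sizes
  have hle : ∀ w w' : S, w ≠ 1 → w ^ 2 = 1 → w' ≠ 1 → w' ^ 2 = 1 → (F w).card ≤ (F w').card := by
    intro w w' hw1 hw2 hw'1 hw'2
    obtain ⟨f, hfA, hf⟩ := htr w w' hw1 hw2 hw'1 hw'2
    refine Finset.card_le_card_of_injOn (fun x => f x) ?_ (fun x _ y _ h => f.injective h)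
    intro x hx
    simp only [F, Qf, Finset.coe_filter, Finset.mem_filter, Finset.mem_univ, true_and,
      Set.mem_ofPred_eq] at hx ⊢
    refine ⟨hQA f hfA x hx.1, ?_⟩
    rw [← map_pow, hx.2, hf]
  have heq : ∀ w w' : S, w ≠ 1 → w ^ 2 = 1 → w' ≠ 1 → w' ^ 2 = 1 → (F w).card = (F w').card :=
    fun w w' h1 h2 h3 h4 => le_antisymm (hle w w' h1 h2 h3 h4) (hle w' w h3 h4 h1 h2)
  intro x hxQ y hyQ hxy
  by_cases hw1 : x ^ 2 = 1
  · have hy1 : y ^ 2 = 1 := hxy ▸ hw1
    exact (hWmem _).mp (W.mul_mem (W.inv_mem ((hWmem x).mpr hw1)) ((hWmem y).mpr hy1))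
  · obtain ⟨w, hw⟩ : ∃ w, w = x ^ 2 := ⟨_, rfl⟩
    have hw2 : w ^ 2 = 1 := hw ▸ hsq x
    have hwne : w ≠ 1 := hw ▸ hw1
    -- counting
    have hcount : Qf.card = Wf.card + (Wf.card - 1) * (F w).card := by
      have h1 : Qf.card = ∑ b ∈ Wf, (F b).card := by
        refine Finset.card_eq_sum_card_fiberwise ?_
        intro z _
        simp only [Wf, Finset.coe_filter, Finset.mem_univ, true_and, Set.mem_ofPred_eq]
        exact hsq z
      have h1W : (1 : S) ∈ Wf := by simp [Wf]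
      rw [h1, ← Finset.add_sum_erase Wf _ h1W, hF1]
      congr 1
      rw [Finset.sum_const_nat (m := (F w).card), Finset.card_erase_of_mem h1W]
      intro z hz
      rw [Finset.mem_erase] at hz
      have hz2 : z ^ 2 = 1 := by simpa [Wf] using hz.2
      exact heq z w hz.1 hz2 hwne hw2
    rw [hWf, hQf] at hcount
    -- `x • W ⊆ F w`
    have hsub : Wf.image (fun u => x * u) ⊆ F w := by
      intro z hz
      rw [Finset.mem_image] at hz
      obtain ⟨u, hu, rfl⟩ := hz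
      have hu2 : u ^ 2 = 1 := by simpa [Wf] using hu
      simp only [F, Qf, Finset.mem_filter, Finset.mem_univ, true_and]
      refine ⟨Q.mul_mem hxQ (hWQ u hu2), ?_⟩
      have hc : Commute x u := (hcent u hu2 x).symm
      rw [hc.mul_pow, hu2, mul_one, hw]
    have himg : (Wf.image (fun u => x * u)).card = 2 ^ n := by
      rw [Finset.card_image_of_injective _ (mul_right_injective x), hWf]
    have hφpos : 0 < (F w).card := by
      have := Finset.card_le_card hsub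
      rw [himg] at this
      exact lt_of_lt_of_le (by positivity) this
    have hn1 : 1 ≤ n := by
      rcases Nat.eq_zero_or_pos n with h0 | h0
      · exfalso
        rw [h0, pow_zero] at hWf
        have h1W : (1 : S) ∈ Wf := by simp [Wf]
        have hwW : w ∈ Wf := by simp [Wf, hw2]
        exact hwne (Finset.card_le_one.mp hWf.le w hwW 1 h1W)
      · exact h0
    have hφ := pb_arith n a (F w).card hn1 hcount h2a hφpos
    have hFeq : Wf.image (fun u => x * u) = F w :=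
      Finset.eq_of_subset_of_card_le hsub (by rw [himg, hφ])
    have hyF : y ∈ F w := by
      simp only [F, Qf, Finset.mem_filter, Finset.mem_univ, true_and]
      exact ⟨hyQ, by rw [hw, hxy]⟩
    rw [← hFeq, Finset.mem_image] at hyF
    obtain ⟨u, hu, hxu⟩ := hyF
    have hu2 : u ^ 2 = 1 := by simpa [Wf] using hu
    rw [← hxu, inv_mul_cancel_left]
    exact hu2

end Cfsg.Agent.Lib.Helper29
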