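import Mathlib

/-!
# S3797 piece P-C (helper3's PLAN.md): an element of odd order normalising an abelian 2-group `Q`
and centralising its involutions centralises `Q`.
-/

namespace Cfsg.Agent.Lib.Helper29

theorem cent_of_cent_invol {X : Type*} [Group X] [Finite X] (Q : Subgroup X) (hQ2 : IsPGroup 2 Q)
    (hQab : ∀ x ∈ Q, ∀ y ∈ Q, x * y = y * x) (k : X) (hk : Odd (orderOf k))
    (hkQ : ∀ x ∈ Q, k * x * k⁻¹ ∈ Q) (hkW : ∀ x ∈ Q, x ^ 2 = 1 → k * x = x * k) :
    ∀ x ∈ Q, k * x = x * k := by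
  have key : ∀ n : ℕ, ∀ x ∈ Q, x ^ (2 ^ n) = 1 → k * x = x * k := by
    intro n
    induction n with
    | zero =>
      intro x _ hx
      simp only [pow_zero, pow_one] at hx
      simp [hx]
    | succ n ih =>
      intro x hxQ hx
      have hx2 : k * x ^ 2 = x ^ 2 * k :=
        ih (x ^ 2) (Q.pow_mem hxQ 2) (by rw [← pow_mul, ← pow_succ']; exact hx)
      have hyQ : k * x * k⁻¹ ∈ Q := hkQ x hxQ
      obtain ⟨y, hy⟩ : ∃ y, y = k * x * k⁻¹ := ⟨_, rfl⟩
      rw [← hy] at hyQ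
      have hwQ : y * x⁻¹ ∈ Q := Q.mul_mem hyQ (Q.inv_mem hxQ)
      have hy2 : y ^ 2 = x ^ 2 := by
        rw [hy, conj_pow, hx2, mul_assoc, mul_inv_cancel, mul_one]
      have hcomm : Commute y x⁻¹ := hQab y hyQ x⁻¹ (Q.inv_mem hxQ)
      have hw2 : (y * x⁻¹) ^ 2 = 1 := by
        rw [hcomm.mul_pow, hy2, inv_pow, mul_inv_cancel]
      have hkw : k * (y * x⁻¹) = (y * x⁻¹) * k := hkW _ hwQ hw2
      -- `k * y * k⁻¹ = x`
      have hyx : y = (y * x⁻¹) * x := by group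
      have hky : k * y * k⁻¹ = x := by
        have h1 : k * y * k⁻¹ = (y * x⁻¹) * (k * x * k⁻¹) := by
          calc k * y * k⁻¹ = k * ((y * x⁻¹) * x) * k⁻¹ := by rw [← hyx]
            _ = (k * (y * x⁻¹)) * x * k⁻¹ := by group
            _ = ((y * x⁻¹) * k) * x * k⁻¹ := by rw [hkw]
            _ = (y * x⁻¹) * (k * x * k⁻¹) := by group
        rw [h1, ← hy]
        -- `(y x⁻¹) y = y (y x⁻¹) = y² x⁻¹ = x² x⁻¹ = x`
        have h2 : y * x⁻¹ * y = y ^ 2 * x⁻¹ := by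
          rw [mul_assoc, ← hcomm.eq, ← mul_assoc, pow_two]
        rw [h2, hy2, pow_two, mul_assoc, mul_inv_cancel, mul_one]
      have hk2 : Commute (k ^ 2) x := by
        have : k ^ 2 * x * (k ^ 2)⁻¹ = x := by
          calc k ^ 2 * x * (k ^ 2)⁻¹ = k * (k * x * k⁻¹) * k⁻¹ := by
                rw [pow_two, mul_inv_rev]; simp only [mul_assoc]
            _ = k * y * k⁻¹ := by rw [hy]
            _ = x := hky
        calc k ^ 2 * x = (k ^ 2 * x * (k ^ 2)⁻¹) * k ^ 2 := by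
              rw [mul_assoc (k ^ 2 * x), inv_mul_cancel, mul_one]
          _ = x * k ^ 2 := by rw [this]
      obtain ⟨m, hm⟩ := hk
      have hkk : k = (k ^ 2) ^ (m + 1) := by
        rw [← pow_mul, show 2 * (m + 1) = (2 * m + 1) + 1 by ring, ← hm, pow_succ, pow_orderOf_eq_one,
          one_mul]
      have := (hk2.pow_left (m + 1)).eq
      rw [← hkk] at this
      exact this
  intro x hxQ
  obtain ⟨n, hn⟩ := hQ2 ⟨x, hxQ⟩
  exact key n x hxQ (by simpa using congrArg Subtype.val hn)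

end Cfsg.Agent.Lib.Helper29
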