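import Mathlib

set_option autoImplicit false

namespace Cfsg.Agent.Lib.Helper29.S3805Arith

open Finset

variable {ι : Type*} [Fintype ι] [DecidableEq ι]

omit [Fintype ι] [DecidableEq ι] in
/-- a nonnegative integer family summing to zero vanishes -/
theorem sum_sq_zero {s : Finset ι} (w : ι → ℤ) (h : ∑ i ∈ s, w i * w i = 0) :
    ∀ i ∈ s, w i = 0 := by
  intro i hi
  have h1 := (Finset.sum_eq_zero_iff_of_nonneg (fun j _ => mul_self_nonneg (w j))).mp h i hi
  exact mul_self_eq_zero.mp h1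

omit [DecidableEq ι] in
/-- an entry of an integer vector of squared norm `3` is `-1`, `0` or `1` -/
theorem entry_small (y : ι → ℤ) (h : ∑ i, y i * y i = 3) (i : ι) :
    y i = -1 ∨ y i = 0 ∨ y i = 1 := by
  have h1 : y i * y i ≤ 3 := by
    rw [← h]
    exact Finset.single_le_sum (f := fun j => y j * y j) (fun j _ => mul_self_nonneg (y j))
      (Finset.mem_univ i)
  have h2 : -1 ≤ y i := by nlinarith
  have h3 : y i ≤ 1 := by nlinarith
  omega

/-- the arithmetic core: the three columns at `x₁`, `x₂`, `x₃ = x₁ x₂` of the character table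
force `|G| < 324` -/
theorem arith (i0 : ι) (α₁ α₂ α₃ D : ι → ℤ) (g : ℤ)
    (h10 : α₁ i0 = 1) (h20 : α₂ i0 = 1) (h30 : α₃ i0 = 1) (hD0 : D i0 = 1)
    (hD1 : ∀ i, 1 ≤ D i)
    (m1 : ∀ i, (3 : ℤ) ∣ D i - α₁ i) (m2 : ∀ i, (3 : ℤ) ∣ D i - α₂ i)
    (m3 : ∀ i, (3 : ℤ) ∣ D i - α₃ i)
    (O11 : ∑ i, α₁ i * α₁ i = 18) (O22 : ∑ i, α₂ i * α₂ i = 18) (O33 : ∑ i, α₃ i * α₃ i = 9)
    (O12 : ∑ i, α₁ i * α₂ i = 0) (O13 : ∑ i, α₁ i * α₃ i = 0) (O23 : ∑ i, α₂ i * α₃ i = 0)
    (OD1 : ∑ i, D i * α₁ i = 0) (OD2 : ∑ i, D i * α₂ i = 0) (OD3 : ∑ i, D i * α₃ i = 0)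
    (ODD : ∑ i, D i * D i = g)
    (C113 : ∑ i, (α₁ i : ℚ) * α₁ i * α₃ i / D i = 0)
    (C112 : ∑ i, (α₁ i : ℚ) * α₁ i * α₂ i / D i = 0)
    (C123 : (g : ℚ) * ∑ i, (α₁ i : ℚ) * α₂ i * α₃ i / D i = 324)
    (C331 : (g : ℚ) * ∑ i, (α₃ i : ℚ) * α₃ i * α₁ i / D i = 162) :
    g < 324 := by
  -- the difference vectors
  have d1 : ∀ i, (3 : ℤ) ∣ α₁ i - α₃ i := by
    intro i
    have := dvd_sub (m3 i) (m1 i)
    have e : D i - α₃ i - (D i - α₁ i) = α₁ i - α₃ i := by ring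
    rwa [e] at this
  have d2 : ∀ i, (3 : ℤ) ∣ α₂ i - α₃ i := by
    intro i
    have := dvd_sub (m3 i) (m2 i)
    have e : D i - α₃ i - (D i - α₂ i) = α₂ i - α₃ i := by ring
    rwa [e] at this
  choose y₁ hy₁ using d1
  choose y₂ hy₂ using d2
  have N1 : ∑ i, y₁ i * y₁ i = 3 := by
    have h : ∑ i, (3 * y₁ i) * (3 * y₁ i) = 27 := by
      have : ∀ i, (3 * y₁ i) * (3 * y₁ i)
          = α₁ i * α₁ i - 2 * (α₁ i * α₃ i) + α₃ i * α₃ i := by
        intro i; rw [← hy₁ i]; ring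
      simp only [this, Finset.sum_add_distrib, Finset.sum_sub_distrib, ← Finset.mul_sum, O11,
        O13, O33]
      norm_num
    have h2 : ∑ i, (3 * y₁ i) * (3 * y₁ i) = 9 * ∑ i, y₁ i * y₁ i := by
      rw [Finset.mul_sum]; apply Finset.sum_congr rfl; intro i _; ring
    omega
  have N2 : ∑ i, y₂ i * y₂ i = 3 := by
    have h : ∑ i, (3 * y₂ i) * (3 * y₂ i) = 27 := by
      have : ∀ i, (3 * y₂ i) * (3 * y₂ i)
          = α₂ i * α₂ i - 2 * (α₂ i * α₃ i) + α₃ i * α₃ i := by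
        intro i; rw [← hy₂ i]; ring
      simp only [this, Finset.sum_add_distrib, Finset.sum_sub_distrib, ← Finset.mul_sum, O22,
        O23, O33]
      norm_num
    have h2 : ∑ i, (3 * y₂ i) * (3 * y₂ i) = 9 * ∑ i, y₂ i * y₂ i := by
      rw [Finset.mul_sum]; apply Finset.sum_congr rfl; intro i _; ring
    omega
  have N12 : ∑ i, y₁ i * y₂ i = 1 := by
    have h : ∑ i, (3 * y₁ i) * (3 * y₂ i) = 9 := by
      have : ∀ i, (3 * y₁ i) * (3 * y₂ i)
          = α₁ i * α₂ i - α₁ i * α₃ i - α₂ i * α₃ i + α₃ i * α₃ i := by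
        intro i; rw [← hy₁ i, ← hy₂ i]; ring
      simp only [this, Finset.sum_add_distrib, Finset.sum_sub_distrib, O12, O13, O23, O33]
      norm_num
    have h2 : ∑ i, (3 * y₁ i) * (3 * y₂ i) = 9 * ∑ i, y₁ i * y₂ i := by
      rw [Finset.mul_sum]; apply Finset.sum_congr rfl; intro i _; ring
    omega
  have ND1 : ∑ i, D i * y₁ i = 0 := by
    have h : ∑ i, D i * (3 * y₁ i) = 0 := by
      have : ∀ i, D i * (3 * y₁ i) = D i * α₁ i - D i * α₃ i := by
        intro i; rw [← hy₁ i]; ring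
      simp only [this, Finset.sum_sub_distrib, OD1, OD3]
      norm_num
    have h2 : ∑ i, D i * (3 * y₁ i) = 3 * ∑ i, D i * y₁ i := by
      rw [Finset.mul_sum]; apply Finset.sum_congr rfl; intro i _; ring
    omega
  have ND2 : ∑ i, D i * y₂ i = 0 := by
    have h : ∑ i, D i * (3 * y₂ i) = 0 := by
      have : ∀ i, D i * (3 * y₂ i) = D i * α₂ i - D i * α₃ i := by
        intro i; rw [← hy₂ i]; ring
      simp only [this, Finset.sum_sub_distrib, OD2, OD3]
      norm_num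
    have h2 : ∑ i, D i * (3 * y₂ i) = 3 * ∑ i, D i * y₂ i := by
      rw [Finset.mul_sum]; apply Finset.sum_congr rfl; intro i _; ring
    omega
  -- the difference `w = y₁ - y₂`
  have Nw : ∑ i, (y₁ i - y₂ i) * (y₁ i - y₂ i) = 4 := by
    have : ∀ i, (y₁ i - y₂ i) * (y₁ i - y₂ i)
        = y₁ i * y₁ i - 2 * (y₁ i * y₂ i) + y₂ i * y₂ i := by intro i; ring
    simp only [this, Finset.sum_add_distrib, Finset.sum_sub_distrib, ← Finset.mul_sum, N1, N2, N12]
    norm_num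
  have NDw : ∑ i, D i * (y₁ i - y₂ i) = 0 := by
    have : ∀ i, D i * (y₁ i - y₂ i) = D i * y₁ i - D i * y₂ i := by intro i; ring
    simp only [this, Finset.sum_sub_distrib, ND1, ND2]
    norm_num
  -- no product equals `-1`
  have hprod : ∀ i, y₁ i * y₂ i = 0 ∨ y₁ i * y₂ i = 1 := by
    intro j
    have e1 := entry_small y₁ N1 j
    have e2 := entry_small y₂ N2 j
    by_contra hcon
    push Not at hcon
    have hw4 : (y₁ j - y₂ j) * (y₁ j - y₂ j) = 4 := by
      rcases e1 with h | h | h <;> rcases e2 with h' | h' | h' <;> rw [h, h'] at hcon ⊢ <;>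
        simp at hcon ⊢
    have hrest : ∑ i ∈ Finset.univ.erase j, (y₁ i - y₂ i) * (y₁ i - y₂ i) = 0 := by
      have := Finset.add_sum_erase Finset.univ (fun i => (y₁ i - y₂ i) * (y₁ i - y₂ i))
        (Finset.mem_univ j)
      rw [Nw, hw4] at this
      linarith
    have hz := sum_sq_zero (fun i => y₁ i - y₂ i) hrest
    have hDw : ∑ i, D i * (y₁ i - y₂ i) = D j * (y₁ j - y₂ j) := by
      apply Finset.sum_eq_single j
      · intro i _ hij
        rw [hz i (Finset.mem_erase.mpr ⟨hij, Finset.mem_univ i⟩), mul_zero]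
      · intro h; exact absurd (Finset.mem_univ j) h
    rw [NDw] at hDw
    have hDj := hD1 j
    rcases mul_eq_zero.mp hDw.symm with h | h
    · omega
    · rw [h] at hw4; norm_num at hw4
  -- exactly one product equals `1`
  have hex : ∃ j, y₁ j * y₂ j = 1 := by
    by_contra hcon
    push Not at hcon
    have : ∑ i, y₁ i * y₂ i = 0 := by
      apply Finset.sum_eq_zero
      intro i _
      rcases hprod i with h | h
      · exact h
      · exact absurd h (hcon i)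
    rw [N12] at this; norm_num at this
  obtain ⟨j, hj⟩ := hex
  have hother : ∀ i, i ≠ j → y₁ i * y₂ i = 0 := by
    have hrest : ∑ i ∈ Finset.univ.erase j, y₁ i * y₂ i = 0 := by
      have := Finset.add_sum_erase Finset.univ (fun i => y₁ i * y₂ i) (Finset.mem_univ j)
      rw [N12, hj] at this
      linarith
    intro i hij
    exact (Finset.sum_eq_zero_iff_of_nonneg (fun k _ => by
      rcases hprod k with h | h <;> rw [h] <;> norm_num)).mp hrest i
      (Finset.mem_erase.mpr ⟨hij, Finset.mem_univ i⟩)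
  -- the key identity
  have hDQ : ∀ i, (D i : ℚ) ≠ 0 := by
    intro i
    have := hD1 i
    have : (0 : ℚ) < D i := by exact_mod_cast (by omega : 0 < D i)
    exact this.ne'
  have key : ∑ i, (α₁ i : ℚ) * (α₁ i - α₃ i) * (α₃ i - α₂ i) / D i
      = -9 * (α₁ j : ℚ) / D j := by
    rw [Finset.sum_eq_single j]
    · have h1 : ((α₁ j - α₃ j : ℤ) : ℚ) = ((3 * y₁ j : ℤ) : ℚ) := by rw [hy₁ j]
      have h2 : ((α₂ j - α₃ j : ℤ) : ℚ) = ((3 * y₂ j : ℤ) : ℚ) := by rw [hy₂ j]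
      have h3 : ((y₁ j * y₂ j : ℤ) : ℚ) = 1 := by rw [hj]; norm_num
      push_cast at h1 h2 h3
      have e : (α₃ j : ℚ) - α₂ j = -(3 * y₂ j) := by rw [← h2]; ring
      rw [h1, e]
      have : (α₁ j : ℚ) * (3 * y₁ j) * -(3 * y₂ j) = -9 * α₁ j * ((y₁ j : ℚ) * y₂ j) := by ring
      rw [this, h3, mul_one]
    · intro i _ hij
      have h1 : ((α₁ i - α₃ i : ℤ) : ℚ) = ((3 * y₁ i : ℤ) : ℚ) := by rw [hy₁ i]
      have h2 : ((α₂ i - α₃ i : ℤ) : ℚ) = ((3 * y₂ i : ℤ) : ℚ) := by rw [hy₂ i]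
      have h3 : ((y₁ i * y₂ i : ℤ) : ℚ) = 0 := by rw [hother i hij]; norm_num
      push_cast at h1 h2 h3
      have e : (α₃ i : ℚ) - α₂ i = -(3 * y₂ i) := by rw [← h2]; ring
      rw [h1, e]
      have : (α₁ i : ℚ) * (3 * y₁ i) * -(3 * y₂ i) = -9 * α₁ i * ((y₁ i : ℚ) * y₂ i) := by ring
      rw [this, h3, mul_zero, zero_div]
    · intro h; exact absurd (Finset.mem_univ j) h
  have expand : ∑ i, (α₁ i : ℚ) * (α₁ i - α₃ i) * (α₃ i - α₂ i) / D i
      = ∑ i, (α₁ i : ℚ) * α₁ i * α₃ i / D i - ∑ i, (α₁ i : ℚ) * α₁ i * α₂ i / D i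
        - ∑ i, (α₃ i : ℚ) * α₃ i * α₁ i / D i + ∑ i, (α₁ i : ℚ) * α₂ i * α₃ i / D i := by
    rw [← Finset.sum_sub_distrib, ← Finset.sum_sub_distrib, ← Finset.sum_add_distrib]
    apply Finset.sum_congr rfl
    intro i _
    field_simp
    ring
  have hg1 : (1 : ℤ) ≤ g := by
    rw [← ODD]
    calc (1 : ℤ) = D i0 * D i0 := by rw [hD0]; norm_num
      _ ≤ ∑ i, D i * D i :=
        Finset.single_le_sum (f := fun i => D i * D i) (fun i _ => mul_self_nonneg (D i))
          (Finset.mem_univ i0)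
  have hgQ : (g : ℚ) ≠ 0 := by
    have : (0 : ℚ) < g := by exact_mod_cast (by omega : 0 < g)
    exact this.ne'
  have main : -(α₁ j) * g = 18 * D j := by
    have h1 : (g : ℚ) * (-9 * (α₁ j : ℚ) / D j) = 162 := by
      rw [← key, expand, C113, C112]
      have : (g : ℚ) * (0 - 0 - ∑ i, (α₃ i : ℚ) * α₃ i * α₁ i / D i
          + ∑ i, (α₁ i : ℚ) * α₂ i * α₃ i / D i)
          = -((g : ℚ) * ∑ i, (α₃ i : ℚ) * α₃ i * α₁ i / D i)
            + (g : ℚ) * ∑ i, (α₁ i : ℚ) * α₂ i * α₃ i / D i := by ring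
      rw [this, C123, C331]; norm_num
    have h2 : (((-(α₁ j) * g : ℤ)) : ℚ) = ((18 * D j : ℤ) : ℚ) := by
      push_cast
      have hd := hDQ j
      field_simp at h1
      linarith
    exact_mod_cast h2
  -- `j` is not the trivial index
  have hj0 : j ≠ i0 := by
    intro h
    rw [h, h10, hD0] at main
    omega
  -- bound
  have hDj := hD1 j
  have hsq : D j * D j + 1 ≤ g := by
    rw [← ODD]
    have h2 : ∑ i ∈ ({j, i0} : Finset ι), D i * D i ≤ ∑ i, D i * D i :=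
      Finset.sum_le_sum_of_subset_of_nonneg (Finset.subset_univ _)
        (fun i _ _ => mul_self_nonneg (D i))
    rw [Finset.sum_pair hj0, hD0] at h2
    linarith
  have ha : α₁ j ≤ -1 := by
    by_contra hcon
    push Not at hcon
    have : 0 ≤ α₁ j * g := mul_nonneg (by omega) (by omega)
    nlinarith
  have hge : g ≤ 18 * D j := by
    rw [← main]
    nlinarith
  nlinarith

end Cfsg.Agent.Lib.Helper29.S3805Arith
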