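import Mathlib

set_option autoImplicit false

namespace Cfsg.Agent.Lib.Helper29.S3805Base

variable {G : Type*} [Group G]

/-- the index set of the elementary abelian group of order nine -/
abbrev V := ZMod 3 × ZMod 3

/-- the parametrisation of `⟨x₁⟩ × ⟨x₂⟩` -/
def e (x₁ x₂ : G) (u : V) : G := x₁ ^ u.1.val * x₂ ^ u.2.val

theorem pow_val_add {x : G} (hx : x ^ 3 = 1) (i j : ZMod 3) :
    x ^ (i + j).val = x ^ i.val * x ^ j.val := by
  rw [ZMod.val_add, ← pow_add, ← pow_eq_pow_mod _ hx]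

theorem pow_val_neg {x : G} (hx : x ^ 3 = 1) (i : ZMod 3) :
    x ^ (-i).val = (x ^ i.val)⁻¹ := by
  apply eq_inv_of_mul_eq_one_left
  rw [← pow_val_add hx, neg_add_cancel, ZMod.val_zero, pow_zero]

theorem pow_val_mul {x : G} (hx : x ^ 3 = 1) (i j : ZMod 3) :
    x ^ (i * j).val = (x ^ i.val) ^ j.val := by
  rw [ZMod.val_mul, ← pow_mul, ← pow_eq_pow_mod _ hx]

theorem pow_val_eq_one {x : G} (hx : x ^ 3 = 1) (hx1 : x ≠ 1) {i : ZMod 3}
    (h : x ^ i.val = 1) : i = 0 := by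
  have ho : orderOf x = 3 := orderOf_eq_prime hx hx1
  have hd' : orderOf x ∣ i.val := orderOf_dvd_of_pow_eq_one h
  have hd : 3 ∣ i.val := by
    generalize i.val = k at hd' ⊢
    rw [ho] at hd'; exact hd'
  have hlt : i.val < 3 := ZMod.val_lt i
  have h0 : i.val = 0 := by omega
  exact (ZMod.val_eq_zero i).mp h0

/-- the basic configuration: an elementary abelian group `S` of order nine with two elements
`x₁`, `x₂` and an element `r` inverting `x₁` and centralising `x₂` -/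
structure Base (S : Subgroup G) (x₁ x₂ r : G) : Prop where
  comm : ∀ u ∈ S, ∀ v ∈ S, u * v = v * u
  exp : ∀ a ∈ S, a ^ 3 = 1
  card : Nat.card S = 9
  hx₁ : x₁ ∈ S
  hx₂ : x₂ ∈ S
  x₁_ne : x₁ ≠ 1
  x₂_ne : x₂ ≠ 1
  rx₁ : r * x₁ * r⁻¹ = x₁⁻¹
  rx₂ : r * x₂ * r⁻¹ = x₂

variable {S : Subgroup G} {x₁ x₂ r : G}

theorem Base.c1 (h : Base S x₁ x₂ r) : x₁ ^ 3 = 1 := h.exp _ h.hx₁
theorem Base.c2 (h : Base S x₁ x₂ r) : x₂ ^ 3 = 1 := h.exp _ h.hx₂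

theorem Base.e_mem (h : Base S x₁ x₂ r) (u : V) : e x₁ x₂ u ∈ S :=
  S.mul_mem (S.pow_mem h.hx₁ _) (S.pow_mem h.hx₂ _)

theorem Base.e_zero (_h : Base S x₁ x₂ r) : e x₁ x₂ 0 = 1 := by
  simp [e]

theorem Base.e_add (h : Base S x₁ x₂ r) (u v : V) :
    e x₁ x₂ (u + v) = e x₁ x₂ u * e x₁ x₂ v := by
  unfold e
  rw [Prod.fst_add, Prod.snd_add, pow_val_add h.c1, pow_val_add h.c2]
  have hc : x₂ ^ u.2.val * x₁ ^ v.1.val = x₁ ^ v.1.val * x₂ ^ u.2.val :=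
    h.comm _ (S.pow_mem h.hx₂ _) _ (S.pow_mem h.hx₁ _)
  calc x₁ ^ u.1.val * x₁ ^ v.1.val * (x₂ ^ u.2.val * x₂ ^ v.2.val)
      = x₁ ^ u.1.val * (x₁ ^ v.1.val * x₂ ^ u.2.val) * x₂ ^ v.2.val := by group
    _ = x₁ ^ u.1.val * (x₂ ^ u.2.val * x₁ ^ v.1.val) * x₂ ^ v.2.val := by rw [hc]
    _ = x₁ ^ u.1.val * x₂ ^ u.2.val * (x₁ ^ v.1.val * x₂ ^ v.2.val) := by group

theorem Base.e_neg (h : Base S x₁ x₂ r) (u : V) : e x₁ x₂ (-u) = (e x₁ x₂ u)⁻¹ := by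
  apply eq_inv_of_mul_eq_one_left
  rw [← h.e_add, neg_add_cancel, h.e_zero]

theorem Base.e_sub (h : Base S x₁ x₂ r) (u v : V) :
    e x₁ x₂ (u - v) = e x₁ x₂ u * (e x₁ x₂ v)⁻¹ := by
  rw [sub_eq_add_neg, h.e_add, h.e_neg]

/-- conjugation by an element acting on the generators by signs -/
theorem Base.conj_e (h : Base S x₁ x₂ r) {n : G} {σ₁ σ₂ : ZMod 3}
    (h1 : n * x₁ * n⁻¹ = x₁ ^ σ₁.val) (h2 : n * x₂ * n⁻¹ = x₂ ^ σ₂.val) (u : V) :
    n * e x₁ x₂ u * n⁻¹ = e x₁ x₂ (σ₁ * u.1, σ₂ * u.2) := by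
  unfold e
  show n * (x₁ ^ u.1.val * x₂ ^ u.2.val) * n⁻¹ = x₁ ^ (σ₁ * u.1).val * x₂ ^ (σ₂ * u.2).val
  rw [pow_val_mul h.c1, pow_val_mul h.c2, ← h1, ← h2, conj_pow, conj_pow]
  group

theorem Base.conj_r (h : Base S x₁ x₂ r) (u : V) :
    r * e x₁ x₂ u * r⁻¹ = e x₁ x₂ (-u.1, u.2) := by
  have h1 : r * x₁ * r⁻¹ = x₁ ^ (-1 : ZMod 3).val := by
    rw [h.rx₁, pow_val_neg h.c1]
    simp [ZMod.val_one]
  have h2 : r * x₂ * r⁻¹ = x₂ ^ (1 : ZMod 3).val := by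
    rw [h.rx₂]; simp [ZMod.val_one]
  rw [h.conj_e h1 h2]
  simp

theorem Base.e_eq_one (h : Base S x₁ x₂ r) {u : V} (hu : e x₁ x₂ u = 1) : u = 0 := by
  have h1 : e x₁ x₂ (-u.1, u.2) = 1 := by
    rw [← h.conj_r, hu]; group
  have h2 : e x₁ x₂ (u - (-u.1, u.2)) = 1 := by
    rw [h.e_sub, hu, h1]; group
  have h3 : x₁ ^ (u.1 + u.1).val = 1 := by
    have : u - (-u.1, u.2) = (u.1 + u.1, 0) := by
      ext <;> simp
    rw [this] at h2
    simpa [e] using h2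
  have h4 : u.1 + u.1 = 0 := pow_val_eq_one h.c1 h.x₁_ne h3
  have h5 : u.1 = 0 := by
    have : ∀ a : ZMod 3, a + a = 0 → a = 0 := by decide
    exact this _ h4
  have h6 : x₂ ^ u.2.val = 1 := by
    have h7 := hu
    unfold e at h7
    rw [h5] at h7
    simpa using h7
  have h8 : u.2 = 0 := pow_val_eq_one h.c2 h.x₂_ne h6
  ext
  · exact h5
  · exact h8

theorem Base.e_inj (h : Base S x₁ x₂ r) : Function.Injective (e x₁ x₂) := by
  intro u v huv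
  have : e x₁ x₂ (u - v) = 1 := by
    rw [h.e_sub, huv]; group
  exact sub_eq_zero.mp (h.e_eq_one this)

theorem Base.e_surj (h : Base S x₁ x₂ r) {s : G} (hs : s ∈ S) : ∃ u : V, e x₁ x₂ u = s := by
  have hfin : Finite S := Nat.finite_of_card_ne_zero (by rw [h.card]; norm_num)
  let f : V → S := fun u => ⟨e x₁ x₂ u, h.e_mem u⟩
  have hf : Function.Injective f := by
    intro u v huv
    exact h.e_inj (congrArg Subtype.val huv)
  have hcard : Nat.card V = Nat.card S := by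
    rw [h.card, Nat.card_prod, Nat.card_zmod]
  have hb : Function.Bijective f :=
    (Nat.bijective_iff_injective_and_card f).mpr ⟨hf, hcard⟩
  obtain ⟨u, hu⟩ := hb.2 ⟨s, hs⟩
  exact ⟨u, congrArg Subtype.val hu⟩

end Cfsg.Agent.Lib.Helper29.S3805Base
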