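import Mathlib
import Cfsg.Agent.Lib.Helper19.Syl9A

set_option autoImplicit false

namespace Cfsg.Agent.Lib.Helper29.S3805Tri

open Cfsg.Agent.Lib.Helper19.Syl9A

/-- solving `φ t - t = t₁` in a finite abelian group without `3`-torsion, `φ` of order three -/
theorem add_solve {A : Type*} [AddCommGroup A] [Finite A] (φ : A →+ A)
    (hno3 : ∀ t : A, 3 • t = 0 → t = 0) (t1 : A)
    (hN : t1 + φ t1 + φ (φ t1) = 0) : ∃ t, φ t - t = t1 := by
  have hinj : Function.Injective (fun u : A => 3 • u) := by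
    intro u v huv
    have h1 : 3 • (u - v) = 0 := by
      rw [smul_sub]; exact sub_eq_zero.mpr huv
    exact sub_eq_zero.mp (hno3 _ h1)
  obtain ⟨u, hu⟩ := (Finite.injective_iff_surjective.mp hinj) t1
  have hu' : 3 • u = t1 := hu
  have hn : u + φ u + φ (φ u) = 0 := by
    apply hno3
    rw [smul_add, smul_add, ← map_nsmul, ← map_nsmul, ← map_nsmul, hu']
    exact hN
  have hφφ : φ (φ u) = -u - φ u := by
    have : φ (φ u) = 0 - (u + φ u) := by rw [← hn]; abel
    rw [this]; abel
  refine ⟨-(φ u + 2 • u), ?_⟩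
  rw [map_neg, map_add, map_nsmul, hφφ, ← hu']
  abel

/-- multiplicative version -/
theorem mul_solve {A : Type*} [CommGroup A] [Finite A] (φ : A →* A)
    (hno3 : ∀ t : A, t ^ 3 = 1 → t = 1) (t1 : A)
    (hN : t1 * φ t1 * φ (φ t1) = 1) : ∃ t, φ t / t = t1 := by
  obtain ⟨t, ht⟩ := add_solve (A := Additive A) (MonoidHom.toAdditive φ)
    (fun t ht => hno3 (Additive.toMul t) ht)
    (Additive.ofMul t1) hN
  exact ⟨Additive.toMul t, ht⟩


variable {G : Type*} [Group G]

theorem prod_t {a b : G} (ha : a ^ 3 = 1) (hb : b ^ 3 = 1) :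
    t1 a b * (a * t1 a b * a⁻¹) * (a * (a * t1 a b * a⁻¹) * a⁻¹) = 1 := by
  unfold t1
  have h : b * b * b = 1 := mul_mul_of_cube hb
  have h' : a * a * a = 1 := mul_mul_of_cube ha
  calc a⁻¹ * b * (a * (a⁻¹ * b) * a⁻¹) * (a * (a * (a⁻¹ * b) * a⁻¹) * a⁻¹)
      = a⁻¹ * (b * b * b) * a * (a * a * a)⁻¹ := by group
    _ = 1 := by rw [h, h']; group

/-- the `(3,3,3)` triangle lemma when `3`-subgroups are abelian and elements of order dividing
three in the centraliser of an element of order three commute -/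
theorem tri_main' [Finite G] {a b : G} (ha : a ^ 3 = 1) (hb : b ^ 3 = 1) (hab : (a * b) ^ 3 = 1)
    (hcent : ∀ s : G, orderOf s = 3 → ∀ u v : G, u * s = s * u → v * s = s * v →
      u ^ 3 = 1 → v ^ 3 = 1 → u * v = v * u)
    (hS : ∀ H : Subgroup G, IsPGroup 3 H → ∀ u ∈ H, ∀ v ∈ H, u * v = v * u) :
    a * b = b * a ∨ IsConj a⁻¹ (a * b) := by
  classical
  have hTc := T_comm ha hb hab
  by_cases h3 : ∃ s ∈ T a b, orderOf s = 3
  · left
    obtain ⟨s, hsT, hs3⟩ := h3
    -- the subgroup of elements of `T a b` of order dividing three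
    let Y : Subgroup G :=
      { carrier := {u | u ∈ T a b ∧ u ^ 3 = 1}
        one_mem' := ⟨Subgroup.one_mem _, one_pow 3⟩
        mul_mem' := by
          rintro u v ⟨hu, hu3⟩ ⟨hv, hv3⟩
          refine ⟨Subgroup.mul_mem _ hu hv, ?_⟩
          have hc : Commute u v := hTc u hu v hv
          rw [hc.mul_pow, hu3, hv3, one_mul]
        inv_mem' := by
          rintro u ⟨hu, hu3⟩
          exact ⟨Subgroup.inv_mem _ hu, by rw [inv_pow, hu3, inv_one]⟩ }
    have hYp : IsPGroup 3 Y := by
      rintro ⟨u, hu⟩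
      refine ⟨1, ?_⟩
      apply Subtype.ext
      show u ^ 3 ^ 1 = 1
      rw [pow_one]; exact hu.2
    have hap : IsPGroup 3 (Subgroup.zpowers a) := by
      refine IsPGroup.of_card (n := (Nat.factorization (orderOf a)) 3) ?_
      rw [Nat.card_zpowers]
      have hdvd : orderOf a ∣ 3 ^ 1 := by rw [pow_one]; exact orderOf_dvd_of_pow_eq_one ha
      obtain ⟨k, _, hk⟩ := (Nat.dvd_prime_pow Nat.prime_three).mp hdvd
      rw [hk, Nat.Prime.factorization_pow Nat.prime_three]
      simp
    have hconj3 : ∀ (c u : G), u ^ 3 = 1 → (c * u * c⁻¹) ^ 3 = 1 := by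
      intro c u hu
      rw [conj_pow, hu]; group
    have hnorm : Subgroup.zpowers a ≤ Subgroup.normalizer (Y : Set G) := by
      rw [Subgroup.zpowers_le]
      rw [Subgroup.mem_normalizer_iff]
      intro h
      constructor
      · rintro ⟨hh, hh3⟩
        exact ⟨T_conj ha h hh, hconj3 a h hh3⟩
      · rintro ⟨hh, hh3⟩
        have h1 := T_conj_inv ha _ hh
        have h2 : a⁻¹ * (a * h * a⁻¹) * a = h := by group
        rw [h2] at h1
        refine ⟨h1, ?_⟩
        have h4 := hconj3 a⁻¹ _ hh3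
        rw [inv_inv, h2] at h4
        exact h4
    have hH := IsPGroup.to_sup_of_normal_right' hap hYp hnorm
    have haH : a ∈ Subgroup.zpowers a ⊔ Y :=
      (le_sup_left : Subgroup.zpowers a ≤ _) (Subgroup.mem_zpowers a)
    have hs3' : s ^ 3 = 1 := by rw [← hs3]; exact pow_orderOf_eq_one s
    have hsH : s ∈ Subgroup.zpowers a ⊔ Y :=
      (le_sup_right : Y ≤ _) ⟨hsT, hs3'⟩
    have has : a * s = s * a := hS _ hH a haH s hsH
    have hts : t1 a b * s = s * t1 a b := hTc _ (t1_mem a b) s hsT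
    have hbs : b * s = s * b := by
      have e : b = a * t1 a b := by unfold t1; group
      rw [e]
      calc a * t1 a b * s = a * (t1 a b * s) := by group
        _ = a * (s * t1 a b) := by rw [hts]
        _ = (a * s) * t1 a b := by group
        _ = s * a * t1 a b := by rw [has]
        _ = s * (a * t1 a b) := by group
    exact hcent s hs3 a b has hbs ha hb
  · right
    push Not at h3
    let _ : CommGroup ↥(T a b) :=
      { (inferInstance : Group ↥(T a b)) with
        mul_comm := fun u v => Subtype.ext (hTc u u.2 v v.2) }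
    let φ : ↥(T a b) →* ↥(T a b) :=
      { toFun := fun t => ⟨a * (t : G) * a⁻¹, T_conj ha _ t.2⟩
        map_one' := by apply Subtype.ext; simp
        map_mul' := by
          intro u v
          apply Subtype.ext
          show a * ((u : G) * (v : G)) * a⁻¹ = (a * (u : G) * a⁻¹) * (a * (v : G) * a⁻¹)
          group }
    have hno3 : ∀ t : ↥(T a b), t ^ 3 = 1 → t = 1 := by
      intro t ht
      by_contra hne
      have h1 : (t : G) ^ 3 = 1 := by
        have := congrArg Subtype.val ht
        simpa using this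
      have h2 : (t : G) ≠ 1 := fun h => hne (Subtype.ext h)
      exact h3 _ t.2 (orderOf_eq_prime h1 h2)
    obtain ⟨t, ht⟩ := mul_solve φ hno3 ⟨t1 a b, t1_mem a b⟩ (by
      apply Subtype.ext
      exact prod_t ha hb)
    have ht' : a * (t : G) * a⁻¹ * (t : G)⁻¹ = t1 a b := by
      have h7 : ((φ t / t : ↥(T a b)) : G) = t1 a b := congrArg Subtype.val ht
      rw [div_eq_mul_inv] at h7
      exact h7
    rw [isConj_iff]
    refine ⟨(t : G), ?_⟩
    have h6 : a * b = a⁻¹ * t1 a b := by
      unfold t1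
      rw [← mul_assoc, inv_mul_inv_of_cube ha]
    rw [h6, ← ht']
    group

end Cfsg.Agent.Lib.Helper29.S3805Tri
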