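import Mathlib
import Cfsg.Agent.Lib.Helper29.S3805Base
import Cfsg.Agent.Lib.Helper29.S3805Tri
import Cfsg.Agent.Lib.Helper19.SylTools

set_option autoImplicit false

namespace Cfsg.Agent.Lib.Helper29.S3805Cfg

open Cfsg.Agent.Lib.Helper29.S3805Base

variable {G : Type*} [Group G]

/-- the full configuration: `N_G(S) = S ⋊ ⟨r₁, r₂⟩` with `r₁`, `r₂` reflections -/
structure Cfg (S : Subgroup G) (x₁ x₂ r₁ r₂ : G) : Prop where
  base : Base S x₁ x₂ r₁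
  r₂x₁ : r₂ * x₁ * r₂⁻¹ = x₁
  r₂x₂ : r₂ * x₂ * r₂⁻¹ = x₂⁻¹
  hr₁ : r₁ ∈ Subgroup.normalizer (S : Set G)
  hr₂ : r₂ ∈ Subgroup.normalizer (S : Set G)
  comm_mod : ∀ n ∈ Subgroup.normalizer (S : Set G), ∀ m ∈ Subgroup.normalizer (S : Set G),
    n * m * n⁻¹ * m⁻¹ ∈ S
  cardN : Nat.card (Subgroup.normalizer (S : Set G)) = 36
  cube_mem : ∀ n ∈ Subgroup.normalizer (S : Set G), n ^ 3 = 1 → n ∈ S
  centS : ∀ g : G, (∀ s ∈ S, g * s = s * g) → g ∈ S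
  loc : ∀ t ∈ S, t ≠ 1 → ∀ g : G, g * t = t * g → g ∈ Subgroup.normalizer (S : Set G)

variable {S : Subgroup G} {x₁ x₂ r₁ r₂ : G}

theorem conj_mem_of_normalizer {n s : G} (hn : n ∈ Subgroup.normalizer (S : Set G))
    (hs : s ∈ S) : n * s * n⁻¹ ∈ S :=
  (Subgroup.mem_normalizer_iff.mp hn s).mp hs

theorem Cfg.conj_r₁ (h : Cfg S x₁ x₂ r₁ r₂) (u : V) :
    r₁ * e x₁ x₂ u * r₁⁻¹ = e x₁ x₂ (-u.1, u.2) := h.base.conj_r u

theorem Cfg.conj_r₂ (h : Cfg S x₁ x₂ r₁ r₂) (u : V) :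
    r₂ * e x₁ x₂ u * r₂⁻¹ = e x₁ x₂ (u.1, -u.2) := by
  have h1 : r₂ * x₁ * r₂⁻¹ = x₁ ^ (1 : ZMod 3).val := by
    rw [h.r₂x₁]; simp [ZMod.val_one]
  have h2 : r₂ * x₂ * r₂⁻¹ = x₂ ^ (-1 : ZMod 3).val := by
    rw [h.r₂x₂, pow_val_neg h.base.c2]
    simp [ZMod.val_one]
  rw [h.base.conj_e h1 h2]
  simp

/-- conjugations by elements of the normaliser commute on `S` -/
theorem Cfg.conj_comm (h : Cfg S x₁ x₂ r₁ r₂) {n m t : G}
    (hn : n ∈ Subgroup.normalizer (S : Set G)) (hm : m ∈ Subgroup.normalizer (S : Set G))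
    (ht : t ∈ S) : n * (m * t * m⁻¹) * n⁻¹ = m * (n * t * n⁻¹) * m⁻¹ := by
  have hc := h.comm_mod n hn m hm
  have hy : m * (n * t * n⁻¹) * m⁻¹ ∈ S :=
    conj_mem_of_normalizer hm (conj_mem_of_normalizer hn ht)
  have h1 := h.base.comm _ hc _ hy
  calc n * (m * t * m⁻¹) * n⁻¹
      = (n * m * n⁻¹ * m⁻¹) * (m * (n * t * n⁻¹) * m⁻¹) * (n * m * n⁻¹ * m⁻¹)⁻¹ := by group
    _ = (m * (n * t * n⁻¹) * m⁻¹) * (n * m * n⁻¹ * m⁻¹) * (n * m * n⁻¹ * m⁻¹)⁻¹ := by rw [h1]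
    _ = m * (n * t * n⁻¹) * m⁻¹ := by group

theorem e10 (x₁ x₂ : G) : e x₁ x₂ (1, 0) = x₁ := by
  simp [e, ZMod.val_one]

theorem e01 (x₁ x₂ : G) : e x₁ x₂ (0, 1) = x₂ := by
  simp [e, ZMod.val_one]

theorem e11 (x₁ x₂ : G) : e x₁ x₂ (1, 1) = x₁ * x₂ := by
  simp [e, ZMod.val_one]

/-- the action of an element of the normaliser on `S` -/
theorem Cfg.act (h : Cfg S x₁ x₂ r₁ r₂) {n : G} (hn : n ∈ Subgroup.normalizer (S : Set G)) :
    ∃ σ₁ σ₂ : ZMod 3, (σ₁ = 1 ∨ σ₁ = -1) ∧ (σ₂ = 1 ∨ σ₂ = -1) ∧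
      ∀ u : V, n * e x₁ x₂ u * n⁻¹ = e x₁ x₂ (σ₁ * u.1, σ₂ * u.2) := by
  have hb := h.base
  have hnz : ∀ a : ZMod 3, a ≠ 0 → a = 1 ∨ a = -1 := by decide
  have hneg : ∀ a : ZMod 3, -a = a → a = 0 := by decide
  -- the image of `x₁`
  obtain ⟨y, hy⟩ := hb.e_surj (conj_mem_of_normalizer hn hb.hx₁)
  have hy2 : r₂ * e x₁ x₂ y * r₂⁻¹ = e x₁ x₂ y := by
    rw [hy, h.conj_comm h.hr₂ hn hb.hx₁, h.r₂x₁]
  rw [h.conj_r₂] at hy2
  have hy3 : y.2 = 0 := by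
    have := hb.e_inj hy2
    exact hneg _ (congrArg Prod.snd this)
  have hy4 : y.1 ≠ 0 := by
    intro h0
    have : y = 0 := by ext <;> simp [h0, hy3]
    rw [this, hb.e_zero] at hy
    apply hb.x₁_ne
    have e1 : x₁ = n⁻¹ * (n * x₁ * n⁻¹) * n := by group
    rw [e1, ← hy]; group
  -- the image of `x₂`
  obtain ⟨z, hz⟩ := hb.e_surj (conj_mem_of_normalizer hn hb.hx₂)
  have hz2 : r₁ * e x₁ x₂ z * r₁⁻¹ = e x₁ x₂ z := by
    rw [hz, h.conj_comm h.hr₁ hn hb.hx₂, hb.rx₂]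
  rw [h.conj_r₁] at hz2
  have hz3 : z.1 = 0 := by
    have := hb.e_inj hz2
    exact hneg _ (congrArg Prod.fst this)
  have hz4 : z.2 ≠ 0 := by
    intro h0
    have : z = 0 := by ext <;> simp [h0, hz3]
    rw [this, hb.e_zero] at hz
    apply hb.x₂_ne
    have e1 : x₂ = n⁻¹ * (n * x₂ * n⁻¹) * n := by group
    rw [e1, ← hz]; group
  refine ⟨y.1, z.2, hnz _ hy4, hnz _ hz4, ?_⟩
  apply hb.conj_e
  · rw [← hy]
    have : y = (y.1, 0) := by ext <;> simp [hy3]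
    rw [this]; simp [e]
  · rw [← hz]
    have : z = (0, z.2) := by ext <;> simp [hz3]
    rw [this]; simp [e]


theorem conj_ne_one {g s : G} (h1 : s ≠ 1) : g * s * g⁻¹ ≠ 1 := by
  intro h2
  apply h1
  have : s = g⁻¹ * (g * s * g⁻¹) * g := by group
  rw [this, h2]; group

theorem conj_cube {g s : G} (h1 : s ^ 3 = 1) : (g * s * g⁻¹) ^ 3 = 1 := by
  rw [conj_pow, h1]; group

theorem Cfg.finS (h : Cfg S x₁ x₂ r₁ r₂) : Finite S :=
  Nat.finite_of_card_ne_zero (by rw [h.base.card]; norm_num)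

/-- control of fusion in `S` -/
theorem Cfg.fusion (h : Cfg S x₁ x₂ r₁ r₂) {s g : G} (hs : s ∈ S) (hs1 : s ≠ 1)
    (hg : g * s * g⁻¹ ∈ S) : g ∈ Subgroup.normalizer (S : Set G) := by
  have hb := h.base
  have key : ∀ t, t ∈ (S : Set G) → g⁻¹ * t * g⁻¹⁻¹ ∈ (S : Set G) := by
    intro t ht
    have h1 : (g⁻¹ * t * g) * s = s * (g⁻¹ * t * g) := by
      have h2 := hb.comm t ht _ hg
      calc (g⁻¹ * t * g) * s = g⁻¹ * (t * (g * s * g⁻¹)) * g := by group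
        _ = g⁻¹ * ((g * s * g⁻¹) * t) * g := by rw [h2]
        _ = s * (g⁻¹ * t * g) := by group
    have h3 := h.loc s hs hs1 _ h1
    have h4 : (g⁻¹ * t * g) ^ 3 = 1 := by
      have := conj_cube (g := g⁻¹) (hb.exp t ht)
      rwa [inv_inv] at this
    rw [inv_inv]
    exact h.cube_mem _ h3 h4
  have : Finite (S : Set G) := h.finS
  have h5 := Subgroup.mem_normalizer_fintype key
  have h6 := Subgroup.inv_mem _ h5
  rwa [inv_inv] at h6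

/-- the conjugacy pattern on the index set -/
def sgn (u v : V) : Prop := (v.1 = u.1 ∨ v.1 = -u.1) ∧ (v.2 = u.2 ∨ v.2 = -u.2)

instance (u v : V) : Decidable (sgn u v) := by unfold sgn; infer_instance

theorem Cfg.e_ne_one (h : Cfg S x₁ x₂ r₁ r₂) {u : V} (hu : u ≠ 0) : e x₁ x₂ u ≠ 1 :=
  fun h1 => hu (h.base.e_eq_one h1)

theorem Cfg.sgn_of_isConj (h : Cfg S x₁ x₂ r₁ r₂) {u v : V} (hu : u ≠ 0)
    (hc : IsConj (e x₁ x₂ u) (e x₁ x₂ v)) : sgn u v := by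
  obtain ⟨g, hg⟩ := isConj_iff.mp hc
  have hgN := h.fusion (h.base.e_mem u) (h.e_ne_one hu) (by rw [hg]; exact h.base.e_mem v)
  obtain ⟨σ₁, σ₂, h1, h2, hact⟩ := h.act hgN
  rw [hact u] at hg
  have := h.base.e_inj hg
  have e1 : v.1 = σ₁ * u.1 := (congrArg Prod.fst this).symm
  have e2 : v.2 = σ₂ * u.2 := (congrArg Prod.snd this).symm
  constructor
  · rcases h1 with rfl | rfl
    · left; rw [e1, one_mul]
    · right; rw [e1]; ring
  · rcases h2 with rfl | rfl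
    · left; rw [e2, one_mul]
    · right; rw [e2]; ring

theorem Cfg.isConj_of_sgn (h : Cfg S x₁ x₂ r₁ r₂) {u v : V} (hs : sgn u v) :
    IsConj (e x₁ x₂ u) (e x₁ x₂ v) := by
  obtain ⟨h1, h2⟩ := hs
  rw [isConj_iff]
  rcases h1 with h1 | h1 <;> rcases h2 with h2 | h2
  · refine ⟨1, ?_⟩
    have : v = u := by ext <;> assumption
    rw [this]; group
  · refine ⟨r₂, ?_⟩
    rw [h.conj_r₂]
    congr 1
    ext
    · exact h1.symm
    · exact h2.symm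
  · refine ⟨r₁, ?_⟩
    rw [h.conj_r₁]
    congr 1
    ext
    · exact h1.symm
    · exact h2.symm
  · refine ⟨r₁ * r₂, ?_⟩
    have : r₁ * r₂ * e x₁ x₂ u * (r₁ * r₂)⁻¹ = r₁ * (r₂ * e x₁ x₂ u * r₂⁻¹) * r₁⁻¹ := by group
    rw [this, h.conj_r₂, h.conj_r₁]
    congr 1
    ext
    · exact h1.symm
    · exact h2.symm

theorem Cfg.real (h : Cfg S x₁ x₂ r₁ r₂) (u : V) :
    IsConj (e x₁ x₂ u) (e x₁ x₂ u)⁻¹ := by
  rw [← h.base.e_neg]
  exact h.isConj_of_sgn ⟨Or.inr rfl, Or.inr rfl⟩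

theorem Cfg.orderOf_e (h : Cfg S x₁ x₂ r₁ r₂) {u : V} (hu : u ≠ 0) :
    orderOf (e x₁ x₂ u) = 3 :=
  orderOf_eq_prime (h.base.exp _ (h.base.e_mem u)) (h.e_ne_one hu)

theorem Cfg.S_le_centralizer (h : Cfg S x₁ x₂ r₁ r₂) {s : G} (hs : s ∈ S) :
    S ≤ Subgroup.centralizer ({s} : Set G) := by
  intro t ht
  rw [Subgroup.mem_centralizer_singleton_iff]
  exact h.base.comm t ht s hs

theorem Cfg.centralizer_le (h : Cfg S x₁ x₂ r₁ r₂) {s : G} (hs : s ∈ S) (hs1 : s ≠ 1) :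
    Subgroup.centralizer ({s} : Set G) ≤ Subgroup.normalizer (S : Set G) := by
  intro g hg
  rw [Subgroup.mem_centralizer_singleton_iff] at hg
  exact h.loc s hs hs1 g hg

theorem Cfg.x₁_inv_ne (h : Cfg S x₁ x₂ r₁ r₂) : x₁⁻¹ ≠ x₁ := by
  intro h1
  apply h.base.x₁_ne
  have h3 := h.base.c1
  have h2 : x₁ * x₁ = 1 := by
    calc x₁ * x₁ = x₁⁻¹ * x₁ := by rw [h1]
      _ = 1 := inv_mul_cancel x₁
  calc x₁ = x₁ ^ 3 * (x₁ * x₁)⁻¹ := by
        simp only [pow_succ, pow_zero, one_mul]; group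
    _ = 1 := by rw [h3, h2]; group

theorem Cfg.x₂_inv_ne (h : Cfg S x₁ x₂ r₁ r₂) : x₂⁻¹ ≠ x₂ := by
  intro h1
  apply h.base.x₂_ne
  have h3 := h.base.c2
  have h2 : x₂ * x₂ = 1 := by
    calc x₂ * x₂ = x₂⁻¹ * x₂ := by rw [h1]
      _ = 1 := inv_mul_cancel x₂
  calc x₂ = x₂ ^ 3 * (x₂ * x₂)⁻¹ := by
        simp only [pow_succ, pow_zero, one_mul]; group
    _ = 1 := by rw [h3, h2]; group

/-- a subgroup strictly between `S` and its normaliser has order eighteen -/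
theorem Cfg.card_between [Finite G] (h : Cfg S x₁ x₂ r₁ r₂) (C : Subgroup G) (h1 : S ≤ C)
    (h2 : C ≤ Subgroup.normalizer (S : Set G)) {a b : G} (ha : a ∈ C) (ha' : a ∉ S)
    (hb : b ∈ Subgroup.normalizer (S : Set G)) (hb' : b ∉ C) : Nat.card C = 18 := by
  have d1 : 9 ∣ Nat.card C := by
    rw [← h.base.card]; exact Subgroup.card_dvd_of_le h1
  have d2 : Nat.card C ∣ 36 := by
    rw [← h.cardN]; exact Subgroup.card_dvd_of_le h2
  have n1 : Nat.card C ≠ 9 := by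
    intro h9
    apply ha'
    have : S = C := Subgroup.eq_of_le_of_card_ge h1 (by rw [h9, h.base.card])
    rw [this]; exact ha
  have n2 : Nat.card C ≠ 36 := by
    intro h36
    apply hb'
    have : C = Subgroup.normalizer (S : Set G) :=
      Subgroup.eq_of_le_of_card_ge h2 (by rw [h36, h.cardN])
    rw [this]; exact hb
  obtain ⟨k, hk⟩ := d1
  rw [hk] at d2 n1 n2 ⊢
  have hk4 : k ∣ 4 := by
    have : 9 * k ∣ 9 * 4 := d2
    exact Nat.dvd_of_mul_dvd_mul_left (by norm_num) this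
  have hle : k ≤ 4 := Nat.le_of_dvd (by norm_num) hk4
  interval_cases k <;> simp_all

theorem Cfg.card_cent_x₁ [Finite G] (h : Cfg S x₁ x₂ r₁ r₂) :
    Nat.card (Subgroup.centralizer ({x₁} : Set G)) = 18 := by
  apply h.card_between _ (h.S_le_centralizer h.base.hx₁)
    (h.centralizer_le h.base.hx₁ h.base.x₁_ne) (a := r₂) (b := r₁) _ _ h.hr₁
  · rw [Subgroup.mem_centralizer_singleton_iff]
    intro h1
    apply h.x₁_inv_ne
    rw [← h.base.rx₁, h1]; group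
  · rw [Subgroup.mem_centralizer_singleton_iff]
    calc r₂ * x₁ = (r₂ * x₁ * r₂⁻¹) * r₂ := by group
      _ = x₁ * r₂ := by rw [h.r₂x₁]
  · intro h1
    apply h.x₂_inv_ne
    rw [← h.r₂x₂, h.base.comm r₂ h1 x₂ h.base.hx₂]; group

theorem Cfg.card_cent_x₂ [Finite G] (h : Cfg S x₁ x₂ r₁ r₂) :
    Nat.card (Subgroup.centralizer ({x₂} : Set G)) = 18 := by
  apply h.card_between _ (h.S_le_centralizer h.base.hx₂)
    (h.centralizer_le h.base.hx₂ h.base.x₂_ne) (a := r₁) (b := r₂) _ _ h.hr₂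
  · rw [Subgroup.mem_centralizer_singleton_iff]
    intro h1
    apply h.x₂_inv_ne
    rw [← h.r₂x₂, h1]; group
  · rw [Subgroup.mem_centralizer_singleton_iff]
    calc r₁ * x₂ = (r₁ * x₂ * r₁⁻¹) * r₁ := by group
      _ = x₂ * r₁ := by rw [h.base.rx₂]
  · intro h1
    apply h.x₁_inv_ne
    rw [← h.base.rx₁, h.base.comm r₁ h1 x₁ h.base.hx₁]; group

theorem Cfg.cent_x₃ (h : Cfg S x₁ x₂ r₁ r₂) :
    Subgroup.centralizer ({x₁ * x₂} : Set G) = S := by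
  have hb := h.base
  have h11 : (1, 1) ≠ (0 : V) := by decide
  have hx3 : x₁ * x₂ ∈ S := S.mul_mem hb.hx₁ hb.hx₂
  apply le_antisymm
  · intro g hg
    have hgN : g ∈ Subgroup.normalizer (S : Set G) := by
      apply h.centralizer_le hx3 _ hg
      rw [← e11]; exact h.e_ne_one h11
    rw [Subgroup.mem_centralizer_singleton_iff] at hg
    obtain ⟨σ₁, σ₂, h1, h2, hact⟩ := h.act hgN
    have h3 : g * e x₁ x₂ (1, 1) * g⁻¹ = e x₁ x₂ (1, 1) := by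
      rw [e11, hg]; group
    rw [hact] at h3
    have h4 := hb.e_inj h3
    have e1 : σ₁ = 1 := by simpa using congrArg Prod.fst h4
    have e2 : σ₂ = 1 := by simpa using congrArg Prod.snd h4
    apply h.centS
    intro s hs
    obtain ⟨u, rfl⟩ := hb.e_surj hs
    have h5 := hact u
    rw [e1, e2, one_mul, one_mul] at h5
    calc g * e x₁ x₂ u = (g * e x₁ x₂ u * g⁻¹) * g := by group
      _ = e x₁ x₂ u * g := by rw [h5]
  · exact h.S_le_centralizer hx3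

theorem Cfg.card_cent_x₃ (h : Cfg S x₁ x₂ r₁ r₂) :
    Nat.card (Subgroup.centralizer ({x₁ * x₂} : Set G)) = 9 := by
  rw [h.cent_x₃, h.base.card]

end Cfsg.Agent.Lib.Helper29.S3805Cfg
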