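import Mathlib
import Cfsg.Agent.Lib.Helper29.S3805Cfg

set_option autoImplicit false

namespace Cfsg.Agent.Lib.Helper29.S3805Syl

open Cfsg.Agent.Lib.Helper29.S3805Base Cfsg.Agent.Lib.Helper29.S3805Cfg
  Cfsg.Agent.Lib.Helper29.S3805Tri Cfsg.Agent.Lib.Helper19.SylTools

variable {G : Type*} [Group G] [Finite G] {P : Sylow 3 G} {x₁ x₂ r₁ r₂ : G}

omit [Finite G] in
theorem pgroup_zpowers {y : G} (hy : y ^ 3 = 1) : IsPGroup 3 (Subgroup.zpowers y) := by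
  refine IsPGroup.of_card (n := (Nat.factorization (orderOf y)) 3) ?_
  rw [Nat.card_zpowers]
  have hdvd : orderOf y ∣ 3 ^ 1 := by rw [pow_one]; exact orderOf_dvd_of_pow_eq_one hy
  obtain ⟨k, _, hk⟩ := (Nat.dvd_prime_pow Nat.prime_three).mp hdvd
  rw [hk, Nat.Prime.factorization_pow Nat.prime_three]
  simp

/-- every `3`-subgroup is conjugate into `P` -/
theorem exists_conj_le (H : Subgroup G) (hH : IsPGroup 3 H) :
    ∃ g : G, ∀ u ∈ H, g * u * g⁻¹ ∈ (P : Subgroup G) := by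
  obtain ⟨Q, hQ⟩ := hH.exists_le_sylow
  obtain ⟨g, hg⟩ := MulAction.exists_smul_eq G Q P
  refine ⟨g, fun u hu => ?_⟩
  have := conj_mem_smul (P := Q) (hQ hu) g
  rw [hg] at this
  exact this

theorem exists_conj_mem {y : G} (hy : y ^ 3 = 1) : ∃ g : G, g * y * g⁻¹ ∈ (P : Subgroup G) := by
  obtain ⟨g, hg⟩ := exists_conj_le (P := P) _ (pgroup_zpowers hy)
  exact ⟨g, hg y (Subgroup.mem_zpowers y)⟩

theorem pgroup_comm (h : Cfg (P : Subgroup G) x₁ x₂ r₁ r₂) (H : Subgroup G) (hH : IsPGroup 3 H) :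
    ∀ u ∈ H, ∀ v ∈ H, u * v = v * u := by
  obtain ⟨g, hg⟩ := exists_conj_le (P := P) H hH
  intro u hu v hv
  have := h.base.comm _ (hg u hu) _ (hg v hv)
  calc u * v = g⁻¹ * (g * u * g⁻¹ * (g * v * g⁻¹)) * g := by group
    _ = g⁻¹ * (g * v * g⁻¹ * (g * u * g⁻¹)) * g := by rw [this]
    _ = v * u := by group

omit [Finite G] in
/-- an element of order dividing three commuting with a nonidentity element of `P` lies in `P` -/
theorem mem_of_comm (h : Cfg (P : Subgroup G) x₁ x₂ r₁ r₂) {s u : G} (hs : s ∈ (P : Subgroup G))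
    (hs1 : s ≠ 1) (hus : u * s = s * u) (hu : u ^ 3 = 1) : u ∈ (P : Subgroup G) :=
  h.cube_mem u (h.loc s hs hs1 u hus) hu

theorem cent_comm (h : Cfg (P : Subgroup G) x₁ x₂ r₁ r₂) (s : G) (hs : orderOf s = 3)
    (u v : G) (hus : u * s = s * u) (hvs : v * s = s * v) (hu : u ^ 3 = 1) (hv : v ^ 3 = 1) :
    u * v = v * u := by
  have hs3 : s ^ 3 = 1 := by rw [← hs]; exact pow_orderOf_eq_one s
  have hs1 : s ≠ 1 := by
    intro h1; rw [h1, orderOf_one] at hs; omega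
  obtain ⟨g, hg⟩ := exists_conj_mem (P := P) hs3
  have hg1 : g * s * g⁻¹ ≠ 1 := conj_ne_one hs1
  have hcu : (g * u * g⁻¹) * (g * s * g⁻¹) = (g * s * g⁻¹) * (g * u * g⁻¹) := by
    calc (g * u * g⁻¹) * (g * s * g⁻¹) = g * (u * s) * g⁻¹ := by group
      _ = g * (s * u) * g⁻¹ := by rw [hus]
      _ = (g * s * g⁻¹) * (g * u * g⁻¹) := by group
  have hcv : (g * v * g⁻¹) * (g * s * g⁻¹) = (g * s * g⁻¹) * (g * v * g⁻¹) := by
    calc (g * v * g⁻¹) * (g * s * g⁻¹) = g * (v * s) * g⁻¹ := by group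
      _ = g * (s * v) * g⁻¹ := by rw [hvs]
      _ = (g * s * g⁻¹) * (g * v * g⁻¹) := by group
  have hu' := mem_of_comm h hg hg1 hcu (conj_cube hu)
  have hv' := mem_of_comm h hg hg1 hcv (conj_cube hv)
  have := h.base.comm _ hu' _ hv'
  calc u * v = g⁻¹ * (g * u * g⁻¹ * (g * v * g⁻¹)) * g := by group
    _ = g⁻¹ * (g * v * g⁻¹ * (g * u * g⁻¹)) * g := by rw [this]
    _ = v * u := by group

/-- the triangle lemma in our situation -/
theorem tri (h : Cfg (P : Subgroup G) x₁ x₂ r₁ r₂) {a b : G} (ha : a ^ 3 = 1) (hb : b ^ 3 = 1)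
    (hab : (a * b) ^ 3 = 1) : a * b = b * a ∨ IsConj a⁻¹ (a * b) :=
  tri_main' ha hb hab (cent_comm h) (pgroup_comm h)

omit [Finite G] in
theorem isConj_inv_inv {a b : G} (h : IsConj a b) : IsConj a⁻¹ b⁻¹ := by
  obtain ⟨c, hc⟩ := isConj_iff.mp h
  exact isConj_iff.mpr ⟨c, by rw [← hc]; group⟩

/-- all solutions of `a b = e w` with `a ~ e u`, `b ~ e v` lie in `P`, unless `e w` is conjugate to
both `e u` and `e v` -/
theorem pairs_mem (h : Cfg (P : Subgroup G) x₁ x₂ r₁ r₂) {u v w : V} (hu : u ≠ 0) (hv : v ≠ 0)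
    (hw : w ≠ 0) (hne : ¬ (sgn u w ∧ sgn v w)) {a b : G} (ha : IsConj (e x₁ x₂ u) a)
    (hb : IsConj (e x₁ x₂ v) b) (hab : a * b = e x₁ x₂ w) :
    a ∈ (P : Subgroup G) ∧ b ∈ (P : Subgroup G) := by
  have hw3 : (e x₁ x₂ w) ^ 3 = 1 := h.base.exp _ (h.base.e_mem w)
  have ha3 : a ^ 3 = 1 := by
    obtain ⟨c, hc⟩ := isConj_iff.mp ha
    rw [← hc]; exact conj_cube (h.base.exp _ (h.base.e_mem u))
  have hb3 : b ^ 3 = 1 := by
    obtain ⟨c, hc⟩ := isConj_iff.mp hb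
    rw [← hc]; exact conj_cube (h.base.exp _ (h.base.e_mem v))
  have hcomm : a * b = b * a := by
    rcases tri h ha3 hb3 (by rw [hab]; exact hw3) with h1 | h1
    · exact h1
    · -- then `e w ~ a⁻¹ ~ e u`
      have hbi3 : b⁻¹ ^ 3 = 1 := by rw [inv_pow, hb3, inv_one]
      have hai3 : a⁻¹ ^ 3 = 1 := by rw [inv_pow, ha3, inv_one]
      have hprod : b⁻¹ * a⁻¹ = (e x₁ x₂ w)⁻¹ := by rw [← hab]; group
      rcases tri h hbi3 hai3 (by rw [hprod, inv_pow, hw3, inv_one]) with h2 | h2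
      · calc a * b = (b⁻¹ * a⁻¹)⁻¹ := by group
          _ = (a⁻¹ * b⁻¹)⁻¹ := by rw [h2]
          _ = b * a := by group
      · exfalso
        apply hne
        constructor
        · apply h.sgn_of_isConj hu
          rw [hab] at h1
          have h3 : IsConj (e x₁ x₂ u) (e x₁ x₂ u)⁻¹ := h.real u
          exact (h3.trans (isConj_inv_inv ha)).trans h1
        · apply h.sgn_of_isConj hv
          rw [inv_inv, hprod] at h2
          have h3 : IsConj (e x₁ x₂ w)⁻¹ (e x₁ x₂ w) := (h.real w).symm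
          exact (hb.trans h2).trans h3
  have hw1 : e x₁ x₂ w ≠ 1 := h.e_ne_one hw
  constructor
  · apply mem_of_comm h (h.base.e_mem w) hw1 _ ha3
    rw [← hab]
    calc a * (a * b) = a * (b * a) := by rw [hcomm]
      _ = a * b * a := by group
  · apply mem_of_comm h (h.base.e_mem w) hw1 _ hb3
    rw [← hab]
    calc b * (a * b) = (b * a) * b := by group
      _ = a * b * b := by rw [← hcomm]

/-- the class multiplication constants are computed inside `P` -/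
theorem count (h : Cfg (P : Subgroup G) x₁ x₂ r₁ r₂) {u v w : V} (hu : u ≠ 0) (hv : v ≠ 0)
    (hw : w ≠ 0) (hne : ¬ (sgn u w ∧ sgn v w)) :
    Nat.card {p : G × G // IsConj (e x₁ x₂ u) p.1 ∧ IsConj (e x₁ x₂ v) p.2 ∧
      p.1 * p.2 = e x₁ x₂ w} =
    Fintype.card {q : V × V // sgn u q.1 ∧ sgn v q.2 ∧ q.1 + q.2 = w} := by
  rw [← Nat.card_eq_fintype_card]
  symm
  let f : {q : V × V // sgn u q.1 ∧ sgn v q.2 ∧ q.1 + q.2 = w} →
      {p : G × G // IsConj (e x₁ x₂ u) p.1 ∧ IsConj (e x₁ x₂ v) p.2 ∧ p.1 * p.2 = e x₁ x₂ w} :=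
    fun q => ⟨(e x₁ x₂ q.1.1, e x₁ x₂ q.1.2), h.isConj_of_sgn q.2.1, h.isConj_of_sgn q.2.2.1, by
      show e x₁ x₂ q.1.1 * e x₁ x₂ q.1.2 = e x₁ x₂ w
      rw [← h.base.e_add, q.2.2.2]⟩
  have hf : Function.Bijective f := by
    constructor
    · rintro ⟨⟨q1, q2⟩, hq⟩ ⟨⟨q1', q2'⟩, hq'⟩ hqq
      have h1 : (e x₁ x₂ q1, e x₁ x₂ q2) = (e x₁ x₂ q1', e x₁ x₂ q2') := congrArg Subtype.val hqq
      have e1 : q1 = q1' := h.base.e_inj (congrArg Prod.fst h1)
      have e2 : q2 = q2' := h.base.e_inj (congrArg Prod.snd h1)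
      subst e1; subst e2; rfl
    · rintro ⟨⟨a, b⟩, ha, hb, hab⟩
      obtain ⟨haP, hbP⟩ := pairs_mem h hu hv hw hne ha hb hab
      obtain ⟨q1, rfl⟩ := h.base.e_surj haP
      obtain ⟨q2, rfl⟩ := h.base.e_surj hbP
      refine ⟨⟨(q1, q2), h.sgn_of_isConj hu ha, h.sgn_of_isConj hv hb, ?_⟩, rfl⟩
      apply h.base.e_inj
      rw [h.base.e_add]; exact hab
  exact Nat.card_eq_of_bijective f hf


theorem count113 (h : Cfg (P : Subgroup G) x₁ x₂ r₁ r₂) :
    Nat.card {p : G × G // IsConj x₁ p.1 ∧ IsConj x₁ p.2 ∧ p.1 * p.2 = x₁ * x₂} = 0 := by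
  have := count h (u := (1, 0)) (v := (1, 0)) (w := (1, 1)) (by decide) (by decide) (by decide)
    (by decide)
  rw [e10, e11] at this
  rw [this]
  decide

theorem count112 (h : Cfg (P : Subgroup G) x₁ x₂ r₁ r₂) :
    Nat.card {p : G × G // IsConj x₁ p.1 ∧ IsConj x₁ p.2 ∧ p.1 * p.2 = x₂} = 0 := by
  have := count h (u := (1, 0)) (v := (1, 0)) (w := (0, 1)) (by decide) (by decide) (by decide)
    (by decide)
  rw [e10, e01] at this
  rw [this]
  decide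

theorem count123 (h : Cfg (P : Subgroup G) x₁ x₂ r₁ r₂) :
    Nat.card {p : G × G // IsConj x₁ p.1 ∧ IsConj x₂ p.2 ∧ p.1 * p.2 = x₁ * x₂} = 1 := by
  have := count h (u := (1, 0)) (v := (0, 1)) (w := (1, 1)) (by decide) (by decide) (by decide)
    (by decide)
  rw [e10, e01, e11] at this
  rw [this]
  decide

theorem count331 (h : Cfg (P : Subgroup G) x₁ x₂ r₁ r₂) :
    Nat.card {p : G × G // IsConj (x₁ * x₂) p.1 ∧ IsConj (x₁ * x₂) p.2 ∧ p.1 * p.2 = x₁} = 2 := by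
  have := count h (u := (1, 1)) (v := (1, 1)) (w := (1, 0)) (by decide) (by decide) (by decide)
    (by decide)
  rw [e10, e11] at this
  rw [this]
  decide


theorem not_conj_12 (h : Cfg (P : Subgroup G) x₁ x₂ r₁ r₂) : ¬ IsConj x₁ x₂ := by
  intro hc
  rw [← e10 x₁ x₂] at hc
  nth_rewrite 2 [← e01 x₁ x₂] at hc
  have := h.sgn_of_isConj (by decide) hc
  revert this; decide

theorem not_conj_13 (h : Cfg (P : Subgroup G) x₁ x₂ r₁ r₂) : ¬ IsConj x₁ (x₁ * x₂) := by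
  intro hc
  rw [← e11 x₁ x₂] at hc
  nth_rewrite 1 [← e10 x₁ x₂] at hc
  have := h.sgn_of_isConj (by decide) hc
  revert this; decide

theorem not_conj_23 (h : Cfg (P : Subgroup G) x₁ x₂ r₁ r₂) : ¬ IsConj x₂ (x₁ * x₂) := by
  intro hc
  rw [← e11 x₁ x₂] at hc
  nth_rewrite 1 [← e01 x₁ x₂] at hc
  have := h.sgn_of_isConj (by decide) hc
  revert this; decide

theorem real_1 (h : Cfg (P : Subgroup G) x₁ x₂ r₁ r₂) : IsConj x₁ x₁⁻¹ := by
  have := h.real (1, 0); rwa [e10] at this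

theorem real_2 (h : Cfg (P : Subgroup G) x₁ x₂ r₁ r₂) : IsConj x₂ x₂⁻¹ := by
  have := h.real (0, 1); rwa [e01] at this

theorem real_3 (h : Cfg (P : Subgroup G) x₁ x₂ r₁ r₂) : IsConj (x₁ * x₂) (x₁ * x₂)⁻¹ := by
  have := h.real (1, 1); rwa [e11] at this

theorem order_1 (h : Cfg (P : Subgroup G) x₁ x₂ r₁ r₂) : orderOf x₁ = 3 := by
  have := h.orderOf_e (u := (1, 0)) (by decide); rwa [e10] at this

theorem order_2 (h : Cfg (P : Subgroup G) x₁ x₂ r₁ r₂) : orderOf x₂ = 3 := by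
  have := h.orderOf_e (u := (0, 1)) (by decide); rwa [e01] at this

theorem order_3 (h : Cfg (P : Subgroup G) x₁ x₂ r₁ r₂) : orderOf (x₁ * x₂) = 3 := by
  have := h.orderOf_e (u := (1, 1)) (by decide); rwa [e11] at this

/-- distinct Sylow `3`-subgroups meet trivially -/
theorem ti (h : Cfg (P : Subgroup G) x₁ x₂ r₁ r₂) (Q₁ Q₂ : Sylow 3 G) (hne : Q₁ ≠ Q₂) :
    (Q₁ : Subgroup G) ⊓ (Q₂ : Subgroup G) = ⊥ := by
  rw [eq_bot_iff]
  intro y hy
  rw [Subgroup.mem_bot]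
  by_contra hy1
  apply hne
  obtain ⟨g₁, hg₁⟩ := MulAction.exists_smul_eq G Q₁ P
  obtain ⟨g₂, hg₂⟩ := MulAction.exists_smul_eq G Q₂ P
  have h1 : g₁ * y * g₁⁻¹ ∈ (P : Subgroup G) := by
    have := conj_mem_smul (P := Q₁) hy.1 g₁
    rw [hg₁] at this; exact this
  have h2 : g₂ * y * g₂⁻¹ ∈ (P : Subgroup G) := by
    have := conj_mem_smul (P := Q₂) hy.2 g₂
    rw [hg₂] at this; exact this
  have h1' : g₁ * y * g₁⁻¹ ≠ 1 := conj_ne_one hy1
  have h3 : (g₂ * g₁⁻¹) * (g₁ * y * g₁⁻¹) * (g₂ * g₁⁻¹)⁻¹ ∈ (P : Subgroup G) := by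
    have : (g₂ * g₁⁻¹) * (g₁ * y * g₁⁻¹) * (g₂ * g₁⁻¹)⁻¹ = g₂ * y * g₂⁻¹ := by group
    rw [this]; exact h2
  have h4 := h.fusion h1 h1' h3
  have h5 : (g₂ * g₁⁻¹) • P = P := Sylow.smul_eq_iff_mem_normalizer.mpr h4
  rw [← hg₁, ← mul_smul] at h5
  have h6 : g₂ * g₁⁻¹ * g₁ = g₂ := by group
  rw [h6] at h5
  have h7 : g₂ • Q₁ = g₂ • Q₂ := by rw [h5, hg₁, hg₂]
  exact MulAction.injective g₂ h7

theorem card_sylow_mod9 (h : Cfg (P : Subgroup G) x₁ x₂ r₁ r₂) :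
    Nat.card (Sylow 3 G) ≡ 1 [MOD 9] := by
  classical
  let _ : Fintype G := Fintype.ofFinite G
  let _ : Fintype (Sylow 3 G) := Fintype.ofFinite _
  let _ : Fintype ↥(P : Subgroup G) := Fintype.ofFinite _
  have hB := MulAction.sum_card_fixedBy_eq_card_orbits_mul_card_group ↥(P : Subgroup G) (Sylow 3 G)
  have hcardP : Fintype.card ↥(P : Subgroup G) = 9 := by
    rw [← Nat.card_eq_fintype_card, h.base.card]
  have hfix1 : Fintype.card (MulAction.fixedBy (Sylow 3 G) (1 : ↥(P : Subgroup G))) =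
      Fintype.card (Sylow 3 G) := by
    apply Fintype.card_congr
    refine ⟨fun q => q.1, fun q => ⟨q, by simp⟩, fun q => rfl, fun q => rfl⟩
  have hfix : ∀ g : ↥(P : Subgroup G), g ≠ 1 →
      Fintype.card (MulAction.fixedBy (Sylow 3 G) g) = 1 := by
    intro g hg
    rw [Fintype.card_eq_one_iff]
    refine ⟨⟨P, ?_⟩, ?_⟩
    · rw [MulAction.mem_fixedBy]
      exact ti_smul_self g.2
    · rintro ⟨Q, hQ⟩
      apply Subtype.ext
      show Q = P
      by_contra hne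
      rw [MulAction.mem_fixedBy] at hQ
      have := ti_semireg (ti h) hne g.2 hQ
      exact hg (Subtype.ext this)
  rw [← Finset.add_sum_erase Finset.univ _ (Finset.mem_univ (1 : ↥(P : Subgroup G))), hfix1,
    Finset.sum_congr rfl (fun g hg => hfix g (Finset.mem_erase.mp hg).1), Finset.sum_const,
    Finset.card_erase_of_mem (Finset.mem_univ _), Finset.card_univ, hcardP] at hB
  rw [Nat.card_eq_fintype_card]
  simp only [smul_eq_mul, mul_one] at hB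
  have : Fintype.card (Sylow 3 G) + 8 =
      Fintype.card (Quotient (MulAction.orbitRel ↥(P : Subgroup G) (Sylow 3 G))) * 9 := hB
  rw [Nat.ModEq]
  omega

end Cfsg.Agent.Lib.Helper29.S3805Syl
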