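import Mathlib
import Cfsg.Agent.Lib.Helper19.Syl9Char
import Cfsg.Agent.Lib.Helper29.S3805Syl
import Cfsg.Agent.Lib.Helper29.S3805Arith

set_option autoImplicit false

namespace Cfsg.Agent.Lib.Helper29.S3805Char

open Cfsg.Agent.Lib.Helper29.S3805Base Cfsg.Agent.Lib.Helper29.S3805Cfg
  Cfsg.Agent.Lib.Helper29.S3805Syl Cfsg.Agent.Lib.Helper19.Syl9Char
  Cfsg.Agent.Lib.Helper25 Cfsg.Agent.Lib.helper2
open scoped ComplexConjugate

variable {G : Type*} [Group G] [Finite G]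

/-- the class multiplication constant in terms of integer columns -/
theorem class_const [Fintype (Cfsg.IrrCharacter G)] (a b c : G)
    (α β γ D : Cfsg.IrrCharacter G → ℤ)
    (hα : ∀ χ : Cfsg.IrrCharacter G, (χ : G → ℂ) a = α χ)
    (hβ : ∀ χ : Cfsg.IrrCharacter G, (χ : G → ℂ) b = β χ)
    (hγ : ∀ χ : Cfsg.IrrCharacter G, (χ : G → ℂ) c = γ χ)
    (hD : ∀ χ : Cfsg.IrrCharacter G, (χ : G → ℂ) 1 = D χ) :
    (Nat.card {p : G × G // IsConj a p.1 ∧ IsConj b p.2 ∧ p.1 * p.2 = c} : ℚ)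
        * (Nat.card (Subgroup.centralizer ({a} : Set G)))
        * (Nat.card (Subgroup.centralizer ({b} : Set G))) =
      (Nat.card G : ℚ) * ∑ χ, (α χ : ℚ) * β χ * γ χ / D χ := by
  have hcla := card_conj_mul_card_centralizer a
  have hclb := card_conj_mul_card_centralizer b
  set ca := Nat.card (Subgroup.centralizer ({a} : Set G)) with hca
  set cb := Nat.card (Subgroup.centralizer ({b} : Set G)) with hcb
  set cla := Nat.card {y : G // IsConj a y} with hcladef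
  set clb := Nat.card {y : G // IsConj b y} with hclbdef
  have hG : (Nat.card G : ℂ) ≠ 0 := by exact_mod_cast (Nat.card_pos (α := G)).ne'
  have hcaC : (ca : ℂ) ≠ 0 := by
    intro h0
    have : ca = 0 := by exact_mod_cast h0
    rw [this, mul_zero] at hcla
    exact (Nat.card_pos (α := G)).ne' hcla.symm
  have hcbC : (cb : ℂ) ≠ 0 := by
    intro h0
    have : cb = 0 := by exact_mod_cast h0
    rw [this, mul_zero] at hclb
    exact (Nat.card_pos (α := G)).ne' hclb.symm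
  have e1 : (cla : ℂ) = (Nat.card G : ℂ) / ca := by
    rw [eq_div_iff hcaC]; exact_mod_cast hcla
  have e2 : (clb : ℂ) = (Nat.card G : ℂ) / cb := by
    rw [eq_div_iff hcbC]; exact_mod_cast hclb
  have h1 := Cfsg.Agent.S0840.result a b c
  rw [finsum_eq_sum_of_fintype, ← hcladef, ← hclbdef, e1, e2] at h1
  simp only [hα, hβ, hγ, hD, map_intCast] at h1
  have h4 : (((Nat.card {p : G × G // IsConj a p.1 ∧ IsConj b p.2 ∧ p.1 * p.2 = c} : ℚ)
      * ca * cb : ℚ) : ℂ)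
      = (((Nat.card G : ℚ) * ∑ χ, (α χ : ℚ) * β χ * γ χ / D χ : ℚ) : ℂ) := by
    push_cast
    rw [h1]
    field_simp
  exact_mod_cast h4


/-- column orthogonality for integer columns -/
theorem orth_eq [Fintype (Cfsg.IrrCharacter G)] (a : G) (α : Cfsg.IrrCharacter G → ℤ)
    (hα : ∀ χ : Cfsg.IrrCharacter G, (χ : G → ℂ) a = α χ) :
    ∑ χ, α χ * α χ = (Nat.card (Subgroup.centralizer ({a} : Set G)) : ℤ) := by
  have h1 := (Cfsg.Agent.S0145.result a a).1 (IsConj.refl _)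
  rw [finsum_eq_sum_of_fintype] at h1
  simp only [hα, map_intCast] at h1
  exact_mod_cast h1

theorem orth_ne [Fintype (Cfsg.IrrCharacter G)] (a b : G) (α β : Cfsg.IrrCharacter G → ℤ)
    (hα : ∀ χ : Cfsg.IrrCharacter G, (χ : G → ℂ) a = α χ)
    (hβ : ∀ χ : Cfsg.IrrCharacter G, (χ : G → ℂ) b = β χ) (hab : ¬ IsConj a b) :
    ∑ χ, α χ * β χ = 0 := by
  have h1 := (Cfsg.Agent.S0145.result a b).2 hab
  rw [finsum_eq_sum_of_fintype] at h1
  simp only [hα, hβ, map_intCast] at h1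
  exact_mod_cast h1

/-- the character-theoretic bound on the order of the group -/
theorem char_bound {P : Sylow 3 G} {x₁ x₂ r₁ r₂ : G} (h : Cfg (P : Subgroup G) x₁ x₂ r₁ r₂) :
    Nat.card G < 324 := by
  classical
  letI : Fintype (Cfsg.IrrCharacter G) := Fintype.ofFinite _
  choose α₁ D hα₁ hD hD1 m1 using fun χ => value_order3 χ (order_1 h) (real_1 h)
  choose α₂ D₂ hα₂ hD₂ _ m2' using fun χ => value_order3 χ (order_2 h) (real_2 h)
  choose α₃ D₃ hα₃ hD₃ _ m3' using fun χ => value_order3 χ (order_3 h) (real_3 h)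
  have hDD₂ : ∀ χ, D₂ χ = D χ := by
    intro χ
    have := (hD₂ χ).symm.trans (hD χ)
    exact_mod_cast this
  have hDD₃ : ∀ χ, D₃ χ = D χ := by
    intro χ
    have := (hD₃ χ).symm.trans (hD χ)
    exact_mod_cast this
  have m2 : ∀ χ, (3 : ℤ) ∣ D χ - α₂ χ := fun χ => hDD₂ χ ▸ m2' χ
  have m3 : ∀ χ, (3 : ℤ) ∣ D χ - α₃ χ := fun χ => hDD₃ χ ▸ m3' χ
  have h10 : α₁ (trivIrr G) = 1 := by
    have := hα₁ (trivIrr G)
    rw [trivIrr_apply] at this
    exact_mod_cast this.symm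
  have h20 : α₂ (trivIrr G) = 1 := by
    have := hα₂ (trivIrr G)
    rw [trivIrr_apply] at this
    exact_mod_cast this.symm
  have h30 : α₃ (trivIrr G) = 1 := by
    have := hα₃ (trivIrr G)
    rw [trivIrr_apply] at this
    exact_mod_cast this.symm
  have hD0 : D (trivIrr G) = 1 := by
    have := hD (trivIrr G)
    rw [trivIrr_apply] at this
    exact_mod_cast this.symm
  have hx₁1 : x₁ ≠ 1 := h.base.x₁_ne
  have hx₂1 : x₂ ≠ 1 := h.base.x₂_ne
  have hx₃1 : x₁ * x₂ ≠ 1 := by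
    rw [← e11]; exact h.e_ne_one (by decide)
  have O11 : ∑ χ, α₁ χ * α₁ χ = 18 := by
    rw [orth_eq x₁ α₁ hα₁, h.card_cent_x₁]; norm_num
  have O22 : ∑ χ, α₂ χ * α₂ χ = 18 := by
    rw [orth_eq x₂ α₂ hα₂, h.card_cent_x₂]; norm_num
  have O33 : ∑ χ, α₃ χ * α₃ χ = 9 := by
    rw [orth_eq (x₁ * x₂) α₃ hα₃, h.card_cent_x₃]; norm_num
  have O12 := orth_ne x₁ x₂ α₁ α₂ hα₁ hα₂ (not_conj_12 h)
  have O13 := orth_ne x₁ (x₁ * x₂) α₁ α₃ hα₁ hα₃ (not_conj_13 h)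
  have O23 := orth_ne x₂ (x₁ * x₂) α₂ α₃ hα₂ hα₃ (not_conj_23 h)
  have OD1 := orth_ne 1 x₁ D α₁ hD hα₁ (fun hc => hx₁1 (isConj_one_right.mp hc))
  have OD2 := orth_ne 1 x₂ D α₂ hD hα₂ (fun hc => hx₂1 (isConj_one_right.mp hc))
  have OD3 := orth_ne 1 (x₁ * x₂) D α₃ hD hα₃ (fun hc => hx₃1 (isConj_one_right.mp hc))
  have ODD : ∑ χ, D χ * D χ = (Nat.card G : ℤ) := by
    rw [orth_eq 1 D hD]
    have : Subgroup.centralizer ({1} : Set G) = ⊤ := by
      rw [eq_top_iff]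
      intro g _
      rw [Subgroup.mem_centralizer_singleton_iff]; simp
    rw [this, Subgroup.card_top]
  have hg : (Nat.card G : ℚ) ≠ 0 := by exact_mod_cast (Nat.card_pos (α := G)).ne'
  have C113 : ∑ χ, (α₁ χ : ℚ) * α₁ χ * α₃ χ / D χ = 0 := by
    have := class_const x₁ x₁ (x₁ * x₂) α₁ α₁ α₃ D hα₁ hα₁ hα₃ hD
    rw [count113 h] at this
    have h2 : (Nat.card G : ℚ) * ∑ χ, (α₁ χ : ℚ) * α₁ χ * α₃ χ / D χ = 0 := by
      rw [← this]; norm_num
    rcases mul_eq_zero.mp h2 with h0 | h0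
    · exact absurd h0 hg
    · exact h0
  have C112 : ∑ χ, (α₁ χ : ℚ) * α₁ χ * α₂ χ / D χ = 0 := by
    have := class_const x₁ x₁ x₂ α₁ α₁ α₂ D hα₁ hα₁ hα₂ hD
    rw [count112 h] at this
    have h2 : (Nat.card G : ℚ) * ∑ χ, (α₁ χ : ℚ) * α₁ χ * α₂ χ / D χ = 0 := by
      rw [← this]; norm_num
    rcases mul_eq_zero.mp h2 with h0 | h0
    · exact absurd h0 hg
    · exact h0
  have C123 : ((Nat.card G : ℤ) : ℚ) * ∑ χ, (α₁ χ : ℚ) * α₂ χ * α₃ χ / D χ = 324 := by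
    have := class_const x₁ x₂ (x₁ * x₂) α₁ α₂ α₃ D hα₁ hα₂ hα₃ hD
    rw [count123 h, h.card_cent_x₁, h.card_cent_x₂] at this
    push_cast
    rw [← this]; norm_num
  have C331 : ((Nat.card G : ℤ) : ℚ) * ∑ χ, (α₃ χ : ℚ) * α₃ χ * α₁ χ / D χ = 162 := by
    have := class_const (x₁ * x₂) (x₁ * x₂) x₁ α₃ α₃ α₁ D hα₃ hα₃ hα₁ hD
    rw [count331 h, h.card_cent_x₃] at this
    push_cast
    rw [← this]; norm_num
  have := Cfsg.Agent.Lib.Helper29.S3805Arith.arith (trivIrr G) α₁ α₂ α₃ D (Nat.card G : ℤ)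
    h10 h20 h30 hD0 hD1 m1 m2 m3 O11 O22 O33 O12 O13 O23 OD1 OD2 OD3 ODD C113 C112 C123 C331
  exact_mod_cast this

end Cfsg.Agent.Lib.Helper29.S3805Char
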