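import Mathlib
import Cfsg.Agent.Lib.Helper29.S3805Cfg

set_option autoImplicit false

namespace Cfsg.Agent.Lib.Helper29.S3805Struct

open Cfsg.Agent.Lib.Helper29.S3805Base Cfsg.Agent.Lib.Helper29.S3805Cfg

variable {G : Type*} [Group G]

/-- the hypotheses on `S` and its normaliser, before choosing generators -/
structure Pre (S : Subgroup G) : Prop where
  comm : ∀ u ∈ S, ∀ v ∈ S, u * v = v * u
  exp : ∀ a ∈ S, a ^ 3 = 1
  card : Nat.card S = 9
  sq_mem : ∀ n ∈ Subgroup.normalizer (S : Set G), n * n ∈ S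
  comm_mod : ∀ n ∈ Subgroup.normalizer (S : Set G), ∀ m ∈ Subgroup.normalizer (S : Set G),
    n * m * n⁻¹ * m⁻¹ ∈ S
  cardN : Nat.card (Subgroup.normalizer (S : Set G)) = 36
  cube_mem : ∀ n ∈ Subgroup.normalizer (S : Set G), n ^ 3 = 1 → n ∈ S
  centS : ∀ g : G, (∀ s ∈ S, g * s = s * g) → g ∈ S
  loc : ∀ t ∈ S, t ≠ 1 → ∀ g : G, g * t = t * g → g ∈ Subgroup.normalizer (S : Set G)

variable {S : Subgroup G}

/-- conjugating twice by an element of the normaliser is trivial on `S` -/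
theorem Pre.conj_conj (h : Pre S) {r t : G} (hr : r ∈ Subgroup.normalizer (S : Set G))
    (ht : t ∈ S) : r * (r * t * r⁻¹) * r⁻¹ = t := by
  have h1 := h.comm _ (h.sq_mem r hr) t ht
  calc r * (r * t * r⁻¹) * r⁻¹ = (r * r) * t * (r * r)⁻¹ := by group
    _ = t * (r * r) * (r * r)⁻¹ := by rw [h1]
    _ = t := by group

/-- an element of the normaliser outside `S` that does not invert `S` is a reflection -/
theorem Pre.exists_base (h : Pre S) {r : G} (hr : r ∈ Subgroup.normalizer (S : Set G))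
    (hrS : r ∉ S) (hninv : ∃ t ∈ S, r * t * r⁻¹ ≠ t⁻¹) : ∃ x₁ x₂ : G, Base S x₁ x₂ r := by
  have hmove : ∃ t ∈ S, r * t * r⁻¹ ≠ t := by
    by_contra hcon
    push Not at hcon
    apply hrS
    apply h.centS
    intro s hs
    calc r * s = (r * s * r⁻¹) * r := by group
      _ = s * r := by rw [hcon s hs]
  obtain ⟨t, ht, htne⟩ := hmove
  obtain ⟨t', ht', htne'⟩ := hninv
  have hct : r * t * r⁻¹ ∈ S := conj_mem_of_normalizer hr ht
  have hct' : r * t' * r⁻¹ ∈ S := conj_mem_of_normalizer hr ht'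
  refine ⟨t * (r * t * r⁻¹)⁻¹, t' * (r * t' * r⁻¹), ?_⟩
  refine
    { comm := h.comm
      exp := h.exp
      card := h.card
      hx₁ := S.mul_mem ht (S.inv_mem hct)
      hx₂ := S.mul_mem ht' hct'
      x₁_ne := ?_
      x₂_ne := ?_
      rx₁ := ?_
      rx₂ := ?_ }
  · intro h1
    apply htne
    exact (mul_inv_eq_one.mp h1).symm
  · intro h1
    apply htne'
    exact (eq_inv_of_mul_eq_one_right h1)
  · have h2 := h.conj_conj hr ht
    calc r * (t * (r * t * r⁻¹)⁻¹) * r⁻¹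
        = (r * t * r⁻¹) * (r * (r * t * r⁻¹) * r⁻¹)⁻¹ := by group
      _ = (r * t * r⁻¹) * t⁻¹ := by rw [h2]
      _ = (t * (r * t * r⁻¹)⁻¹)⁻¹ := by group
  · have h2 := h.conj_conj hr ht'
    calc r * (t' * (r * t' * r⁻¹)) * r⁻¹
        = (r * t' * r⁻¹) * (r * (r * t' * r⁻¹) * r⁻¹) := by group
      _ = (r * t' * r⁻¹) * t' := by rw [h2]
      _ = t' * (r * t' * r⁻¹) := h.comm _ hct' _ ht'

/-- two elements inverting `S` differ by an element of `S` -/
theorem Pre.inv_inv_mem (h : Pre S) {a b : G} (ha : ∀ t ∈ S, a * t * a⁻¹ = t⁻¹)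
    (hb : ∀ t ∈ S, b * t * b⁻¹ = t⁻¹) : a * b⁻¹ ∈ S := by
  apply h.centS
  intro s hs
  have h1 : b⁻¹ * s * b = s⁻¹ := by
    have := hb s⁻¹ (S.inv_mem hs)
    rw [inv_inv] at this
    calc b⁻¹ * s * b = b⁻¹ * (b * s⁻¹ * b⁻¹) * b := by rw [this]
      _ = s⁻¹ := by group
  have h2 := ha s⁻¹ (S.inv_mem hs)
  rw [inv_inv] at h2
  calc a * b⁻¹ * s = a * (b⁻¹ * s * b) * a⁻¹ * (a * b⁻¹) := by group
    _ = a * s⁻¹ * a⁻¹ * (a * b⁻¹) := by rw [h1]
    _ = s * (a * b⁻¹) := by rw [h2]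

/-- conjugations by elements of the normaliser commute on `S` -/
theorem Pre.conj_comm (h : Pre S) {n m t : G}
    (hn : n ∈ Subgroup.normalizer (S : Set G)) (hm : m ∈ Subgroup.normalizer (S : Set G))
    (ht : t ∈ S) : n * (m * t * m⁻¹) * n⁻¹ = m * (n * t * n⁻¹) * m⁻¹ := by
  have hc := h.comm_mod n hn m hm
  have hy : m * (n * t * n⁻¹) * m⁻¹ ∈ S :=
    conj_mem_of_normalizer hm (conj_mem_of_normalizer hn ht)
  have h1 := h.comm _ hc _ hy
  calc n * (m * t * m⁻¹) * n⁻¹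
      = (n * m * n⁻¹ * m⁻¹) * (m * (n * t * n⁻¹) * m⁻¹) * (n * m * n⁻¹ * m⁻¹)⁻¹ := by group
    _ = (m * (n * t * n⁻¹) * m⁻¹) * (n * m * n⁻¹ * m⁻¹) * (n * m * n⁻¹ * m⁻¹)⁻¹ := by rw [h1]
    _ = m * (n * t * n⁻¹) * m⁻¹ := by group

/-- the second reflection -/
theorem Pre.exists_cfg (h : Pre S) {x₁ x₂ r m : G} (hb : Base S x₁ x₂ r)
    (hr : r ∈ Subgroup.normalizer (S : Set G)) (hm : m ∈ Subgroup.normalizer (S : Set G))
    (hmS : m ∉ S) (hmr : m * r⁻¹ ∉ S) : ∃ r₂ : G, Cfg S x₁ x₂ r r₂ := by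
  have hnz : ∀ a : ZMod 3, a ≠ 0 → a = 1 ∨ a = -1 := by decide
  have hneg : ∀ a : ZMod 3, -a = a → a = 0 := by decide
  -- the image of `x₁`
  obtain ⟨y, hy⟩ := hb.e_surj (conj_mem_of_normalizer hm hb.hx₁)
  have hy2 : r * e x₁ x₂ y * r⁻¹ = (e x₁ x₂ y)⁻¹ := by
    rw [hy, h.conj_comm hr hm hb.hx₁, hb.rx₁]; group
  rw [hb.conj_r, ← hb.e_neg] at hy2
  have hy3 : y.2 = 0 := by
    have := hb.e_inj hy2
    have h2 : y.2 = -y.2 := by simpa using congrArg Prod.snd this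
    exact hneg _ h2.symm
  have hy4 : y.1 ≠ 0 := by
    intro h0
    have : y = 0 := by ext <;> simp [h0, hy3]
    rw [this, hb.e_zero] at hy
    apply hb.x₁_ne
    have e1 : x₁ = m⁻¹ * (m * x₁ * m⁻¹) * m := by group
    rw [e1, ← hy]; group
  -- the image of `x₂`
  obtain ⟨z, hz⟩ := hb.e_surj (conj_mem_of_normalizer hm hb.hx₂)
  have hz2 : r * e x₁ x₂ z * r⁻¹ = e x₁ x₂ z := by
    rw [hz, h.conj_comm hr hm hb.hx₂, hb.rx₂]
  rw [hb.conj_r] at hz2
  have hz3 : z.1 = 0 := by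
    have := hb.e_inj hz2
    exact hneg _ (congrArg Prod.fst this)
  have hz4 : z.2 ≠ 0 := by
    intro h0
    have : z = 0 := by ext <;> simp [h0, hz3]
    rw [this, hb.e_zero] at hz
    apply hb.x₂_ne
    have e1 : x₂ = m⁻¹ * (m * x₂ * m⁻¹) * m := by group
    rw [e1, ← hz]; group
  have hm1 : m * x₁ * m⁻¹ = x₁ ^ y.1.val := by
    rw [← hy]
    have : y = (y.1, 0) := by ext <;> simp [hy3]
    rw [this]; simp [e]
  have hm2 : m * x₂ * m⁻¹ = x₂ ^ z.2.val := by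
    rw [← hz]
    have : z = (0, z.2) := by ext <;> simp [hz3]
    rw [this]; simp [e]
  have hact := hb.conj_e hm1 hm2
  have hri : ∀ u : V, r⁻¹ * e x₁ x₂ u * r = e x₁ x₂ (-u.1, u.2) := by
    intro u
    have := hb.conj_r (-u.1, u.2)
    simp only [neg_neg] at this
    rw [← this]; group
  have hcent : ∀ g : G, (∀ u : V, g * e x₁ x₂ u * g⁻¹ = e x₁ x₂ u) → g ∈ S := by
    intro g hg
    apply h.centS
    intro s hs
    obtain ⟨u, rfl⟩ := hb.e_surj hs
    calc g * e x₁ x₂ u = (g * e x₁ x₂ u * g⁻¹) * g := by group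
      _ = e x₁ x₂ u * g := by rw [hg u]
  have hsq1 : x₁ ^ (-1 : ZMod 3).val = x₁⁻¹ := by
    rw [pow_val_neg hb.c1]; simp [ZMod.val_one]
  have hsq2 : x₂ ^ (-1 : ZMod 3).val = x₂⁻¹ := by
    rw [pow_val_neg hb.c2]; simp [ZMod.val_one]
  have mk : ∀ r₂ : G, r₂ ∈ Subgroup.normalizer (S : Set G) → r₂ * x₁ * r₂⁻¹ = x₁ →
      r₂ * x₂ * r₂⁻¹ = x₂⁻¹ → Cfg S x₁ x₂ r r₂ := fun r₂ h1 h2 h3 =>
    { base := hb
      r₂x₁ := h2
      r₂x₂ := h3
      hr₁ := hr
      hr₂ := h1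
      comm_mod := h.comm_mod
      cardN := h.cardN
      cube_mem := h.cube_mem
      centS := h.centS
      loc := h.loc }
  rcases hnz _ hy4 with h1 | h1 <;> rcases hnz _ hz4 with h2 | h2
  · exfalso
    apply hmS
    apply hcent
    intro u
    rw [hact, h1, h2, one_mul, one_mul]
  · refine ⟨m, mk m hm ?_ ?_⟩
    · rw [hm1, h1]; simp [ZMod.val_one]
    · rw [hm2, h2, hsq2]
  · exfalso
    apply hmr
    apply hcent
    intro u
    have : m * r⁻¹ * e x₁ x₂ u * (m * r⁻¹)⁻¹ = m * (r⁻¹ * e x₁ x₂ u * r) * m⁻¹ := by group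
    rw [this, hri, hact, h1, h2]
    simp
  · refine ⟨m * r, mk (m * r) (Subgroup.mul_mem _ hm hr) ?_ ?_⟩
    · have : m * r * x₁ * (m * r)⁻¹ = m * (r * x₁ * r⁻¹) * m⁻¹ := by group
      rw [this, hb.rx₁]
      have : m * x₁⁻¹ * m⁻¹ = (m * x₁ * m⁻¹)⁻¹ := by group
      rw [this, hm1, h1, hsq1, inv_inv]
    · have : m * r * x₂ * (m * r)⁻¹ = m * (r * x₂ * r⁻¹) * m⁻¹ := by group
      rw [this, hb.rx₂, hm2, h2, hsq2]


/-- the final choice of generators -/
theorem Pre.exists_cfg' (h : Pre S) {a b : G} (ha : a ∈ Subgroup.normalizer (S : Set G))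
    (hb : b ∈ Subgroup.normalizer (S : Set G)) (haS : a ∉ S) (hbS : b ∉ S)
    (hab : a * b⁻¹ ∉ S) : ∃ x₁ x₂ r₁ r₂ : G, Cfg S x₁ x₂ r₁ r₂ := by
  have hba : b * a⁻¹ ∉ S := by
    intro h1
    apply hab
    have := S.inv_mem h1
    have e1 : (b * a⁻¹)⁻¹ = a * b⁻¹ := by group
    rwa [e1] at this
  by_cases hia : ∃ t ∈ S, a * t * a⁻¹ ≠ t⁻¹
  · obtain ⟨x₁, x₂, hbase⟩ := h.exists_base ha haS hia
    obtain ⟨r₂, hc⟩ := h.exists_cfg hbase ha hb hbS hba
    exact ⟨x₁, x₂, a, r₂, hc⟩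
  · push Not at hia
    have hib : ∃ t ∈ S, b * t * b⁻¹ ≠ t⁻¹ := by
      by_contra hcon
      push Not at hcon
      exact hab (h.inv_inv_mem hia hcon)
    obtain ⟨x₁, x₂, hbase⟩ := h.exists_base hb hbS hib
    obtain ⟨r₂, hc⟩ := h.exists_cfg hbase hb ha haS hab
    exact ⟨x₁, x₂, b, r₂, hc⟩

/-- extraction of the configuration from the hypotheses of the statement -/
theorem exists_cfg_of_hyp [Finite G] (S : Subgroup G)
    (hcomm : ∀ u ∈ S, ∀ v ∈ S, u * v = v * u) (hexp : ∀ a ∈ S, a ^ 3 = 1)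
    (hcard : Nat.card S = 9)
    (hC : Subgroup.centralizer (S : Set G) = S)
    [hn : (S.subgroupOf (Subgroup.normalizer (S : Set G))).Normal]
    (hK : IsKleinFour (↥(Subgroup.normalizer (S : Set G)) ⧸
      S.subgroupOf (Subgroup.normalizer (S : Set G))))
    (hloc : ∀ t ∈ S, t ≠ 1 →
      Subgroup.centralizer ({t} : Set G) ≤ Subgroup.normalizer (S : Set G)) :
    ∃ x₁ x₂ r₁ r₂ : G, Cfg S x₁ x₂ r₁ r₂ := by
  classical
  set N := Subgroup.normalizer (S : Set G) with hN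
  set Q := ↥N ⧸ S.subgroupOf N with hQ
  have hexp2 : Monoid.exponent Q = 2 := hK.exponent_two
  have hcard4 : Nat.card Q = 4 := hK.card_four
  have hmk : ∀ n : N, (QuotientGroup.mk n : Q) = 1 ↔ (n : G) ∈ S := by
    intro n
    rw [QuotientGroup.eq_one_iff, Subgroup.mem_subgroupOf]
  have hsq : ∀ q : Q, q * q = 1 := by
    intro q
    have := Monoid.pow_exponent_eq_one q
    rw [hexp2, pow_two] at this
    exact this
  have hpre : Pre S :=
    { comm := hcomm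
      exp := hexp
      card := hcard
      sq_mem := by
        intro n hn'
        have h1 := hsq (QuotientGroup.mk (⟨n, hn'⟩ : N))
        rw [← QuotientGroup.mk_mul, hmk] at h1
        exact h1
      comm_mod := by
        intro n hn' m hm'
        have h1 := mul_comm_of_exponent_two hexp2 (QuotientGroup.mk (⟨n, hn'⟩ : N) : Q)
          (QuotientGroup.mk (⟨m, hm'⟩ : N))
        have h2 : (QuotientGroup.mk ((⟨n, hn'⟩ : N) * ⟨m, hm'⟩ * (⟨n, hn'⟩ : N)⁻¹ *
            (⟨m, hm'⟩ : N)⁻¹) : Q) = 1 := by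
          rw [QuotientGroup.mk_mul, QuotientGroup.mk_mul, QuotientGroup.mk_mul,
            QuotientGroup.mk_inv, QuotientGroup.mk_inv, h1]
          group
        rw [hmk] at h2
        exact h2
      cardN := by
        have h1 := Subgroup.card_eq_card_quotient_mul_card_subgroup (S.subgroupOf N)
        have h2 : Nat.card (S.subgroupOf N) = Nat.card S :=
          Nat.card_congr (Subgroup.subgroupOfEquivOfLe Subgroup.le_normalizer).toEquiv
        rw [h2, hcard, hcard4] at h1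
        exact h1
      cube_mem := by
        intro n hn' h3
        have h1 := hsq (QuotientGroup.mk (⟨n, hn'⟩ : N))
        have h2 : (QuotientGroup.mk (⟨n, hn'⟩ : N) : Q) ^ 3 = 1 := by
          rw [← QuotientGroup.mk_pow]
          have : (⟨n, hn'⟩ : N) ^ 3 = 1 := Subtype.ext (by simpa using h3)
          rw [this]; rfl
        have h4 : (QuotientGroup.mk (⟨n, hn'⟩ : N) : Q) = 1 := by
          have h5 : (QuotientGroup.mk (⟨n, hn'⟩ : N) : Q) ^ 3 =
              (QuotientGroup.mk (⟨n, hn'⟩ : N) : Q) *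
                ((QuotientGroup.mk (⟨n, hn'⟩ : N) : Q) * (QuotientGroup.mk (⟨n, hn'⟩ : N) : Q)) := by
            rw [pow_succ, pow_two, mul_assoc]
          rw [h5, h1, mul_one] at h2
          exact h2
        rw [hmk] at h4
        exact h4
      centS := by
        intro g hg
        rw [← hC, Subgroup.mem_centralizer_iff]
        intro s hs
        exact (hg s hs).symm
      loc := by
        intro t ht ht1 g hg
        apply hloc t ht ht1
        rw [Subgroup.mem_centralizer_singleton_iff]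
        exact hg }
  -- two nontrivial distinct cosets
  have hfinQ : Finite Q := Nat.finite_of_card_ne_zero (by rw [hcard4]; norm_num)
  letI : Fintype Q := Fintype.ofFinite Q
  have h2lt : 2 < Fintype.card Q := by
    rw [← Nat.card_eq_fintype_card, hcard4]; norm_num
  obtain ⟨q₁, q₂, q₃, h12, h13, h23⟩ := Fintype.two_lt_card_iff.mp h2lt
  have hex : ∃ qa qb : Q, qa ≠ 1 ∧ qb ≠ 1 ∧ qa ≠ qb := by
    by_cases e1 : q₁ = 1
    · refine ⟨q₂, q₃, ?_, ?_, h23⟩
      · intro e2; exact h12 (e1.trans e2.symm)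
      · intro e2; exact h13 (e1.trans e2.symm)
    · by_cases e2 : q₂ = 1
      · refine ⟨q₁, q₃, e1, ?_, h13⟩
        intro e3; exact h23 (e2.trans e3.symm)
      · exact ⟨q₁, q₂, e1, e2, h12⟩
  obtain ⟨qa, qb, hqa, hqb, hqab⟩ := hex
  obtain ⟨na, rfl⟩ := QuotientGroup.mk_surjective qa
  obtain ⟨nb, rfl⟩ := QuotientGroup.mk_surjective qb
  apply hpre.exists_cfg' na.2 nb.2
  · intro h1; exact hqa ((hmk na).mpr h1)
  · intro h1; exact hqb ((hmk nb).mpr h1)
  · intro h1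
    apply hqab
    have h2 : (QuotientGroup.mk (na * nb⁻¹) : Q) = 1 := (hmk _).mpr h1
    rw [QuotientGroup.mk_mul, QuotientGroup.mk_inv] at h2
    exact mul_inv_eq_one.mp h2

end Cfsg.Agent.Lib.Helper29.S3805Struct
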