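import Cfsg.Agent.Lib.Helper29.S5981C0
import Cfsg.Agent.Lib.Helper26.S5981C1
import Cfsg.Agent.Lib.Helper26.S5981C2
import Cfsg.Agent.Lib.Helper26.S5981C3

/-!
# S5981 (project S5981, helper29) : assembly of BLOCK C (`r ∣ q - 1`)
-/

set_option autoImplicit false
set_option linter.unusedVariables false
set_option linter.unusedSectionVars false

namespace Cfsg.Agent.Lib.Helper29.S5981

open scoped MatrixGroups Matrix

variable {F : Type*} [Field F] [Fintype F]

/-- BLOCK C -/
theorem blockC {p : ℕ} [Fact p.Prime] [CharP F p] {q : ℕ} (hq : Fintype.card F = q) (hodd : Odd q)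
    (n : ℕ) (hn : 3 ≤ n) (Q : (Fin n → F) → F) (hQ : Cfsg.Geo.IsNondegenerateQuadraticForm Q)
    (r : ℕ) [Fact r.Prime] (hr2 : r ≠ 2) (h1 : r ∣ q - 1) (hgap : ¬ (n = 6 ∧ r = 3))
    (hex : ¬ ((r = 3 ∨ r = 5) ∧ n = r ∧ padicValNat r (q - 1) = 1)) :
    Bad n Q r := by
  have hrpr : r.Prime := Fact.out
  have hq2 : 2 ≤ q := hq ▸ Fintype.one_lt_card
  have hq1 : q - 1 ≠ 0 := by omega
  have hv1 : 1 ≤ padicValNat r (q - 1) := one_le_padicValNat_of_dvd hq1 h1
  apply bad_of_diagBad hq hodd n Q hQ r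
  have hnot : ∀ k, ¬ r ∣ k → padicValNat r k < padicValNat r (q - 1) := by
    intro k hk
    rw [padicValNat.eq_zero_of_not_dvd hk]
    omega
  have hself : padicValNat r r = 1 := padicValNat_self
  -- `r ∣ n`, `n < 2 r` forces `n = r`
  by_cases hr3 : r = 3
  · subst hr3
    by_cases h7 : 7 ≤ n
    · exact diagBad_three hq n h7 h1
    · have hn6 : n ≠ 6 := fun h => hgap ⟨h, rfl⟩
      apply diagBad_val hq n hn 3 hr2 h1
      by_cases hn3 : n = 3
      · subst hn3
        rw [hself]
        have : padicValNat 3 (q - 1) ≠ 1 := fun h => hex ⟨Or.inl rfl, rfl, h⟩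
        omega
      · apply hnot
        omega
  · have hr5 : 5 ≤ r := by
      have h2 := hrpr.two_le
      rcases Nat.lt_or_ge r 5 with h | h
      · exfalso
        interval_cases r
        · exact hr2 rfl
        · exact hr3 rfl
        · exact (by decide : ¬ (4 : ℕ).Prime) hrpr
      · exact h
    by_cases h6 : 6 ≤ n
    · exact diagBad_five hq n h6 r hr5 h1
    · apply diagBad_val hq n hn r hr2 h1
      by_cases hdvd : r ∣ n
      · -- `n ≤ 5`, `r ≥ 5`, `r ∣ n` : `n = r = 5`
        have hle : r ≤ n := Nat.le_of_dvd (by omega) hdvd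
        have hnr : n = r := by omega
        have hr5' : r = 5 := by omega
        rw [hnr, hself]
        have : padicValNat r (q - 1) ≠ 1 := fun h => hex ⟨Or.inr hr5', hnr, h⟩
        omega
      · exact hnot n hdvd

end Cfsg.Agent.Lib.Helper29.S5981
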