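import Cfsg.Agent.Lib.Helper29.S5981.DefsD

/-!
# S5981 (project S5981, helper29) rows D10 `count_congr`, D14 `mult_one`, D12 `arith_sing_plus` / `arith_sing_minus`
-/

set_option autoImplicit false
set_option linter.unusedVariables false
set_option linter.unusedSectionVars false

namespace Cfsg.Agent.Lib.Helper29.S5981

open scoped MatrixGroups Matrix

/-- D12 (1) -/
theorem arith_sing_plus (q r m t : ℕ) (hq : 2 ≤ q) (hm : 1 ≤ m) (hr : r.Prime) (hr2 : r ≠ 2) (h1 : ¬ r ∣ q - 1)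
    (hdvd : r ∣ q ^ m + 1) (hcount : r * t + 1 + q ^ (m - 1) = q ^ (2 * m - 1) + q ^ m) : False := by
  obtain ⟨k, rfl⟩ : ∃ k, m = k + 1 := ⟨m - 1, by omega⟩
  have e1 : k + 1 - 1 = k := by omega
  have e2 : 2 * (k + 1) - 1 = k + 1 + k := by omega
  rw [e1, e2] at hcount
  -- `r t = (q^(k+1) - 1) (q^k + 1)`
  have hqk : 1 ≤ q ^ (k + 1) := Nat.one_le_pow _ _ (by omega)
  have hprod : r * t = (q ^ (k + 1) - 1) * (q ^ k + 1) := by
    obtain ⟨A, hA⟩ : ∃ A, q ^ (k + 1) = A + 1 := ⟨q ^ (k + 1) - 1, by omega⟩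
    have e3 : q ^ (k + 1 + k) = q ^ (k + 1) * q ^ k := pow_add _ _ _
    rw [e3, hA] at hcount
    rw [hA, Nat.add_sub_cancel]
    generalize q ^ k = a at hcount ⊢
    nlinarith [hcount]
  have hd : r ∣ (q ^ (k + 1) - 1) * (q ^ k + 1) := ⟨t, hprod.symm⟩
  rcases (Nat.Prime.dvd_mul hr).mp hd with h | h
  · -- `r ∣ q^m - 1` and `r ∣ q^m + 1` : `r ∣ 2`
    have h2 : r ∣ (q ^ (k + 1) + 1) - (q ^ (k + 1) - 1) := Nat.dvd_sub hdvd h
    have h3 : (q ^ (k + 1) + 1) - (q ^ (k + 1) - 1) = 2 := by omega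
    rw [h3] at h2
    exact hr2 ((Nat.prime_dvd_prime_iff_eq hr Nat.prime_two).mp h2)
  · -- `r ∣ q^k + 1`, `r ∣ q^(k+1) + 1` : `r ∣ q^k (q - 1)`, `r ∤ q`
    have h4 : r ∣ q * (q ^ k + 1) - (q ^ (k + 1) + 1) := Nat.dvd_sub (Dvd.dvd.mul_left h q) hdvd
    have h5 : q * (q ^ k + 1) - (q ^ (k + 1) + 1) = q - 1 := by
      have : q * (q ^ k + 1) = q ^ (k + 1) + q := by ring
      rw [this]
      omega
    rw [h5] at h4
    exact h1 h4

/-- D12 (2) -/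
theorem arith_sing_minus (q r m t : ℕ) (hq : 2 ≤ q) (hm : 1 ≤ m) (hr : r.Prime) (hr2 : r ≠ 2) (h1 : ¬ r ∣ q - 1)
    (hdvd : r ∣ q ^ m - 1) (hcount : r * t + 1 + q ^ m = q ^ (2 * m - 1) + q ^ (m - 1)) : False := by
  obtain ⟨k, rfl⟩ : ∃ k, m = k + 1 := ⟨m - 1, by omega⟩
  have e1 : k + 1 - 1 = k := by omega
  have e2 : 2 * (k + 1) - 1 = k + 1 + k := by omega
  rw [e1, e2] at hcount
  have hqk : 1 ≤ q ^ k := Nat.one_le_pow _ _ (by omega)
  -- `r t = (q^(k+1) + 1) (q^k - 1)`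
  have hprod : r * t = (q ^ (k + 1) + 1) * (q ^ k - 1) := by
    obtain ⟨A, hA⟩ : ∃ A, q ^ k = A + 1 := ⟨q ^ k - 1, by omega⟩
    have e3 : q ^ (k + 1 + k) = q ^ (k + 1) * q ^ k := pow_add _ _ _
    have e4 : q ^ (k + 1) = q ^ k * q := pow_succ _ _
    rw [e3, e4, hA] at hcount
    rw [e4, hA, Nat.add_sub_cancel]
    nlinarith [hcount]
  have hd : r ∣ (q ^ (k + 1) + 1) * (q ^ k - 1) := ⟨t, hprod.symm⟩
  have hqk1 : 1 ≤ q ^ (k + 1) := Nat.one_le_pow _ _ (by omega)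
  rcases (Nat.Prime.dvd_mul hr).mp hd with h | h
  · have h2 : r ∣ (q ^ (k + 1) + 1) - (q ^ (k + 1) - 1) := Nat.dvd_sub h hdvd
    have h3 : (q ^ (k + 1) + 1) - (q ^ (k + 1) - 1) = 2 := by omega
    rw [h3] at h2
    exact hr2 ((Nat.prime_dvd_prime_iff_eq hr Nat.prime_two).mp h2)
  · -- `r ∣ q^k - 1`, `r ∣ q^(k+1) - 1` : `r ∣ (q^(k+1) - 1) - q (q^k - 1) = q - 1`
    have h4 : r ∣ (q ^ (k + 1) - 1) - q * (q ^ k - 1) := Nat.dvd_sub hdvd (Dvd.dvd.mul_left h q)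
    have h5 : (q ^ (k + 1) - 1) - q * (q ^ k - 1) = q - 1 := by
      obtain ⟨A, hA⟩ : ∃ A, q ^ k = A + 1 := ⟨q ^ k - 1, by omega⟩
      have : q ^ (k + 1) = q * A + q := by rw [pow_succ, hA]; ring
      rw [this, hA, Nat.add_sub_cancel]
      omega
    rw [h5] at h4
    exact h1 h4

variable {F : Type*} [Field F] [Fintype F]

/-- D10 : equivalent forms have the same number of zeros. -/
theorem count_congr {ι κ : Type} [Fintype ι] [Fintype κ]
    (Q : (ι → F) → F) (Q' : (κ → F) → F) (Φ : (κ → F) ≃ₗ[F] (ι → F)) (h : ∀ v, Q (Φ v) = Q' v) :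
    Nat.card {v : ι → F // Q v = 0} = Nat.card {v : κ → F // Q' v = 0} := by
  apply Nat.card_congr
  refine (Φ.toEquiv.subtypeEquiv ?_).symm
  intro v
  change Q' v = 0 ↔ Q (Φ v) = 0
  rw [h]

/-- D14 : a similarity of order `r`, `r ∤ q - 1`, is an isometry. -/
theorem mult_one {q : ℕ} (hq : Fintype.card F = q) (n : ℕ) (Q : (Fin n → F) → F) (hne : ∃ v, Q v ≠ 0)
    (r : ℕ) [Fact r.Prime] (h1 : ¬ r ∣ q - 1) (y : GL (Fin n) F)
    (hy : y ∈ Cfsg.Geo.quadSimilarityGroup Q) (hyr : y ^ r = 1) :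
    y ∈ Cfsg.isometryGroup F Q := by
  have hrpr : r.Prime := Fact.out
  obtain ⟨c, hc⟩ := hy
  obtain ⟨v0, hv0⟩ := hne
  have hpow : ∀ k : ℕ, ∀ v, Q (((y ^ k : GL (Fin n) F) : Matrix (Fin n) (Fin n) F) *ᵥ v) = (c : F) ^ k * Q v := by
    intro k
    induction k with
    | zero => intro v; simp
    | succ k ih =>
      intro v
      rw [pow_succ', Units.val_mul, ← Matrix.mulVec_mulVec, hc, ih, pow_succ]
      ring
  have hcr : (c : F) ^ r = 1 := by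
    have h2 := hpow r v0
    rw [hyr, Units.val_one, Matrix.one_mulVec] at h2
    have h3 : ((c : F) ^ r - 1) * Q v0 = 0 := by linear_combination -h2
    rcases mul_eq_zero.mp h3 with h4 | h4
    · exact sub_eq_zero.mp h4
    · exact absurd h4 hv0
  have hcq : (c : F) ^ (q - 1) = 1 := by
    rw [← hq]
    exact FiniteField.pow_card_sub_one_eq_one (c : F) c.ne_zero
  have hcop : Nat.Coprime r (q - 1) := (Nat.Prime.coprime_iff_not_dvd hrpr).mpr h1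
  have hc1 : (c : F) = 1 := by
    have h4 : orderOf (c : F) ∣ Nat.gcd r (q - 1) :=
      Nat.dvd_gcd (orderOf_dvd_of_pow_eq_one hcr) (orderOf_dvd_of_pow_eq_one hcq)
    rw [hcop] at h4
    exact orderOf_eq_one_iff.mp (Nat.dvd_one.mp h4)
  -- membership in the isometry group
  intro u v
  change Q ((y : Matrix (Fin n) (Fin n) F) *ᵥ u) = Q u
  rw [hc, hc1, one_mul]

end Cfsg.Agent.Lib.Helper29.S5981
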