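import Cfsg.Agent.Lib.Helper25.S5981D1
import Cfsg.Agent.Lib.Helper25.S5981D2
import Cfsg.Agent.Lib.Helper26.S5981D3
import Cfsg.Agent.Lib.Helper26.S5981D4
import Cfsg.Agent.Lib.Helper11.S5981D5
import Cfsg.Agent.Lib.Helper26.S5981D6
import Cfsg.Agent.Lib.Helper26.S5981D7
import Cfsg.Agent.Lib.Helper26.S5981D8
import Cfsg.Agent.Lib.Helper26.S5981D9
import Cfsg.Agent.Lib.Helper29.S5981D10
import Cfsg.Agent.Lib.Helper11.S5981D11
import Cfsg.Agent.Lib.Helper29.S5981D13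
import Cfsg.Agent.S0286
import Cfsg.Agent.S0287
import Cfsg.Agent.S0288

/-!
# S5981 (project S5981, helper29) : assembly of BLOCK D (`ord_r(q)` even)
-/

set_option autoImplicit false
set_option linter.unusedVariables false
set_option linter.unusedSectionVars false

namespace Cfsg.Agent.Lib.Helper29.S5981

open scoped MatrixGroups Matrix

variable {F : Type*} [Field F] [Fintype F]

theorem s5981d_sq_sub_one (a : ℕ) (ha : 1 ≤ a) : a ^ 2 - 1 = (a - 1) * (a + 1) := by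
  obtain ⟨b, rfl⟩ : ∃ b, a = b + 1 := ⟨a - 1, by omega⟩
  rw [Nat.add_sub_cancel]
  have : (b + 1) ^ 2 = b * (b + 1 + 1) + 1 := by ring
  rw [this, Nat.add_sub_cancel]

theorem s5981d_aniso (ζ : F) (hζ : ∀ t : F, t ^ 2 + t + ζ ≠ 0) :
    ∀ z₁ z₂ : F, z₁ ^ 2 + 1 * z₁ * z₂ + ζ * z₂ ^ 2 = 0 → z₁ = 0 ∧ z₂ = 0 := by
  intro z₁ z₂ h
  by_cases h2 : z₂ = 0
  · subst h2
    simp at h
    exact ⟨h, rfl⟩
  · exfalso
    apply hζ (z₁ / z₂)
    have : (z₁ / z₂) ^ 2 + z₁ / z₂ + ζ = (z₁ ^ 2 + 1 * z₁ * z₂ + ζ * z₂ ^ 2) / z₂ ^ 2 := by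
      field_simp
    rw [this, h, zero_div]

theorem s5981d_ne_zero (n : ℕ) (hn : 1 ≤ n) (Q : (Fin n → F) → F)
    (hQ : Cfsg.Geo.IsNondegenerateQuadraticForm Q) : ∃ v, Q v ≠ 0 := by
  by_contra hall
  simp only [not_exists, not_not] at hall
  have hv : (fun _ => 1 : Fin n → F) ≠ 0 := by
    intro h
    have := congrFun h ⟨0, by omega⟩
    simp at this
  obtain ⟨⟨x, hx⟩, -⟩ := hQ.nondegenerate _ hv
  apply hx
  unfold QuadraticMap.polar
  rw [hall, hall, hall]
  simp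

/-- the part of block D after the arithmetic: a derangement from `r ∣ q^n - 1`, `r ∤ q - 1` and a contradiction `hfin` for every count -/
theorem s5981d_bad_of_count {q : ℕ} (hq : Fintype.card F = q)
    (n : ℕ) (hn : 3 ≤ n) (Q : (Fin n → F) → F) (hQ : Cfsg.Geo.IsNondegenerateQuadraticForm Q)
    (r : ℕ) [Fact r.Prime] (h1 : ¬ r ∣ q - 1) (hdvd2 : r ∣ q ^ n - 1)
    (hfin : ∀ t : ℕ, Nat.card {v : Fin n → F // Q v = 0} = r * t + 1 → False) :
    Bad n Q r := by
  have hrpr : r.Prime := Fact.out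
  obtain ⟨x, hxSL, hxr, hfix⟩ := singer_elem hq n (by omega) r h1 hdvd2
  have hQ0 : Q 0 = 0 := by
    have := hQ.smul 0 0
    simpa using this
  refine ⟨x, hxSL, ⟨1, by rw [hxr]; simp⟩, ?_, ?_⟩
  · intro z hz
    -- `x = z • 1` fixes no vector, but `x^r = 1` gives `z^r = 1`, hence `z = 1` … simpler: take `v = e₀`; `x v = z v`;
    -- then `x` acts on the line `F v`, a set of `q - 1` nonzero vectors, in orbits of length `r`
    have hz' : ∀ v : Fin n → F, (x : Matrix (Fin n) (Fin n) F) *ᵥ v = z • v := by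
      intro v
      rw [hz, Matrix.smul_mulVec, Matrix.one_mulVec]
    have hzr : z ^ r = 1 := by
      have h2 : ((x ^ r : GL (Fin n) F) : Matrix (Fin n) (Fin n) F) = 1 := by rw [hxr]; rfl
      rw [Units.val_pow_eq_pow_val, hz, smul_pow, one_pow] at h2
      have h3 := congrFun (congrFun h2 ⟨0, by omega⟩) ⟨0, by omega⟩
      simpa using h3
    have hz0 : z ≠ 0 := by
      intro h0
      rw [h0, zero_pow hrpr.ne_zero] at hzr
      exact zero_ne_one hzr
    have hzq : z ^ (q - 1) = 1 := by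
      rw [← hq]
      exact FiniteField.pow_card_sub_one_eq_one z hz0
    have hcop : Nat.Coprime r (q - 1) := (Nat.Prime.coprime_iff_not_dvd hrpr).mpr h1
    have hz1 : z = 1 := by
      have h4 : orderOf z ∣ Nat.gcd r (q - 1) :=
        Nat.dvd_gcd (orderOf_dvd_of_pow_eq_one hzr) (orderOf_dvd_of_pow_eq_one hzq)
      rw [hcop] at h4
      exact orderOf_eq_one_iff.mp (Nat.dvd_one.mp h4)
    have hv : (fun _ => 1 : Fin n → F) = 0 := by
      apply hfix
      rw [hz', hz1, one_smul]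
    have := congrFun hv ⟨0, by omega⟩
    simp at this
  · intro g hg hmem
    have hyr : (g⁻¹ * x * g) ^ r = 1 := by
      have h0 : g⁻¹ * x * g = g⁻¹ * x * (g⁻¹)⁻¹ := by rw [inv_inv]
      rw [h0, conj_pow, hxr]
      group
    have hyfix : ∀ v : Fin n → F,
        ((g⁻¹ * x * g : GL (Fin n) F) : Matrix (Fin n) (Fin n) F) *ᵥ v = v → v = 0 := by
      intro v hv
      have h2 : (x : Matrix (Fin n) (Fin n) F) *ᵥ ((g : Matrix (Fin n) (Fin n) F) *ᵥ v) =
          (g : Matrix (Fin n) (Fin n) F) *ᵥ v := by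
        have h3 : (g : Matrix (Fin n) (Fin n) F) *ᵥ
            (((g⁻¹ * x * g : GL (Fin n) F) : Matrix (Fin n) (Fin n) F) *ᵥ v) =
            (g : Matrix (Fin n) (Fin n) F) *ᵥ v := by rw [hv]
        rw [Matrix.mulVec_mulVec, ← Units.val_mul] at h3
        have h4 : g * (g⁻¹ * x * g) = x * g := by group
        rw [h4, Units.val_mul, ← Matrix.mulVec_mulVec] at h3
        exact h3
      have h5 := hfix _ h2
      have h6 : ((g⁻¹ : GL (Fin n) F) : Matrix (Fin n) (Fin n) F) *ᵥ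
          ((g : Matrix (Fin n) (Fin n) F) *ᵥ v) = 0 := by rw [h5, Matrix.mulVec_zero]
      rw [Matrix.mulVec_mulVec, ← Units.val_mul, inv_mul_cancel, Units.val_one, Matrix.one_mulVec] at h6
      exact h6
    have hne := s5981d_ne_zero n (by omega) Q hQ
    have hyiso := mult_one hq n Q hne r h1 (g⁻¹ * x * g) hmem hyr
    obtain ⟨t, ht⟩ := orbit_count n Q hQ0 r (g⁻¹ * x * g) hyiso hyr hyfix
    exact hfin t ht

/-- BLOCK D : `r ≠ p` odd, `ord_r(q)` even. -/
theorem blockD {p : ℕ} [Fact p.Prime] [CharP F p] {q : ℕ} (hq : Fintype.card F = q) (hodd : Odd q)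
    (n : ℕ) (hn : 3 ≤ n) (Q : (Fin n → F) → F) (hQ : Cfsg.Geo.IsNondegenerateQuadraticForm Q)
    (r : ℕ) [Fact r.Prime] (hr2 : r ≠ 2) (hrp : r ≠ p)
    (hi : Even (orderOf ((q : ℕ) : ZMod r)))
    (hΩ : r ∣ (Cfsg.Geo.quadSimilarityGroup Q).relIndex (Cfsg.Geo.specialLinear (Fin n) F)) :
    Bad n Q r := by
  have hrpr : r.Prime := Fact.out
  have hppr : p.Prime := Fact.out
  have hq2 : 2 ≤ q := hq ▸ Fintype.one_lt_card
  obtain ⟨k, -, hk⟩ := FiniteField.card F p
  have hrq : ¬ r ∣ q := by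
    rw [← hq, hk]
    intro h
    exact hrp ((Nat.prime_dvd_prime_iff_eq hrpr hppr).mp (hrpr.dvd_of_dvd_pow h))
  have hord : ∀ j, r ∣ q ^ j - 1 → orderOf ((q : ℕ) : ZMod r) ∣ j := by
    intro j hj
    apply orderOf_dvd_of_pow_eq_one
    have h1 : 1 ≤ q ^ j := Nat.one_le_pow _ _ (by omega)
    have h2 : ((q ^ j - 1 : ℕ) : ZMod r) = 0 := (ZMod.natCast_eq_zero_iff _ _).mpr hj
    rw [Nat.cast_sub h1, Nat.cast_pow, Nat.cast_one, sub_eq_zero] at h2
    exact h2
  have hodd_ndvd : ∀ j, Odd j → ¬ r ∣ q ^ j - 1 := by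
    intro j hj hdvd
    obtain ⟨b, hb⟩ := hord j hdvd
    have : Even j := by rw [hb]; exact hi.mul_right b
    exact (Nat.not_even_iff_odd.mpr hj) this
  have h1 : ¬ r ∣ q - 1 := by
    have := hodd_ndvd 1 odd_one
    simpa using this
  have hlag := lagrange hq hodd n Q hQ r hΩ
  have hSL := card_SL hq n (by omega)
  have hcomb : r * Nat.card (Cfsg.isometryGroup F Q) * (q - 1) ∣
      2 * (q ^ (∑ i ∈ Finset.range n, i) * ∏ i ∈ Finset.range n, (q ^ (i + 1) - 1)) := by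
    rw [← hSL, ← mul_assoc]
    exact Nat.mul_dvd_mul_right hlag (q - 1)
  obtain ⟨m, hm | hm⟩ := Nat.even_or_odd' n
  · subst hm
    have hm1 : 1 ≤ m := by omega
    have hpow : q ^ (2 * m) - 1 = (q ^ m - 1) * (q ^ m + 1) := by
      rw [mul_comm 2 m, pow_mul]
      exact s5981d_sq_sub_one (q ^ m) (Nat.one_le_pow _ _ (by omega))
    rcases classify_even hq hodd (2 * m) m hm1 rfl Q hQ with ⟨Φ, hΦ⟩ | ⟨ζ, hζ, Φ, hΦ⟩
    · have hcard := (iso_card_congr Q _ Φ hΦ).trans (Cfsg.Agent.S0287.result hq m hm1)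
      rw [hcard] at hcomb
      have hdvd := arith_plus q r m hq2 hm1 hrpr hrq hodd_ndvd hcomb
      have hdvd2 : r ∣ q ^ (2 * m) - 1 := by
        rw [hpow]
        exact Dvd.dvd.mul_left hdvd _
      apply s5981d_bad_of_count hq (2 * m) hn Q hQ r h1 hdvd2
      intro t ht
      have hc := count_congr Q _ Φ hΦ
      have hcp := count_plus hq m hm1
      rw [← hc, ht] at hcp
      exact arith_sing_plus q r m t hq2 hm1 hrpr hr2 h1 hdvd hcp
    · have hcard := (iso_card_congr Q _ Φ hΦ).trans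
        (Cfsg.Agent.S0288.result hq m hm1 1 ζ (s5981d_aniso ζ hζ))
      rw [hcard] at hcomb
      have hdvd := arith_minus q r m hq2 hm1 hrpr hrq hodd_ndvd hcomb
      have hdvd2 : r ∣ q ^ (2 * m) - 1 := by
        rw [hpow]
        exact Dvd.dvd.mul_right hdvd _
      apply s5981d_bad_of_count hq (2 * m) hn Q hQ r h1 hdvd2
      intro t ht
      have hc := count_congr Q _ Φ hΦ
      have hcp := count_minus hq m hm1 ζ hζ
      rw [← hc, ht] at hcp
      exact arith_sing_minus q r m t hq2 hm1 hrpr hr2 h1 hdvd hcp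
  · subst hm
    obtain ⟨c, hc, Φ, hΦ⟩ := classify_odd hq hodd (2 * m + 1) m rfl Q hQ
    have hcard : Nat.card (Cfsg.isometryGroup F Q) =
        2 * q ^ (m ^ 2) * ∏ i ∈ Finset.range m, (q ^ (2 * (i + 1)) - 1) := by
      rw [iso_card_congr Q (fun v => c * Cfsg.quadFormOdd m F v) Φ hΦ, iso_smul_eq _ c hc]
      exact Cfsg.Agent.S0286.result hq hodd m
    rw [hcard] at hcomb
    exact (arith_odd q r m hq2 hrpr hrq hodd_ndvd hcomb).elim

end Cfsg.Agent.Lib.Helper29.S5981
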