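import Cfsg.Agent.Lib.Helper29.S5981E3
import Cfsg.Agent.Lib.helper14.InvA

/-!
# S5981 (project S5981, helper29) row E4 `e_sim_ns`

Orthogonal basis in pairs (index `Fin 2 × Fin k`), on each plane `a X² + b Y²` the matrix `!![s, b t / a; t, -s]` with `a s² + b t² = z a`.
-/

set_option autoImplicit false
set_option linter.unusedVariables false
set_option linter.unusedSectionVars false

namespace Cfsg.Agent.Lib.Helper29.S5981

open scoped MatrixGroups Matrix
open Polynomial

variable {F : Type*} [Field F]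

/-- characteristic polynomial of a block-diagonal matrix -/
theorem s5981e4_charpoly_blockDiagonal {o m : Type*} [Fintype o] [DecidableEq o] [Fintype m] [DecidableEq m]
    (M : o → Matrix m m F) :
    (Matrix.blockDiagonal M).charpoly = ∏ i, (M i).charpoly := by
  unfold Matrix.charpoly
  rw [← Matrix.det_blockDiagonal]
  congr 1
  ext ⟨p, i⟩ ⟨p', i'⟩
  rw [Matrix.blockDiagonal_apply, Matrix.charmatrix_apply, Matrix.blockDiagonal_apply]
  by_cases h : i = i'
  · subst h
    simp only [if_true, Matrix.charmatrix_apply, Matrix.diagonal_apply, Prod.mk.injEq, and_true]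
  · simp only [h, if_false, Matrix.diagonal_apply, Prod.mk.injEq, and_false, map_zero, sub_zero]

/-- transfer over an index type `κ` in bijection with `Fin n` -/
theorem s5981e4_transfer {κ : Type*} [Fintype κ] [DecidableEq κ] (n : ℕ) (hcard : Fintype.card κ = n)
    (Q : (Fin n → F) → F) (w : κ → F) (P : Matrix κ (Fin n) F) (Pi : Matrix (Fin n) κ F)
    (hPPi : P * Pi = 1) (hPiP : Pi * P = 1)
    (hQw : ∀ v, Q v = ∑ i, w i * ((P *ᵥ v) i * (P *ᵥ v) i))
    (M : Matrix κ κ F) (c z : F) (hc : c ≠ 0) (hz : z ≠ 0)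
    (hM : ∀ x : κ → F, ∑ i, w i * ((M *ᵥ x) i * (M *ᵥ x) i) = c * ∑ i, w i * (x i * x i))
    (hMM : M * M = z • (1 : Matrix κ κ F)) :
    ∃ y : GL (Fin n) F, y ∈ Cfsg.Geo.quadSimilarityGroup Q ∧
      (y : Matrix (Fin n) (Fin n) F) * (y : Matrix (Fin n) (Fin n) F) = z • (1 : Matrix (Fin n) (Fin n) F) ∧
      (y : Matrix (Fin n) (Fin n) F).charpoly = M.charpoly := by
  set Y : Matrix (Fin n) (Fin n) F := Pi * M * P with hY
  have hYY : Y * Y = z • (1 : Matrix (Fin n) (Fin n) F) := by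
    have h1 : Y * Y = Pi * (M * (P * Pi) * M) * P := by
      rw [hY]; simp only [Matrix.mul_assoc]
    rw [h1, hPPi, Matrix.mul_one, hMM, Matrix.mul_smul, Matrix.smul_mul, Matrix.mul_one, hPiP]
  have hYinv : Y * (z⁻¹ • Y) = 1 := by
    rw [Matrix.mul_smul, hYY, smul_smul, inv_mul_cancel₀ hz, one_smul]
  have hYinv' : (z⁻¹ • Y) * Y = 1 := by
    rw [Matrix.smul_mul, hYY, smul_smul, inv_mul_cancel₀ hz, one_smul]
  refine ⟨⟨Y, z⁻¹ • Y, hYinv, hYinv'⟩, ⟨Units.mk0 c hc, ?_⟩, hYY, ?_⟩
  · intro v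
    change Q (Y *ᵥ v) = c * Q v
    rw [hQw, hQw]
    have h2 : P *ᵥ (Y *ᵥ v) = M *ᵥ (P *ᵥ v) := by
      rw [hY, Matrix.mulVec_mulVec, Matrix.mulVec_mulVec]
      have h3 : P * (Pi * M * P) = M * P := by
        rw [← Matrix.mul_assoc, ← Matrix.mul_assoc, hPPi, Matrix.one_mul]
      rw [h3]
    rw [h2, hM]
  · change Y.charpoly = M.charpoly
    have h4 : Y = (Pi * M) * P := by rw [hY]
    have h5 : P * (Pi * M) = M := by rw [← Matrix.mul_assoc, hPPi, Matrix.one_mul]
    rw [h4, Matrix.charpoly_mul_comm_of_le (Pi * M) P (by rw [hcard, Fintype.card_fin]), h5, hcard,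
      Fintype.card_fin, Nat.sub_self, pow_zero, one_mul]

/-- binary forms over a finite field of odd order are universal -/
theorem s5981e4_universal [Fintype F] (hcard : Fintype.card F % 2 = 1) (a b c : F) (ha : a ≠ 0) (hb : b ≠ 0) :
    ∃ s t : F, a * s ^ 2 + b * t ^ 2 = c := by
  have hf2 : (C a * X ^ 2 - C c : F[X]).degree = 2 := by
    rw [degree_sub_eq_left_of_degree_lt]
    · rw [degree_C_mul ha, degree_X_pow]; rfl
    · rw [degree_C_mul ha, degree_X_pow]
      exact lt_of_le_of_lt degree_C_le (by norm_num)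
  have hg2 : (C b * X ^ 2 : F[X]).degree = 2 := by
    rw [degree_C_mul hb, degree_X_pow]; rfl
  obtain ⟨s, t, hst⟩ := FiniteField.exists_root_sum_quadratic hf2 hg2 hcard
  refine ⟨s, t, ?_⟩
  simp only [eval_sub, eval_mul, eval_C, eval_pow, eval_X] at hst
  linear_combination hst

variable [Fintype F]

/-- E4 : see the header. -/
theorem e_sim_ns {q : ℕ} (hq : Fintype.card F = q) (hodd : Odd q) (k : ℕ) (Q : (Fin (2 * k) → F) → F)
    (hQ : Cfsg.Geo.IsNondegenerateQuadraticForm Q) (z : F) (hz : z ≠ 0) :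
    ∃ y : GL (Fin (2 * k)) F, y ∈ Cfsg.Geo.quadSimilarityGroup Q ∧
      (y : Matrix (Fin (2 * k)) (Fin (2 * k)) F) * (y : Matrix (Fin (2 * k)) (Fin (2 * k)) F) =
        z • (1 : Matrix (Fin (2 * k)) (Fin (2 * k)) F) ∧
      (y : Matrix (Fin (2 * k)) (Fin (2 * k)) F).charpoly = (X ^ 2 - C z) ^ k := by
  classical
  have h2 := s5981e3_two_ne_zero hq hodd
  have hcardF : Fintype.card F % 2 = 1 := by rw [hq]; exact Nat.odd_iff.mp hodd
  obtain ⟨w0, P0, Pi0, hw0, hPPi0, hPiP0, hQw0⟩ := s5981etool_diagform h2 (2 * k) Q hQ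
  -- reindex along `ε : Fin 2 × Fin k ≃ Fin (2 * k)`
  set ε : Fin 2 × Fin k ≃ Fin (2 * k) := finProdFinEquiv with hε
  set w : Fin 2 × Fin k → F := fun j => w0 (ε j) with hw
  set P : Matrix (Fin 2 × Fin k) (Fin (2 * k)) F := P0.submatrix ε id with hP
  set Pi : Matrix (Fin (2 * k)) (Fin 2 × Fin k) F := Pi0.submatrix id ε with hPi
  have hPPi : P * Pi = 1 := by
    ext j j'
    have h := congrFun (congrFun hPPi0 (ε j)) (ε j')
    rw [Matrix.mul_apply, Matrix.one_apply] at h
    rw [Matrix.mul_apply, Matrix.one_apply]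
    simp only [hP, hPi, Matrix.submatrix_apply, id]
    rw [h]
    simp only [ε.injective.eq_iff]
  have hPiP : Pi * P = 1 := by
    ext a b
    have h := congrFun (congrFun hPiP0 a) b
    rw [Matrix.mul_apply] at h
    rw [Matrix.mul_apply]
    simp only [hP, hPi, Matrix.submatrix_apply, id]
    rw [Equiv.sum_comp ε (fun l => Pi0 a l * P0 l b), h]
  have hQw : ∀ v, Q v = ∑ j, w j * ((P *ᵥ v) j * (P *ᵥ v) j) := by
    intro v
    rw [hQw0 v, ← Equiv.sum_comp ε]
    rfl
  have hcardκ : Fintype.card (Fin 2 × Fin k) = 2 * k := by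
    rw [Fintype.card_prod, Fintype.card_fin, Fintype.card_fin]
  -- the planes
  have hex : ∀ i : Fin k, ∃ s t : F, w (0, i) * s ^ 2 + w (1, i) * t ^ 2 = z * w (0, i) :=
    fun i => s5981e4_universal hcardF _ _ _ (hw0 _) (hw0 _)
  choose s t hst using hex
  set m : Fin k → Matrix (Fin 2) (Fin 2) F :=
    fun i => !![s i, w (1, i) * t i / w (0, i); t i, -(s i)] with hm
  have hmm : ∀ i, m i * m i = z • (1 : Matrix (Fin 2) (Fin 2) F) := by
    intro i
    have ha : w (0, i) ≠ 0 := hw0 _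
    have h := hst i
    rw [hm]
    ext p p'
    fin_cases p <;> fin_cases p' <;>
      simp [Matrix.mul_apply, Fin.sum_univ_two] <;> field_simp <;>
      first | linear_combination h | linear_combination -h | ring
  have hMM : Matrix.blockDiagonal m * Matrix.blockDiagonal m = z • (1 : Matrix (Fin 2 × Fin k) (Fin 2 × Fin k) F) := by
    rw [← Matrix.blockDiagonal_mul]
    have : (fun i => m i * m i) = fun _ : Fin k => z • (1 : Matrix (Fin 2) (Fin 2) F) := funext hmm
    rw [this]
    ext ⟨p, i⟩ ⟨p', i'⟩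
    rw [Matrix.blockDiagonal_apply, Matrix.smul_apply, Matrix.one_apply]
    by_cases h : i = i'
    · subst h
      by_cases hp : p = p'
      · subst hp; simp
      · simp [hp]
    · have : ¬ ((p, i) = (p', i')) := fun h' => h (Prod.mk.inj h').2
      simp [h, this]
  have hM : ∀ x : Fin 2 × Fin k → F,
      ∑ j, w j * ((Matrix.blockDiagonal m *ᵥ x) j * (Matrix.blockDiagonal m *ᵥ x) j) =
        z * ∑ j, w j * (x j * x j) := by
    intro x
    rw [Fintype.sum_prod_type_right, Fintype.sum_prod_type_right, Finset.mul_sum]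
    apply Finset.sum_congr rfl
    intro i _
    rw [Fin.sum_univ_two, Fin.sum_univ_two, Cfsg.Agent.Lib.helper14.InvA.bd_mulVec,
      Cfsg.Agent.Lib.helper14.InvA.bd_mulVec]
    have ha : w (0, i) ≠ 0 := hw0 _
    have h := hst i
    simp only [hm, Matrix.of_apply, Matrix.cons_val', Matrix.cons_val_zero, Matrix.cons_val_one,
      Matrix.cons_val_fin_one]
    field_simp
    linear_combination (w (0, i) * x (0, i) ^ 2 + w (1, i) * x (1, i) ^ 2) * h
  obtain ⟨y, hyS, hyy, hyc⟩ := s5981e4_transfer (2 * k) hcardκ Q w P Pi hPPi hPiP hQw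
    (Matrix.blockDiagonal m) z z hz hz hM hMM
  refine ⟨y, hyS, hyy, ?_⟩
  rw [hyc, s5981e4_charpoly_blockDiagonal]
  have hcp : ∀ i, (m i).charpoly = X ^ 2 - C z := by
    intro i
    have ha : w (0, i) ≠ 0 := hw0 _
    have h := hst i
    rw [Matrix.charpoly_fin_two]
    have htr : (m i).trace = 0 := by
      rw [hm]; simp [Matrix.trace_fin_two]
    have hdet : (m i).det = -z := by
      rw [hm, Matrix.det_fin_two_of]
      field_simp
      linear_combination -h
    rw [htr, hdet]
    simp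
    ring
  rw [Finset.prod_congr rfl (fun i _ => hcp i), Finset.prod_const, Finset.card_univ, Fintype.card_fin]

end Cfsg.Agent.Lib.Helper29.S5981
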