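import Cfsg.Agent.Lib.Helper29.S5981.Defs

/-!
# S5981 (project S5981, helper29) row E6 `e_ss`
-/

set_option autoImplicit false
set_option linter.unusedVariables false
set_option linter.unusedSectionVars false

namespace Cfsg.Agent.Lib.Helper29.S5981

open scoped MatrixGroups Matrix
open Polynomial

variable {F : Type*} [Field F]

/-- E6 : (`Module.End.isSemisimple_of_squarefree_aeval_eq_zero` with `X² - C z`, separable since `2 z ≠ 0`.) -/
theorem e_ss [Fintype F] (h2 : (2 : F) ≠ 0) (n : ℕ) (x : Matrix (Fin n) (Fin n) F) (z : F) (hz : z ≠ 0)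
    (hx : x * x = z • (1 : Matrix (Fin n) (Fin n) F)) :
    Module.End.IsSemisimple (Matrix.toLin' x) := by
  have hsep : (X ^ 2 - C z : F[X]).Separable :=
    separable_X_pow_sub_C z (by exact_mod_cast h2) hz
  apply Module.End.isSemisimple_of_squarefree_aeval_eq_zero hsep.squarefree
  rw [map_sub, map_pow, aeval_X, aeval_C, pow_two]
  have h1 : Matrix.toLin' x * Matrix.toLin' x = Matrix.toLin' (x * x) := (Matrix.toLin'_mul x x).symm
  rw [h1, hx]
  apply LinearMap.ext
  intro v
  simp [Algebra.algebraMap_eq_smul_one]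

end Cfsg.Agent.Lib.Helper29.S5981
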