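import Cfsg.Agent.Lib.Helper29.S5981.Defs
import Cfsg.Agent.Lib.helper6.SSCONJDET

/-!
# S5981 (project S5981, helper29) rows E5 `e_sl_conj_ss` and F6 `f_sl_conj` : wrappers of helper6's `ssconjdet_conj_sl`
-/

set_option autoImplicit false
set_option linter.unusedVariables false
set_option linter.unusedSectionVars false

namespace Cfsg.Agent.Lib.Helper29.S5981

open scoped MatrixGroups Matrix
open Polynomial

variable {F : Type*} [Field F] [Fintype F]

/-- from a conjugating element of `SL` to one of the subgroup `ker det` of `GL` -/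
theorem s5981slc_of_sl (n : ℕ) (x y : GL (Fin n) F) (P : Matrix.SpecialLinearGroup (Fin n) F)
    (h : (P : Matrix (Fin n) (Fin n) F) * (x : Matrix (Fin n) (Fin n) F) *
      ((P⁻¹ : Matrix.SpecialLinearGroup (Fin n) F) : Matrix (Fin n) (Fin n) F) = (y : Matrix (Fin n) (Fin n) F)) :
    ∃ g ∈ Cfsg.Geo.specialLinear (Fin n) F, g⁻¹ * x * g = y := by
  refine ⟨(Matrix.SpecialLinearGroup.toGL P)⁻¹, ?_, ?_⟩
  · apply Subgroup.inv_mem
    change Matrix.GeneralLinearGroup.det (Matrix.SpecialLinearGroup.toGL P) = 1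
    apply Units.ext
    rw [Matrix.GeneralLinearGroup.val_det_apply, Units.val_one]
    exact P.2
  · rw [inv_inv]
    apply Units.ext
    rw [Units.val_mul, Units.val_mul, ← h]
    have h1 : ((Matrix.SpecialLinearGroup.toGL P : GL (Fin n) F) : Matrix (Fin n) (Fin n) F) =
        (P : Matrix (Fin n) (Fin n) F) := rfl
    have h2 : (((Matrix.SpecialLinearGroup.toGL P)⁻¹ : GL (Fin n) F) : Matrix (Fin n) (Fin n) F) =
        ((P⁻¹ : Matrix.SpecialLinearGroup (Fin n) F) : Matrix (Fin n) (Fin n) F) := by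
      rw [← map_inv]
      rfl
    rw [h1, h2]

/-- E5 : see the header. -/
theorem e_sl_conj_ss (n : ℕ) (hn : 1 ≤ n) (x y : GL (Fin n) F)
    (hx : Module.End.IsSemisimple (Matrix.toLin' (x : Matrix (Fin n) (Fin n) F)))
    (hy : Module.End.IsSemisimple (Matrix.toLin' (y : Matrix (Fin n) (Fin n) F)))
    (hc : (x : Matrix (Fin n) (Fin n) F).charpoly = (y : Matrix (Fin n) (Fin n) F).charpoly) :
    ∃ g ∈ Cfsg.Geo.specialLinear (Fin n) F, g⁻¹ * x * g = y := by
  obtain ⟨P, hP⟩ := Cfsg.Agent.Lib.helper6.SSCONJ.ssconjdet_conj_sl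
    (x : Matrix (Fin n) (Fin n) F) (y : Matrix (Fin n) (Fin n) F) hx hy hc
  exact s5981slc_of_sl n x y P hP

/-- F6 : see the header. -/
theorem f_sl_conj {p : ℕ} [Fact p.Prime] [CharP F p] (n : ℕ) (hn : 1 ≤ n) (r : ℕ) [Fact r.Prime] (hrp : r ≠ p)
    (x y : GL (Fin n) F) (hx : x ^ r = 1) (hy : y ^ r = 1)
    (hc : (x : Matrix (Fin n) (Fin n) F).charpoly = (y : Matrix (Fin n) (Fin n) F).charpoly) :
    ∃ g ∈ Cfsg.Geo.specialLinear (Fin n) F, g⁻¹ * x * g = y := by
  have hrF : (r : F) ≠ 0 := by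
    intro h
    rw [CharP.cast_eq_zero_iff F p] at h
    exact hrp ((Nat.prime_dvd_prime_iff_eq Fact.out Fact.out).mp h).symm
  have hx' : (x : Matrix (Fin n) (Fin n) F) ^ r = 1 := by
    rw [← Units.val_pow_eq_pow_val, hx, Units.val_one]
  have hy' : (y : Matrix (Fin n) (Fin n) F) ^ r = 1 := by
    rw [← Units.val_pow_eq_pow_val, hy, Units.val_one]
  obtain ⟨P, hP⟩ := Cfsg.Agent.Lib.helper6.SSCONJ.ssconjdet_conj_sl_of_pow
    (x : Matrix (Fin n) (Fin n) F) (y : Matrix (Fin n) (Fin n) F) r hrF hx' hy' hc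
  exact s5981slc_of_sl n x y P hP

end Cfsg.Agent.Lib.Helper29.S5981
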