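import Cfsg.Agent.Lib.Helper29.S5981E1h29
import Cfsg.Agent.Lib.helper14.S5981E2
import Cfsg.Agent.Lib.Helper29.S5981E4
import Cfsg.Agent.Lib.Helper29.S5981SLC
import Cfsg.Agent.Lib.Helper29.S5981E6

/-!
# S5981 (project S5981, helper29) : assembly of BLOCK E (`r = 2`)
-/

set_option autoImplicit false
set_option linter.unusedVariables false
set_option linter.unusedSectionVars false

namespace Cfsg.Agent.Lib.Helper29.S5981

open scoped MatrixGroups Matrix
open Polynomial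

variable {F : Type*} [Field F] [Fintype F]

/-- BLOCK E -/
theorem blockE {p : ℕ} [Fact p.Prime] [CharP F p] {q : ℕ} (hq : Fintype.card F = q) (hodd : Odd q)
    (n : ℕ) (hn : 3 ≤ n) (Q : (Fin n → F) → F) (hQ : Cfsg.Geo.IsNondegenerateQuadraticForm Q) :
    Good n Q 2 := by
  have h2 : (2 : F) ≠ 0 := by
    intro h
    obtain ⟨k, hk⟩ := hodd
    have h3 : ((2 * k + 1 : ℕ) : F) = 0 := by
      rw [← hk, ← hq]
      exact Nat.cast_card_eq_zero F
    push_cast at h3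
    rw [h, zero_mul, zero_add] at h3
    exact one_ne_zero h3
  intro x hx hzz hns
  obtain ⟨z, hz⟩ := hzz
  have hxx : (x : Matrix (Fin n) (Fin n) F) * (x : Matrix (Fin n) (Fin n) F) =
      z • (1 : Matrix (Fin n) (Fin n) F) := by
    rw [← hz, pow_two, Units.val_mul]
  have hz0 : z ≠ 0 := by
    intro h0
    rw [h0, zero_smul] at hxx
    have h3 : ((x * x : GL (Fin n) F) : Matrix (Fin n) (Fin n) F) = 0 := by
      rw [Units.val_mul, hxx]
    have h4 := (x * x).isUnit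
    have h5 : IsUnit ((x * x : GL (Fin n) F) : Matrix (Fin n) (Fin n) F) := (x * x).isUnit
    rw [h3] at h5
    have h6 : (0 : Matrix (Fin n) (Fin n) F) ≠ 1 := by
      intro h7
      have := congrFun (congrFun h7 ⟨0, by omega⟩) ⟨0, by omega⟩
      simp at this
    haveI : Nontrivial (Matrix (Fin n) (Fin n) F) := ⟨⟨0, 1, h6⟩⟩
    exact not_isUnit_zero h5
  have hxss := e_ss h2 n (x : Matrix (Fin n) (Fin n) F) z hz0 hxx
  have key : ∀ y : GL (Fin n) F, y ∈ Cfsg.Geo.quadSimilarityGroup Q →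
      (y : Matrix (Fin n) (Fin n) F) * (y : Matrix (Fin n) (Fin n) F) = z • (1 : Matrix (Fin n) (Fin n) F) →
      (y : Matrix (Fin n) (Fin n) F).charpoly = (x : Matrix (Fin n) (Fin n) F).charpoly →
      ∃ g ∈ Cfsg.Geo.specialLinear (Fin n) F, g⁻¹ * x * g ∈ Cfsg.Geo.quadSimilarityGroup Q := by
    intro y hyS hyy hyc
    have hyss := e_ss h2 n (y : Matrix (Fin n) (Fin n) F) z hz0 hyy
    obtain ⟨g, hg, hgxy⟩ := e_sl_conj_ss n (by omega) x y hxss hyss hyc.symm
    exact ⟨g, hg, by rw [hgxy]; exact hyS⟩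
  by_cases hsq : ∃ μ : F, μ * μ = z
  · obtain ⟨μ, hμ⟩ := hsq
    have hμ0 : μ ≠ 0 := by
      intro h
      rw [h, mul_zero] at hμ
      exact hz0 hμ.symm
    rw [← hμ] at hxx
    obtain ⟨a, b, hab, hchar⟩ := s5981e1_h29_charpoly_sq h2 n _ μ hμ0 hxx
    obtain ⟨y, hyS, hyy, hyc⟩ := e_sim_sq hq hodd n Q hQ μ hμ0 a b hab
    rw [hμ] at hyy
    exact key y hyS hyy (hyc.trans hchar.symm)
  · have hns' : ∀ a : F, a * a ≠ z := fun a ha => hsq ⟨a, ha⟩
    obtain ⟨k, hk, hchar⟩ := e_charpoly_ns n _ z hxx hns'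
    subst hk
    obtain ⟨y, hyS, hyy, hyc⟩ := e_sim_ns hq hodd k Q hQ z hz0
    exact key y hyS hyy (hyc.trans hchar.symm)

end Cfsg.Agent.Lib.Helper29.S5981
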