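import Cfsg.Agent.Lib.Helper25.S5981F1
import Cfsg.Agent.Lib.Helper25.S5981F2
import Cfsg.Agent.Lib.Helper26.S5981F3
import Cfsg.Agent.Lib.Helper25.S5981F4
import Cfsg.Agent.Lib.Helper29.S5981SLC

/-!
# S5981 (project S5981, helper29) : assembly of BLOCK F (`n = r ∈ {3, 5}`)
-/

set_option autoImplicit false
set_option linter.unusedVariables false
set_option linter.unusedSectionVars false

namespace Cfsg.Agent.Lib.Helper29.S5981

open scoped MatrixGroups Matrix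
open Polynomial

variable {F : Type*} [Field F] [Fintype F]

theorem s5981f_pow_mod (ω : F) (n : ℕ) (hω : ω ^ n = 1) (u : ℕ) : ω ^ u = ω ^ (u % n) := by
  conv_lhs => rw [← Nat.mod_add_div u n]
  rw [pow_add, pow_mul, hω, one_pow, mul_one]

theorem s5981f_pow_val (ω : F) (n : ℕ) [NeZero n] (hω : ω ^ n = 1) (a b c : ZMod n) (h : a + b = 2 * c) :
    ω ^ a.val * ω ^ b.val = (ω ^ c.val) ^ 2 := by
  rw [← pow_add, ← pow_mul, s5981f_pow_mod ω n hω (a.val + b.val), s5981f_pow_mod ω n hω (c.val * 2)]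
  congr 1
  apply (ZMod.natCast_eq_natCast_iff' _ _ n).mp
  push_cast
  rw [ZMod.natCast_zmod_val, ZMod.natCast_zmod_val, ZMod.natCast_zmod_val, h]
  ring

/-- BLOCK F -/
theorem blockF {p : ℕ} [Fact p.Prime] [CharP F p] {q : ℕ} (hq : Fintype.card F = q) (hodd : Odd q)
    (n : ℕ) (hn : 3 ≤ n) (Q : (Fin n → F) → F) (hQ : Cfsg.Geo.IsNondegenerateQuadraticForm Q)
    (r : ℕ) [Fact r.Prime] (h35 : r = 3 ∨ r = 5) (hnr : n = r) (hv : padicValNat r (q - 1) = 1) :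
    Good n Q r := by
  subst hnr
  have hrpr : n.Prime := Fact.out
  have hppr : p.Prime := Fact.out
  haveI : NeZero n := ⟨hrpr.ne_zero⟩
  have hr2 : n ≠ 2 := by omega
  have hq2 : 2 ≤ q := hq ▸ Fintype.one_lt_card
  have h1 : n ∣ q - 1 := dvd_of_one_le_padicValNat (by omega)
  have hrp : n ≠ p := by
    intro h
    obtain ⟨k, -, hk⟩ := FiniteField.card F p
    have hpq : p ∣ q := by
      rw [← hq, hk]
      exact dvd_pow_self p k.ne_zero
    rw [h] at h1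
    have : p ∣ 1 := by
      have h2 : p ∣ q - (q - 1) := Nat.dvd_sub hpq h1
      have h3 : q - (q - 1) = 1 := by omega
      rwa [h3] at h2
    exact hppr.one_lt.ne' (Nat.dvd_one.mp this)
  intro x hx hzz hns
  obtain ⟨z, hz⟩ := hzz
  have hz1 := f_scalar_one hq n hr2 hv x hx z hz
  have hxr : x ^ n = 1 := by
    apply Units.ext
    rw [hz, hz1, one_smul]
    rfl
  obtain ⟨ω, hω, a, hchar, hsum⟩ := f_charpoly hq n h1 x hx hxr
  obtain ⟨j0, σ, hσ, hfix, hsym⟩ : ∃ (j0 : Fin n) (σ : Equiv.Perm (Fin n)), (∀ j, σ (σ j) = j) ∧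
      (∀ j, σ j = j ↔ j = j0) ∧ ∀ j, a j + a (σ j) = 2 * a j0 := by
    rcases h35 with rfl | rfl
    · exact f_comb3 a hsum
    · exact f_comb5 a hsum
  have hd : ∀ j, (ω ^ (a j).val) ^ n = 1 := by
    intro j
    rw [← pow_mul, mul_comm, pow_mul, hω, one_pow]
  have hsym' : ∀ j, ω ^ (a j).val * ω ^ (a (σ j)).val = (ω ^ (a j0).val) ^ 2 :=
    fun j => s5981f_pow_val ω n hω _ _ _ (hsym j)
  obtain ⟨y, hyS, hyr, hychar⟩ := f_sim_of_sym hq hodd n (hrpr.odd_of_ne_two hr2) hn Q hQ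
    (fun j => ω ^ (a j).val) hd j0 σ hσ hfix hsym'
  obtain ⟨g, hg, hgxy⟩ := f_sl_conj n (by omega) n hrp x y hxr hyr (hchar.trans hychar.symm)
  exact ⟨g, hg, by rw [hgxy]; exact hyS⟩

end Cfsg.Agent.Lib.Helper29.S5981
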