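import Cfsg.Agent.Lib.Helper29.S5981.Defs
import Cfsg.Agent.Lib.Helper16.OSemi1

/-!
# S5981 (project S5981, helper29) : bridge from `IsNondegenerateQuadraticForm Q` (a function) to Mathlib, and the Gram matrix

* `s5981tool_qform` : `Q` is (the function of) a `QuadraticForm` with non-degenerate polar form;
* `s5981tool_gram` : symmetric invertible Gram matrix `G` with `polar Q x y = x ⬝ᵥ G *ᵥ y`;
* `s5981tool_sim_gram` : `Q (y v) = c Q v` for all `v` gives `yᵀ G y = c G`.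
-/

set_option autoImplicit false
set_option linter.unusedVariables false
set_option linter.unusedSectionVars false

namespace Cfsg.Agent.Lib.Helper29.S5981

open scoped MatrixGroups Matrix

variable {F : Type*} [Field F] {ι : Type} [Fintype ι] [DecidableEq ι]

theorem s5981tool_qform (Q : (ι → F) → F) (hQ : Cfsg.Geo.IsNondegenerateQuadraticForm Q) :
    ∃ Qf : QuadraticForm F (ι → F), (∀ v, Qf v = Q v) ∧ (QuadraticMap.polarBilin Qf).Nondegenerate := by
  refine ⟨QuadraticMap.ofPolar Q (fun a x => by rw [hQ.smul, smul_eq_mul, pow_two])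
    (fun x x' y => hQ.polar_bilinear.add_left x x' y)
    (fun a x y => by rw [hQ.polar_bilinear.smul_left, smul_eq_mul]), fun v => rfl, ?_, ?_⟩
  · intro x hx
    by_contra hx0
    obtain ⟨-, y, hy⟩ := hQ.nondegenerate x hx0
    exact hy (hx y)
  · intro y hy
    by_contra hy0
    obtain ⟨⟨x, hx⟩, -⟩ := hQ.nondegenerate y hy0
    exact hx (hy x)

theorem s5981tool_gram (Q : (ι → F) → F) (hQ : Cfsg.Geo.IsNondegenerateQuadraticForm Q) :
    ∃ G Gi : Matrix ι ι F, G * Gi = 1 ∧ Gi * G = 1 ∧ Gᵀ = G ∧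
      ∀ x y : ι → F, QuadraticMap.polar Q x y = x ⬝ᵥ G *ᵥ y := by
  obtain ⟨Qf, hQf, hnd⟩ := s5981tool_qform Q hQ
  obtain ⟨G, Gi, h1, h2, h3, h4⟩ := Cfsg.Agent.Lib.Helper16.OSemi.gram_data Qf hnd
  refine ⟨G, Gi, h1, h2, h3, ?_⟩
  intro x y
  rw [← h4]
  unfold QuadraticMap.polar
  rw [hQf, hQf, hQf]

theorem s5981tool_mat_ext (A B : Matrix ι ι F) (h : ∀ x y : ι → F, x ⬝ᵥ A *ᵥ y = x ⬝ᵥ B *ᵥ y) : A = B := by
  ext i j
  have := h (Pi.single i 1) (Pi.single j 1)
  rw [Matrix.mulVec_single_one, Matrix.mulVec_single_one, single_one_dotProduct, single_one_dotProduct] at this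
  exact this

theorem s5981tool_sim_gram (Q : (ι → F) → F) (G : Matrix ι ι F)
    (hpol : ∀ x y : ι → F, QuadraticMap.polar Q x y = x ⬝ᵥ G *ᵥ y)
    (y : Matrix ι ι F) (c : F) (h : ∀ v, Q (y *ᵥ v) = c * Q v) :
    yᵀ * G * y = c • G := by
  apply s5981tool_mat_ext
  intro u v
  have h1 : u ⬝ᵥ (yᵀ * G * y) *ᵥ v = (y *ᵥ u) ⬝ᵥ G *ᵥ (y *ᵥ v) := by
    rw [← Matrix.mulVec_mulVec, ← Matrix.mulVec_mulVec, Matrix.dotProduct_mulVec, Matrix.vecMul_transpose]
  rw [h1, ← hpol, Matrix.smul_mulVec, dotProduct_smul, ← hpol, smul_eq_mul]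
  unfold QuadraticMap.polar
  rw [← Matrix.mulVec_add, h, h, h]
  ring

end Cfsg.Agent.Lib.Helper29.S5981
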