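import Cfsg.Agent.Lib.Helper29.S5981.DefsC
import Cfsg.Agent.Lib.Helper29.S5981Tool

/-!
# S5981 (project S5981, helper29) rows C0 `diag_perm` and C4 `bad_of_diagBad`
-/

set_option autoImplicit false
set_option linter.unusedVariables false
set_option linter.unusedSectionVars false

namespace Cfsg.Agent.Lib.Helper29.S5981

open scoped MatrixGroups Matrix

variable {F : Type*} [Field F] [Fintype F]

/-- an invertible matrix has a non-vanishing Leibniz term -/
theorem s5981c0_leibniz (n : ℕ) (G : Matrix (Fin n) (Fin n) F) (hG : G.det ≠ 0) :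
    ∃ σ : Equiv.Perm (Fin n), ∀ j, G (σ j) j ≠ 0 := by
  by_contra hno
  apply hG
  rw [Matrix.det_apply]
  apply Finset.sum_eq_zero
  intro σ _
  have : ∃ j, G (σ j) j = 0 := by
    by_contra h
    apply hno
    exact ⟨σ, fun j hj => h ⟨j, hj⟩⟩
  obtain ⟨j, hj⟩ := this
  have hp : ∏ i, G (σ i) i = 0 := Finset.prod_eq_zero (f := fun i => G (σ i) i) (Finset.mem_univ j) hj
  rw [hp, smul_zero]

/-- C0 : the spectrum of a similarity is symmetric. -/
theorem diag_perm {q : ℕ} (hq : Fintype.card F = q) (hodd : Odd q) (n : ℕ) (Q : (Fin n → F) → F)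
    (hQ : Cfsg.Geo.IsNondegenerateQuadraticForm Q) (d : Fin n → F) (x g : GL (Fin n) F)
    (hx : (x : Matrix (Fin n) (Fin n) F) = Matrix.diagonal d)
    (hmem : g⁻¹ * x * g ∈ Cfsg.Geo.quadSimilarityGroup Q) :
    ∃ (c : F) (σ : Equiv.Perm (Fin n)), ∀ j, d j * d (σ j) = c := by
  obtain ⟨G, Gi, hGGi, hGiG, hsym, hpol⟩ := s5981tool_gram Q hQ
  obtain ⟨c, hc⟩ := hmem
  have hy := s5981tool_sim_gram Q G hpol _ (c : F) hc
  set gm : Matrix (Fin n) (Fin n) F := (g : Matrix (Fin n) (Fin n) F) with hgm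
  set gi : Matrix (Fin n) (Fin n) F := ((g⁻¹ : GL (Fin n) F) : Matrix (Fin n) (Fin n) F) with hgi
  have hgg : gm * gi = 1 := by rw [hgm, hgi, ← Units.val_mul, mul_inv_cancel, Units.val_one]
  have hgg' : gi * gm = 1 := by rw [hgm, hgi, ← Units.val_mul, inv_mul_cancel, Units.val_one]
  have hyv : ((g⁻¹ * x * g : GL (Fin n) F) : Matrix (Fin n) (Fin n) F) = gi * Matrix.diagonal d * gm := by
    rw [Units.val_mul, Units.val_mul, hx]
  rw [hyv] at hy
  set G' : Matrix (Fin n) (Fin n) F := giᵀ * G * gi with hG'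
  have hkey : Matrix.diagonal d * G' * Matrix.diagonal d = (c : F) • G' := by
    have h1 : giᵀ * ((gi * Matrix.diagonal d * gm)ᵀ * G * (gi * Matrix.diagonal d * gm)) * gi =
        giᵀ * ((c : F) • G) * gi := by rw [hy]
    have h2 : giᵀ * ((gi * Matrix.diagonal d * gm)ᵀ * G * (gi * Matrix.diagonal d * gm)) * gi =
        (gm * gi)ᵀ * (Matrix.diagonal d * (giᵀ * G * gi) * Matrix.diagonal d) * (gm * gi) := by
      simp only [Matrix.transpose_mul, Matrix.diagonal_transpose, Matrix.mul_assoc]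
    rw [h2, hgg, Matrix.transpose_one, Matrix.one_mul, Matrix.mul_one] at h1
    rw [h1, hG', Matrix.mul_smul, Matrix.smul_mul]
  have hdetG : G.det ≠ 0 := by
    intro h0
    have := congrArg Matrix.det hGGi
    rw [Matrix.det_mul, h0, zero_mul, Matrix.det_one] at this
    exact zero_ne_one this
  have hdetgi : gi.det ≠ 0 := by
    intro h0
    have := congrArg Matrix.det hgg'
    rw [Matrix.det_mul, h0, zero_mul, Matrix.det_one] at this
    exact zero_ne_one this
  have hdetG' : G'.det ≠ 0 := by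
    rw [hG', Matrix.det_mul, Matrix.det_mul, Matrix.det_transpose]
    exact mul_ne_zero (mul_ne_zero hdetgi hdetG) hdetgi
  obtain ⟨σ, hσ⟩ := s5981c0_leibniz n G' hdetG'
  refine ⟨(c : F), σ, fun j => ?_⟩
  have h3 := congrFun (congrFun hkey (σ j)) j
  rw [Matrix.mul_diagonal, Matrix.diagonal_mul, Matrix.smul_apply, smul_eq_mul] at h3
  have h4 : (d (σ j) * d j - (c : F)) * G' (σ j) j = 0 := by linear_combination h3
  rcases mul_eq_zero.mp h4 with h5 | h5
  · linear_combination h5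
  · exact absurd h5 (hσ j)

/-- C4 -/
theorem bad_of_diagBad {q : ℕ} (hq : Fintype.card F = q) (hodd : Odd q) (n : ℕ) (Q : (Fin n → F) → F)
    (hQ : Cfsg.Geo.IsNondegenerateQuadraticForm Q) (r : ℕ) (h : DiagBad F n r) : Bad n Q r := by
  obtain ⟨d, hd0, hprod, ⟨z, hz⟩, ⟨j, k, hjk⟩, hno⟩ := h
  have hdet : (Matrix.diagonal d).det = 1 := by rw [Matrix.det_diagonal, hprod]
  have hdet0 : (Matrix.diagonal d).det ≠ 0 := by rw [hdet]; exact one_ne_zero
  refine ⟨Matrix.GeneralLinearGroup.mkOfDetNeZero (Matrix.diagonal d) hdet0, ?_, ⟨z, ?_⟩, ?_, ?_⟩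
  · change Matrix.GeneralLinearGroup.det (Matrix.GeneralLinearGroup.mkOfDetNeZero (Matrix.diagonal d) hdet0) = 1
    apply Units.ext
    rw [Matrix.GeneralLinearGroup.val_det_apply, Units.val_one]
    exact hdet
  · rw [Units.val_pow_eq_pow_val]
    change (Matrix.diagonal d) ^ r = z • (1 : Matrix (Fin n) (Fin n) F)
    rw [Matrix.diagonal_pow, Matrix.smul_one_eq_diagonal]
    congr 1
    funext i
    exact hz i
  · intro z' hz'
    change Matrix.diagonal d = z' • (1 : Matrix (Fin n) (Fin n) F) at hz'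
    apply hjk
    have h1 := congrFun (congrFun hz' j) j
    have h2 := congrFun (congrFun hz' k) k
    simp at h1 h2
    rw [h1, h2]
  · intro g hg hmem
    exact hno (diag_perm hq hodd n Q hQ d _ g rfl hmem)

end Cfsg.Agent.Lib.Helper29.S5981
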