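import Cfsg.Agent.Lib.Helper29.S5981.DefsD

/-!
# S5981 (project S5981, helper29) row D13 `singer_elem`

`K = FiniteField.Extension F p n` (degree `n`), `y ∈ Kˣ` of order `r` (Cauchy, `r ∣ q^n - 1`), `x` = the matrix of `v ↦ y v` in a basis.
`det x = norm y =: ν`, `ν^r = 1`, `ν^(q-1) = 1`, `gcd(r, q-1) = 1`: `ν = 1`.  No fixed vector: `y - 1` is invertible.
-/

set_option autoImplicit false
set_option linter.unusedVariables false
set_option linter.unusedSectionVars false

namespace Cfsg.Agent.Lib.Helper29.S5981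

open scoped MatrixGroups Matrix
open Module

variable {F : Type*} [Field F] [Fintype F]

/-- the construction inside a given extension field of degree `n` -/
theorem s5981d13_of_field (K : Type*) [Field K] [Fintype K] [Algebra F K] {q : ℕ} (hq : Fintype.card F = q)
    (n : ℕ) (hfr : finrank F K = n) (r : ℕ) [Fact r.Prime] (h1 : ¬ r ∣ q - 1) (hdvd : r ∣ q ^ n - 1) :
    ∃ x ∈ Cfsg.Geo.specialLinear (Fin n) F, x ^ r = 1 ∧
      ∀ v : Fin n → F, (x : Matrix (Fin n) (Fin n) F) *ᵥ v = v → v = 0 := by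
  classical
  have hrpr : r.Prime := Fact.out
  have hcardK : Fintype.card K = q ^ n := by
    rw [Module.card_eq_pow_finrank (K := F) (V := K), hq, hfr]
  have hcardU : Fintype.card Kˣ = q ^ n - 1 := by
    rw [Fintype.card_units, hcardK]
  obtain ⟨y, hy⟩ := exists_prime_orderOf_dvd_card r (G := Kˣ) (by rw [hcardU]; exact hdvd)
  have hyr : (y : K) ^ r = 1 := by
    rw [← Units.val_pow_eq_pow_val, ← hy, pow_orderOf_eq_one, Units.val_one]
  have hy1 : (y : K) ≠ 1 := by
    intro h
    have h2 : y = 1 := Units.ext (by rw [h, Units.val_one])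
    rw [h2, orderOf_one] at hy
    exact hrpr.one_lt.ne hy
  set b : Basis (Fin n) F K := Module.finBasisOfFinrankEq F K hfr with hb
  set G : Matrix (Fin n) (Fin n) F := Algebra.leftMulMatrix b (y : K) with hG
  have hGr : G ^ r = 1 := by rw [hG, ← map_pow, hyr, map_one]
  -- the determinant
  have hdet : G.det = 1 := by
    have hν : G.det = Algebra.norm F (y : K) := (Algebra.norm_eq_matrix_det b (y : K)).symm
    have hνr : G.det ^ r = 1 := by rw [← Matrix.det_pow, hGr, Matrix.det_one]
    have hν0 : G.det ≠ 0 := by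
      intro h0
      rw [h0, zero_pow hrpr.ne_zero] at hνr
      exact zero_ne_one hνr
    have hνq : G.det ^ (q - 1) = 1 := by
      rw [← hq]
      exact FiniteField.pow_card_sub_one_eq_one _ hν0
    have hcop : Nat.Coprime r (q - 1) := (Nat.Prime.coprime_iff_not_dvd hrpr).mpr h1
    have h4 : orderOf G.det ∣ Nat.gcd r (q - 1) :=
      Nat.dvd_gcd (orderOf_dvd_of_pow_eq_one hνr) (orderOf_dvd_of_pow_eq_one hνq)
    rw [hcop] at h4
    exact orderOf_eq_one_iff.mp (Nat.dvd_one.mp h4)
  have hdet0 : G.det ≠ 0 := by rw [hdet]; exact one_ne_zero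
  refine ⟨Matrix.GeneralLinearGroup.mkOfDetNeZero G hdet0, ?_, ?_, ?_⟩
  · change Matrix.GeneralLinearGroup.det (Matrix.GeneralLinearGroup.mkOfDetNeZero G hdet0) = 1
    apply Units.ext
    rw [Matrix.GeneralLinearGroup.val_det_apply, Units.val_one]
    exact hdet
  · apply Units.ext
    rw [Units.val_pow_eq_pow_val, Units.val_one]
    exact hGr
  · intro v hv
    have hv' : G *ᵥ v = v := hv
    have hy0 : (y : K) - 1 ≠ 0 := sub_ne_zero.mpr hy1
    have h2 : Algebra.leftMulMatrix b ((y : K) - 1)⁻¹ * (G - 1) = 1 := by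
      have h3 : (1 : Matrix (Fin n) (Fin n) F) = Algebra.leftMulMatrix b (1 : K) := (map_one _).symm
      rw [h3, hG, ← map_sub, ← map_mul, inv_mul_cancel₀ hy0]
    have h4 : (Algebra.leftMulMatrix b ((y : K) - 1)⁻¹ * (G - 1)) *ᵥ v = 0 := by
      rw [← Matrix.mulVec_mulVec, Matrix.sub_mulVec, Matrix.one_mulVec, hv', sub_self,
        Matrix.mulVec_zero]
    rw [h2, Matrix.one_mulVec] at h4
    exact h4

/-- D13 : a Singer-cycle power. -/
theorem singer_elem {q : ℕ} (hq : Fintype.card F = q) (n : ℕ) (hn : 1 ≤ n) (r : ℕ) [Fact r.Prime]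
    (h1 : ¬ r ∣ q - 1) (hdvd : r ∣ q ^ n - 1) :
    ∃ x ∈ Cfsg.Geo.specialLinear (Fin n) F, x ^ r = 1 ∧
      ∀ v : Fin n → F, (x : Matrix (Fin n) (Fin n) F) *ᵥ v = v → v = 0 := by
  classical
  have : NeZero n := ⟨by omega⟩
  have hcp : CharP F (ringChar F) := ringChar.charP F
  have : Fact (ringChar F).Prime := ⟨CharP.char_is_prime F (ringChar F)⟩
  have : Fintype (FiniteField.Extension F (ringChar F) n) := Fintype.ofFinite _
  exact s5981d13_of_field (FiniteField.Extension F (ringChar F) n) hq n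
    (FiniteField.finrank_extension F (ringChar F) n) r h1 hdvd

end Cfsg.Agent.Lib.Helper29.S5981
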