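import Cfsg.Agent.Lib.Helper29.S5981.Defs
import Cfsg.Agent.Lib.helper14.InvD

/-!
# S5981 (project S5981) row E1 : spare copy `s5981e1_h29_charpoly_sq` (exact statement of `e_charpoly_sq`)
-/

set_option autoImplicit false
set_option linter.unusedVariables false
set_option linter.unusedSectionVars false

namespace Cfsg.Agent.Lib.Helper29.S5981

open scoped MatrixGroups Matrix
open Polynomial Module

variable {F : Type*} [Field F]

theorem s5981e1_h29_charpoly_sq (h2 : (2 : F) ≠ 0) (n : ℕ) (x : Matrix (Fin n) (Fin n) F) (μ : F) (hμ : μ ≠ 0)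
    (hx : x * x = (μ * μ) • (1 : Matrix (Fin n) (Fin n) F)) :
    ∃ a b : ℕ, a + b = n ∧ x.charpoly = (X - C μ) ^ a * (X + C μ) ^ b := by
  obtain ⟨a, b, B, h1, h2'⟩ := Cfsg.Agent.Lib.helper14.InvD.eigen_basis x μ hμ h2 hx
  obtain ⟨-, hab⟩ := Cfsg.Agent.Lib.helper14.InvD.det_of_eigen x μ a b B h1 h2'
  refine ⟨a, b, hab, ?_⟩
  have hM : LinearMap.toMatrix B B (Matrix.toLin' x) =
      Matrix.diagonal (Sum.elim (fun _ => μ) (fun _ => -μ)) := by
    ext i j
    rw [LinearMap.toMatrix_apply, Matrix.toLin'_apply]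
    rcases j with j | j
    · rw [h1, map_smul, Basis.repr_self, Matrix.diagonal_apply]
      by_cases hij : i = Sum.inl j
      · subst hij; simp
      · rw [if_neg hij]
        simp [Finsupp.single_apply, Ne.symm hij]
    · rw [h2', map_smul, Basis.repr_self, Matrix.diagonal_apply]
      by_cases hij : i = Sum.inr j
      · subst hij; simp
      · rw [if_neg hij]
        simp [Finsupp.single_apply, Ne.symm hij]
  rw [← Matrix.charpoly_toLin', ← LinearMap.charpoly_toMatrix (Matrix.toLin' x) B, hM,
    Matrix.charpoly_diagonal, Fintype.prod_sum_type]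
  simp only [Sum.elim_inl, Sum.elim_inr, Finset.prod_const, Finset.card_univ, Fintype.card_fin, C_neg,
    sub_neg_eq_add]

end Cfsg.Agent.Lib.Helper29.S5981
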