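import Cfsg.Agent.Lib.Helper29.S5981ETool

/-!
# S5981 (project S5981, helper29) row E3 `e_sim_sq`
-/

set_option autoImplicit false
set_option linter.unusedVariables false
set_option linter.unusedSectionVars false

namespace Cfsg.Agent.Lib.Helper29.S5981

open scoped MatrixGroups Matrix
open Polynomial

variable {F : Type*} [Field F]

theorem s5981e3_two_ne_zero [Fintype F] {q : ℕ} (hq : Fintype.card F = q) (hodd : Odd q) : (2 : F) ≠ 0 := by
  intro h
  obtain ⟨k, hk⟩ := hodd
  have h3 : ((2 * k + 1 : ℕ) : F) = 0 := by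
    rw [← hk, ← hq]
    exact Nat.cast_card_eq_zero F
  push_cast at h3
  rw [h, zero_mul, zero_add] at h3
  exact one_ne_zero h3

variable [Fintype F]

/-- E3 : `y = μ • diag(1^a, (-1)^b)` in an orthogonal basis of `polar Q`; it multiplies `Q` by `μ²`. -/
theorem e_sim_sq {q : ℕ} (hq : Fintype.card F = q) (hodd : Odd q) (n : ℕ) (Q : (Fin n → F) → F)
    (hQ : Cfsg.Geo.IsNondegenerateQuadraticForm Q) (μ : F) (hμ : μ ≠ 0) (a b : ℕ) (hab : a + b = n) :
    ∃ y : GL (Fin n) F, y ∈ Cfsg.Geo.quadSimilarityGroup Q ∧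
      (y : Matrix (Fin n) (Fin n) F) * (y : Matrix (Fin n) (Fin n) F) = (μ * μ) • (1 : Matrix (Fin n) (Fin n) F) ∧
      (y : Matrix (Fin n) (Fin n) F).charpoly = (X - C μ) ^ a * (X + C μ) ^ b := by
  subst hab
  have h2 := s5981e3_two_ne_zero hq hodd
  obtain ⟨w, P, Pi, hw, hPPi, hPiP, hQw⟩ := s5981etool_diagform h2 (a + b) Q hQ
  set m : Fin (a + b) → F := fun i => if i.val < a then μ else -μ with hm
  have hmm : ∀ i, m i * m i = μ * μ := by
    intro i
    rw [hm]
    by_cases h : i.val < a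
    · simp [h]
    · simp [h]
  have hM : ∀ x : Fin (a + b) → F,
      ∑ i, w i * ((Matrix.diagonal m *ᵥ x) i * (Matrix.diagonal m *ᵥ x) i) =
        (μ * μ) * ∑ i, w i * (x i * x i) := by
    intro x
    rw [Finset.mul_sum]
    apply Finset.sum_congr rfl
    intro i _
    rw [Matrix.mulVec_diagonal]
    have := hmm i
    linear_combination (w i * (x i * x i)) * this
  have hMM : Matrix.diagonal m * Matrix.diagonal m = (μ * μ) • (1 : Matrix (Fin (a + b)) (Fin (a + b)) F) := by
    rw [Matrix.diagonal_mul_diagonal, Matrix.smul_one_eq_diagonal]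
    congr 1
    funext i
    exact hmm i
  obtain ⟨y, hyS, hyy, hyc⟩ := s5981etool_transfer (a + b) Q w P Pi hPPi hPiP hQw (Matrix.diagonal m)
    (μ * μ) (μ * μ) (mul_ne_zero hμ hμ) (mul_ne_zero hμ hμ) hM hMM
  refine ⟨y, hyS, hyy, ?_⟩
  rw [hyc, Matrix.charpoly_diagonal, Fin.prod_univ_add]
  congr 1
  · have : ∀ i : Fin a, (X - C (m (Fin.castAdd b i)) : F[X]) = X - C μ := by
      intro i
      have h : (Fin.castAdd b i).val < a := by simp
      rw [hm]
      simp only [h, if_true]
    rw [Finset.prod_congr rfl (fun i _ => this i), Finset.prod_const, Finset.card_univ, Fintype.card_fin]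
  · have : ∀ i : Fin b, (X - C (m (Fin.natAdd a i)) : F[X]) = X + C μ := by
      intro i
      have h : ¬ (Fin.natAdd a i).val < a := by simp
      rw [hm]
      simp only [h, if_false, C_neg, sub_neg_eq_add]
    rw [Finset.prod_congr rfl (fun i _ => this i), Finset.prod_const, Finset.card_univ, Fintype.card_fin]

end Cfsg.Agent.Lib.Helper29.S5981
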