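import Cfsg.Agent.Lib.Helper29.S5981Tool

/-!
# S5981 (project S5981, helper29) : diagonalisation of `Q` (`q` odd) and transfer of matrices

* `s5981etool_diagform` : `Q v = ∑ i, w i * (P *ᵥ v) i * (P *ᵥ v) i` with `P` invertible, `w i ≠ 0` (orthogonal basis);
* `s5981etool_transfer` : a matrix `M` multiplying the diagonal form `∑ w i x i x i` by `c` gives `y = P⁻¹ M P ∈ Sim(Q)` with `y * y`, `charpoly` transported.
-/

set_option autoImplicit false
set_option linter.unusedVariables false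
set_option linter.unusedSectionVars false

namespace Cfsg.Agent.Lib.Helper29.S5981

open scoped MatrixGroups Matrix
open Module Polynomial

variable {F : Type*} [Field F]

theorem s5981etool_diagform (h2 : (2 : F) ≠ 0) (n : ℕ) (Q : (Fin n → F) → F)
    (hQ : Cfsg.Geo.IsNondegenerateQuadraticForm Q) :
    ∃ (w : Fin n → F) (P Pi : Matrix (Fin n) (Fin n) F), (∀ i, w i ≠ 0) ∧ P * Pi = 1 ∧ Pi * P = 1 ∧
      ∀ v, Q v = ∑ i, w i * ((P *ᵥ v) i * (P *ᵥ v) i) := by
  classical
  obtain ⟨Qf, hQf, hnd⟩ := s5981tool_qform Q hQ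
  let _i2 : Invertible (2 : F) := invertibleOfNonzero h2
  have hfr : finrank F (Fin n → F) = n := by rw [Module.finrank_fintype_fun_eq_card, Fintype.card_fin]
  obtain ⟨v0, hv0⟩ := LinearMap.BilinForm.exists_orthogonal_basis
    (QuadraticForm.associated_isSymm F Qf)
  -- separating left for the associated form
  have hsep : (QuadraticMap.associated (R := F) Qf).SeparatingLeft := by
    intro x hx
    apply hnd.1 x
    intro y
    have h3 := hx y
    have h4 := QuadraticMap.two_nsmul_associated F Qf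
    have h5 : QuadraticMap.polarBilin Qf x y = (2 • QuadraticMap.associated (R := F) Qf) x y := by
      rw [h4]
    rw [h5, LinearMap.smul_apply, LinearMap.smul_apply, h3, smul_zero]
  have hne := hv0.not_isOrtho_basis_self_of_separatingLeft hsep
  simp_rw [QuadraticMap.associated_eq_self_apply] at hne
  -- reindex to `Fin n`
  set e : Fin (finrank F (Fin n → F)) ≃ Fin n := finCongr hfr with he
  set b : Basis (Fin n) F (Fin n → F) := v0.reindex e with hb
  have hrepr : ∀ v : Fin n → F, Qf v = ∑ i, Qf (b i) * (b.repr v i * b.repr v i) := by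
    intro v
    have h1 := QuadraticMap.basisRepr_eq_of_iIsOrtho Qf v0 hv0
    have h2' : Qf v = Qf.basisRepr v0 (v0.repr v) := by
      rw [QuadraticMap.basisRepr_apply]
      congr 1
      exact (v0.sum_repr v).symm
    rw [h2', h1, QuadraticMap.weightedSumSquares_apply]
    rw [← Equiv.sum_comp e.symm]
    apply Finset.sum_congr rfl
    intro i _
    rw [hb, Basis.reindex_apply, Basis.repr_reindex_apply, smul_eq_mul]
  refine ⟨fun i => Qf (b i), b.toMatrix (Pi.basisFun F (Fin n)), (Pi.basisFun F (Fin n)).toMatrix b, ?_,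
    Basis.toMatrix_mul_toMatrix_flip b (Pi.basisFun F (Fin n)),
    Basis.toMatrix_mul_toMatrix_flip (Pi.basisFun F (Fin n)) b, ?_⟩
  · intro i
    change Qf ((v0.reindex e) i) ≠ 0
    rw [Basis.reindex_apply]
    exact hne (e.symm i)
  · intro v
    rw [← hQf, hrepr v]
    apply Finset.sum_congr rfl
    intro i _
    have h3 : (b.toMatrix (Pi.basisFun F (Fin n))) *ᵥ v = b.repr v := by
      have h4 := Basis.toMatrix_mulVec_repr (Pi.basisFun F (Fin n)) b v
      have h5 : ⇑((Pi.basisFun F (Fin n)).repr v) = v := by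
        funext i
        exact Pi.basisFun_repr F (Fin n) v i
      rw [h5] at h4
      exact h4
    rw [h3]

theorem s5981etool_transfer (n : ℕ) (Q : (Fin n → F) → F) (w : Fin n → F) (P Pi : Matrix (Fin n) (Fin n) F)
    (hPPi : P * Pi = 1) (hPiP : Pi * P = 1)
    (hQw : ∀ v, Q v = ∑ i, w i * ((P *ᵥ v) i * (P *ᵥ v) i))
    (M : Matrix (Fin n) (Fin n) F) (c z : F) (hc : c ≠ 0) (hz : z ≠ 0)
    (hM : ∀ x : Fin n → F, ∑ i, w i * ((M *ᵥ x) i * (M *ᵥ x) i) = c * ∑ i, w i * (x i * x i))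
    (hMM : M * M = z • (1 : Matrix (Fin n) (Fin n) F)) :
    ∃ y : GL (Fin n) F, y ∈ Cfsg.Geo.quadSimilarityGroup Q ∧
      (y : Matrix (Fin n) (Fin n) F) * (y : Matrix (Fin n) (Fin n) F) = z • (1 : Matrix (Fin n) (Fin n) F) ∧
      (y : Matrix (Fin n) (Fin n) F).charpoly = M.charpoly := by
  set Y : Matrix (Fin n) (Fin n) F := Pi * M * P with hY
  have hYY : Y * Y = z • (1 : Matrix (Fin n) (Fin n) F) := by
    have h1 : Y * Y = Pi * (M * (P * Pi) * M) * P := by
      rw [hY]; simp only [Matrix.mul_assoc]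
    rw [h1, hPPi, Matrix.mul_one, hMM, Matrix.mul_smul, Matrix.smul_mul, Matrix.mul_one, hPiP]
  have hYinv : Y * (z⁻¹ • Y) = 1 := by
    rw [Matrix.mul_smul, hYY, smul_smul, inv_mul_cancel₀ hz, one_smul]
  have hYinv' : (z⁻¹ • Y) * Y = 1 := by
    rw [Matrix.smul_mul, hYY, smul_smul, inv_mul_cancel₀ hz, one_smul]
  refine ⟨⟨Y, z⁻¹ • Y, hYinv, hYinv'⟩, ⟨Units.mk0 c hc, ?_⟩, hYY, ?_⟩
  · intro v
    change Q (Y *ᵥ v) = c * Q v
    rw [hQw, hQw]
    have h2 : P *ᵥ (Y *ᵥ v) = M *ᵥ (P *ᵥ v) := by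
      rw [hY, Matrix.mulVec_mulVec, Matrix.mulVec_mulVec]
      have h3 : P * (Pi * M * P) = M * P := by
        rw [← Matrix.mul_assoc, ← Matrix.mul_assoc, hPPi, Matrix.one_mul]
      rw [h3]
    rw [h2, hM]
  · change Y.charpoly = M.charpoly
    have hPinv : Pi⁻¹ = P := Matrix.inv_eq_right_inv hPiP
    have hU : (Y : Matrix (Fin n) (Fin n) F) =
        ((⟨Pi, P, hPiP, hPPi⟩ : (Matrix (Fin n) (Fin n) F)ˣ) : Matrix (Fin n) (Fin n) F) * M *
          ((⟨Pi, P, hPiP, hPPi⟩ : (Matrix (Fin n) (Fin n) F)ˣ) : Matrix (Fin n) (Fin n) F)⁻¹ := by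
      change Y = Pi * M * Pi⁻¹
      rw [hPinv]
    rw [hU, Matrix.charpoly_units_conj]

end Cfsg.Agent.Lib.Helper29.S5981
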