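import Cfsg.Agent.Lib.helper2.S5981R0
import Cfsg.Agent.Lib.helper4.S5981A
import Cfsg.Agent.Lib.helper4.S5981B
import Cfsg.Agent.Lib.Helper29.S5981BlockC
import Cfsg.Agent.Lib.Helper29.S5981BlockD
import Cfsg.Agent.Lib.Helper29.S5981BlockE
import Cfsg.Agent.Lib.Helper29.S5981BlockF

/-!
# S5981 (project S5981, helper29) : MAIN (assembly of R0 and the blocks A - F)
-/

set_option autoImplicit false
set_option linter.unusedVariables false
set_option linter.unusedSectionVars false

namespace Cfsg.Agent.Lib.Helper29.S5981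

open scoped MatrixGroups

variable {F : Type*} [Field F] [Fintype F]

/-- MAIN -/
theorem main {p : ℕ} [Fact p.Prime] [CharP F p] {q : ℕ} (hq : Fintype.card F = q)
    (hodd : Odd q) (n : ℕ) (hn : 3 ≤ n) (Q : (Fin n → F) → F) (hQ : Cfsg.Geo.IsNondegenerateQuadraticForm Q)
    (r : ℕ) [Fact r.Prime] (hgap : ¬ (n = 6 ∧ r = 3))
    (hΩ : r ∣ (Cfsg.Geo.quadSimilarityGroup Q).relIndex (Cfsg.Geo.specialLinear (Fin n) F)) :
    Good n Q r ↔ (r = 2 ∨ ((r = 3 ∨ r = 5) ∧ n = r ∧ padicValNat r (q - 1) = 1)) := by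
  have hrpr : r.Prime := Fact.out
  have hppr : p.Prime := Fact.out
  constructor
  · intro hgood
    by_contra hne
    rw [not_or] at hne
    obtain ⟨hr2, hex⟩ := hne
    by_cases hrp : r = p
    · subst hrp
      exact not_good_of_bad (blockA hq hodd n hn Q hQ) hgood
    · -- `q` is a unit mod `r`
      obtain ⟨k, -, hk⟩ := FiniteField.card F p
      have hrq : ¬ r ∣ q := by
        rw [← hq, hk]
        intro h
        exact hrp ((Nat.prime_dvd_prime_iff_eq hrpr hppr).mp (hrpr.dvd_of_dvd_pow h))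
      have hcop : Nat.Coprime q r := ((Nat.Prime.coprime_iff_not_dvd hrpr).mpr hrq).symm
      have hunit : IsUnit ((q : ℕ) : ZMod r) := (ZMod.isUnit_iff_coprime q r).mpr hcop
      have hq0 : ((q : ℕ) : ZMod r) ≠ 0 := fun h => hrq ((ZMod.natCast_eq_zero_iff q r).mp h)
      have hpos : 0 < orderOf ((q : ℕ) : ZMod r) :=
        orderOf_pos_iff.mpr (isOfFinOrder_iff_pow_eq_one.mpr
          ⟨r - 1, Nat.sub_pos_of_lt hrpr.one_lt, ZMod.pow_card_sub_one_eq_one hq0⟩)
      by_cases h1 : orderOf ((q : ℕ) : ZMod r) = 1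
      · have h1' : ((q : ℕ) : ZMod r) = 1 := orderOf_eq_one_iff.mp h1
        have hq1 : 1 ≤ q := by
          rcases Nat.eq_zero_or_pos q with h0 | h0
          · exfalso; rw [h0] at hrq; exact hrq (dvd_zero r)
          · exact h0
        have hdvd : r ∣ q - 1 := by
          have h2 : ((q - 1 : ℕ) : ZMod r) = 0 := by
            rw [Nat.cast_sub hq1, h1']; simp
          exact (ZMod.natCast_eq_zero_iff (q - 1) r).mp h2
        exact not_good_of_bad (blockC hq hodd n hn Q hQ r hr2 hdvd hgap hex) hgood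
      · rcases Nat.even_or_odd (orderOf ((q : ℕ) : ZMod r)) with he | ho
        · exact not_good_of_bad (blockD hq hodd n hn Q hQ r hr2 hrp he hΩ) hgood
        · have h3 : 3 ≤ orderOf ((q : ℕ) : ZMod r) := by
            obtain ⟨t, ht⟩ := ho
            omega
          exact not_good_of_bad
            (blockB hq hodd n hn Q hQ r hr2 hrp ho h3 (ord_le hq n hn Q r hrp hΩ)) hgood
  · rintro (rfl | ⟨h35, hnr, hv⟩)
    · exact blockE hq hodd n hn Q hQ
    · exact blockF hq hodd n hn Q hQ r h35 hnr hv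



end Cfsg.Agent.Lib.Helper29.S5981
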