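import Cfsg.Agent.Lib.Helper20.SA3.Defs
import Cfsg.Agent.Lib.Helper25.PresPad

/-!
Project SA3 (S2285, designer helper20): row FIN1 (`sa3_three_gen`), by helper29: helper25's generic padding block
`Helper25.PresPad.pad_exists` (built on helper21's `change_gens_keep`) with `m = 2`, `n = 3`, `r = 6`.
-/

namespace Cfsg.Agent.Lib.helper7.SAP

open Equiv

universe u

/-- FIN1 [S-M]: a third generator with the relator `x₂`. -/
theorem sa3_three_gen {G : Type u} [Group G]
    (h : ∃ rels : Finset (FreeGroup (Fin 2)), rels.card ≤ 6 ∧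
      Nonempty (PresentedGroup (↑rels : Set (FreeGroup (Fin 2))) ≃* G)) :
    ∃ rels : Finset (FreeGroup (Fin 3)), rels.card ≤ 7 ∧
      Nonempty (PresentedGroup (↑rels : Set (FreeGroup (Fin 3))) ≃* G) :=
  Cfsg.Agent.Lib.Helper25.PresPad.pad_exists (m := 2) (n := 3) (r := 6) (by norm_num) (by norm_num) h

end Cfsg.Agent.Lib.helper7.SAP
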