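import Mathlib
import Cfsg.Agent.Lib.Helper20.SA3.Defs
import Cfsg.Agent.Lib.Helper24.SAPNT4
import Cfsg.Agent.Lib.Helper10.SAPTR4

/-!
Project SA3 (S2285, designer helper20): core of row MA (`sa3_alt_pres6`, `sa3_sym_pres6`), by helper29.
The statements of PA (`sa3_presA`), PS (`sa3_presS`), SX (`sa3_pres_A6`, `sa3_pres_S6`) are hypotheses; NT6 / NT7
(`sap_goodA`, `sap_goodS`) and TR4 (`card_Pt`) are cited from main.  (Copy of helper15's MAIN1 / MAIN2 cores with 6 for 7.)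
-/

set_option autoImplicit false

namespace Cfsg.Agent.Lib.helper7.SAP

open Equiv

universe u

/-- MA core, alternating case -/
theorem sa3ma_alt_core
    (hA : ∀ (p k l : ℕ) [Fact p.Prime], 3 ≤ p → k + 1 ≤ l → l + 1 ≤ p → Odd (l + k) → ¬ 3 ∣ (l + k) →
      ∃ rels : Finset (FreeGroup (Fin 2)), rels.card ≤ 6 ∧
        Nonempty (PresentedGroup (↑rels : Set (FreeGroup (Fin 2))) ≃* alternatingGroup (Pt p k)))
    (hA6 : ∃ rels : Finset (FreeGroup (Fin 2)), rels.card ≤ 6 ∧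
      Nonempty (PresentedGroup (↑rels : Set (FreeGroup (Fin 2))) ≃* alternatingGroup (Fin 6)))
    (n : ℕ) (hn : 5 ≤ n) :
    ∃ rels : Finset (FreeGroup (Fin 2)), rels.card ≤ 6 ∧
      Nonempty (PresentedGroup (↑rels : Set (FreeGroup (Fin 2))) ≃* alternatingGroup (Fin n)) := by
  by_cases h6 : n = 6
  · subst h6
    exact hA6
  · obtain ⟨p, k, l, hp, hp3, hpk, hkl, hlp, hodd, h3⟩ := sap_goodA n hn h6
    have : Fact p.Prime := ⟨hp⟩
    have : NeZero p := ⟨hp.ne_zero⟩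
    obtain ⟨rels, hc, ⟨e⟩⟩ := hA p k l hp3 hkl hlp hodd h3
    obtain ⟨f⟩ := card_Pt p k
    subst hpk
    exact ⟨rels, hc, ⟨e.trans (Equiv.altCongrHom f)⟩⟩

/-- MA core, symmetric case -/
theorem sa3ma_sym_core
    (hS : ∀ (p k l : ℕ) [Fact p.Prime], 3 ≤ p → k + 1 ≤ l → l + 1 ≤ p → Even (l + k) → ¬ 3 ∣ (l + k) →
      ∃ rels : Finset (FreeGroup (Fin 2)), rels.card ≤ 6 ∧
        Nonempty (PresentedGroup (↑rels : Set (FreeGroup (Fin 2))) ≃* Perm (Pt p k)))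
    (hS6 : ∃ rels : Finset (FreeGroup (Fin 2)), rels.card ≤ 6 ∧
      Nonempty (PresentedGroup (↑rels : Set (FreeGroup (Fin 2))) ≃* Perm (Fin 6)))
    (n : ℕ) (hn : 5 ≤ n) :
    ∃ rels : Finset (FreeGroup (Fin 2)), rels.card ≤ 6 ∧
      Nonempty (PresentedGroup (↑rels : Set (FreeGroup (Fin 2))) ≃* Perm (Fin n)) := by
  by_cases h6 : n = 6
  · subst h6
    exact hS6
  · obtain ⟨p, k, l, hp, hp3, hpk, hkl, hlp, heven, h3⟩ := sap_goodS n hn h6
    have : Fact p.Prime := ⟨hp⟩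
    have : NeZero p := ⟨hp.ne_zero⟩
    obtain ⟨rels, hc, ⟨e⟩⟩ := hS p k l hp3 hkl hlp heven h3
    obtain ⟨f⟩ := card_Pt p k
    subst hpk
    exact ⟨rels, hc, ⟨e.trans (Equiv.permCongrHom f)⟩⟩

end Cfsg.Agent.Lib.helper7.SAP
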