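import Cfsg.Agent.Lib.helper7.SAP.Defs
import Cfsg.Agent.Lib.Helper12.SAPGL3core
import Cfsg.Agent.Lib.Helper20.SAPGL5core
import Cfsg.Agent.Lib.Helper13.SAPGL7core
import Cfsg.Agent.Lib.Helper12.SAPGL9core
import Cfsg.Agent.Lib.helper23.SAPGL1
import Cfsg.Agent.Lib.Helper25.SAPGL2
import Cfsg.Agent.Lib.helper8.SAPPERM5
import Cfsg.Agent.Lib.helper2.SAPGL4
import Cfsg.Agent.Lib.Helper21.SAPBASE3
import Cfsg.Agent.Lib.Helper13.SAPGL8

/-!
Project SAP (S2284 + S2297, designer helper7): EXPRESS chain GL3 → GL5 → GL6 → GL7 → GL9 by helper29, under own names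
`sapglx_*` (EXACT Skel statements of `glue_nu_act`, `glue_theta_act`, `glue_tau_old`, `glue_tau_zx`, `glue_carRel`): the landed
cores of helper12 / helper20 / helper13 fed with the landed verbatim rows GL1 GL2 PERM5 GL4 BASE3 GL8.  Used by my GL10 / GL11.
-/

namespace Cfsg.Agent.Lib.helper7.SAP

open Equiv

universe u

section glue
variable {p k l : ℕ} {G : Type u} [Group G]

/-- exact statement of GL3 `glue_nu_act` -/
theorem sapglx_nu_act [Fact p.Prime] (H : GlueHyp p k l G) (x : ZMod p) :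
    H.ν * zo H.a H.z x * H.ν⁻¹ = (zo H.a H.z (nuI p l x)) ^ (sgn l) := by
  have : NeZero p := ⟨(Fact.out : p.Prime).ne_zero⟩
  exact sapgl3_core H (fun x => glue_psi_zo H x) (glue_injOn_old H)
    (fun x => nh_conj_zh p k l H.hlp (le_trans (Nat.le_add_left 1 k) H.hkl) x) x

/-- exact statement of GL5 `glue_theta_act` -/
theorem sapglx_theta_act [Fact p.Prime] (H : GlueHyp p k l G) (x : ZMod p) (hx : x ≠ (l : ZMod p)) :
    (H.ν⁻¹ * H.τ) * zo H.a H.z x * (H.ν⁻¹ * H.τ)⁻¹ = (zo H.a H.z x) ^ (sgn l) :=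
  sapgl5_core H (fun x => sapglx_nu_act H x) (fun x => glue_beta'_act H x) x hx

/-- exact statement of GL6 `glue_tau_old` -/
theorem sapglx_tau_old [Fact p.Prime] (H : GlueHyp p k l G) (x : ZMod p) (hx : x ≠ (l : ZMod p)) :
    H.τ * zo H.a H.z x * H.τ⁻¹ = zo H.a H.z (nuI p l x) :=
  sapgl6_core H (fun x => sapglx_nu_act H x) (fun x hx => sapglx_theta_act H x hx) x hx

/-- exact statement of GL7 `glue_tau_zx` -/
theorem sapglx_tau_zx [Fact p.Prime] (H : GlueHyp p k l G) (y : Ix p k) :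
    H.τ * zx H.a H.z H.τ l y * H.τ⁻¹ = zx H.a H.z H.τ l (tauI p k l y) :=
  sapgl7_core H (fun x hx => sapglx_tau_old H x hx) y

/-- exact statement of GL9 `glue_carRel` -/
theorem sapglx_carRel [Fact p.Prime] (H : GlueHyp p k l G) :
    CarRel (zx H.a H.z H.τ l : Ix p k → G) := by
  have : NeZero p := ⟨(Fact.out : p.Prime).ne_zero⟩
  exact sapgl9_core H.a H.z H.τ (base_carRel H.toBaseHyp) (fun y => sapglx_tau_zx H y)
    (tauI_injective H.hkl H.hlp) (fun y y' => tauI_cover H.hkl H.hlp y y')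

end glue

end Cfsg.Agent.Lib.helper7.SAP
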