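import Cfsg.Agent.Lib.helper7.SAP.Defs
import Cfsg.Agent.Lib.Helper29.SAPGL10core
import Cfsg.Agent.Lib.Helper29.SAPGLX
import Cfsg.Agent.Lib.helper4.SAPCAR3
import Cfsg.Agent.Lib.Helper22.SAPPRES3
import Cfsg.Agent.Lib.Helper13.SAPPERM3

/-!
Project SAP (S2284 + S2297, designer helper7): row GL10 (`glue_card`, `glue_psi_zx`, `glue_injOn`), verbatim, by helper29:
my core on the landed CAR3 (`car_card_le`), PRES3 (`zx_perm`), PERM3 (`closure_zh`) and the express spare `sapglx_carRel`
(exact statement of GL9 `glue_carRel`).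
-/

namespace Cfsg.Agent.Lib.helper7.SAP

open Equiv

universe u

section glue
variable {p k l : ℕ} {G : Type u} [Group G]

/-- GL10 [M] (GL9, CAR3, PERM3, PERM4) -/
theorem glue_card [Fact p.Prime] (H : GlueHyp p k l G) :
    Finite (Subgroup.closure (Set.range (zx H.a H.z H.τ l : Ix p k → G))) ∧
    2 * Nat.card (Subgroup.closure (Set.range (zx H.a H.z H.τ l : Ix p k → G))) ≤
      (p + k + 2).factorial := by
  have : NeZero p := ⟨(Fact.out : p.Prime).ne_zero⟩
  exact sapgl10_card_core H (car_card_le (zx H.a H.z H.τ l) (sapglx_carRel H))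

theorem glue_psi_zx [Fact p.Prime] (H : GlueHyp p k l G) (y : Ix p k) :
    H.ψ (zx H.a H.z H.τ l y) = zh y := by
  have : NeZero p := ⟨(Fact.out : p.Prime).ne_zero⟩
  exact sapgl10_psi_zx_core H
    (fun y => zx_perm p k l H.hlp (le_trans (Nat.le_add_left 1 k) H.hkl) y) y

theorem glue_injOn [Fact p.Prime] (H : GlueHyp p k l G) :
    Set.InjOn H.ψ (Subgroup.closure (Set.range (zx H.a H.z H.τ l : Ix p k → G)) : Set G) := by
  have : NeZero p := ⟨(Fact.out : p.Prime).ne_zero⟩
  exact sapgl10_injOn_core H (glue_card H) (glue_psi_zx H) (closure_zh p k)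

end glue

end Cfsg.Agent.Lib.helper7.SAP
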