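import Cfsg.Agent.Lib.helper7.SAP.Defs
import Cfsg.Agent.Lib.Helper29.SAPGL11core
import Cfsg.Agent.Lib.Helper29.SAPGL10
import Cfsg.Agent.Lib.Helper21.SAPBASE4
import Cfsg.Agent.Lib.Helper13.SAPPERM3

/-!
Project SAP (S2284 + S2297, designer helper7): row GL11 (`glue_final_A`), verbatim, by helper29: my core on the landed BASE4
(`base_a_mem`), PERM3 (`closure_zh`) and my GL10.
-/

namespace Cfsg.Agent.Lib.helper7.SAP

open Equiv

universe u

section glue
variable {p k l : ℕ} {G : Type u} [Group G]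

/-- GL11 [M]: the A-case. -/
theorem glue_final_A [Fact p.Prime] (hp : 3 ≤ p) (H : GlueHyp p k l G) (W : G)
    (hW : W ∈ Subgroup.closure (Set.range (zx H.a H.z H.τ l : Ix p k → G)))
    (hkill : H.τ = W)
    (hgen : Subgroup.closure ({H.a, H.z, H.τ} : Set G) = ⊤) :
    Function.Injective H.ψ ∧ H.ψ.range = alternatingGroup (Pt p k) := by
  have : NeZero p := ⟨(Fact.out : p.Prime).ne_zero⟩
  exact sapgl11_core H W (base_a_mem hp H.toBaseHyp) (glue_psi_zx H) (glue_injOn H)
    (closure_zh p k) hW hkill hgen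

end glue

end Cfsg.Agent.Lib.helper7.SAP
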