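import Mathlib
import Cfsg.Agent.Lib.Helper20.SA3.Defs
import Cfsg.Agent.Lib.Helper29.SA3MAcore
import Cfsg.Agent.Lib.helper7.SA3PA
import Cfsg.Agent.Lib.helper7.SA3PS
import Cfsg.Agent.Lib.helper7.SA3SX

/-!
Project SA3 (S2285, designer helper20): row MA (`sa3_alt_pres6`, `sa3_sym_pres6`), verbatim, by helper29:
my core on helper7's landed PA (`sa3_presA`), PS (`sa3_presS`), SX (`sa3_pres_A6`, `sa3_pres_S6`).
-/

set_option autoImplicit false

namespace Cfsg.Agent.Lib.helper7.SAP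

open Equiv

universe u

/-- MA [S-M]: all `n ≥ 5`. -/
theorem sa3_alt_pres6 (n : ℕ) (hn : 5 ≤ n) :
    ∃ rels : Finset (FreeGroup (Fin 2)), rels.card ≤ 6 ∧
      Nonempty (PresentedGroup (↑rels : Set (FreeGroup (Fin 2))) ≃* alternatingGroup (Fin n)) :=
  sa3ma_alt_core (fun p k l _ hp hkl hlp hodd h3 => sa3_presA p k l hp hkl hlp hodd h3)
    sa3_pres_A6 n hn

theorem sa3_sym_pres6 (n : ℕ) (hn : 5 ≤ n) :
    ∃ rels : Finset (FreeGroup (Fin 2)), rels.card ≤ 6 ∧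
      Nonempty (PresentedGroup (↑rels : Set (FreeGroup (Fin 2))) ≃* Perm (Fin n)) :=
  sa3ma_sym_core (fun p k l _ hp hkl hlp heven h3 => sa3_presS p k l hp hkl hlp heven h3)
    sa3_pres_S6 n hn

end Cfsg.Agent.Lib.helper7.SAP
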