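import Cfsg.Agent.Lib.helper7.SAP.Defs
import Cfsg.Agent.Lib.helper6.SAPPERM6
import Cfsg.Agent.Lib.Helper22.SAPALT2

/-!
Project SAP (S2284 + S2297, designer helper7): SPARES for row PERM9 (`gh_pow`, `gh_pow_ez`, `gh_pow_et`), by helper29, under own
names (exact Skel statements), on the landed PERM6 (`th_pow`, `th_comm_zh0`) and ALT2 (`c3_carRel`).
-/

namespace Cfsg.Agent.Lib.helper7.SAP

open Equiv

universe u

section perm
variable (p k l : ℕ)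

/-- `ps1 ≠ ps2` -/
theorem sapperm9_h29_ps_ne : (ps1 : Pt p k) ≠ ps2 := by
  intro h
  have h1 : (Sum.inr 0 : ZMod p ⊕ Fin 2) = Sum.inr 1 := Sum.inl_injective h
  have h2 : (0 : Fin 2) = 1 := Sum.inr_injective h1
  exact absurd h2 (by decide)

/-- `zh y ^ 3 = 1` -/
theorem sapperm9_h29_zh_pow_three (y : Ix p k) : (zh y) ^ 3 = 1 := by
  have hy : pt y ≠ ps1 ∧ pt y ≠ (ps2 : Pt p k) := by
    cases y with
    | inl x => simp [pt, po, ps1, ps2]
    | inr j => simp [pt, pe, ps1, ps2]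
  exact (c3_carRel (ps1 : Pt p k) ps2 (sapperm9_h29_ps_ne p k)).1 ⟨pt y, hy⟩

/-- SPARE for `gh_pow` -/
theorem sapperm9_h29_gh_pow [NeZero p] (hlp : l + 1 ≤ p) (e : ℕ) :
    (zh (Sum.inl 0 : Ix p k) * th p k l) ^ e = (zh (Sum.inl 0 : Ix p k)) ^ e * (th p k l) ^ e := by
  have hc : Commute (zh (Sum.inl 0 : Ix p k)) (th p k l) := (th_comm_zh0 p k l hlp).symm
  exact hc.mul_pow e

/-- SPARE for `gh_pow_ez` -/
theorem sapperm9_h29_gh_pow_ez [NeZero p] (hlp : l + 1 ≤ p) (ez : ℕ) (h3 : ez % 3 = 1)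
    (hm : (l + k) ∣ ez) :
    (zh (Sum.inl 0 : Ix p k) * th p k l) ^ ez = zh (Sum.inl 0 : Ix p k) := by
  rw [sapperm9_h29_gh_pow p k l hlp ez]
  obtain ⟨c, rfl⟩ := hm
  rw [pow_mul (th p k l), th_pow p k l hlp, one_pow, mul_one,
    pow_eq_pow_mod _ (sapperm9_h29_zh_pow_three p k (Sum.inl 0)), h3, pow_one]

/-- SPARE for `gh_pow_et` -/
theorem sapperm9_h29_gh_pow_et [NeZero p] (hlp : l + 1 ≤ p) (et : ℕ) (h3 : 3 ∣ et)
    (hm : et % (l + k) = 1 % (l + k)) :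
    (zh (Sum.inl 0 : Ix p k) * th p k l) ^ et = th p k l := by
  rw [sapperm9_h29_gh_pow p k l hlp et]
  obtain ⟨c, rfl⟩ := h3
  rw [pow_mul (zh (Sum.inl 0 : Ix p k)), sapperm9_h29_zh_pow_three, one_pow, one_mul,
    pow_eq_pow_mod _ (th_pow p k l hlp), hm, ← pow_eq_pow_mod _ (th_pow p k l hlp), pow_one]

end perm

end Cfsg.Agent.Lib.helper7.SAP
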