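import Cfsg.Agent.Lib.helper7.SAP.Defs

/-!
Project SAP (S2284 + S2297, designer helper7): SPARE core for row PRES6 (`glueHyp_of_rels`), by helper29, under own names.
`sappres6_h29_core` has the conclusions of PERM9 (`gh_pow_ez`, `gh_pow_et`) at the given exponents as hypotheses; everything else
(the content of PRES2 `merged` included) is proved here.
-/

namespace Cfsg.Agent.Lib.helper7.SAP

open Equiv

universe u

section pres
variable (p k l : ℕ)

/-- a homomorphism commutes with `zo` (own copy) -/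
theorem sappres6_h29_map_zo {G : Type*} {P : Type*} [Group G] [Group P] (f : G →* P) (a z : G)
    (x : ZMod p) : f (zo a z x) = zo (f a) (f z) x := by
  unfold zo
  rw [map_mul, map_mul, map_inv, map_pow]

/-- images of the elements of the old subgroup -/
theorem sappres6_h29_map_mem {G : Type*} {P : Type*} [Group G] [Group P] (f : G →* P) (a z : G)
    (w : G) (hw : w ∈ Subgroup.closure (Set.range (zo a z : ZMod p → G))) :
    f w ∈ Subgroup.closure (Set.range (zo (f a) (f z) : ZMod p → P)) := by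
  have h1 : f w ∈ (Subgroup.closure (Set.range (zo a z : ZMod p → G))).map f :=
    Subgroup.mem_map_of_mem f hw
  rw [MonoidHom.map_closure] at h1
  refine Subgroup.closure_mono ?_ h1
  rintro _ ⟨_, ⟨x, rfl⟩, rfl⟩
  exact ⟨x, (sappres6_h29_map_zo p f a z x).symm⟩

/-- the content of PRES2 needed here -/
theorem sappres6_h29_merged {G : Type*} [Group G] (g : G) (m ez et : ℕ) (hg : g ^ (3 * m) = 1)
    (h1 : m ∣ ez) (h2 : 3 ∣ et) :
    (g ^ ez) ^ 3 = 1 ∧ (g ^ et) ^ m = 1 ∧ g ^ et * g ^ ez = g ^ ez * g ^ et := by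
  refine ⟨?_, ?_, ?_⟩
  · obtain ⟨c, rfl⟩ := h1
    rw [← pow_mul, show m * c * 3 = 3 * m * c by ring, pow_mul, hg, one_pow]
  · obtain ⟨c, rfl⟩ := h2
    rw [← pow_mul, show 3 * c * m = 3 * m * c by ring, pow_mul, hg, one_pow]
  · rw [← pow_add, ← pow_add, add_comm]

/-- SPARE core for PRES6. -/
theorem sappres6_h29_core [Fact p.Prime] {G : Type u} [Group G] (a g : G) (hkl : k + 1 ≤ l)
    (hlp : l + 1 ≤ p) (r : (ZMod p)ˣ) (hr : ∀ u : (ZMod p)ˣ, u ∈ Subgroup.zpowers r) (ez et : ℕ)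
    (hpez : (zh (Sum.inl 0 : Ix p k) * th p k l) ^ ez = zh (Sum.inl 0 : Ix p k))
    (hpet : (zh (Sum.inl 0 : Ix p k) * th p k l) ^ et = th p k l)
    (hzm : (l + k) ∣ ez) (ht3 : 3 ∣ et)
    (Bw Nw : FreeGroup (Fin 2))
    (hBw : Bw ∈ Subgroup.closure (Set.range (zo wA (wG ^ ez) : ZMod p → FreeGroup (Fin 2))))
    (hNw : Nw ∈ Subgroup.closure (Set.range (zo wA (wG ^ ez) : ZMod p → FreeGroup (Fin 2))))
    (hN : evP p k l Nw = nh p k l)
    (hrel : ∀ w ∈ relsCommon p l k ez et (r : ZMod p).val Bw Nw, FreeGroup.lift ![a, g] w = 1)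
    (ψ : G →* Perm (Pt p k)) (hψa : ψ a = ah p k) (hψg : ψ g = zh (Sum.inl 0) * th p k l) :
    ∃ H : GlueHyp p k l G, H.a = a ∧ H.z = g ^ ez ∧ H.τ = g ^ et ∧ H.ψ = ψ ∧
      H.β = FreeGroup.lift ![a, g] Bw ∧ H.ν = FreeGroup.lift ![a, g] Nw := by
  set L : FreeGroup (Fin 2) →* G := FreeGroup.lift ![a, g] with hL
  have hLA : L wA = a := by
    rw [hL]; show FreeGroup.lift ![a, g] (FreeGroup.of 0) = a
    rw [FreeGroup.lift_apply_of]; rfl
  have hLG : L wG = g := by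
    rw [hL]; show FreeGroup.lift ![a, g] (FreeGroup.of 1) = g
    rw [FreeGroup.lift_apply_of]; rfl
  -- the six relators
  have h1 : a ^ p = 1 := by
    have h := hrel (wA ^ p) (by simp [relsCommon])
    rwa [map_pow, hLA] at h
  have h2 : g ^ (3 * (l + k)) = 1 := by
    have h := hrel (wG ^ (3 * (l + k))) (by simp [relsCommon])
    rwa [map_pow, hLG] at h
  have h3 : (g ^ ez * (a * g ^ ez * a⁻¹)) ^ 2 = 1 := by
    have h := hrel ((wG ^ ez * (wA * wG ^ ez * wA⁻¹)) ^ 2) (by simp [relsCommon])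
    rwa [map_pow, map_mul, map_mul, map_mul, map_inv, map_pow, hLA, hLG] at h
  have h4 : L Bw * a * (L Bw)⁻¹ = a ^ (r : ZMod p).val := by
    have h := hrel (Bw * wA * Bw⁻¹ * (wA ^ (r : ZMod p).val)⁻¹) (by simp [relsCommon])
    rw [map_mul, map_mul, map_mul, map_inv, map_inv, map_pow, hLA] at h
    exact mul_inv_eq_one.mp h
  have h5 : L Bw * g ^ ez * (L Bw)⁻¹ = (g ^ ez)⁻¹ := by
    have h := hrel (Bw * wG ^ ez * Bw⁻¹ * wG ^ ez) (by simp [relsCommon])
    rw [map_mul, map_mul, map_mul, map_inv, map_pow, hLG] at h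
    exact mul_eq_one_iff_eq_inv.mp h
  have h6 : ((L Nw)⁻¹ * g ^ et) * (a ^ l * L Bw * (a ^ l)⁻¹) =
      (a ^ l * L Bw * (a ^ l)⁻¹) * ((L Nw)⁻¹ * g ^ et) := by
    have h := hrel (((Nw⁻¹ * wG ^ et) * (wA ^ l * Bw * (wA ^ l)⁻¹)) *
      ((wA ^ l * Bw * (wA ^ l)⁻¹) * (Nw⁻¹ * wG ^ et))⁻¹) (by simp [relsCommon])
    rw [map_mul, map_inv] at h
    have h' := mul_inv_eq_one.mp h
    simpa only [map_mul, map_inv, map_pow, hLA, hLG] using h'
  obtain ⟨hz3', hτm, hτz⟩ := sappres6_h29_merged g (l + k) ez et h2 hzm ht3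
  -- memberships
  have hLz : L (wG ^ ez) = g ^ ez := by rw [map_pow, hLG]
  have hβmem : L Bw ∈ Subgroup.closure (Set.range (zo a (g ^ ez) : ZMod p → G)) := by
    have h := sappres6_h29_map_mem p L wA (wG ^ ez) Bw hBw
    rwa [hLA, hLz] at h
  have hνmem : L Nw ∈ Subgroup.closure (Set.range (zo a (g ^ ez) : ZMod p → G)) := by
    have h := sappres6_h29_map_mem p L wA (wG ^ ez) Nw hNw
    rwa [hLA, hLz] at h
  -- `ψ ∘ L = evP`
  have hcomp : ψ.comp L = evP p k l := by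
    apply FreeGroup.ext_hom
    intro i
    rw [MonoidHom.comp_apply, hL, FreeGroup.lift_apply_of]
    unfold evP
    rw [FreeGroup.lift_apply_of]
    fin_cases i
    · exact hψa
    · exact hψg
  have hψν : ψ (L Nw) = nh p k l := by
    rw [← hN, ← hcomp, MonoidHom.comp_apply]
  have hψz : ψ (g ^ ez) = zh (Sum.inl 0) := by rw [map_pow, hψg, hpez]
  have hψτ : ψ (g ^ et) = th p k l := by rw [map_pow, hψg, hpet]
  exact ⟨{ a := a, z := g ^ ez, β := L Bw, r := r, hr := hr, ha := h1, hz := hz3', hzz := h3,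
           hβa := h4, hβz := h5, hβ := hβmem, ψ := ψ, hψa := hψa, hψz := hψz, τ := g ^ et,
           hψτ := hψτ, ν := L Nw, hψν := hψν, hν := hνmem, hτz := hτz, hτm := hτm, hglue := h6,
           hkl := hkl, hlp := hlp }, rfl, rfl, rfl, rfl, rfl, rfl⟩

end pres

end Cfsg.Agent.Lib.helper7.SAP
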