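import Cfsg.Agent.Lib.helper7.SAP.Defs
import Cfsg.Agent.Lib.Helper29.SAPPRES6h29
import Cfsg.Agent.Lib.Helper9.SAPPERM9

/-!
Project SAP (S2284 + S2297, designer helper7): SPARE for row PRES6 (`glueHyp_of_rels`, exact statement, own name; the verbatim row is `helper7.SAP.Pres6`), by helper29:
`sappres6_h29_core` on the landed PERM9 (`gh_pow_ez`, `gh_pow_et`).
-/

namespace Cfsg.Agent.Lib.helper7.SAP

open Equiv

universe u

section pres
variable (p k l : ℕ)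

/-- PRES6 [M-H]: a group in which the common relators hold, with a compatible homomorphism to
`Perm (Pt p k)`, carries a `GlueHyp`. -/
theorem sappres6_h29_glueHyp_of_rels [Fact p.Prime] {G : Type u} [Group G] (a g : G) (hkl : k + 1 ≤ l) (hlp : l + 1 ≤ p)
    (r : (ZMod p)ˣ) (hr : ∀ u : (ZMod p)ˣ, u ∈ Subgroup.zpowers r) (ez et : ℕ)
    (hz3 : ez % 3 = 1) (hzm : (l + k) ∣ ez) (ht3 : 3 ∣ et) (htm : et % (l + k) = 1 % (l + k))
    (hzt : (ez + et) % (3 * (l + k)) = 1 % (3 * (l + k)))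
    (Bw Nw : FreeGroup (Fin 2))
    (hBw : Bw ∈ Subgroup.closure (Set.range (zo wA (wG ^ ez) : ZMod p → FreeGroup (Fin 2))))
    (hNw : Nw ∈ Subgroup.closure (Set.range (zo wA (wG ^ ez) : ZMod p → FreeGroup (Fin 2))))
    (hB : evP p k l Bw = bh k r) (hN : evP p k l Nw = nh p k l)
    (hrel : ∀ w ∈ relsCommon p l k ez et (r : ZMod p).val Bw Nw, FreeGroup.lift ![a, g] w = 1)
    (ψ : G →* Perm (Pt p k)) (hψa : ψ a = ah p k) (hψg : ψ g = zh (Sum.inl 0) * th p k l) :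
    ∃ H : GlueHyp p k l G, H.a = a ∧ H.z = g ^ ez ∧ H.τ = g ^ et ∧ H.ψ = ψ ∧
      H.β = FreeGroup.lift ![a, g] Bw ∧ H.ν = FreeGroup.lift ![a, g] Nw := by
  have : NeZero p := ⟨(Fact.out : p.Prime).ne_zero⟩
  have _ := hzt
  have _ := hB
  exact sappres6_h29_core p k l a g hkl hlp r hr ez et (gh_pow_ez p k l hlp ez hz3 hzm)
    (gh_pow_et p k l hlp et ht3 htm) hzm ht3 Bw Nw hBw hNw hN hrel ψ hψa hψg

end pres

end Cfsg.Agent.Lib.helper7.SAP
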