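import Mathlib
import Cfsg.Agent.Lib.helper17.SLP.Defs
import Cfsg.Agent.Lib.helper17.SL3.Defs

/-!
# Project SL3 (S2287, designer helper17), row A4 (`pw_X`).
-/

set_option autoImplicit false

namespace Cfsg.Agent.Lib.helper17.SL3

open Cfsg.Agent.Lib.helper17.SLP
open Polynomial

universe u v

/-- A4 [S]  `natDegree X = 1`, the list is `[cj h u 0 ^ 0, cj h u l ^ 1]` (`(1 : ZMod p).val = 1`). -/
theorem pw_X {G : Type*} [Group G] (p : ℕ) [Fact p.Prime] (h u : G) (l : ℤ) :
    pw p h u l (X : (ZMod p)[X]) = cj h u l := by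
  unfold pw
  rw [natDegree_X]
  have h1 : ((1 : ZMod p)).val = 1 := ZMod.val_one p
  simp [List.range_succ, coeff_X, h1]

end Cfsg.Agent.Lib.helper17.SL3
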