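import Mathlib
import Cfsg.Agent.Lib.Helper19.SO8.Defs
import Cfsg.Agent.Lib.Helper16.SpinG2
import Cfsg.Agent.Lib.helper4.OTSSTDP
import Cfsg.Agent.Lib.helper15.OTSSTDCTX
import Cfsg.Agent.Lib.Helper25.BCGX4

set_option autoImplicit false

/-!
# Project SO8 (designer helper19), row U8M (`oreal_u8m`), second copy by helper29 (`so8u8m_h29`, SAME statement).
The explicit regular unipotent `T` of order `8` on `quadFormMinus 2 F 1 c` (characteristic `2`, every `c`):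
`x₁' = x₁+x₂+c y₂+z₁+z₂`, `x₂' = x₂+c y₂+z₁+z₂`, `y₁' = y₁`, `y₂' = y₁+y₂`, `z₁' = z₁+z₂`, `z₂' = y₂+z₂`.
`T² : x₁ ↦ x₁+c y₁+(1+c) y₂+z₁`, `x₂ ↦ x₂+c y₁+y₂+z₂`, `z₁ ↦ y₂+z₁`, `z₂ ↦ y₁+z₂`; `T⁴ : x₁ ↦ x₁+y₂`, `x₂ ↦ x₂+y₁`; `T⁸ = 1`.
-/

namespace Cfsg.Agent.Lib.Helper19.SO8

open Polynomial Cfsg.Agent.Lib.Helper13.OTS

/-- the index type of the `6`-dimensional minus-type space -/
abbrev So8u8mI : Type := (Fin 2 ⊕ Fin 2) ⊕ Fin 2

variable {F : Type*} [Field F]

/-- the unipotent `T` -/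
def so8u8m_T (c : F) : Module.End F (So8u8mI → F) where
  toFun v := Sum.elim
    (Sum.elim
      ![v (.inl (.inl 0)) + v (.inl (.inl 1)) + c * v (.inl (.inr 1)) + v (.inr 0) + v (.inr 1),
        v (.inl (.inl 1)) + c * v (.inl (.inr 1)) + v (.inr 0) + v (.inr 1)]
      ![v (.inl (.inr 0)), v (.inl (.inr 0)) + v (.inl (.inr 1))])
    ![v (.inr 0) + v (.inr 1), v (.inl (.inr 1)) + v (.inr 1)]
  map_add' u v := by
    funext i
    rcases i with (i | i) | i <;> fin_cases i <;> simp <;> ring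
  map_smul' a v := by
    funext i
    rcases i with (i | i) | i <;> fin_cases i <;> simp <;> ring

/-- `T²` (in characteristic `2`) -/
def so8u8m_T2 (c : F) : Module.End F (So8u8mI → F) where
  toFun v := Sum.elim
    (Sum.elim
      ![v (.inl (.inl 0)) + c * v (.inl (.inr 0)) + v (.inl (.inr 1)) + c * v (.inl (.inr 1)) + v (.inr 0),
        v (.inl (.inl 1)) + c * v (.inl (.inr 0)) + v (.inl (.inr 1)) + v (.inr 1)]
      ![v (.inl (.inr 0)), v (.inl (.inr 1))])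
    ![v (.inl (.inr 1)) + v (.inr 0), v (.inl (.inr 0)) + v (.inr 1)]
  map_add' u v := by
    funext i
    rcases i with (i | i) | i <;> fin_cases i <;> simp <;> ring
  map_smul' a v := by
    funext i
    rcases i with (i | i) | i <;> fin_cases i <;> simp <;> ring

/-- `T⁴` (in characteristic `2`) -/
def so8u8m_T4 : Module.End F (So8u8mI → F) where
  toFun v := Sum.elim
    (Sum.elim
      ![v (.inl (.inl 0)) + v (.inl (.inr 1)), v (.inl (.inl 1)) + v (.inl (.inr 0))]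
      ![v (.inl (.inr 0)), v (.inl (.inr 1))])
    ![v (.inr 0), v (.inr 1)]
  map_add' u v := by
    funext i
    rcases i with (i | i) | i <;> fin_cases i <;> simp <;> ring
  map_smul' a v := by
    funext i
    rcases i with (i | i) | i <;> fin_cases i <;> simp <;> ring

theorem so8u8m_sq [CharP F 2] (c : F) : so8u8m_T c * so8u8m_T c = so8u8m_T2 c := by
  have h2 : (2 : F) = 0 := CharTwo.two_eq_zero
  apply LinearMap.ext
  intro v
  funext i
  rcases i with (i | i) | i <;> fin_cases i <;>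
    simp [so8u8m_T, so8u8m_T2, Module.End.mul_apply]
  · linear_combination (v (.inl (.inl 1)) + c * v (.inl (.inr 1)) + v (.inr 0) + 2 * v (.inr 1)) * h2
  · linear_combination (c * v (.inl (.inr 1)) + v (.inr 0) + v (.inr 1)) * h2
  · linear_combination (v (.inl (.inr 0))) * h2
  · linear_combination (v (.inr 1)) * h2
  · linear_combination (v (.inl (.inr 1))) * h2

theorem so8u8m_sq2 [CharP F 2] (c : F) : so8u8m_T2 c * so8u8m_T2 c = so8u8m_T4 := by
  have h2 : (2 : F) = 0 := CharTwo.two_eq_zero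
  apply LinearMap.ext
  intro v
  funext i
  rcases i with (i | i) | i <;> fin_cases i <;>
    simp [so8u8m_T2, so8u8m_T4, Module.End.mul_apply]
  · linear_combination (c * v (.inl (.inr 0)) + v (.inl (.inr 1)) + c * v (.inl (.inr 1)) + v (.inr 0)) * h2
  · linear_combination (c * v (.inl (.inr 0)) + v (.inl (.inr 1)) + v (.inr 1)) * h2
  · linear_combination (v (.inl (.inr 1))) * h2
  · linear_combination (v (.inl (.inr 0))) * h2

theorem so8u8m_sq4 [CharP F 2] : (so8u8m_T4 : Module.End F (So8u8mI → F)) * so8u8m_T4 = 1 := by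
  have h2 : (2 : F) = 0 := CharTwo.two_eq_zero
  apply LinearMap.ext
  intro v
  funext i
  rcases i with (i | i) | i <;> fin_cases i <;>
    simp [so8u8m_T4, Module.End.mul_apply]
  · linear_combination (v (.inl (.inr 1))) * h2
  · linear_combination (v (.inl (.inr 0))) * h2

theorem so8u8m_pow4 [CharP F 2] (c : F) : so8u8m_T c ^ 4 = so8u8m_T4 := by
  rw [show (4 : ℕ) = 2 * 2 from rfl, pow_mul, pow_two (so8u8m_T c), so8u8m_sq, pow_two, so8u8m_sq2]

theorem so8u8m_pow8 [CharP F 2] (c : F) : so8u8m_T c ^ 8 = 1 := by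
  rw [show (8 : ℕ) = 4 * 2 from rfl, pow_mul, so8u8m_pow4, pow_two, so8u8m_sq4]

theorem so8u8m_T4_ne_one : (so8u8m_T4 : Module.End F (So8u8mI → F)) ≠ 1 := by
  intro h
  have h1 := congrArg (fun f : Module.End F (So8u8mI → F) =>
    f (Pi.single (Sum.inl (Sum.inr 1)) 1) (Sum.inl (Sum.inl 0))) h
  simp [so8u8m_T4] at h1

theorem so8u8m_pres [CharP F 2] (c : F) (v : So8u8mI → F) :
    Cfsg.Agent.Lib.Helper16.qfMinus 2 F 1 c (so8u8m_T c v) =
      Cfsg.Agent.Lib.Helper16.qfMinus 2 F 1 c v := by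
  have h2 : (2 : F) = 0 := CharTwo.two_eq_zero
  show Cfsg.quadFormMinus 2 F 1 c (so8u8m_T c v) = Cfsg.quadFormMinus 2 F 1 c v
  unfold Cfsg.quadFormMinus
  simp [so8u8m_T, Fin.sum_univ_two]
  linear_combination
    (v (.inl (.inl 1)) * v (.inl (.inr 0)) + c * v (.inl (.inr 1)) * v (.inl (.inr 0)) +
      v (.inr 0) * v (.inl (.inr 0)) + v (.inr 1) * v (.inl (.inr 0)) + c * v (.inl (.inr 1)) ^ 2 +
      v (.inr 0) * v (.inl (.inr 1)) + v (.inr 1) * v (.inl (.inr 1)) + v (.inr 1) ^ 2 +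
      v (.inr 0) * v (.inr 1) + c * v (.inl (.inr 1)) * v (.inr 1)) * h2

/-- U8M, second copy (SAME statement as `oreal_u8m`) -/
theorem so8u8m_h29 {F : Type*} [Field F] [Fintype F] [CharP F 2] (c : F)
    (hc : ∀ z₁ z₂ : F, z₁ ^ 2 + 1 * z₁ * z₂ + c * z₂ ^ 2 = 0 → z₁ = 0 ∧ z₂ = 0) :
    OReal F 3 (-1) 8 := by
  classical
  have hstd : QStd (Cfsg.Agent.Lib.Helper16.qfMinus 2 F 1 c) 3 (-1) := otsstdp_minus 2 1 c hc
  have hctx : QCtx 8 (Cfsg.Agent.Lib.Helper16.qfMinus 2 F 1 c) (so8u8m_T c) := by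
    refine ⟨?_, so8u8m_pres c, so8u8m_pow8 c⟩
    intro u hu
    apply hstd.nd.1
    intro v
    rw [QuadraticMap.polarBilin_apply_apply]
    exact hu v
  obtain ⟨x, hx, hxT, hx8⟩ := q_realize (Cfsg.Agent.Lib.Helper16.qfMinus 2 F 1 c) 8 (so8u8m_T c) hctx
  have hx4 : ¬ x ^ 2 ^ 2 = 1 := by
    intro h
    rw [show (2 : ℕ) ^ 2 = 4 from rfl, Cfsg.Agent.Lib.Lead.BCG.gl_same, hxT, so8u8m_pow4] at h
    exact so8u8m_T4_ne_one h
  have hord : orderOf x = 2 ^ (2 + 1) := orderOf_eq_prime_pow hx4 (by rw [show (2 : ℕ) ^ (2 + 1) = 8 from rfl]; exact hx8)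
  refine ⟨So8u8mI, inferInstance, inferInstance, Cfsg.Agent.Lib.Helper16.qfMinus 2 F 1 c, hstd,
    ⟨x, hx⟩, ?_⟩
  rw [Subgroup.orderOf_mk, hord]
  rfl

end Cfsg.Agent.Lib.Helper19.SO8
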