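import Mathlib
import Cfsg.Agent.Lib.Helper29.SO8U8Mh29

set_option autoImplicit false

/-!
# Project SO8 (designer helper19), row U8M: SPARE (helper29). helper28 landed the verbatim `oreal_u8m` in the same minute, so this wrapper is renamed `so8u8m_h29_oreal_u8m`.
-/

namespace Cfsg.Agent.Lib.Helper19.SO8

open Polynomial Cfsg.Agent.Lib.Helper13.OTS

/-- U8M [M-L] -/
theorem so8u8m_h29_oreal_u8m {F : Type*} [Field F] [Fintype F] [CharP F 2] (c : F)
    (hc : ∀ z₁ z₂ : F, z₁ ^ 2 + 1 * z₁ * z₂ + c * z₂ ^ 2 = 0 → z₁ = 0 ∧ z₂ = 0) :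
    OReal F 3 (-1) 8 :=
  so8u8m_h29 c hc

end Cfsg.Agent.Lib.Helper19.SO8
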