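import Mathlib
import Cfsg.Agent.Lib.helper17.SLP.Defs
import Cfsg.Agent.Lib.helper3.SP4.Defs
import Cfsg.Agent.Lib.Helper29.SP4C1

/-!
# Project SP4 (S2293, designer helper3), row T4 (`act_span`).
-/

set_option autoImplicit false

namespace Cfsg.Agent.Lib.helper3.SP4

open Cfsg.Agent.Lib.helper17.SLP
open Polynomial

universe u v

section T

variable {F : Type u} [Field F] [Fintype F] {G : Type v} [Group G]

/-- T4 [S-M]  `{t | g * X t * g⁻¹ = X' (c * t)}` is an additive subgroup (`hX`, `hX'`, `mul_add`; `X 0 = 1`, `X (-t) = (X t)⁻¹` follow from additivity) containing `S`; `AddSubgroup.closure_le`. -/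
theorem act_span (X X' : F → G) (hX : ∀ s t, X (s + t) = X s * X t) (hX' : ∀ s t, X' (s + t) = X' s * X' t)
    (g : G) (c : F) (S : Set F) (hS : AddSubgroup.closure S = ⊤)
    (h : ∀ t ∈ S, g * X t * g⁻¹ = X' (c * t)) : ∀ t, g * X t * g⁻¹ = X' (c * t) := by
  intro t
  have ht : t ∈ AddSubgroup.closure S := by rw [hS]; exact AddSubgroup.mem_top t
  induction ht using AddSubgroup.closure_induction with
  | mem x hx => exact h x hx
  | zero =>
    rw [sp4c1_zero X hX, mul_zero, sp4c1_zero X' hX']
    group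
  | add a b _ _ iha ihb =>
    rw [hX, mul_add, hX', ← iha, ← ihb]
    group
  | neg a _ iha =>
    rw [sp4c1_neg X hX, mul_neg, sp4c1_neg X' hX', ← iha]
    group

end T

end Cfsg.Agent.Lib.helper3.SP4
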