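import Mathlib
import Cfsg.Agent.Lib.helper7.SPC.Defs
import Cfsg.Agent.Lib.Helper29.SPCE6core
import Cfsg.Agent.Lib.Helper5.SPCE5
import Cfsg.Agent.Lib.Helper27.SPCISO

set_option autoImplicit false

/-!
# Project SPC (S2676, designer helper7), row E6: `classify` verbatim (helper29).
-/

namespace Cfsg.Agent.Lib.helper7.SPC

universe u

open Module

variable {F : Type u} [Field F]

/-- E6 [M] (batch 2; cites E5 ISO): strong induction on `finrank F T.V`.  `finrank = 0`: `T.V` is a subsingleton, `T ≅ TZero F = sumList []` (the zero equivalence).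
Otherwise E5, the induction hypothesis for `T'`, `TSum_congr`, `TIso_trans` and `sumList_cons`. -/
theorem classify (h2 : (2 : F) ≠ 0) (T : Trip F) (hT : T.Good) :
    ∃ L : List (Blk F), CanonL L ∧ TIso T (sumList L) ∧
      ∀ e : ℕ, T.N ^ e = 0 → ∀ b ∈ L, b.len ≤ e :=
  spce6_core (fun T hT hV => peel h2 T hT hV) TIso_refl (fun h h' => TIso_trans h h')
    (fun h₁ h₂ => TSum_congr h₁ h₂) T hT

end Cfsg.Agent.Lib.helper7.SPC
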