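import Mathlib
import Cfsg.Agent.Lib.helper7.SPC.Defs

set_option autoImplicit false

/-!
# Project SPC (S2676, designer helper7), row M2 (`conj_iff`): core on the cited statements (helper29).
-/

namespace Cfsg.Agent.Lib.helper7.SPC

universe u

open Module

variable {F : Type u} [Field F]

/-- M2 core: `conj_iff` from instances of the statements of Y3, R2, ISO, A5, K6, D6, C7, C6 -/
theorem spcm2_core (m : ℕ) (g g' : Matrix.symplecticGroup (Fin m) F)
    (L L' : List (Blk F)) (hL : CanonL L) (hL' : CanonL L')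
    (hgL : TIso (stdTrip m (cay (g : Matrix (Fin m ⊕ Fin m) (Fin m ⊕ Fin m) F))) (sumList L))
    (hgL' : TIso (stdTrip m (cay (g' : Matrix (Fin m ⊕ Fin m) (Fin m ⊕ Fin m) F))) (sumList L'))
    (hY3 : IsConj g g' ↔ ∃ h : Matrix.symplecticGroup (Fin m) F,
      (h : Matrix (Fin m ⊕ Fin m) (Fin m ⊕ Fin m) F) * cay (g : Matrix (Fin m ⊕ Fin m) (Fin m ⊕ Fin m) F) =
        cay (g' : Matrix (Fin m ⊕ Fin m) (Fin m ⊕ Fin m) F) * (h : Matrix (Fin m ⊕ Fin m) (Fin m ⊕ Fin m) F))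
    (hR2 : TIso (stdTrip m (cay (g : Matrix (Fin m ⊕ Fin m) (Fin m ⊕ Fin m) F)))
        (stdTrip m (cay (g' : Matrix (Fin m ⊕ Fin m) (Fin m ⊕ Fin m) F))) ↔
      ∃ h : Matrix.symplecticGroup (Fin m) F,
        (h : Matrix (Fin m ⊕ Fin m) (Fin m ⊕ Fin m) F) * cay (g : Matrix (Fin m ⊕ Fin m) (Fin m ⊕ Fin m) F) =
          cay (g' : Matrix (Fin m ⊕ Fin m) (Fin m ⊕ Fin m) F) * (h : Matrix (Fin m ⊕ Fin m) (Fin m ⊕ Fin m) F))
    (hsymm : ∀ {T T' : Trip F}, TIso T T' → TIso T' T)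
    (htrans : ∀ {T T' T'' : Trip F}, TIso T T' → TIso T' T'' → TIso T T'')
    (hA5 : partsL L = partsL L' → (∀ k : ℕ, IsSquare (prodA L k * prodA L' k)) →
      TIso (sumList L) (sumList L'))
    (hK6 : TIso (sumList L) (sumList L') → partsL L = partsL L')
    (hD6 : TIso (sumList L) (sumList L') → ∀ k : ℕ, Even k → 0 < k →
      IsSquare (prodA L k * prodA L' k))
    (hC7a : ∀ (L : List (Blk F)) (k : ℕ), k ∉ partsL L → prodA L k = 1)
    (hC7b : ∀ (L : List (Blk F)), CanonL L → ∀ k : ℕ, ¬ Even k → prodA L k = 1)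
    (hC6 : ∀ (L : List (Blk F)), CanonL L → ∀ a : ℕ, a ∈ partsL L → 0 < a) :
    IsConj g g' ↔ (partsL L = partsL L' ∧ ∀ k : ℕ, IsSquare (prodA L k * prodA L' k)) := by
  rw [hY3, ← hR2]
  constructor
  · intro h
    have hLL : TIso (sumList L) (sumList L') := htrans (htrans (hsymm hgL) h) hgL'
    refine ⟨hK6 hLL, fun k => ?_⟩
    by_cases hk : Even k
    · rcases Nat.eq_zero_or_pos k with hk0 | hk0
      · have h1 : k ∉ partsL L := fun hmem => by
          have := hC6 L hL k hmem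
          omega
        have h2 : k ∉ partsL L' := fun hmem => by
          have := hC6 L' hL' k hmem
          omega
        rw [hC7a L k h1, hC7a L' k h2, one_mul]
        exact ⟨1, (one_mul 1).symm⟩
      · exact hD6 hLL k hk hk0
    · rw [hC7b L hL k hk, hC7b L' hL' k hk, one_mul]
      exact ⟨1, (one_mul 1).symm⟩
  · rintro ⟨hparts, hsq⟩
    exact htrans (htrans hgL (hA5 hparts hsq)) (hsymm hgL')

end Cfsg.Agent.Lib.helper7.SPC
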