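import Mathlib
import Cfsg.Agent.Lib.helper7.SPC.Defs
import Cfsg.Agent.Lib.Helper29.SPCM2core
import Cfsg.Agent.Lib.Helper27.SPCISO
import Cfsg.Agent.Lib.Helper20.SPCY3
import Cfsg.Agent.Lib.helper15.SPCR2
import Cfsg.Agent.Lib.Helper5.SPCA5
import Cfsg.Agent.Lib.Helper10.SPCK5
import Cfsg.Agent.Lib.Helper10.SPCD6
import Cfsg.Agent.Lib.helper4.SPCC6
import Cfsg.Agent.Lib.helper4.SPCC7

set_option autoImplicit false

/-!
# Project SPC (S2676, designer helper7), row M2: `conj_iff` verbatim (helper29).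
-/

namespace Cfsg.Agent.Lib.helper7.SPC

universe u

open Module

variable {F : Type u} [Field F]

/-- M2 [M] (batch 2; cites ISO R2 Y3 A5 K6 D6 C7 C6): `IsConj g g' ↔ TIso (stdTrip (cay g)) (stdTrip (cay g'))` (Y3, R2) `↔ TIso (sumList L) (sumList L')` (ISO).  `→`: K6, and D6 for `k` even positive;
for `k` odd: `prodA_eq_one_of_odd` (C7) for both lists, `1 * 1` is a square; for `k = 0`: `0 ∉ partsL` of a canonical list (`parts_pos`, C6), `prodA_eq_one` (C7).  `←`: A5. -/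
theorem conj_iff [Fintype F] {p : ℕ} [Fact p.Prime] [CharP F p] (hp : p ≠ 2) (m : ℕ)
    (g g' : Matrix.symplecticGroup (Fin m) F) (hg : g ^ p = 1) (hg' : g' ^ p = 1)
    (L L' : List (Blk F)) (hL : CanonL L) (hL' : CanonL L')
    (hgL : TIso (stdTrip m (cay (g : Matrix (Fin m ⊕ Fin m) (Fin m ⊕ Fin m) F))) (sumList L))
    (hgL' : TIso (stdTrip m (cay (g' : Matrix (Fin m ⊕ Fin m) (Fin m ⊕ Fin m) F))) (sumList L')) :
    IsConj g g' ↔ (partsL L = partsL L' ∧ ∀ k : ℕ, IsSquare (prodA L k * prodA L' k)) := by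
  have h2 : (2 : F) ≠ 0 := by
    apply Ring.two_ne_zero
    rw [ringChar.eq F p]
    exact hp
  exact spcm2_core m g g' L L' hL hL' hgL hgL' (cay_conj hp m g g' hg hg') (std_iso_iff m _ _)
    (fun h => TIso_symm h) (fun h h' => TIso_trans h h')
    (fun hparts hsq => complete h2 L L' hL hL' hparts hsq)
    (fun h => parts_inv L L' hL hL' h)
    (fun h k hk hk0 => disc_inv h2 L L' hL hL' h k hk hk0)
    (fun L k h => prodA_eq_one L k h)
    (fun L hL k hk => prodA_eq_one_of_odd L hL k hk)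
    (fun L hL a ha => parts_pos L hL a ha)

end Cfsg.Agent.Lib.helper7.SPC
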