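import Mathlib
import Cfsg.Prelude.Def_Classical
import Cfsg.Prelude.Def_KGroupFacts
import Cfsg.Agent.Lib.Lead.SPN.Defs
import Cfsg.Agent.Lib.Lead.SPN.Defs2
import Cfsg.Agent.Lib.Helper1.SPNT5
import Cfsg.Agent.Lib.Helper29.SPNK3core

/-!
# Project SPN (designer lead), row K3 (helper29): `Cov.ker_sig_of_no_neg` (verbatim).
-/

set_option autoImplicit false

namespace Cfsg.Agent.Lib.Lead.SPN

open Cfsg.Agent.Lib.helper15.St2 Cfsg.Agent.Lib.helper3.STC Cfsg.Agent.Lib.Lead.STD Cfsg.Agent.Lib.Helper16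
  Cfsg.Agent.Lib.Helper1.OMP

universe u v w

namespace Cov

variable {l : ℕ} {F : Type u} [Field F] [Fintype F] {G : Type v} [Group G] (C : Cov l F G)

/-- K3 [S-M]  no `-1` in `Ω`: `ker sig = {1, zel}`. -/
theorem ker_sig_of_no_neg (hno : ¬ ∃ z : ↥(Cfsg.Omega F (Cfsg.quadFormPlus l F)), omat z = -1) (g : G) (hg : g ∈ C.sig.ker) :
    g = 1 ∨ g = C.zel :=
  C.spnk3_core (fun g hg => Cov.ker_pi C g hg) hno g hg

end Cov

end Cfsg.Agent.Lib.Lead.SPN
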