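import Mathlib
import Cfsg.Prelude.Def_GeometricClasses
import Cfsg.Agent.Lib.Helper27.ASC.Defs
import Cfsg.Agent.Lib.helper6.Symp
import Cfsg.Agent.S5646

/-!
# Project SPX, piece PR4 : `Sp_2m` preserves no tensor decomposition.
A Kronecker product `a ⊗ b` (`n₁, n₂ ≥ 2`, `a`, `b` invertible) is never `1 + x yᵀ` with `yᵀ x = 0`, `x yᵀ ≠ 0`:
the off-diagonal blocks `a i i' • b` (`i ≠ i'`) of a rank one matrix have rank at most one, so `a` is diagonal,
likewise `b`; a diagonal `x yᵀ` of trace zero vanishes.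
-/

set_option autoImplicit false
set_option linter.unusedVariables false
set_option linter.unusedSectionVars false

namespace Cfsg.Agent.Lib.helper6.SPX

open Cfsg Cfsg.Geo Cfsg.Agent.Lib.Helper27.ASC
open scoped MatrixGroups Matrix Kronecker

variable {m : ℕ} {F : Type*} [Field F] [Fintype F]

omit [Fintype F] in
/-- an invertible matrix of size at least two is not an outer product -/
theorem spxpr4_not_outer {k : ℕ} (hk : 2 ≤ k) (b : Matrix (Fin k) (Fin k) F) (hb : IsUnit b.det)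
    (u w : Fin k → F) (h : ∀ j j', b j j' = u j * w j') : False := by
  have h1 : b = Matrix.vecMulVec u w := by
    ext j j'
    rw [h, Matrix.vecMulVec_apply]
  have h2 := Matrix.rank_vecMulVec_le u w
  rw [← h1, Matrix.rank_of_isUnit b ((Matrix.isUnit_iff_isUnit_det b).mpr hb), Fintype.card_fin] at h2
  omega

omit [Fintype F] in
/-- a Kronecker product of invertible matrices of sizes at least two is not `1 +` a non-zero rank one matrix of trace zero -/
theorem spxpr4_kron {n₁ n₂ : ℕ} (h1 : 2 ≤ n₁) (h2 : 2 ≤ n₂) (a : Matrix (Fin n₁) (Fin n₁) F)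
    (b : Matrix (Fin n₂) (Fin n₂) F) (ha : IsUnit a.det) (hb : IsUnit b.det) (X Y : Fin n₁ × Fin n₂ → F)
    (hk : ∀ p q : Fin n₁ × Fin n₂, a p.1 q.1 * b p.2 q.2 = (if p = q then 1 else 0) + X p * Y q)
    (hXY : ∑ p, X p * Y p = 0) : ∀ p q, X p * Y q = 0 := by
  classical
  -- `a` is diagonal
  have hadiag : ∀ i i', i ≠ i' → a i i' = 0 := by
    intro i i' hii'
    by_contra hne
    apply spxpr4_not_outer h2 b hb (fun j => (a i i')⁻¹ * X (i, j)) (fun j' => Y (i', j'))
    intro j j'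
    have := hk (i, j) (i', j')
    rw [if_neg (fun h => hii' (congrArg Prod.fst h)), zero_add] at this
    simp only at this
    rw [mul_assoc, ← this, ← mul_assoc, inv_mul_cancel₀ hne, one_mul]
  -- `b` is diagonal
  have hbdiag : ∀ j j', j ≠ j' → b j j' = 0 := by
    intro j j' hjj'
    by_contra hne
    apply spxpr4_not_outer h1 a ha (fun i => (b j j')⁻¹ * X (i, j)) (fun i' => Y (i', j'))
    intro i i'
    have := hk (i, j) (i', j')
    rw [if_neg (fun h => hjj' (congrArg Prod.snd h)), zero_add] at this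
    simp only at this
    rw [mul_assoc, ← this, mul_comm (a i i'), ← mul_assoc, inv_mul_cancel₀ hne, one_mul]
  -- off-diagonal entries vanish
  have hoff : ∀ p q : Fin n₁ × Fin n₂, p ≠ q → X p * Y q = 0 := by
    intro p q hpq
    have := hk p q
    rw [if_neg hpq, zero_add] at this
    rw [← this]
    by_cases h : p.1 = q.1
    · have h' : p.2 ≠ q.2 := fun h' => hpq (Prod.ext h h')
      rw [hbdiag _ _ h', mul_zero]
    · rw [hadiag _ _ h, zero_mul]
  intro p q
  by_contra hne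
  have hpq : p = q := by
    by_contra h
    exact hne (hoff p q h)
  subst hpq
  have hXp : X p ≠ 0 := fun h => hne (by rw [h, zero_mul])
  have hsum : ∑ r, X r * Y r = X p * Y p := by
    apply Finset.sum_eq_single p
    · intro r _ hr
      have := hoff p r (fun h => hr h.symm)
      rcases mul_eq_zero.mp this with h | h
      · exact absurd h hXp
      · rw [h, mul_zero]
    · intro h
      exact absurd (Finset.mem_univ p) h
  rw [hsum] at hXY
  exact hne hXY

/-- PR4 : `Sp_2m` preserves no tensor decomposition. -/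
theorem pr_sp_tensor {n₁ n₂ : ℕ} (h1 : 2 ≤ n₁) (h2 : 2 ≤ n₂) (e : (Fin m ⊕ Fin m) ≃ Fin n₁ × Fin n₂)
    (P : GL (Fin m ⊕ Fin m) F) : ¬ spGL m F ≤ tensorProductSubgroup n₁ n₂ e P := by
  classical
  intro hle
  -- a non-zero vector
  let i₀ : Fin m ⊕ Fin m := e.symm (⟨0, by omega⟩, ⟨0, by omega⟩)
  let v : Fin m ⊕ Fin m → F := Pi.single i₀ 1
  have hv : v ≠ 0 := by
    intro h
    have := congrFun h i₀
    simp [v] at this
  set w : Fin m ⊕ Fin m → F := Matrix.J (Fin m) F *ᵥ v with hw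
  have hw0 : w ≠ 0 := by
    intro h
    apply hv
    have := Cfsg.Agent.Lib.helper6.J_mulVec_J_mulVec m v
    rw [← hw, h, Matrix.mulVec_zero] at this
    exact neg_eq_zero.mp this.symm
  obtain ⟨g, hg, hgS⟩ := Cfsg.Agent.S5646.tsGL v (1 : F)
  have hgT := hle hgS
  unfold tensorProductSubgroup at hgT
  obtain ⟨y, hy, hyg⟩ := hgT
  obtain ⟨k, ⟨a, b, hkab⟩, rfl⟩ := hy
  -- `P⁻¹ g P = R(k)`
  have hPi : ((P⁻¹ : GL (Fin m ⊕ Fin m) F) : Matrix (Fin m ⊕ Fin m) (Fin m ⊕ Fin m) F) *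
      (P : Matrix (Fin m ⊕ Fin m) (Fin m ⊕ Fin m) F) = 1 := by
    rw [← Units.val_mul, inv_mul_cancel, Units.val_one]
  have hPi' : (P : Matrix (Fin m ⊕ Fin m) (Fin m ⊕ Fin m) F) *
      ((P⁻¹ : GL (Fin m ⊕ Fin m) F) : Matrix (Fin m ⊕ Fin m) (Fin m ⊕ Fin m) F) = 1 := by
    rw [← Units.val_mul, mul_inv_cancel, Units.val_one]
  have h3 : (glReindex e.symm k : GL (Fin m ⊕ Fin m) F) = P⁻¹ * g * P := by
    rw [← hyg]
    show _ = P⁻¹ * (P * glReindex e.symm k * P⁻¹) * P
    group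
  have h4 : (k : Matrix (Fin n₁ × Fin n₂) (Fin n₁ × Fin n₂) F).submatrix e e =
      1 + Matrix.vecMulVec (((P⁻¹ : GL (Fin m ⊕ Fin m) F) : Matrix (Fin m ⊕ Fin m) (Fin m ⊕ Fin m) F) *ᵥ v)
        (w ᵥ* (P : Matrix (Fin m ⊕ Fin m) (Fin m ⊕ Fin m) F)) := by
    have h5 := congrArg (fun u : GL (Fin m ⊕ Fin m) F => (u : Matrix (Fin m ⊕ Fin m) (Fin m ⊕ Fin m) F)) h3
    simp only [Units.val_mul] at h5
    rw [hg] at h5
    unfold Cfsg.sympTransvection at h5
    rw [one_smul, Matrix.mul_add, Matrix.add_mul, mul_one, hPi, Matrix.mul_vecMulVec, Matrix.vecMulVec_mul] at h5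
    rw [← h5]
    rfl
  set x' : Fin m ⊕ Fin m → F :=
    ((P⁻¹ : GL (Fin m ⊕ Fin m) F) : Matrix (Fin m ⊕ Fin m) (Fin m ⊕ Fin m) F) *ᵥ v with hx'
  set y' : Fin m ⊕ Fin m → F := w ᵥ* (P : Matrix (Fin m ⊕ Fin m) (Fin m ⊕ Fin m) F) with hy'
  have hx'0 : x' ≠ 0 := by
    intro h
    apply hv
    have : (P : Matrix (Fin m ⊕ Fin m) (Fin m ⊕ Fin m) F) *ᵥ x' = v := by
      rw [hx', Matrix.mulVec_mulVec, hPi', Matrix.one_mulVec]
    rw [← this, h, Matrix.mulVec_zero]
  have hy'0 : y' ≠ 0 := by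
    intro h
    apply hw0
    have : y' ᵥ* ((P⁻¹ : GL (Fin m ⊕ Fin m) F) : Matrix (Fin m ⊕ Fin m) (Fin m ⊕ Fin m) F) = w := by
      rw [hy', Matrix.vecMul_vecMul, hPi', Matrix.vecMul_one]
    rw [← this, h, Matrix.zero_vecMul]
  have hdot : ∑ p, x' p * y' p = 0 := by
    have h5 : y' ⬝ᵥ x' = 0 := by
      rw [hy', hx', ← Matrix.dotProduct_mulVec, Matrix.mulVec_mulVec, hPi', Matrix.one_mulVec, dotProduct_comm]
      exact Cfsg.Agent.Lib.helper6.sympForm_self m v
    rw [← h5, dotProduct]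
    exact Finset.sum_congr rfl fun p _ => mul_comm _ _
  -- apply the Kronecker lemma
  have hkron := spxpr4_kron h1 h2 (a : Matrix (Fin n₁) (Fin n₁) F) (b : Matrix (Fin n₂) (Fin n₂) F)
    ((Matrix.isUnit_iff_isUnit_det _).mp a.isUnit) ((Matrix.isUnit_iff_isUnit_det _).mp b.isUnit)
    (fun p => x' (e.symm p)) (fun q => y' (e.symm q)) (by
      intro p q
      have h5 := congrFun (congrFun h4 (e.symm p)) (e.symm q)
      rw [Matrix.submatrix_apply, Equiv.apply_symm_apply, Equiv.apply_symm_apply, hkab,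
        Matrix.kroneckerMap_apply, Matrix.add_apply, Matrix.vecMulVec_apply, Matrix.one_apply] at h5
      rw [h5]
      congr 1
      by_cases hpq : p = q
      · rw [if_pos hpq, if_pos (by rw [hpq])]
      · rw [if_neg hpq, if_neg (fun h => hpq (e.symm.injective h))]) (by
      rw [← hdot]
      exact Equiv.sum_comp e.symm (fun p => x' p * y' p))
  -- contradiction
  obtain ⟨p, hp⟩ : ∃ p, x' p ≠ 0 := by
    by_contra h
    push Not at h
    exact hx'0 (funext h)
  obtain ⟨q, hq⟩ : ∃ q, y' q ≠ 0 := by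
    by_contra h
    push Not at h
    exact hy'0 (funext h)
  have := hkron (e p) (e q)
  simp only [Equiv.symm_apply_apply] at this
  exact (mul_ne_zero hp hq) this

end Cfsg.Agent.Lib.helper6.SPX
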