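import Mathlib
import Cfsg.Prelude.Def_GeometricClasses
import Cfsg.Agent.Lib.Helper27.ASC.Defs

/-!
# Project SPX, piece TWOPOW : an irreducible module of a finite 2-group has 2-power dimension (any field).
Index-2 Clifford induction, first for an abstract representation `ρ : G →* Module.End K V` (`spxtwopow_abs`).
-/

set_option autoImplicit false
set_option linter.unusedVariables false
set_option linter.unusedSectionVars false

namespace Cfsg.Agent.Lib.helper6.SPX

open Cfsg Cfsg.Geo Cfsg.Agent.Lib.Helper27.ASC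
open scoped MatrixGroups Matrix Kronecker

universe u v w

/-- abstract version: `G` a finite 2-group, `ρ : G →* End_K V`, `W` an irreducible invariant subspace -/
theorem spxtwopow_abs {K : Type u} {V : Type v} [Field K] [AddCommGroup V] [Module K V] [FiniteDimensional K V]
    (N : ℕ) : ∀ (G : Type w) [Group G] [Finite G], Nat.card G = N → IsPGroup 2 G →
    ∀ (ρ : G →* Module.End K V) (W : Submodule K V), W ≠ ⊥ → (∀ g, W.map (ρ g) ≤ W) →
    (∀ U : Submodule K V, U ≤ W → (∀ g, U.map (ρ g) ≤ U) → U = ⊥ ∨ U = W) →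
    ∃ a : ℕ, Module.finrank K W = 2 ^ a := by
  classical
  induction N using Nat.strong_induction_on with
  | _ N ih =>
    intro G _ _ hN hG ρ W hW0 hinv hirr
    have : Fact (Nat.Prime 2) := ⟨Nat.prime_two⟩
    by_cases h1 : N = 1
    · -- trivial group
      have hsub : Subsingleton G := (Nat.card_eq_one_iff_unique.mp (hN.trans h1)).1
      obtain ⟨w, hwW, hw0⟩ := Submodule.exists_mem_ne_zero_of_ne_bot hW0
      have hle : K ∙ w ≤ W := (Submodule.span_singleton_le_iff_mem w W).mpr hwW
      rcases hirr (K ∙ w) hle (fun g => by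
        rw [Subsingleton.elim g 1, map_one]
        exact (Submodule.map_id _).le) with h | h
      · exact absurd (Submodule.span_singleton_eq_bot.mp h) hw0
      · exact ⟨0, by rw [← h, finrank_span_singleton hw0, pow_zero]⟩
    · obtain ⟨k, hk⟩ := IsPGroup.iff_card.mp hG
      have hk1 : 1 ≤ k := by
        rcases Nat.eq_zero_or_pos k with h0 | h0
        · exfalso
          apply h1
          rw [← hN, hk, h0, pow_zero]
        · exact h0
      obtain ⟨H, hH⟩ := Sylow.exists_subgroup_card_pow_prime (G := G) 2 (n := k - 1)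
        (by rw [hk]; exact pow_dvd_pow 2 (Nat.sub_le k 1))
      have hidx : H.index = 2 := by
        have h3 := H.index_mul_card
        rw [hH, hk] at h3
        have h4 : (2 : ℕ) ^ k = 2 * 2 ^ (k - 1) := by
          rw [← pow_succ']
          congr 1
          omega
        rw [h4] at h3
        exact Nat.eq_of_mul_eq_mul_right (pos_of_ne_zero (by positivity)) h3
      -- composition of maps
      have hmapmul : ∀ (a b : G) (U : Submodule K V), (U.map (ρ a)).map (ρ b) = U.map (ρ (b * a)) := by
        intro a b U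
        rw [map_mul, Module.End.mul_eq_comp, Submodule.map_comp]
      have hinj : ∀ g : G, Function.Injective (ρ g) := by
        intro g
        have h3 : (ρ g⁻¹).comp (ρ g) = LinearMap.id := by
          rw [← Module.End.mul_eq_comp, ← map_mul, inv_mul_cancel, map_one]
          rfl
        intro x y hxy
        have := congrArg (ρ g⁻¹) hxy
        rw [← LinearMap.comp_apply, ← LinearMap.comp_apply, h3] at this
        exact this
      -- a minimal non-zero `H`-invariant subspace of `W`
      have hex : ∃ d, ∃ U : Submodule K V, U ≤ W ∧ U ≠ ⊥ ∧ (∀ h : H, U.map (ρ h) ≤ U) ∧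
          Module.finrank K U = d := ⟨_, W, le_rfl, hW0, fun h => hinv h, rfl⟩
      obtain ⟨W₁, hW₁W, hW₁0, hW₁inv, hW₁d⟩ := Nat.find_spec hex
      have hW₁irr : ∀ U : Submodule K V, U ≤ W₁ → (∀ h : H, U.map (ρ h) ≤ U) → U = ⊥ ∨ U = W₁ := by
        intro U hU hUinv
        by_cases hU0 : U = ⊥
        · exact Or.inl hU0
        · right
          have h3 : Nat.find hex ≤ Module.finrank K U :=
            Nat.find_min' hex ⟨U, hU.trans hW₁W, hU0, hUinv, rfl⟩
          exact Submodule.eq_of_le_of_finrank_le hU (by rw [hW₁d]; exact h3)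
      -- induction hypothesis
      have hcard : Nat.card H < N := by
        rw [hH, ← hN, hk]
        exact Nat.pow_lt_pow_right (by norm_num) (by omega)
      obtain ⟨a, ha⟩ := ih (Nat.card H) hcard H rfl (hG.to_subgroup H) (ρ.comp H.subtype) W₁ hW₁0
        (fun h => hW₁inv h) (fun U hU hUinv => hW₁irr U hU (fun h => hUinv h))
      -- an element outside `H`
      have hgex : ∃ g : G, g ∉ H := by
        by_contra hcon
        push Not at hcon
        have : H = ⊤ := (Subgroup.eq_top_iff' H).mpr hcon
        rw [this, Subgroup.index_top] at hidx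
        norm_num at hidx
      obtain ⟨g, hg⟩ := hgex
      have hginv : g⁻¹ ∉ H := fun h => hg (by simpa using H.inv_mem h)
      set W₂ := W₁.map (ρ g) with hW₂
      have hW₂W : W₂ ≤ W := (Submodule.map_mono hW₁W).trans (hinv g)
      have hW₂fin : Module.finrank K W₂ = Module.finrank K W₁ :=
        (Submodule.equivMapOfInjective (ρ g) (hinj g) W₁).finrank_eq.symm
      -- `W₂` is `H`-invariant
      have hW₂inv : ∀ h ∈ H, W₂.map (ρ h) ≤ W₂ := by
        intro h hh
        have h3 : g⁻¹ * h * g ∈ H := by
          rw [Subgroup.mul_mem_iff_of_index_two hidx, Subgroup.mul_mem_iff_of_index_two hidx]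
          simp [hg, hginv, hh]
        rw [hW₂, hmapmul]
        have h4 : h * g = g * (g⁻¹ * h * g) := by group
        rw [h4, ← hmapmul]
        exact Submodule.map_mono (hW₁inv ⟨_, h3⟩)
      -- `W₁ ⊔ W₂` is `G`-invariant
      have hsupinv : ∀ s : G, (W₁ ⊔ W₂).map (ρ s) ≤ W₁ ⊔ W₂ := by
        intro s
        rw [Submodule.map_sup]
        by_cases hs : s ∈ H
        · exact sup_le_sup (hW₁inv ⟨s, hs⟩) (hW₂inv s hs)
        · have h3 : g⁻¹ * s ∈ H := by
            rw [Subgroup.mul_mem_iff_of_index_two hidx]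
            simp [hs, hginv]
          have h4 : s * g ∈ H := by
            rw [Subgroup.mul_mem_iff_of_index_two hidx]
            simp [hs, hg]
          apply sup_le
          · have h5 : s = g * (g⁻¹ * s) := by group
            rw [h5, ← hmapmul]
            exact le_sup_of_le_right (Submodule.map_mono (hW₁inv ⟨_, h3⟩))
          · rw [hW₂, hmapmul]
            exact le_sup_of_le_left (hW₁inv ⟨_, h4⟩)
      have hsup : W₁ ⊔ W₂ = W := by
        rcases hirr (W₁ ⊔ W₂) (sup_le hW₁W hW₂W) hsupinv with h | h
        · exact absurd (le_bot_iff.mp (h ▸ le_sup_left)) hW₁0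
        · exact h
      -- `W₁ ⊓ W₂` is `H`-invariant
      have hinfinv : ∀ h : H, (W₁ ⊓ W₂).map (ρ h) ≤ W₁ ⊓ W₂ := by
        intro h
        exact (Submodule.map_inf_le _).trans (inf_le_inf (hW₁inv h) (hW₂inv h h.2))
      rcases hW₁irr (W₁ ⊓ W₂) inf_le_left hinfinv with h | h
      · refine ⟨a + 1, ?_⟩
        have h3 := Submodule.finrank_sup_add_finrank_inf_eq W₁ W₂
        rw [h, hsup, finrank_bot, add_zero, hW₂fin, ha] at h3
        rw [h3, pow_succ]
        ring
      · refine ⟨a, ?_⟩
        have h3 : W₁ ≤ W₂ := inf_eq_left.mp h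
        have h4 : W₁ = W₂ := Submodule.eq_of_le_of_finrank_le h3 (by rw [hW₂fin])
        rw [← hsup, ← h4, sup_idem, ha]

/-- TWOPOW : an irreducible module of a finite 2-group has 2-power dimension (any field). -/
theorem two_group_irr_dim {ι : Type} [Fintype ι] [DecidableEq ι] {K : Type*} [Field K]
    (S : Subgroup (GL ι K)) [Finite S] (hS : IsPGroup 2 S) (W : Submodule K (ι → K)) (hW0 : W ≠ ⊥)
    (hinv : ∀ g ∈ S, W.map (Matrix.toLin' (g : Matrix ι ι K)) ≤ W)
    (hirr : ∀ U : Submodule K (ι → K), U ≤ W → (∀ g ∈ S, U.map (Matrix.toLin' (g : Matrix ι ι K)) ≤ U) → U = ⊥ ∨ U = W) :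
    ∃ a : ℕ, Module.finrank K W = 2 ^ a := by
  let ρ : S →* Module.End K (ι → K) :=
    { toFun := fun s => Matrix.toLin' ((s : GL ι K) : Matrix ι ι K)
      map_one' := by
        show Matrix.toLin' (((1 : S) : GL ι K) : Matrix ι ι K) = 1
        rw [Subgroup.coe_one, Units.val_one, Matrix.toLin'_one]
        rfl
      map_mul' := fun s s' => by
        show Matrix.toLin' (((s * s' : S) : GL ι K) : Matrix ι ι K) = _
        rw [Subgroup.coe_mul, Units.val_mul, Matrix.toLin'_mul]
        rfl }
  exact spxtwopow_abs (Nat.card S) S rfl hS ρ W hW0 (fun g => hinv g.1 g.2)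
    (fun U hU hUinv => hirr U hU (fun g hg => hUinv ⟨g, hg⟩))

end Cfsg.Agent.Lib.helper6.SPX
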