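import Mathlib
import Cfsg.Prelude.Def_LieTypeChar
import Cfsg.Prelude.Def_ChevStructure
import Cfsg.Agent.Lib.helper14.SQD.Defs
import Cfsg.Agent.Lib.Helper29.SQDX3
import Cfsg.Agent.S1023
import Cfsg.Agent.S1024

/-!
Project SQD = S4625 (designer helper14), row C1 (`chev_pos_sqd`).
-/

set_option autoImplicit false

namespace Cfsg.Agent.Lib.helper14.SQD

open Cfsg Cfsg.Lie Matrix

universe u v

/-- the five exceptional data are among the seven of S1023 / S1024. -/
theorem sqdc1_mem7 (D : ChevalleyDatum) (hD : D ∈ [chevG2, chevF4, chevE6, chevE7, chevE8]) :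
    D ∈ [chevG2, chevB2, chevD4, chevF4, chevE6, chevE7, chevE8] := by
  simp only [List.mem_cons, List.not_mem_nil, or_false] at hD ⊢
  tauto

/-- in characteristic two every root element is an involution (as a matrix). -/
theorem sqdc1_x_sq {F : Type u} [Field F] [CharP F 2] (D : ChevalleyDatum)
    (hD : D ∈ [chevG2, chevB2, chevD4, chevF4, chevE6, chevE7, chevE8]) (r : ℕ) (hr : r < D.nroots)
    (t : F) : D.x F r t * D.x F r t = 1 := by
  rw [Cfsg.Agent.S1023.result D hD r hr t t, CharTwo.add_self_eq_zero]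
  exact (Cfsg.Agent.S1024.result D hD r hr (0 : F)).mpr rfl

/-- C1 [E-M]. X3c: `x_r(t) * x_r(t) = x_r(t + t) = x_r(0) = 1` (`Cfsg.Agent.S1023.result`, `Cfsg.Agent.S1024.result`;
`D.posUnipotent F` is by definition the closure of the elements with matrix `D.x F r t`, `r` positive). -/
theorem chev_pos_sqd {F : Type u} [Field F] [CharP F 2] (D : ChevalleyDatum)
    (hD : D ∈ [chevG2, chevF4, chevE6, chevE7, chevE8]) : SqD (D.posUnipotent F) := by
  refine sqd_of_invol (D.posUnipotent F)
    {g | ∃ (r : ℕ) (t : F), D.IsPosRoot r ∧ (g : Matrix D.Idx D.Idx F) = D.x F r t} rfl ?_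
  rintro g ⟨r, t, hr, hg⟩
  apply Units.ext
  rw [Units.val_pow_eq_pow_val, pow_two, hg, Units.val_one]
  exact sqdc1_x_sq D (sqdc1_mem7 D hD) r hr.1 t

end Cfsg.Agent.Lib.helper14.SQD
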