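import Mathlib
import Cfsg.Prelude.Def_LieTypeChar
import Cfsg.Prelude.Def_ChevStructure
import Cfsg.Agent.Lib.helper14.SQD.Defs

/-!
Project SQD = S4625 (designer helper14), row C2 (`chev_pos_le`).
-/

set_option autoImplicit false

namespace Cfsg.Agent.Lib.helper14.SQD

open Cfsg Cfsg.Lie Matrix

universe u v

/-- C2 [E]. Generators (`D.IsPosRoot r` contains `r < D.nroots`; `D.x F r t = D.xMat F ⟨r, _⟩ t`). -/
theorem chev_pos_le {F : Type u} [Field F] (D : ChevalleyDatum) : D.posUnipotent F ≤ D.group F := by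
  unfold ChevalleyDatum.posUnipotent ChevalleyDatum.group
  apply Subgroup.closure_mono
  rintro g ⟨r, t, hr, hg⟩
  refine ⟨⟨r, hr.1⟩, t, ?_⟩
  rw [hg]
  unfold ChevalleyDatum.x
  rw [dif_pos hr.1]

end Cfsg.Agent.Lib.helper14.SQD
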