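import Mathlib
import Cfsg.Agent.Lib.helper15.St2
import Cfsg.Agent.Lib.helper7.StA
import Cfsg.Agent.Lib.helper7.StC
import Cfsg.Agent.Lib.helper7.StE
import Cfsg.Agent.Lib.helper3.STC.Defs
import Cfsg.Agent.Lib.helper3.STC.Defs2
import Cfsg.Agent.Lib.helper3.STC.Defs3
import Cfsg.Agent.Lib.Helper24.STCI1
import Cfsg.Agent.Lib.Helper24.STCB1
import Cfsg.Agent.Lib.Helper24.STCW13
import Cfsg.Agent.Lib.helper23.STCH1
import Cfsg.Agent.Lib.helper23.STCX2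
import Cfsg.Agent.Lib.Helper22.STCF2

/-!
# Project STC (designer helper3, S2292): SPARES (helper29, own names) with the exact Skel3 statements of
F14 `ww_jlong` (`stcf14_h29_ww_jlong`) and F15 `ww_opp` (`stcf15_h29_ww_opp`).
-/

set_option autoImplicit false

namespace Cfsg.Agent.Lib.helper3.STC

open Cfsg.Agent.Lib.helper15.St2 Cfsg.Agent.Lib.helper7.St

namespace SysC

variable {K : Type*} [Field K] {ι : Type*} {G : Type*} [Group G] (S : SysC K ι G)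

section F
variable [DecidableEq ι] (o : ι ⊕ ι)

/-- moving a Weyl element across a monomial element -/
theorem stcf14_move_w {g : G} {σ : Equiv.Perm (ι ⊕ ι)} {d : ι ⊕ ι → K} (hg : S.IsMon g σ d) {a b : ι ⊕ ι}
    (hab : a ≠ b) (u : K) (hu : u ≠ 0) :
    ∃ c : K, c ≠ 0 ∧ g * S.w a b u = S.w (σ a) (σ b) c * g := by
  refine ⟨d a * (d b)⁻¹ * u, mul_ne_zero (mul_ne_zero (hg.1 a) (inv_ne_zero (hg.1 b))) hu, ?_⟩
  rw [← IsMon.cj_w S hg hab u hu]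
  unfold cj
  group

/-- spare for F14 `ww_jlong` (exact statement) -/
theorem stcf14_h29_ww_jlong [Finite K] (hW : S.HW) (hH : S.HH) {k : ι ⊕ ι} (hk : k ≠ o) (hk' : k ≠ ng o) :
    ∃ n, S.NP o n ∧ S.w o k 1 * S.w o (ng o) 1 = S.w o (ng k) 1 * n := by
  have hok : o ≠ k := hk.symm
  have hok' : o ≠ ng k := fun h => hk' (by rw [h, ng_ng])
  have hkk : k ≠ ng k := ne_ng k
  have hnk : ng k ≠ ng o := fun h => hk (ng_inj.1 h)
  obtain ⟨c, hc, e1⟩ := S.stcf14_move_w (hW o k hok 1 one_ne_zero) (ne_ng o) 1 one_ne_zero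
  rw [wpm_ng hok, wpm_left hok] at e1
  obtain ⟨c', hc', e2⟩ := S.stcf14_move_w (hW k (ng k) hkk c hc) hok 1 one_ne_zero
  rw [wpm_of_ne hok hok' hok' (by rw [ng_ng]; exact hok), wpm_left hkk] at e2
  refine ⟨S.h o (ng k) c'⁻¹ * S.w k (ng k) c,
    S.NP_mul o (S.NP_h o hH hok'.symm (inv_ne_zero hc')) (S.NP_w o hW hkk hk hk' hok'.symm hnk hc), ?_⟩
  rw [e1, e2, S.w_eq_w_one_mul_h hok' c' hc', mul_assoc]

/-- spare for F15 `ww_opp` (exact statement) -/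
theorem stcf15_h29_ww_opp [Finite K] (hW : S.HW) (hH : S.HH) {k : ι ⊕ ι} (hk : k ≠ o) (hk' : k ≠ ng o) :
    ∃ n, S.NP o n ∧ S.w o k 1 * S.w o (ng k) 1 = S.w o (ng o) 1 * n := by
  have hok : o ≠ k := hk.symm
  have hok' : o ≠ ng k := fun h => hk' (by rw [h, ng_ng])
  have hkk : k ≠ ng k := ne_ng k
  have hnk : ng k ≠ ng o := fun h => hk (ng_inj.1 h)
  -- (1) `ℓ * w o k 1 = w o (ng k) c₁ * ℓ`
  obtain ⟨c₁, hc₁, e1⟩ := S.stcf14_move_w (hW k (ng k) hkk 1 one_ne_zero) hok 1 one_ne_zero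
  rw [wpm_of_ne hok hok' hok' (by rw [ng_ng]; exact hok), wpm_left hkk] at e1
  -- (2)
  have e2 := S.w_eq_w_one_mul_h hok' c₁ hc₁
  -- (3) `w o k 1 * ℓ = w o (ng o) c₂ * w o k 1`
  obtain ⟨c₂, hc₂, e3⟩ := S.stcf14_move_w (hW o k hok 1 one_ne_zero) hkk 1 one_ne_zero
  rw [wpm_ng hok, wpm_right hok] at e3
  have e4 := S.w_eq_w_one_mul_h (ne_ng o) c₂ hc₂
  have hV : S.w o (ng k) 1 =
      S.w k (ng k) 1 * S.w o k 1 * (S.w k (ng k) 1)⁻¹ * (S.h o (ng k) c₁⁻¹)⁻¹ := by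
    rw [e1, e2]
    group
  refine ⟨S.h o (ng o) c₂⁻¹ * (S.w o k 1 * S.w o k 1) * (S.w k (ng k) 1)⁻¹ * (S.h o (ng k) c₁⁻¹)⁻¹, ?_, ?_⟩
  · have n1 : S.NP o (S.h o (ng o) c₂⁻¹) := S.NP_h o hH (ng_ne o) (inv_ne_zero hc₂)
    have n2 : S.NP o (S.w o k 1 * S.w o k 1) := by
      rw [S.w_mul_w hok 1 1 one_ne_zero one_ne_zero]
      exact S.NP_h o hH hk (by simp)
    have n3 : S.NP o (S.w k (ng k) 1)⁻¹ := by
      rw [← S.w_neg]
      exact S.NP_w o hW hkk hk hk' hok'.symm hnk (by simp)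
    have n4 : S.NP o (S.h o (ng k) c₁⁻¹)⁻¹ := by
      rw [S.h_inv hok' c₁⁻¹ (inv_ne_zero hc₁)]
      exact S.NP_h o hH hok'.symm (inv_ne_zero (inv_ne_zero hc₁))
    exact S.NP_mul o (S.NP_mul o (S.NP_mul o n1 n2) n3) n4
  · calc S.w o k 1 * S.w o (ng k) 1
        = S.w o k 1 * (S.w k (ng k) 1 * S.w o k 1 * (S.w k (ng k) 1)⁻¹ * (S.h o (ng k) c₁⁻¹)⁻¹) := by
          rw [← hV]
      _ = (S.w o k 1 * S.w k (ng k) 1) * S.w o k 1 * (S.w k (ng k) 1)⁻¹ * (S.h o (ng k) c₁⁻¹)⁻¹ := by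
          group
      _ = (S.w o (ng o) c₂ * S.w o k 1) * S.w o k 1 * (S.w k (ng k) 1)⁻¹ * (S.h o (ng k) c₁⁻¹)⁻¹ := by
          rw [e3]
      _ = S.w o (ng o) 1 * (S.h o (ng o) c₂⁻¹ * (S.w o k 1 * S.w o k 1) * (S.w k (ng k) 1)⁻¹ *
            (S.h o (ng k) c₁⁻¹)⁻¹) := by
          rw [e4]
          group

end F

end SysC

end Cfsg.Agent.Lib.helper3.STC
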