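import Mathlib
import Cfsg.Agent.Lib.Helper19.SU5.Defs
import Cfsg.Agent.Lib.Helper5.SU5F8

/-!
# Project SU5 (tables half, designer helper19), row F10 `su3_genU` (helper29): `SU₃ = SUm F True` is generated by the `XpU ξ` and the
Weyl element `WU (0, κ)`.  VERBATIM vs `Helper19/SU5/Skel1.lean.txt` (on helper5's F8 `wu_conjU`, `su5f8_kap_ne`).
-/

set_option autoImplicit false

namespace Cfsg.Agent.Lib.Helper19.SU5

open Cfsg.Agent.Lib.helper17.SLP Cfsg.Agent.Lib.helper3.SP4 Cfsg.Agent.Lib.Helper22.SU4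
open Cfsg.Agent.Lib.Helper27.STU (Lam XpM XmM XpS XmS SUm XpU XmU)

universe u v

section F

variable {F : Type u} {K : Type u} [Field F] [Field K] [StarRing F] {D : Tw F K}

/-- a subgroup of `SUm F od` containing all `XpU ξ`, `XmU ξ` is everything -/
theorem su5f10_top {od : Prop} (S : Subgroup ↥(SUm F od)) (hp : ∀ ξ : Lam F od, XpU ξ ∈ S) (hm : ∀ ξ : Lam F od, XmU ξ ∈ S) :
    S = ⊤ := by
  rw [eq_top_iff]
  intro g _
  have hle : ∀ x : Matrix.SpecialLinearGroup (Fin 3) F,
      x ∈ Subgroup.closure (Set.range (XpS : Lam F od → _) ∪ Set.range (XmS : Lam F od → _)) →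
      x ∈ S.map (SUm F od).subtype := by
    intro x hx
    induction hx using Subgroup.closure_induction with
    | mem y hy =>
      rcases hy with ⟨ξ, rfl⟩ | ⟨ξ, rfl⟩
      · exact ⟨XpU ξ, hp ξ, rfl⟩
      · exact ⟨XmU ξ, hm ξ, rfl⟩
    | one => exact Subgroup.one_mem _
    | mul a b _ _ ha hb => exact Subgroup.mul_mem _ ha hb
    | inv a _ ha => exact Subgroup.inv_mem _ ha
  obtain ⟨s, hs, hsg⟩ := hle g.1 g.2
  have e : s = g := Subtype.ext hsg
  rw [← e]
  exact hs

/-- F10 [S-M]  `SUm F True` is the closure of the `XpU ξ` and the Weyl element. -/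
theorem su3_genU [Fintype F] [Fintype K] (hFK : Fintype.card F = Fintype.card K ^ 2) (P : RO D) :
    Subgroup.closure (Set.range (XpU : Lam F True → ↥(SUm F True)) ∪ {WU (Lam.tr (P.ζ : F))}) = ⊤ := by
  have hk := su5f8_kap_ne hFK P
  obtain ⟨_, _, hwp, _⟩ := wu_conjU hFK P
  apply su5f10_top
  · intro ξ
    exact Subgroup.subset_closure (Or.inl ⟨ξ, rfl⟩)
  · intro ξ
    have hw : WU (Lam.tr (P.ζ : F)) ∈
        Subgroup.closure (Set.range (XpU : Lam F True → ↥(SUm F True)) ∪ {WU (Lam.tr (P.ζ : F))}) :=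
      Subgroup.subset_closure (Or.inr rfl)
    have h1 := hwp (Lam.act (-P.kap) ξ)
    have e : Lam.act (-(P.kap)⁻¹) (Lam.act (-P.kap) ξ) = ξ := by
      apply Lam.ext
      · simp only [Lam.act_v]
        field_simp
      · simp only [Lam.act_c, star_neg, star_inv₀]
        have hs : star P.kap ≠ 0 := fun h => hk (by simpa using congrArg star h)
        field_simp
    rw [e] at h1
    rw [← h1]
    exact Subgroup.mul_mem _ (Subgroup.mul_mem _ hw (Subgroup.subset_closure (Or.inl ⟨_, rfl⟩))) (Subgroup.inv_mem _ hw)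

end F

end Cfsg.Agent.Lib.Helper19.SU5
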