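import Mathlib
import Cfsg.Agent.Lib.helper7.CeA

/-!
# T2E row A3 (helper29): `rootlift_unique`, verbatim from `Cfsg/Agent/Lib/helper3/T2E/SkelA.lean.txt`

Abstract: two additive lifts of the same map, both equivariant under one element `γ` acting through `c ≠ 1`, coincide:
`z t := L t * (L' t)⁻¹` is central, additive, `z (c t) = cj γ (z t) = z t`, so `z ((c - 1) t) = 1`.
Only Mathlib + helper7's `CeA`.
-/

set_option autoImplicit false

namespace Cfsg.Agent.Lib.helper3.T2E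

open Cfsg.Agent.Lib.helper7.Ce Cfsg.Agent.Lib.helper15.St2

section Abstract

variable {Γ' : Type*} {G : Type*} [Group Γ'] [Group G] {σ : Γ' →* G} {F : Type*} [Field F]

-- ROW A3 [S-M]  `z t := L t * (L' t)⁻¹` is central, additive on `P`, `z (c t) = cj γ (z t) = z t`, so `z ((c - 1) t) = 1`.
theorem rootlift_unique (h : IsCE σ) (P : F → Prop) (hP0 : P 0)
    (hPadd : ∀ s t, P s → P t → P (s + t)) (hPneg : ∀ t, P t → P (-t)) (c : F) (hc : c ≠ 1)
    (hPc : ∀ t, P t → P (c * t)) (hPc' : ∀ t, P t → P ((c - 1)⁻¹ * t)) (L L' : F → Γ')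
    (hmap : ∀ t, P t → σ (L t) = σ (L' t))
    (hadd : ∀ s t, P s → P t → L (s + t) = L s * L t)
    (hadd' : ∀ s t, P s → P t → L' (s + t) = L' s * L' t) (γ : Γ')
    (hγ : ∀ t, P t → cj γ (L t) = L (c * t)) (hγ' : ∀ t, P t → cj γ (L' t) = L' (c * t)) :
    ∀ t, P t → L t = L' t := by
  have hz : ∀ t, P t → σ (L t * (L' t)⁻¹) = 1 := by
    intro t ht
    rw [map_mul, map_inv, hmap t ht, mul_inv_cancel]
  have hzadd : ∀ s t, P s → P t →
      L (s + t) * (L' (s + t))⁻¹ = (L s * (L' s)⁻¹) * (L t * (L' t)⁻¹) := by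
    intro s t hs ht
    rw [hadd s t hs ht, hadd' s t hs ht, mul_inv_rev]
    have hcm := h.comm_of_map_one (hz t ht) ((L' s)⁻¹)
    calc L s * L t * ((L' t)⁻¹ * (L' s)⁻¹) = L s * ((L t * (L' t)⁻¹) * (L' s)⁻¹) := by group
      _ = L s * ((L' s)⁻¹ * (L t * (L' t)⁻¹)) := by rw [hcm]
      _ = (L s * (L' s)⁻¹) * (L t * (L' t)⁻¹) := by group
  have hzc : ∀ t, P t → L (c * t) * (L' (c * t))⁻¹ = L t * (L' t)⁻¹ := by
    intro t ht
    rw [← hγ t ht, ← hγ' t ht]
    have e := h.cj_of_map_one (hz t ht) γ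
    unfold cj at e ⊢
    calc γ * L t * γ⁻¹ * (γ * L' t * γ⁻¹)⁻¹ = γ * (L t * (L' t)⁻¹) * γ⁻¹ := by group
      _ = L t * (L' t)⁻¹ := e
  have hc' : c - 1 ≠ 0 := sub_ne_zero.2 hc
  have hone : ∀ s, P s → L ((c - 1) * s) * (L' ((c - 1) * s))⁻¹ = 1 := by
    intro s hs
    have hs' : P ((c - 1) * s) := by
      have : (c - 1) * s = c * s + -s := by ring
      rw [this]
      exact hPadd _ _ (hPc s hs) (hPneg s hs)
    have e1 := hzadd ((c - 1) * s) s hs' hs
    have e2 : (c - 1) * s + s = c * s := by ring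
    rw [e2, hzc s hs] at e1
    exact (mul_eq_right.1 e1.symm)
  intro t ht
  have e3 : t = (c - 1) * ((c - 1)⁻¹ * t) := by
    rw [← mul_assoc, mul_inv_cancel₀ hc', one_mul]
  have := hone ((c - 1)⁻¹ * t) (hPc' t ht)
  rw [← e3] at this
  exact mul_inv_eq_one.1 this

end Abstract

end Cfsg.Agent.Lib.helper3.T2E
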