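import Mathlib
import Cfsg.Agent.Lib.helper17.T3.Defs

/-!
# T3C row [A1d] (helper29): the trilinear form, the norm of a sum, `N(u) u⁻²`

Verbatim against `Cfsg/Agent/Lib/helper17/T3/SkelC.lean.txt`.
-/

set_option autoImplicit false

namespace Cfsg.Agent.Lib.helper17.T3

variable {F K : Type*} [Field F] [Field K] [Algebra F K]

namespace Cub

variable (C : Cub F K)

/-- [A1d] [S] the trilinear form `Tr (x (y × z))` is symmetric -/
theorem tr_cross (x y z : K) : C.tr (x * C.cross y z) = C.tr (C.cross x y * z) := by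
  apply (algebraMap F K).injective
  simp only [C.htr, Cub.cross, map_add, map_mul, C.θ3]
  ring

/-- [A1d] [S] -/
theorem tr_cross' (x y z : K) : C.tr (x * C.cross y z) = C.tr (y * C.cross x z) := by
  apply (algebraMap F K).injective
  simp only [C.htr, Cub.cross, map_add, map_mul, C.θ3]
  ring

/-- [A1d] [S] -/
theorem nm_add (x y : K) : C.nm (x + y) = C.nm x + C.nm y + C.tr (C.sharp x * y) + C.tr (x * C.sharp y) := by
  apply (algebraMap F K).injective
  simp only [C.htr, C.hnm, Cub.sharp, map_add, map_mul, C.θ3]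
  ring

/-- [A1d] [S] `(N u u⁻²)^# = u²` -/
theorem sharp_nm_div_sq {u : K} (hu : u ≠ 0) : C.sharp (algebraMap F K (C.nm u) * u⁻¹ ^ 2) = u ^ 2 := by
  have h1 : C.θ u ≠ 0 := (map_ne_zero C.θ).mpr hu
  have h2 : C.θ (C.θ u) ≠ 0 := (map_ne_zero C.θ).mpr h1
  simp only [Cub.sharp, map_mul, map_pow, map_inv₀, C.hnm, C.θ3]
  field_simp

/-- [A1d] [S] `N (N u u⁻²) = N u` -/
theorem nm_nm_div_sq {u : K} (hu : u ≠ 0) : C.nm (algebraMap F K (C.nm u) * u⁻¹ ^ 2) = C.nm u := by
  have h1 : C.θ u ≠ 0 := (map_ne_zero C.θ).mpr hu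
  have h2 : C.θ (C.θ u) ≠ 0 := (map_ne_zero C.θ).mpr h1
  apply (algebraMap F K).injective
  simp only [map_mul, map_pow, map_inv₀, C.hnm, C.θ3]
  field_simp

end Cub

end Cfsg.Agent.Lib.helper17.T3
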