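import Mathlib
import Cfsg.Agent.Lib.helper8.T3M.Defs
import Cfsg.Agent.Lib.helper17.T3.Fld2

/-!
# T3M row F4 (helper29): Hilbert 90 for the cubic datum `D : Dat K q`, `|K| = q ^ 3`

Verbatim against `Cfsg/Agent/Lib/helper8/T3M/Skel.lean.txt`.  The non-root of `X + v X^q + v f(v) X^(q²)` comes from helper17's
`fld2_exists_ne_zero`.
-/

set_option autoImplicit false

namespace Cfsg.Agent.Lib.helper8.T3M

open Cfsg.Lie Cfsg.Lie.ChevalleyDatum Matrix
open Cfsg.Agent.Lib.helper8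
open Cfsg.Agent.Lib.helper23.TD4V
open Cfsg.Agent.Lib.helper17.T3
open Cfsg.Agent.Lib.helper15.St2 Cfsg.Agent.Lib.helper7.Ce

universe u

variable {K : Type u} [Field K] {q : ℕ}

/-- `f² x = x ^ (q ^ 2)` -/
theorem t3mf4h29_ff (D : Dat K q) (x : K) : D.f (D.f x) = x ^ q ^ 2 := by
  rw [D.hf, D.hf, sq, pow_mul]

/-- **F4** [M].  Hilbert 90 for the cyclic cubic extension: `v * f v * f² v = 1`. -/
theorem t3m_h90 [Fintype K] (D : Dat K q) (hq : IsPrimePow q) (hK : Fintype.card K = q ^ 3)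
    (v : K) (hv : D.nm v = 1) : ∃ a : K, a ≠ 0 ∧ v * a = D.f a := by
  have hv' : v * D.f v * D.f (D.f v) = 1 := congrArg Subtype.val hv
  have hv0 : v ≠ 0 := by
    intro h0
    rw [h0, zero_mul, zero_mul] at hv'
    exact zero_ne_one hv'
  have hfv0 : D.f v ≠ 0 := D.f_ne_zero hv0
  obtain ⟨y, hy⟩ := fld2_exists_ne_zero hq hK 1 v (v * D.f v) (mul_ne_zero hv0 hfv0)
  rw [one_mul, ← D.hf y, ← t3mf4h29_ff D y] at hy
  set b : K := y + v * D.f y + v * D.f v * D.f (D.f y) with hb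
  have hfb : v * D.f b = b := by
    rw [hb, map_add, map_add, map_mul, map_mul, map_mul, D.h3]
    calc v * (D.f y + D.f v * D.f (D.f y) + D.f v * D.f (D.f v) * y)
        = (v * D.f v * D.f (D.f v)) * y + v * D.f y + v * D.f v * D.f (D.f y) := by ring
      _ = y + v * D.f y + v * D.f v * D.f (D.f y) := by rw [hv', one_mul]
  have hfb0 : D.f b ≠ 0 := D.f_ne_zero hy
  refine ⟨b⁻¹, inv_ne_zero hy, ?_⟩
  rw [map_inv₀]
  field_simp
  exact hfb

end Cfsg.Agent.Lib.helper8.T3M
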