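import Mathlib
import Cfsg.Agent.Lib.helper8.T3M.Defs
import Cfsg.Agent.Lib.helper17.T3.Fld2

/-!
# T3M row F5 (helper29): a norm one element other than `1` for the cubic datum `D : Dat K q`, `|K| = q ^ 3`

Verbatim against `Cfsg/Agent/Lib/helper8/T3M/Skel.lean.txt`.  `v = f a / a` for an `a` with `f² a ≠ a` (a non-root of
`-X + X^(q²)`, helper17's `fld2_exists_ne_zero`).
-/

set_option autoImplicit false

namespace Cfsg.Agent.Lib.helper8.T3M

open Cfsg.Lie Cfsg.Lie.ChevalleyDatum Matrix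
open Cfsg.Agent.Lib.helper8
open Cfsg.Agent.Lib.helper23.TD4V
open Cfsg.Agent.Lib.helper17.T3
open Cfsg.Agent.Lib.helper15.St2 Cfsg.Agent.Lib.helper7.Ce

universe u

variable {K : Type u} [Field K] {q : ℕ}

/-- an element that is not fixed by `f` -/
theorem t3mf5h29_exists_not_fixed [Fintype K] (D : Dat K q) (hq : IsPrimePow q)
    (hK : Fintype.card K = q ^ 3) : ∃ a : K, D.f a ≠ a := by
  obtain ⟨y, hy⟩ := fld2_exists_ne_zero hq hK (-1) 0 1 one_ne_zero
  refine ⟨y, fun h => hy ?_⟩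
  have e : y ^ q ^ 2 = y := by
    rw [sq, pow_mul, ← D.hf, ← D.hf, h, h]
  rw [e]
  ring

/-- **F5** [S-M].  `v = f a / a` for `a ∉ D.Fx`. -/
theorem t3m_nm_one [Fintype K] (D : Dat K q) (hq : IsPrimePow q) (hK : Fintype.card K = q ^ 3) :
    ∃ v : K, v ≠ 1 ∧ D.nm v = 1 := by
  obtain ⟨a, ha⟩ := t3mf5h29_exists_not_fixed D hq hK
  have ha0 : a ≠ 0 := by
    intro h0
    apply ha
    rw [h0, map_zero]
  have h1 : D.f a ≠ 0 := D.f_ne_zero ha0
  have h2 : D.f (D.f a) ≠ 0 := D.f_ne_zero h1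
  refine ⟨D.f a / a, ?_, ?_⟩
  · intro h
    rw [div_eq_one_iff_eq ha0] at h
    exact ha h
  · apply Subtype.ext
    show D.f a / a * D.f (D.f a / a) * D.f (D.f (D.f a / a)) = 1
    rw [map_div₀, map_div₀, D.h3]
    field_simp

end Cfsg.Agent.Lib.helper8.T3M
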