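import Mathlib

/-!
Chain step: if a TI Sylow `p`-subgroup `P` centralizes a normal `p'`-subgroup `A` and `B ⊵ A` is
normal in `G` with `|B : A| = p^m`, `m ≥ 1`, then `P` is normal.
-/

set_option autoImplicit false

namespace Cfsg.Agent.Lib.Helper29

open scoped Pointwise

theorem tir_normal_of_normal_pSubgroup {G : Type*} [Group G] [Finite G] (p : ℕ) [Fact p.Prime]
    (P : Sylow p G)
    (hTI : ∀ g : G, g ∉ Subgroup.normalizer ((P : Subgroup G) : Set G) →
      (P : Subgroup G) ⊓ (MulAut.conj g • (P : Subgroup G)) = ⊥)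
    (Q : Subgroup G) (hQP : Q ≤ (P : Subgroup G)) (hQ1 : Q ≠ ⊥)
    (hQn : ∀ g : G, ∀ q ∈ Q, g * q * g⁻¹ ∈ Q) : (P : Subgroup G).Normal := by
  rw [← Subgroup.normalizer_eq_top_iff]
  rw [eq_top_iff]
  intro g _
  by_contra hg
  have hbot := hTI g hg
  obtain ⟨⟨q, hq⟩, hq1⟩ := (Subgroup.ne_bot_iff_exists_ne_one).mp hQ1
  have hmem : q ∈ (P : Subgroup G) ⊓ (MulAut.conj g • (P : Subgroup G)) := by
    refine Subgroup.mem_inf.mpr ⟨hQP hq, ?_⟩
    rw [Subgroup.mem_pointwise_smul_iff_inv_smul_mem]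
    have : (MulAut.conj g)⁻¹ • q = g⁻¹ * q * g⁻¹⁻¹ := by
      simp only [MulAut.smul_def, ← map_inv, MulAut.conj_apply]
    rw [this]
    exact hQP (hQn g⁻¹ q hq)
  rw [hbot, Subgroup.mem_bot] at hmem
  apply hq1
  exact Subtype.ext hmem

theorem tir_chain_step {G : Type*} [Group G] [Finite G] (p : ℕ) [hp : Fact p.Prime]
    (P : Sylow p G)
    (hTI : ∀ g : G, g ∉ Subgroup.normalizer ((P : Subgroup G) : Set G) →
      (P : Subgroup G) ⊓ (MulAut.conj g • (P : Subgroup G)) = ⊥)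
    (A B : Subgroup G) [hAn : A.Normal] [hBn : B.Normal] (hAB : A ≤ B)
    (hA : (Nat.card A).Coprime p) (m : ℕ) (hm : 1 ≤ m) (hidx : A.relIndex B = p ^ m)
    (hcent : ∀ a ∈ A, ∀ x ∈ (P : Subgroup G), a * x = x * a) : (P : Subgroup G).Normal := by
  classical
  have hcardB : Nat.card B = Nat.card A * p ^ m := by
    have := Subgroup.relIndex_mul_relIndex (H := ⊥) (K := A) (L := B) bot_le hAB
    rw [Subgroup.relIndex_bot_left, Subgroup.relIndex_bot_left, hidx] at this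
    exact this.symm
  have hnotdvd : ¬ p ∣ Nat.card A := by
    intro hdvd
    exact hp.out.one_lt.ne' (Nat.Coprime.eq_one_of_dvd hA.symm hdvd)
  have hAP : A ⊓ (P : Subgroup G) = ⊥ := by
    apply disjoint_iff.mp
    apply Subgroup.disjoint_of_coprime_natCard
    rw [P.card_eq_multiplicity]
    exact Nat.Coprime.pow_right _ hA
  -- a Sylow p-subgroup of B, conjugated into P
  obtain ⟨Q₀⟩ : Nonempty (Sylow p B) := inferInstance
  have hQ₀card : Nat.card (Q₀ : Subgroup B) = p ^ m := by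
    rw [Q₀.card_eq_multiplicity, hcardB]
    congr 1
    rw [Nat.factorization_mul (Nat.card_pos.ne') (pow_ne_zero _ hp.out.ne_zero),
      Nat.factorization_pow]
    have h1 : (Nat.card A).factorization p = 0 := Nat.factorization_eq_zero_of_not_dvd hnotdvd
    simp [h1, hp.out.factorization_self]
  let Q₁ : Subgroup G := (Q₀ : Subgroup B).map B.subtype
  have hQ₁B : Q₁ ≤ B := Subgroup.map_subtype_le _
  have hQ₁card : Nat.card Q₁ = p ^ m := by
    rw [← hQ₀card]
    exact Subgroup.card_map_of_injective (Subgroup.subtype_injective B)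
  have hQ₁p : IsPGroup p Q₁ := Q₀.isPGroup'.map B.subtype
  obtain ⟨S, hS⟩ := hQ₁p.exists_le_sylow
  obtain ⟨g, hg⟩ := MulAction.exists_smul_eq G S P
  let Q₂ : Subgroup G := Q₁.map (MulAut.conj g).toMonoidHom
  have hQ₂card : Nat.card Q₂ = p ^ m := by
    rw [← hQ₁card]
    exact Subgroup.card_map_of_injective (MulAut.conj g).injective
  have hQ₂P : Q₂ ≤ (P : Subgroup G) := by
    rintro _ ⟨y, hy, rfl⟩
    have h1 : y ∈ (S : Subgroup G) := hS hy
    rw [← hg, Sylow.coe_subgroup_smul]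
    exact Subgroup.smul_mem_pointwise_smul y (MulAut.conj g) _ h1
  have hQ₂B : Q₂ ≤ B := by
    rintro _ ⟨y, hy, rfl⟩
    exact hBn.conj_mem y (hQ₁B hy) g
  have hsup : A ⊔ Q₂ = B := by
    apply Subgroup.eq_of_le_of_card_ge (sup_le hAB hQ₂B)
    have h1 : Nat.card A ∣ Nat.card (A ⊔ Q₂ : Subgroup G) := Subgroup.card_dvd_of_le le_sup_left
    have h2 : p ^ m ∣ Nat.card (A ⊔ Q₂ : Subgroup G) := by
      rw [← hQ₂card]
      exact Subgroup.card_dvd_of_le le_sup_right
    have h3 : Nat.card A * p ^ m ∣ Nat.card (A ⊔ Q₂ : Subgroup G) :=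
      Nat.Coprime.mul_dvd_of_dvd_of_dvd (Nat.Coprime.pow_right _ hA) h1 h2
    rw [hcardB]
    exact Nat.le_of_dvd Nat.card_pos h3
  have hQ₂n : ∀ g' : G, ∀ q ∈ Q₂, g' * q * g'⁻¹ ∈ Q₂ := by
    intro g' q hq
    have htB : g' * q * g'⁻¹ ∈ A ⊔ Q₂ := by
      rw [hsup]
      exact hBn.conj_mem q (hQ₂B hq) g'
    obtain ⟨a, ha, q', hq', haq⟩ := Subgroup.mem_sup_of_normal_left.mp htB
    have hcomm : Commute a q' := hcent a ha q' (hQ₂P hq')
    obtain ⟨e, he⟩ := P.isPGroup' ⟨q, hQ₂P hq⟩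
    have he' : q ^ (p ^ e) = 1 := by
      have := congrArg (fun t : (P : Subgroup G) => (t : G)) he
      simpa using this
    have ht : (a * q') ^ (p ^ e) = 1 := by
      rw [haq, conj_pow, he']
      group
    rw [hcomm.mul_pow] at ht
    have ha1 : a ^ (p ^ e) ∈ A ⊓ (P : Subgroup G) := by
      refine Subgroup.mem_inf.mpr ⟨A.pow_mem ha _, ?_⟩
      have : a ^ (p ^ e) = (q' ^ (p ^ e))⁻¹ := eq_inv_of_mul_eq_one_left ht
      rw [this]
      exact Subgroup.inv_mem _ (Subgroup.pow_mem _ (hQ₂P hq') _)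
    rw [hAP, Subgroup.mem_bot] at ha1
    have hord1 : orderOf a ∣ p ^ e := orderOf_dvd_of_pow_eq_one ha1
    have hord2 : orderOf a ∣ Nat.card A := by
      have := orderOf_dvd_natCard (⟨a, ha⟩ : A)
      rwa [Subgroup.orderOf_mk] at this
    have hord : orderOf a = 1 :=
      Nat.eq_one_of_dvd_coprimes (Nat.Coprime.pow_right e hA) hord2 hord1
    have ha0 : a = 1 := orderOf_eq_one_iff.mp hord
    rw [← haq, ha0, one_mul]
    exact hq'
  have hQ₂ne : Q₂ ≠ ⊥ := by
    intro h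
    rw [h, Subgroup.card_bot] at hQ₂card
    have : 1 < p ^ m := Nat.one_lt_pow (by omega) hp.out.one_lt
    omega
  exact tir_normal_of_normal_pSubgroup p P hTI Q₂ hQ₂P hQ₂ne hQ₂n

end Cfsg.Agent.Lib.Helper29
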