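import Mathlib
import Cfsg.Agent.Lib.Helper29.TIResComm
import Cfsg.Agent.Lib.Helper29.TIResChar

/-!
A TI Sylow `p`-subgroup `P` of `G`, with a faithful complex representation of degree `d`, `d^2 ≤ |P|`,
centralizes every normal `p'`-subgroup of `G`.
-/

set_option autoImplicit false

namespace Cfsg.Agent.Lib.Helper29

open scoped Pointwise

theorem tir_centralizes_normal {G : Type*} [Group G] [Finite G] (p : ℕ) [Fact p.Prime]
    (P : Sylow p G)
    (hTI : ∀ g : G, g ∉ Subgroup.normalizer ((P : Subgroup G) : Set G) →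
      (P : Subgroup G) ⊓ (MulAut.conj g • (P : Subgroup G)) = ⊥)
    (K : Subgroup G) [hKn : K.Normal] (hK : (Nat.card K).Coprime p)
    {V : Type*} [AddCommGroup V] [Module ℂ V] [FiniteDimensional ℂ V] (ρ : Representation ℂ G V)
    (hinj : Function.Injective ρ) (hdeg : (Module.finrank ℂ V) ^ 2 ≤ Nat.card (P : Subgroup G)) :
    ∀ k ∈ K, ∀ x ∈ (P : Subgroup G), k * x = x * k := by
  classical
  have hKP : K ⊓ (P : Subgroup G) = ⊥ := by
    apply disjoint_iff.mp
    apply Subgroup.disjoint_of_coprime_natCard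
    rw [P.card_eq_multiplicity]
    exact Nat.Coprime.pow_right _ hK
  -- elements of K normalizing P centralize P
  have hcentN : ∀ k ∈ K, (∀ x ∈ (P : Subgroup G), k * x * k⁻¹ ∈ (P : Subgroup G)) →
      ∀ x ∈ (P : Subgroup G), k * x = x * k := by
    intro k hk hnorm x hx
    have h1 : k * x * k⁻¹ * x⁻¹ ∈ K ⊓ (P : Subgroup G) := by
      refine Subgroup.mem_inf.mpr ⟨?_, ?_⟩
      · have : k * x * k⁻¹ * x⁻¹ = k * (x * k⁻¹ * x⁻¹) := by group
        rw [this]
        exact K.mul_mem hk (hKn.conj_mem _ (K.inv_mem hk) x)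
      · exact Subgroup.mul_mem _ (hnorm x hx) (Subgroup.inv_mem _ hx)
    rw [hKP, Subgroup.mem_bot] at h1
    calc k * x = (k * x * k⁻¹ * x⁻¹) * (x * k) := by group
      _ = x * k := by rw [h1, one_mul]
  let N : Subgroup G := Subgroup.normalizer ((P : Subgroup G) : Set G)
  have hs := tir_semiregular p P hTI N le_rfl
  let L : Subgroup G := K ⊔ (P : Subgroup G)
  have hPL : (P : Subgroup G) ≤ L := le_sup_right
  have hKL : K ≤ L := le_sup_left
  let H' : Subgroup L := N.subgroupOf L
  let P' : Subgroup L := (P : Subgroup G).subgroupOf L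
  have hP'H' : P' ≤ H' := by
    intro x hx
    exact Subgroup.le_normalizer hx
  have hP' : IsPGroup p P' := P.isPGroup'.comap_subtype
  have hcardP' : Nat.card P' = Nat.card (P : Subgroup G) :=
    Nat.card_congr (Subgroup.subgroupOfEquivOfLe hPL).toEquiv
  have hsemi' : ∀ l : L, l ∉ H' → ∀ x ∈ P', l⁻¹ * x * l ∈ H' → x = 1 := by
    intro l hl x hx hy
    have := hs (l : G) hl (x : G) hx hy
    exact Subtype.ext this
  let ρ' : Representation ℂ L V := ρ.comp L.subtype
  haveI : Fintype L := Fintype.ofFinite L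
  -- central elements of P commute with K
  have hZ : ∀ z ∈ (P : Subgroup G), (∀ x ∈ (P : Subgroup G), z * x = x * z) →
      ∀ k ∈ K, k * z = z * k := by
    intro z hz hzc k hk
    have hf : ∀ h ∈ H', ρ' h ∘ₗ ρ z = ρ z ∘ₗ ρ' h := by
      intro h hh
      have hhN : (h : G) ∈ N := hh
      obtain ⟨k', hk', y, hy, hky⟩ := Subgroup.mem_sup_of_normal_left.mp h.2
      have hk'norm : ∀ x ∈ (P : Subgroup G), k' * x * k'⁻¹ ∈ (P : Subgroup G) := by
        intro x hx
        have h1 : k' = (h : G) * y⁻¹ := by rw [← hky]; group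
        have h2 : k' * x * k'⁻¹ = (h : G) * (y⁻¹ * x * y) * (h : G)⁻¹ := by rw [h1]; group
        rw [h2]
        have h3 : y⁻¹ * x * y ∈ (P : Subgroup G) :=
          Subgroup.mul_mem _ (Subgroup.mul_mem _ (Subgroup.inv_mem _ hy) hx) hy
        exact (Subgroup.mem_normalizer_iff.mp hhN _).mp h3
      have hk'c := hcentN k' hk' hk'norm z hz
      have hcomm : (h : G) * z = z * (h : G) := by
        rw [← hky]
        calc k' * y * z = k' * (y * z) := by group
          _ = k' * (z * y) := by rw [hzc y hy]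
          _ = (k' * z) * y := by group
          _ = (z * k') * y := by rw [hk'c]
          _ = z * (k' * y) := by group
      change ρ (h : G) ∘ₗ ρ z = ρ z ∘ₗ ρ (h : G)
      have h1 : ρ (h : G) * ρ z = ρ z * ρ (h : G) := by rw [← map_mul, ← map_mul, hcomm]
      exact h1
    have hall := tir_commutant p H' P' hP'H' hP' hsemi' ρ' (by rw [hcardP']; exact hdeg) (ρ z) hf
    have h1 := hall ⟨k, hKL hk⟩
    have h2 : ρ k * ρ z = ρ z * ρ k := h1
    rw [← map_mul, ← map_mul] at h2
    exact hinj h2
  -- conclusion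
  intro k hk x hx
  by_cases hPbot : (P : Subgroup G) = ⊥
  · rw [hPbot, Subgroup.mem_bot] at hx
    rw [hx, mul_one, one_mul]
  · haveI : Nontrivial (P : Subgroup G) := (Subgroup.nontrivial_iff_ne_bot _).mpr hPbot
    have hcenter := P.isPGroup'.center_nontrivial
    obtain ⟨z, hz1⟩ := exists_ne (1 : Subgroup.center (P : Subgroup G))
    have hzP : ((z : (P : Subgroup G)) : G) ∈ (P : Subgroup G) := (z : (P : Subgroup G)).2
    have hzc : ∀ y ∈ (P : Subgroup G), ((z : (P : Subgroup G)) : G) * y = y * ((z : (P : Subgroup G)) : G) := by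
      intro y hy
      have h1 : (⟨y, hy⟩ : (P : Subgroup G)) * (z : (P : Subgroup G)) =
          (z : (P : Subgroup G)) * ⟨y, hy⟩ := (Subgroup.mem_center_iff.mp z.2) ⟨y, hy⟩
      have h2 : y * ((z : (P : Subgroup G)) : G) = ((z : (P : Subgroup G)) : G) * y := by
        have := congrArg (fun t : (P : Subgroup G) => (t : G)) h1
        simpa using this
      exact h2.symm
    have hzne : ((z : (P : Subgroup G)) : G) ≠ 1 := by
      intro h
      apply hz1
      apply Subtype.ext
      apply Subtype.ext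
      exact h
    have hkz := hZ _ hzP hzc k hk
    -- k normalizes P by TI
    have hkN : k ∈ Subgroup.normalizer ((P : Subgroup G) : Set G) := by
      by_contra hnot
      have hbot := hTI k hnot
      have hmem : ((z : (P : Subgroup G)) : G) ∈
          (P : Subgroup G) ⊓ (MulAut.conj k • (P : Subgroup G)) := by
        refine Subgroup.mem_inf.mpr ⟨hzP, ?_⟩
        rw [Subgroup.mem_pointwise_smul_iff_inv_smul_mem]
        have : (MulAut.conj k)⁻¹ • ((z : (P : Subgroup G)) : G) = ((z : (P : Subgroup G)) : G) := by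
          simp only [MulAut.smul_def, ← map_inv, MulAut.conj_apply, inv_inv]
          calc k⁻¹ * ((z : (P : Subgroup G)) : G) * k = k⁻¹ * (((z : (P : Subgroup G)) : G) * k) := by group
            _ = k⁻¹ * (k * ((z : (P : Subgroup G)) : G)) := by rw [hkz]
            _ = ((z : (P : Subgroup G)) : G) := by group
        rw [this]
        exact hzP
      rw [hbot, Subgroup.mem_bot] at hmem
      exact hzne hmem
    exact hcentN k hk (fun y hy => (Subgroup.mem_normalizer_iff.mp hkN y).mp hy) x hx

end Cfsg.Agent.Lib.Helper29
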