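import Mathlib
import Cfsg.Agent.Lib.Helper11.CyclicDual

/-!
Group theory for `L = K ⋊ W₁` with `W₂ = C_K(x)` for all `1 ≠ x ∈ W₁` (Peterfalvi, section 4).
-/

set_option autoImplicit false
open scoped Pointwise

namespace Cfsg.Agent.Lib.Helper29.TP

variable {L : Type*} [Group L]

/-- the hypotheses on `L = K ⋊ W₁`, `W₂ = C_K(x)` -/
structure Hyp (K W₁ W₂ : Subgroup L) : Prop where
  normal : K.Normal
  inf : K ⊓ W₁ = ⊥
  sup : K ⊔ W₁ = ⊤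
  ne1 : W₁ ≠ ⊥
  cyc1 : IsCyclic W₁
  hall : Nat.Coprime (Nat.card W₁) W₁.index
  ne2 : W₂ ≠ ⊥
  cyc2 : IsCyclic W₂
  le : W₂ ≤ K
  cent : ∀ x ∈ W₁, x ≠ 1 → K ⊓ Subgroup.centralizer ({x} : Set L) = W₂

variable {K W₁ W₂ : Subgroup L}

theorem Hyp.comm12 (h : Hyp K W₁ W₂) (a : L) (ha : a ∈ W₁) (b : L) (hb : b ∈ W₂) :
    a * b = b * a := by
  by_cases h1 : a = 1
  · rw [h1, one_mul, mul_one]
  · have h2 : b ∈ K ⊓ Subgroup.centralizer ({a} : Set L) := by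
      rw [h.cent a ha h1]
      exact hb
    have h3 := Subgroup.mem_centralizer_iff.mp h2.2 a (Set.mem_singleton a)
    exact h3

theorem Hyp.disj (h : Hyp K W₁ W₂) : W₁ ⊓ W₂ = ⊥ := by
  rw [eq_bot_iff]
  intro x hx
  have : x ∈ K ⊓ W₁ := ⟨h.le hx.2, hx.1⟩
  rw [h.inf] at this
  exact this

theorem Hyp.comm1 (h : Hyp K W₁ W₂) (a : L) (ha : a ∈ W₁) (b : L) (hb : b ∈ W₁) :
    a * b = b * a := by
  have := @IsCyclic.isMulCommutative _ _ h.cyc1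
  have h1 := mul_comm' (⟨a, ha⟩ : ↥W₁) ⟨b, hb⟩
  exact congrArg Subtype.val h1

theorem Hyp.comm2 (h : Hyp K W₁ W₂) (a : L) (ha : a ∈ W₂) (b : L) (hb : b ∈ W₂) :
    a * b = b * a := by
  have := @IsCyclic.isMulCommutative _ _ h.cyc2
  have h1 := mul_comm' (⟨a, ha⟩ : ↥W₂) ⟨b, hb⟩
  exact congrArg Subtype.val h1

theorem Hyp.mem_sup_iff (h : Hyp K W₁ W₂) (w : L) :
    w ∈ W₁ ⊔ W₂ ↔ ∃ a ∈ W₁, ∃ b ∈ W₂, w = a * b := by
  have hc : ∀ (m : ↥W₁) (n : ↥W₂), Commute (W₁.subtype m) (W₂.subtype n) :=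
    fun m n => h.comm12 m m.2 n n.2
  have hr := MonoidHom.noncommCoprod_range W₁.subtype W₂.subtype hc
  rw [Subgroup.range_subtype, Subgroup.range_subtype] at hr
  rw [← hr, MonoidHom.mem_range]
  constructor
  · rintro ⟨⟨a, b⟩, rfl⟩
    exact ⟨a, a.2, b, b.2, rfl⟩
  · rintro ⟨a, ha, b, hb, rfl⟩
    exact ⟨(⟨a, ha⟩, ⟨b, hb⟩), rfl⟩

theorem Hyp.comm (h : Hyp K W₁ W₂) (u v : ↥(W₁ ⊔ W₂)) : u * v = v * u := by
  obtain ⟨a, ha, b, hb, hu⟩ := (h.mem_sup_iff u).mp u.2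
  obtain ⟨a', ha', b', hb', hv⟩ := (h.mem_sup_iff v).mp v.2
  apply Subtype.ext
  rw [Subgroup.coe_mul, Subgroup.coe_mul, hu, hv]
  calc a * b * (a' * b') = a * (b * a') * b' := by group
    _ = a * (a' * b) * b' := by rw [h.comm12 a' ha' b hb]
    _ = (a * a') * (b * b') := by group
    _ = (a' * a) * (b' * b) := by rw [h.comm1 a ha a' ha', h.comm2 b hb b' hb']
    _ = a' * (a * b') * b := by group
    _ = a' * (b' * a) * b := by rw [h.comm12 a ha b' hb']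
    _ = a' * b' * (a * b) := by group

theorem Hyp.card_K [Finite L] (h : Hyp K W₁ W₂) : Nat.card K = W₁.index := by
  have hN := h.normal
  have h1 : (K : Set L) * (W₁ : Set L) = Set.univ := by
    rw [← Subgroup.normal_mul K W₁, h.sup]
    rfl
  have h2 := (Subgroup.isComplement'_of_disjoint_and_mul_eq_univ (disjoint_iff.mpr h.inf)
    h1).card_mul_card
  have h3 := Subgroup.card_mul_index W₁
  have h4 : 0 < Nat.card W₁ := Nat.card_pos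
  have : Nat.card K * Nat.card W₁ = W₁.index * Nat.card W₁ := by
    rw [h2, ← h3, mul_comm]
  exact Nat.eq_of_mul_eq_mul_right h4 this

theorem Hyp.coprime [Finite L] (h : Hyp K W₁ W₂) :
    Nat.Coprime (Nat.card W₁) (Nat.card W₂) := by
  have h1 : Nat.card W₂ ∣ Nat.card K := Subgroup.card_dvd_of_le h.le
  rw [h.card_K] at h1
  exact Nat.Coprime.coprime_dvd_right h1 h.hall

theorem Hyp.pow_card1 (a : L) (ha : a ∈ W₁) : a ^ Nat.card W₁ = 1 := by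
  have h1 := pow_card_eq_one' (G := ↥W₁) (x := ⟨a, ha⟩)
  exact congrArg Subtype.val h1

/-- the `W₁`-part of an element of `W` is a power of it -/
theorem Hyp.exists_pow [Finite L] (h : Hyp K W₁ W₂) :
    ∃ n : ℕ, ∀ a ∈ W₁, ∀ b ∈ W₂, (a * b) ^ n = a := by
  have hk1 : 1 < Nat.card W₁ := (Subgroup.one_lt_card_iff_ne_bot W₁).mpr h.ne1
  obtain ⟨t, -, ht⟩ := Nat.exists_mul_mod_eq_one_of_coprime h.coprime.symm hk1
  refine ⟨Nat.card W₂ * t, ?_⟩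
  intro a ha b hb
  have hc : Commute a b := h.comm12 a ha b hb
  rw [hc.mul_pow, pow_mul b, Hyp.pow_card1 (W₁ := W₂) b hb, one_pow, mul_one]
  have h2 : Nat.card W₂ * t = Nat.card W₁ * (Nat.card W₂ * t / Nat.card W₁) + 1 := by
    have := Nat.div_add_mod (Nat.card W₂ * t) (Nat.card W₁)
    rw [ht] at this
    exact this.symm
  rw [h2, pow_succ, pow_mul, Hyp.pow_card1 a ha, one_pow, one_mul]

/-- `W ∖ W₂` is a TI subset of `L` with normaliser `W` -/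
theorem Hyp.ti [Finite L] (h : Hyp K W₁ W₂) (w : L) (hw : w ∈ W₁ ⊔ W₂) (hw2 : w ∉ W₂) (g : L)
    (hg : g⁻¹ * w * g ∈ W₁ ⊔ W₂) : g ∈ W₁ ⊔ W₂ := by
  have hN := h.normal
  obtain ⟨n, hn⟩ := h.exists_pow
  obtain ⟨a, ha, b, hb, rfl⟩ := (h.mem_sup_iff w).mp hw
  obtain ⟨a', ha', b', hb', hab'⟩ := (h.mem_sup_iff _).mp hg
  have ha1 : a ≠ 1 := by
    rintro rfl
    apply hw2
    rw [one_mul]
    exact hb
  -- the conjugate of `a` lies in `W₁`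
  have h1 : g⁻¹ * a * g = a' := by
    have h2 : (g⁻¹ * (a * b) * g) ^ n = g⁻¹ * (a * b) ^ n * g := by
      have := conj_pow (a := g⁻¹) (b := a * b) (i := n)
      rw [inv_inv] at this
      exact this
    rw [hn a ha b hb, hab', hn a' ha' b' hb'] at h2
    exact h2.symm
  -- decompose `g`
  have hgm : g ∈ K ⊔ W₁ := by rw [h.sup]; exact Subgroup.mem_top g
  obtain ⟨k₀, hk₀, c, hc, rfl⟩ := Subgroup.mem_sup_of_normal_left.mp hgm
  have h3 : k₀⁻¹ * a * k₀ ∈ W₁ := by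
    have h4 : k₀⁻¹ * a * k₀ = c * a' * c⁻¹ := by
      rw [← h1]
      group
    rw [h4]
    exact W₁.mul_mem (W₁.mul_mem hc ha') (W₁.inv_mem hc)
  have h5 : a⁻¹ * (k₀⁻¹ * a * k₀) ∈ K ⊓ W₁ := by
    constructor
    · have : a⁻¹ * (k₀⁻¹ * a * k₀) = (a⁻¹ * k₀⁻¹ * a⁻¹⁻¹) * k₀ := by group
      rw [this]
      exact K.mul_mem (hN.conj_mem _ (K.inv_mem hk₀) _) hk₀
    · exact W₁.mul_mem (W₁.inv_mem ha) h3
  rw [h.inf, Subgroup.mem_bot] at h5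
  have h6 : k₀ ∈ K ⊓ Subgroup.centralizer ({a} : Set L) := by
    refine ⟨hk₀, ?_⟩
    show k₀ ∈ Subgroup.centralizer ({a} : Set L)
    rw [Subgroup.mem_centralizer_iff]
    intro x hx
    rw [Set.mem_singleton_iff] at hx
    subst hx
    have : k₀⁻¹ * x * k₀ = x := by
      have := congrArg (fun y => x * y) h5
      simpa using this
    calc x * k₀ = k₀ * (k₀⁻¹ * x * k₀) := by group
      _ = k₀ * x := by rw [this]
  rw [h.cent a ha ha1] at h6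
  exact (h.mem_sup_iff _).mpr ⟨c, hc, k₀, h6, h.comm12 c hc k₀ h6 ▸ rfl⟩

theorem card_sub1 (W₁ W₂ : Subgroup L) :
    Nat.card ↥(W₁.subgroupOf (W₁ ⊔ W₂)) = Nat.card ↥W₁ :=
  Nat.card_congr (Subgroup.subgroupOfEquivOfLe le_sup_left).toEquiv

open Cfsg.Agent.Lib.Helper11 in
/-- the characters of `W` trivial on `W₂` are `|W₁|` in number -/
theorem Hyp.card_annih2 [Finite L] (h : Hyp K W₁ W₂) :
    Nat.card ↥(annih (W₂.subgroupOf (W₁ ⊔ W₂))) = Nat.card ↥W₁ := by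
  have hd : W₁.subgroupOf (W₁ ⊔ W₂) ⊓ W₂.subgroupOf (W₁ ⊔ W₂) = ⊥ := by
    rw [eq_bot_iff]
    intro u hu
    have h1 : (u : L) ∈ W₁ ⊓ W₂ :=
      ⟨Subgroup.mem_subgroupOf.mp hu.1, Subgroup.mem_subgroupOf.mp hu.2⟩
    rw [h.disj, Subgroup.mem_bot] at h1
    rw [Subgroup.mem_bot]
    exact Subtype.ext h1
  have hs : W₁.subgroupOf (W₁ ⊔ W₂) ⊔ W₂.subgroupOf (W₁ ⊔ W₂) = ⊤ := by
    rw [← Subgroup.subgroupOf_sup le_sup_left le_sup_right, Subgroup.subgroupOf_self]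
  have h1 := card_eq_mul_of_disjoint_sup h.comm _ _ hd hs
  have h2 := card_annih h.comm (W₂.subgroupOf (W₁ ⊔ W₂))
  rw [← h1, card_sub1] at h2
  have h3 : 0 < Nat.card ↥(W₂.subgroupOf (W₁ ⊔ W₂)) := Nat.card_pos
  exact Nat.eq_of_mul_eq_mul_right h3 h2

end Cfsg.Agent.Lib.Helper29.TP
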