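import Mathlib
import Cfsg.Agent.Lib.Helper29.TPGroup
import Cfsg.Agent.Lib.Helper29.AbFrobGram
import Cfsg.Agent.Lib.Helper29.AbFrobComb
import Cfsg.Agent.Lib.Helper29.LeoOrbit
import Cfsg.Agent.Lib.helper7.BSCore
import Cfsg.Agent.Lib.Helper11.LinChar
import Cfsg.Agent.Lib.Helper11.CyclicTI

/-!
Character theory for `L = K ⋊ W₁`: induction from `W = W₁ × W₂` of differences of linear characters
agreeing on `W₂`.
-/

set_option autoImplicit false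
open scoped ComplexConjugate
open Classical

namespace Cfsg.Agent.Lib.Helper29.TP

open Cfsg.Agent.Lib.Helper11 Cfsg.Agent.Lib.helper7 Cfsg.Agent.Lib.Helper29

variable {L : Type*} [Group L] [Fintype L] {K W₁ W₂ : Subgroup L}

/-- the TI subset `W ∖ W₂` -/
def offSet (W₁ W₂ : Subgroup L) : Set L := {x | x ∈ W₁ ⊔ W₂ ∧ x ∉ W₂}

theorem Hyp.hTI (h : Hyp K W₁ W₂) (g : L) (hg : g ∉ W₁ ⊔ W₂) (s : L) (hs : s ∈ offSet W₁ W₂) :
    g * s * g⁻¹ ∉ offSet W₁ W₂ := by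
  intro hc
  apply hg
  have := h.ti s hs.1 hs.2 g⁻¹ (by rw [inv_inv]; exact hc.1)
  simpa using (W₁ ⊔ W₂).inv_mem this

/-- the difference of two linear characters of `W` -/
noncomputable def dif (ω ω' : ↥(W₁ ⊔ W₂) →* ℂˣ) : ↥(W₁ ⊔ W₂) → ℂ :=
  fun w => (ω w : ℂ) - (ω' w : ℂ)

theorem dif_eq (ω ω' : ↥(W₁ ⊔ W₂) →* ℂˣ) : dif ω ω' = linFun ω - linFun ω' := rfl

theorem dif_self (ω : ↥(W₁ ⊔ W₂) →* ℂˣ) : dif ω ω = 0 := by
  funext w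
  unfold dif
  rw [sub_self]
  rfl

/-- two linear characters of `W` agree on `W₂` -/
def Agree (W₁ W₂ : Subgroup L) (ω ω' : ↥(W₁ ⊔ W₂) →* ℂˣ) : Prop :=
  ∀ w : ↥(W₁ ⊔ W₂), (w : L) ∈ W₂ → ω w = ω' w

theorem Agree.refl (ω : ↥(W₁ ⊔ W₂) →* ℂˣ) : Agree W₁ W₂ ω ω := fun _ _ => rfl

theorem Agree.symm {ω ω' : ↥(W₁ ⊔ W₂) →* ℂˣ} (h : Agree W₁ W₂ ω ω') : Agree W₁ W₂ ω' ω :=
  fun w hw => (h w hw).symm

theorem Agree.trans {ω ω' ω'' : ↥(W₁ ⊔ W₂) →* ℂˣ} (h : Agree W₁ W₂ ω ω')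
    (h' : Agree W₁ W₂ ω' ω'') : Agree W₁ W₂ ω ω'' :=
  fun w hw => (h w hw).trans (h' w hw)

theorem dif_off {ω ω' : ↥(W₁ ⊔ W₂) →* ℂˣ} (hag : Agree W₁ W₂ ω ω') (x : ↥(W₁ ⊔ W₂))
    (hx : (x : L) ∉ offSet W₁ W₂) : dif ω ω' x = 0 := by
  have : (x : L) ∈ W₂ := by
    by_contra h
    exact hx ⟨x.2, h⟩
  unfold dif
  rw [hag x this, sub_self]

theorem Hyp.classFun (h : Hyp K W₁ W₂) (f : ↥(W₁ ⊔ W₂) → ℂ) :
    Cfsg.IsClassFunction ↥(W₁ ⊔ W₂) f := by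
  intro g x
  rw [h.comm x g, mul_assoc, mul_inv_cancel, mul_one]

variable [Fintype ↥(W₁ ⊔ W₂)]

theorem Hyp.inner_ind (h : Hyp K W₁ W₂) {ω₁ ω₁' ω₂ ω₂' : ↥(W₁ ⊔ W₂) →* ℂˣ}
    (hag₁ : Agree W₁ W₂ ω₁ ω₁') (hag₂ : Agree W₁ W₂ ω₂ ω₂') :
    Cfsg.classInner (Cfsg.indFun (W₁ ⊔ W₂) (dif ω₁ ω₁')) (Cfsg.indFun (W₁ ⊔ W₂) (dif ω₂ ω₂')) =
      (if ω₁ = ω₂ then 1 else 0) - (if ω₁' = ω₂ then 1 else 0) -
        ((if ω₁ = ω₂' then 1 else 0) - (if ω₁' = ω₂' then 1 else 0)) := by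
  rw [h7_ti_isometry (W₁ ⊔ W₂) (offSet W₁ W₂) h.hTI _ _ (h.classFun _) (dif_off hag₁)
    (dif_off hag₂), dif_eq, dif_eq, classInner_sub_right', classInner_sub_left',
    classInner_sub_left', classInner_linFun, classInner_linFun, classInner_linFun,
    classInner_linFun]

theorem ind_one (ω ω' : ↥(W₁ ⊔ W₂) →* ℂˣ) :
    Cfsg.indFun (W₁ ⊔ W₂) (dif ω ω') 1 = 0 := by
  rw [h7_indFun_one]
  unfold dif
  rw [map_one, map_one, sub_self, mul_zero]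

theorem ind_inner_irr (ω ω' : ↥(W₁ ⊔ W₂) →* ℂˣ) (θ : Cfsg.IrrCharacter L) :
    Cfsg.classInner (Cfsg.indFun (W₁ ⊔ W₂) (dif ω ω')) (θ : L → ℂ) =
      (afMu (W₁ ⊔ W₂) θ ω : ℂ) - (afMu (W₁ ⊔ W₂) θ ω' : ℂ) := by
  have hcl : Cfsg.IsClassFunction L (θ : L → ℂ) :=
    Cfsg.Agent.Lib.helper2.isCharacter_isClassFunction (Cfsg.Agent.Lib.helper2.isCharacter_of_irr θ)
  rw [h7_frobenius_reciprocity (W₁ ⊔ W₂) _ _ hcl, dif_eq, classInner_sub_left']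
  have key : ∀ η : ↥(W₁ ⊔ W₂) →* ℂˣ,
      Cfsg.classInner (linFun η) (fun w : ↥(W₁ ⊔ W₂) => (θ : L → ℂ) w) =
        (afMu (W₁ ⊔ W₂) θ η : ℂ) := by
    intro η
    rw [afMu_spec']
    unfold Cfsg.classInner
    congr 1
    apply Finset.sum_congr rfl
    intro w _
    rw [linFun_apply, mul_comm]
  rw [key, key]

/-- shape of the induced difference -/
theorem Hyp.shape (h : Hyp K W₁ W₂) {ω ω' : ↥(W₁ ⊔ W₂) →* ℂˣ}
    (hag : Agree W₁ W₂ ω ω') (hne : ω ≠ ω') :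
    ∃ a b : Cfsg.IrrCharacter L, a ≠ b ∧
      (∀ θ : Cfsg.IrrCharacter L, (afMu (W₁ ⊔ W₂) θ ω : ℤ) - (afMu (W₁ ⊔ W₂) θ ω' : ℤ) =
        afInd θ a - afInd θ b) := by
  have : Fintype (Cfsg.IrrCharacter L) := Fintype.ofFinite _
  set F := Cfsg.indFun (W₁ ⊔ W₂) (dif ω ω') with hF
  have hFc : Cfsg.IsClassFunction L F := h7_indFun_isClassFunction _ _
  set d : Cfsg.IrrCharacter L → ℤ := fun θ =>
    (afMu (W₁ ⊔ W₂) θ ω : ℤ) - (afMu (W₁ ⊔ W₂) θ ω' : ℤ) with hd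
  have hinner : ∀ θ : Cfsg.IrrCharacter L, Cfsg.classInner F (θ : L → ℂ) = (d θ : ℂ) := by
    intro θ
    rw [hF, ind_inner_irr, hd]
    push_cast
    rfl
  have hexp := Cfsg.Agent.Lib.Helper25.classFunction_expansion F hFc
  simp only [hinner] at hexp
  have hnorm := h.inner_ind hag hag
  rw [if_pos rfl, if_pos rfl, if_neg hne, if_neg (Ne.symm hne)] at hnorm
  rw [Cfsg.Agent.Lib.Helper25.classInner_parseval F hFc] at hnorm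
  simp only [hinner, map_intCast] at hnorm
  have h2 : ∑ θ : Cfsg.IrrCharacter L, d θ ^ 2 = 2 := by
    have : ((∑ θ : Cfsg.IrrCharacter L, d θ ^ 2 : ℤ) : ℂ) = 2 := by
      have e1 : ((1 : ℂ) - 0 - (0 - 1)) = 2 := by norm_num
      rw [← e1, ← hnorm]
      push_cast
      apply Finset.sum_congr rfl
      intro θ _
      ring
    exact_mod_cast this
  have h0 : ∑ θ : Cfsg.IrrCharacter L, d θ * (leoDeg θ : ℤ) = 0 := by
    have h1 := congrFun hexp 1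
    rw [hF, ind_one] at h1
    simp only [Finset.sum_apply, Pi.smul_apply, smul_eq_mul, leoDeg_spec] at h1
    have : ((∑ θ : Cfsg.IrrCharacter L, d θ * (leoDeg θ : ℤ) : ℤ) : ℂ) = 0 := by
      rw [h1]
      push_cast
      rfl
    exact_mod_cast this
  obtain ⟨a, b, hab, hshape⟩ := afc_norm_two d (fun θ => (leoDeg θ : ℤ))
    (fun θ => by exact_mod_cast leoDeg_pos θ) h2 h0
  exact ⟨a, b, hab, hshape⟩

end Cfsg.Agent.Lib.Helper29.TP
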