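import Mathlib
import Cfsg.Agent.Lib.Helper29.TPChar
import Cfsg.Agent.Lib.Helper11.CyclicDual

/-!
The exceptional characters `μ(φ,ψ)` of `L = K ⋊ W₁`.
-/

set_option autoImplicit false
open scoped ComplexConjugate
open Classical

namespace Cfsg.Agent.Lib.Helper29.TP

open Cfsg.Agent.Lib.Helper11 Cfsg.Agent.Lib.helper7 Cfsg.Agent.Lib.Helper29

variable {L : Type*} [Group L] [Fintype L] {K W₁ W₂ : Subgroup L}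

/-- linear characters of `W` trivial on `W₂` -/
abbrev Phi (W₁ W₂ : Subgroup L) := ↥(annih (W₂.subgroupOf (W₁ ⊔ W₂)))

/-- linear characters of `W` trivial on `W₁` -/
abbrev Psi (W₁ W₂ : Subgroup L) := ↥(annih (W₁.subgroupOf (W₁ ⊔ W₂)))

omit [Fintype L] in
theorem phi_triv (φ : Phi W₁ W₂) (w : ↥(W₁ ⊔ W₂)) (hw : (w : L) ∈ W₂) :
    (φ : ↥(W₁ ⊔ W₂) →* ℂˣ) w = 1 := φ.2 w (Subgroup.mem_subgroupOf.mpr hw)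

omit [Fintype L] in
theorem psi_triv (ψ : Psi W₁ W₂) (w : ↥(W₁ ⊔ W₂)) (hw : (w : L) ∈ W₁) :
    (ψ : ↥(W₁ ⊔ W₂) →* ℂˣ) w = 1 := ψ.2 w (Subgroup.mem_subgroupOf.mpr hw)

omit [Fintype L] in
theorem agree_mul (φ φ' : Phi W₁ W₂) (ψ : Psi W₁ W₂) :
    Agree W₁ W₂ ((φ : ↥(W₁ ⊔ W₂) →* ℂˣ) * (ψ : ↥(W₁ ⊔ W₂) →* ℂˣ))
      ((φ' : ↥(W₁ ⊔ W₂) →* ℂˣ) * (ψ : ↥(W₁ ⊔ W₂) →* ℂˣ)) := by
  intro w hw
  rw [MonoidHom.mul_apply, MonoidHom.mul_apply, phi_triv φ w hw, phi_triv φ' w hw]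

omit [Fintype L] in
theorem mul_ne {φ φ' : Phi W₁ W₂} (hne : φ ≠ φ') (ψ : Psi W₁ W₂) :
    (φ : ↥(W₁ ⊔ W₂) →* ℂˣ) * (ψ : ↥(W₁ ⊔ W₂) →* ℂˣ) ≠
      (φ' : ↥(W₁ ⊔ W₂) →* ℂˣ) * (ψ : ↥(W₁ ⊔ W₂) →* ℂˣ) := by
  intro hc
  exact hne (Subtype.ext (mul_right_cancel hc))

omit [Fintype L] in
theorem Hyp.hd (h : Hyp K W₁ W₂) :
    W₁.subgroupOf (W₁ ⊔ W₂) ⊓ W₂.subgroupOf (W₁ ⊔ W₂) = ⊥ := by
  rw [eq_bot_iff]
  intro u hu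
  have h1 : (u : L) ∈ W₁ ⊓ W₂ :=
    ⟨Subgroup.mem_subgroupOf.mp hu.1, Subgroup.mem_subgroupOf.mp hu.2⟩
  rw [h.disj, Subgroup.mem_bot] at h1
  rw [Subgroup.mem_bot]
  exact Subtype.ext h1

omit [Fintype L] in
theorem hs (W₁ W₂ : Subgroup L) :
    W₁.subgroupOf (W₁ ⊔ W₂) ⊔ W₂.subgroupOf (W₁ ⊔ W₂) = ⊤ := by
  rw [← Subgroup.subgroupOf_sup le_sup_left le_sup_right, Subgroup.subgroupOf_self]

theorem Hyp.exists_phi_ne_one (h : Hyp K W₁ W₂) : ∃ φ : Phi W₁ W₂, φ ≠ 1 := by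
  have h1 : 1 < Nat.card (Phi W₁ W₂) := by
    rw [h.card_annih2]
    exact (Subgroup.one_lt_card_iff_ne_bot W₁).mpr h.ne1
  have : Finite (Phi W₁ W₂) := Nat.finite_of_card_ne_zero (by omega)
  have := (Finite.one_lt_card_iff_nontrivial).mp h1
  exact exists_ne 1

variable [Fintype ↥(W₁ ⊔ W₂)]

/-- the multiplicity structure for each class `ψ` -/
theorem Hyp.structure (h : Hyp K W₁ W₂) (ψ : Psi W₁ W₂) :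
    ∃ (σ : ℤ) (base : Cfsg.IrrCharacter L → ℤ) (e : Phi W₁ W₂ → Cfsg.IrrCharacter L),
      (σ = 1 ∨ σ = -1) ∧
      ∀ (φ : Phi W₁ W₂) (θ : Cfsg.IrrCharacter L),
        (afMu (W₁ ⊔ W₂) θ ((φ : ↥(W₁ ⊔ W₂) →* ℂˣ) * (ψ : ↥(W₁ ⊔ W₂) →* ℂˣ)) : ℤ) =
          base θ + σ * afInd θ (e φ) := by
  apply afc_structure (J := Phi W₁ W₂) (K := Cfsg.IrrCharacter L)
    (fun φ θ => (afMu (W₁ ⊔ W₂) θ ((φ : ↥(W₁ ⊔ W₂) →* ℂˣ) * (ψ : ↥(W₁ ⊔ W₂) →* ℂˣ)) : ℤ))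
  · intro φ φ'
    by_cases hne : φ = φ'
    · left
      rw [hne]
    · right
      obtain ⟨a, b, hab, hsh⟩ := h.shape (agree_mul φ φ' ψ) (mul_ne hne ψ)
      exact ⟨a, b, hab, hsh⟩
  · obtain ⟨φ, hφ⟩ := h.exists_phi_ne_one
    refine ⟨φ, 1, ?_⟩
    obtain ⟨a, b, hab, hsh⟩ := h.shape (agree_mul φ 1 ψ) (mul_ne hφ ψ)
    intro hc
    have h1 := hsh a
    have h2 := congrFun hc a
    beta_reduce at h2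
    rw [h2, sub_self, afInd_self, afInd_of_ne hab] at h1
    omega

/-- the exceptional characters with their signs and multiplicity data -/
structure Data (W₁ W₂ : Subgroup L) where
  m : Phi W₁ W₂ → Psi W₁ W₂ → Cfsg.IrrCharacter L
  σ : Psi W₁ W₂ → ℤ
  base : Psi W₁ W₂ → Cfsg.IrrCharacter L → ℤ
  hσ : ∀ ψ, σ ψ = 1 ∨ σ ψ = -1
  hmu : ∀ (φ : Phi W₁ W₂) (ψ : Psi W₁ W₂) (θ : Cfsg.IrrCharacter L),
    (afMu (W₁ ⊔ W₂) θ ((φ : ↥(W₁ ⊔ W₂) →* ℂˣ) * (ψ : ↥(W₁ ⊔ W₂) →* ℂˣ)) : ℤ) =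
      base ψ θ + σ ψ * afInd θ (m φ ψ)

theorem Hyp.exists_data (h : Hyp K W₁ W₂) : Nonempty (Data W₁ W₂) := by
  have := fun ψ => h.structure ψ
  choose σ base e hσ hmu using this
  exact ⟨⟨fun φ ψ => e ψ φ, σ, base, hσ, fun φ ψ θ => hmu ψ φ θ⟩⟩

theorem Data.hmuC (D : Data W₁ W₂) (φ : Phi W₁ W₂) (ψ : Psi W₁ W₂) (θ : Cfsg.IrrCharacter L) :
    (afMu (W₁ ⊔ W₂) θ ((φ : ↥(W₁ ⊔ W₂) →* ℂˣ) * (ψ : ↥(W₁ ⊔ W₂) →* ℂˣ)) : ℂ) =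
      (D.base ψ θ : ℂ) + (D.σ ψ : ℂ) * (afInd θ (D.m φ ψ) : ℂ) := by
  have := congrArg (Int.cast : ℤ → ℂ) (D.hmu φ ψ θ)
  push_cast at this
  exact this

theorem Data.ind_eq (D : Data W₁ W₂) (φ φ' : Phi W₁ W₂) (ψ : Psi W₁ W₂) :
    Cfsg.indFun (W₁ ⊔ W₂) (dif ((φ : ↥(W₁ ⊔ W₂) →* ℂˣ) * (ψ : ↥(W₁ ⊔ W₂) →* ℂˣ))
        ((φ' : ↥(W₁ ⊔ W₂) →* ℂˣ) * (ψ : ↥(W₁ ⊔ W₂) →* ℂˣ))) =
      (D.σ ψ : ℂ) • ((D.m φ ψ : L → ℂ) - (D.m φ' ψ : L → ℂ)) := by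
  have : Fintype (Cfsg.IrrCharacter L) := Fintype.ofFinite _
  set F := Cfsg.indFun (W₁ ⊔ W₂) (dif ((φ : ↥(W₁ ⊔ W₂) →* ℂˣ) * (ψ : ↥(W₁ ⊔ W₂) →* ℂˣ))
        ((φ' : ↥(W₁ ⊔ W₂) →* ℂˣ) * (ψ : ↥(W₁ ⊔ W₂) →* ℂˣ))) with hF
  have hexp := Cfsg.Agent.Lib.Helper25.classFunction_expansion F (h7_indFun_isClassFunction _ _)
  have hinner : ∀ θ : Cfsg.IrrCharacter L, Cfsg.classInner F (θ : L → ℂ) =
      (D.σ ψ : ℂ) * ((afInd θ (D.m φ ψ) : ℂ) - (afInd θ (D.m φ' ψ) : ℂ)) := by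
    intro θ
    rw [hF, ind_inner_irr, D.hmuC, D.hmuC]
    ring
  simp only [hinner] at hexp
  rw [hexp]
  have h3 : ∀ η : Cfsg.IrrCharacter L,
      ((D.σ ψ : ℂ) * ((afInd η (D.m φ ψ) : ℂ) - (afInd η (D.m φ' ψ) : ℂ))) • (η : L → ℂ) =
      (D.σ ψ : ℂ) • ((if η = D.m φ ψ then (η : L → ℂ) else 0) -
        (if η = D.m φ' ψ then (η : L → ℂ) else 0)) := by
    intro η
    unfold afInd
    push_cast
    rw [mul_smul, sub_smul]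
    congr 2 <;> split_ifs <;> simp
  simp only [h3, ← Finset.smul_sum, Finset.sum_sub_distrib, Finset.sum_ite_eq', Finset.mem_univ,
    if_true]

theorem Data.inj_same (D : Data W₁ W₂) (h : Hyp K W₁ W₂) (φ φ' : Phi W₁ W₂) (ψ : Psi W₁ W₂)
    (heq : D.m φ ψ = D.m φ' ψ) : φ = φ' := by
  by_contra hne
  obtain ⟨a, b, hab, hsh⟩ := h.shape (agree_mul φ φ' ψ) (mul_ne hne ψ)
  have := hsh a
  rw [D.hmu, D.hmu, heq, sub_self, afInd_self, afInd_of_ne hab] at this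
  omega

omit [Fintype L] [Fintype ↥(W₁ ⊔ W₂)] in
theorem mul_eq_mul_iff (φ φ' : Phi W₁ W₂) (ψ ψ' : Psi W₁ W₂) :
    (φ : ↥(W₁ ⊔ W₂) →* ℂˣ) * (ψ : ↥(W₁ ⊔ W₂) →* ℂˣ) =
      (φ' : ↥(W₁ ⊔ W₂) →* ℂˣ) * (ψ' : ↥(W₁ ⊔ W₂) →* ℂˣ) ↔ φ = φ' ∧ ψ = ψ' := by
  constructor
  · intro hc
    have := annih_prod_injective (W₁.subgroupOf (W₁ ⊔ W₂)) (W₂.subgroupOf (W₁ ⊔ W₂))
      (hs W₁ W₂) (a₁ := (φ, ψ)) (a₂ := (φ', ψ')) hc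
    exact ⟨congrArg Prod.fst this, congrArg Prod.snd this⟩
  · rintro ⟨rfl, rfl⟩
    rfl

theorem Data.inj (D : Data W₁ W₂) (h : Hyp K W₁ W₂) (φ φ' : Phi W₁ W₂) (ψ ψ' : Psi W₁ W₂)
    (heq : D.m φ ψ = D.m φ' ψ') : φ = φ' ∧ ψ = ψ' := by
  by_cases hψ : ψ = ψ'
  · subst hψ
    exact ⟨D.inj_same h φ φ' ψ heq, rfl⟩
  · exfalso
    obtain ⟨φ₀, hφ₀⟩ := h.exists_phi_ne_one
    have hn1 : φ * φ₀ ≠ φ := fun hc => hφ₀ (by simpa using hc)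
    have hn2 : φ' * φ₀ ≠ φ' := fun hc => hφ₀ (by simpa using hc)
    have hI := h.inner_ind (agree_mul φ (φ * φ₀) ψ) (agree_mul φ' (φ' * φ₀) ψ')
    rw [if_neg (fun hc => hψ ((mul_eq_mul_iff _ _ _ _).mp hc).2),
      if_neg (fun hc => hψ ((mul_eq_mul_iff _ _ _ _).mp hc).2),
      if_neg (fun hc => hψ ((mul_eq_mul_iff _ _ _ _).mp hc).2),
      if_neg (fun hc => hψ ((mul_eq_mul_iff _ _ _ _).mp hc).2), D.ind_eq, D.ind_eq,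
      classInner_smul_left', h7_classInner_smul_right, classInner_sub_left',
      h7_classInner_sub_right, h7_classInner_sub_right,
      Cfsg.Agent.Lib.Helper25.irr_classInner, Cfsg.Agent.Lib.Helper25.irr_classInner,
      Cfsg.Agent.Lib.Helper25.irr_classInner, Cfsg.Agent.Lib.Helper25.irr_classInner,
      if_pos heq] at hI
    have hne1 : D.m φ ψ ≠ D.m (φ' * φ₀) ψ' := by
      rw [heq]
      intro hc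
      exact hn2 (D.inj_same h _ _ _ hc).symm
    have hne2 : D.m (φ * φ₀) ψ ≠ D.m φ' ψ' := by
      rw [← heq]
      intro hc
      exact hn1 (D.inj_same h _ _ _ hc)
    rw [if_neg hne1, if_neg hne2] at hI
    have hσ1 : (D.σ ψ : ℂ) ≠ 0 := by
      rcases D.hσ ψ with h1 | h1 <;> rw [h1] <;> norm_num
    have hσ2 : conj (D.σ ψ' : ℂ) ≠ 0 := by
      rcases D.hσ ψ' with h1 | h1 <;> rw [h1] <;> norm_num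
    have e0 : ((0 : ℂ) - 0 - (0 - 0)) = 0 := by norm_num
    rw [e0] at hI
    rcases mul_eq_zero.mp hI with h1 | h1
    · exact hσ1 h1
    · rcases mul_eq_zero.mp h1 with h2 | h2
      · exact hσ2 h2
      · split_ifs at h2 <;> norm_num at h2

variable [Fintype (Phi W₁ W₂)] [Fintype (Psi W₁ W₂)]

/-- the exceptional part of the restriction of `θ` to `W` -/
noncomputable def Data.exc (D : Data W₁ W₂) (θ : Cfsg.IrrCharacter L) (w : ↥(W₁ ⊔ W₂)) : ℂ :=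
  ∑ ψ : Psi W₁ W₂, ∑ φ : Phi W₁ W₂, (D.σ ψ : ℂ) * (afInd θ (D.m φ ψ) : ℂ) *
    ((((φ : ↥(W₁ ⊔ W₂) →* ℂˣ) w : ℂˣ) : ℂ) * (((ψ : ↥(W₁ ⊔ W₂) →* ℂˣ) w : ℂˣ) : ℂ))

theorem Data.value (D : Data W₁ W₂) (h : Hyp K W₁ W₂) (θ : Cfsg.IrrCharacter L)
    (w : ↥(W₁ ⊔ W₂)) :
    (θ : L → ℂ) w =
      (∑ ψ : Psi W₁ W₂, (D.base ψ θ : ℂ) * (((ψ : ↥(W₁ ⊔ W₂) →* ℂˣ) w : ℂˣ) : ℂ)) *
        (∑ φ : Phi W₁ W₂, (((φ : ↥(W₁ ⊔ W₂) →* ℂˣ) w : ℂˣ) : ℂ)) + D.exc θ w := by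
  have : Fintype (↥(W₁ ⊔ W₂) →* ℂˣ) := Fintype.ofFinite _
  rw [← afMu_inversion (W₁ ⊔ W₂) h.comm θ w]
  set E := Equiv.ofBijective _ (annih_prod_bijective h.comm _ _ h.hd (hs W₁ W₂)) with hE
  rw [← Equiv.sum_comp E, Fintype.sum_prod_type, Finset.sum_comm]
  have key : ∀ (φ : Phi W₁ W₂) (ψ : Psi W₁ W₂),
      (afMu (W₁ ⊔ W₂) θ (E (φ, ψ)) : ℂ) * (((E (φ, ψ)) w : ℂˣ) : ℂ) =
        ((D.base ψ θ : ℂ) * (((ψ : ↥(W₁ ⊔ W₂) →* ℂˣ) w : ℂˣ) : ℂ)) *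
          (((φ : ↥(W₁ ⊔ W₂) →* ℂˣ) w : ℂˣ) : ℂ) +
        (D.σ ψ : ℂ) * (afInd θ (D.m φ ψ) : ℂ) *
          ((((φ : ↥(W₁ ⊔ W₂) →* ℂˣ) w : ℂˣ) : ℂ) * (((ψ : ↥(W₁ ⊔ W₂) →* ℂˣ) w : ℂˣ) : ℂ)) := by
    intro φ ψ
    show (afMu (W₁ ⊔ W₂) θ ((φ : ↥(W₁ ⊔ W₂) →* ℂˣ) * (ψ : ↥(W₁ ⊔ W₂) →* ℂˣ)) : ℂ) *
      ((((φ : ↥(W₁ ⊔ W₂) →* ℂˣ) * (ψ : ↥(W₁ ⊔ W₂) →* ℂˣ)) w : ℂˣ) : ℂ) = _
    rw [D.hmuC, MonoidHom.mul_apply, Units.val_mul]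
    ring
  simp only [key, Finset.sum_add_distrib]
  unfold Data.exc
  congr 1
  rw [Finset.sum_mul_sum]

/-- value of the exceptional part at an exceptional character -/
theorem Data.exc_m (D : Data W₁ W₂) (h : Hyp K W₁ W₂) (φ₀ : Phi W₁ W₂) (ψ₀ : Psi W₁ W₂)
    (w : ↥(W₁ ⊔ W₂)) :
    D.exc (D.m φ₀ ψ₀) w = (D.σ ψ₀ : ℂ) *
      ((((φ₀ : ↥(W₁ ⊔ W₂) →* ℂˣ) w : ℂˣ) : ℂ) * (((ψ₀ : ↥(W₁ ⊔ W₂) →* ℂˣ) w : ℂˣ) : ℂ)) := by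
  unfold Data.exc
  rw [Finset.sum_eq_single ψ₀, Finset.sum_eq_single φ₀]
  · rw [afInd_self]
    push_cast
    ring
  · intro φ _ hφ
    rw [afInd_of_ne]
    · push_cast
      ring
    · intro hc
      exact hφ (D.inj h _ _ _ _ hc).1.symm
  · intro hc
    exact absurd (Finset.mem_univ _) hc
  · intro ψ _ hψ
    apply Finset.sum_eq_zero
    intro φ _
    rw [afInd_of_ne]
    · push_cast
      ring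
    · intro hc
      exact hψ (D.inj h _ _ _ _ hc).2.symm
  · intro hc
    exact absurd (Finset.mem_univ _) hc

/-- the exceptional part vanishes for non-exceptional characters -/
theorem Data.exc_other (D : Data W₁ W₂) (θ : Cfsg.IrrCharacter L)
    (hθ : ∀ φ ψ, θ ≠ D.m φ ψ) (w : ↥(W₁ ⊔ W₂)) : D.exc θ w = 0 := by
  unfold Data.exc
  apply Finset.sum_eq_zero
  intro ψ _
  apply Finset.sum_eq_zero
  intro φ _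
  rw [afInd_of_ne (hθ φ ψ)]
  push_cast
  ring

/-- values off `W₂` -/
theorem Data.value_off (D : Data W₁ W₂) (h : Hyp K W₁ W₂) (θ : Cfsg.IrrCharacter L)
    (w : ↥(W₁ ⊔ W₂)) (hw : (w : L) ∉ W₂) : (θ : L → ℂ) w = D.exc θ w := by
  rw [D.value h θ w, sum_annih h.comm, if_neg, mul_zero, zero_add]
  intro hc
  exact hw (Subgroup.mem_subgroupOf.mp hc)

/-- degrees -/
theorem Data.value_one (D : Data W₁ W₂) (h : Hyp K W₁ W₂) (θ : Cfsg.IrrCharacter L) :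
    (θ : L → ℂ) 1 = ((∑ ψ : Psi W₁ W₂, D.base ψ θ : ℤ) : ℂ) * (Nat.card ↥W₁ : ℂ) +
      D.exc θ 1 := by
  have h1 := D.value h θ 1
  rw [sum_annih h.comm, if_pos (Subgroup.one_mem _)] at h1
  rw [OneMemClass.coe_one] at h1
  rw [h1, ← Nat.card_eq_fintype_card, h.card_annih2]
  congr 2
  push_cast
  apply Finset.sum_congr rfl
  intro ψ _
  rw [map_one, Units.val_one, mul_one]

omit [Fintype L] [Fintype ↥(W₁ ⊔ W₂)] [Fintype (Phi W₁ W₂)] [Fintype (Psi W₁ W₂)] in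
/-- characters agreeing on `W₂` have the same `Ψ`-component -/
theorem agree_psi (φ φ' : Phi W₁ W₂) (ψ ψ' : Psi W₁ W₂)
    (hag : Agree W₁ W₂ ((φ : ↥(W₁ ⊔ W₂) →* ℂˣ) * (ψ : ↥(W₁ ⊔ W₂) →* ℂˣ))
      ((φ' : ↥(W₁ ⊔ W₂) →* ℂˣ) * (ψ' : ↥(W₁ ⊔ W₂) →* ℂˣ))) : ψ = ψ' := by
  have h1 : (ψ : ↥(W₁ ⊔ W₂) →* ℂˣ) * (ψ' : ↥(W₁ ⊔ W₂) →* ℂˣ)⁻¹ = 1 := by
    apply eq_one_of_mem_annih_both _ _ (hs W₁ W₂) _
      ((annih _).mul_mem ψ.2 ((annih _).inv_mem ψ'.2))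
    intro y hy
    have h2 := hag y (Subgroup.mem_subgroupOf.mp hy)
    rw [MonoidHom.mul_apply, MonoidHom.mul_apply, φ.2 y hy, φ'.2 y hy, one_mul, one_mul] at h2
    rw [MonoidHom.mul_apply, MonoidHom.inv_apply, h2, mul_inv_cancel]
  exact Subtype.ext (mul_inv_eq_one.mp h1)

end Cfsg.Agent.Lib.Helper29.TP
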