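import Cfsg.Agent.Lib.helper6.TS4.Defs
import Cfsg.Agent.Lib.Helper1.TSNTAa
import Cfsg.Agent.Lib.Helper29.TS4GEN

/-!
# TS4 / C1A, the A-type half (`t = m x_u(c) m⁻¹ = (1 + N) ⊗ 1` ⇒ `m L_u = L_{u'}`)

`(N ⊗ 1)(m v) = m (u ⊗ c π_u v)` (`ts4c1aa_key`).  With `v = m⁻¹ (x ⊗ y)`: `N x ⊗ y = m (u ⊗ ψ_x y)`,
`ψ_x y = c π_u (m⁻¹ (x ⊗ y))`.  `N ≠ 0` (else `x_u(c) = 1`); for `N x₀ ≠ 0` the endomorphism `ψ_{x₀}` of `F^b` is injective,
hence onto: `m (u ⊗ y) = N x₀ ⊗ ψ_{x₀}⁻¹ y`.  No rank theory, no `N * N = 0`, no symplectic hypothesis on `m`.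
-/

set_option autoImplicit false
set_option linter.unusedSectionVars false
set_option linter.unusedVariables false

namespace Cfsg.Agent.Lib.Helper21.TS

open Matrix
open scoped Kronecker
open Cfsg.Agent.Lib.helper7.TP

variable {a b : ℕ} {F : Type*} [Field F]
variable {J1 : Matrix (Fin a) (Fin a) F} {J2 : Matrix (Fin b) (Fin b) F}

/-- `(N ⊗ 1)(m v) = m (u ⊗ c π_u v)` when `m x_u(c) m⁻¹ = (1 + N) ⊗ 1`. -/
theorem ts4c1aa_key (C : Ctx J1 J2) (m : Matrix.GeneralLinearGroup (Fin a × Fin b) F)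
    (u : Fin a → F) (c : F) (N : Matrix (Fin a) (Fin a) F)
    (ht : ((m * xA C u c * m⁻¹ : Matrix.GeneralLinearGroup (Fin a × Fin b) F) :
        Matrix (Fin a × Fin b) (Fin a × Fin b) F) = (1 + N) ⊗ₖ (1 : Matrix (Fin b) (Fin b) F))
    (v : Fin a × Fin b → F) :
    (N ⊗ₖ (1 : Matrix (Fin b) (Fin b) F)) *ᵥ
        ((m : Matrix (Fin a × Fin b) (Fin a × Fin b) F) *ᵥ v) =
      (m : Matrix (Fin a × Fin b) (Fin a × Fin b) F) *ᵥ ten u (c • tsP J1 u v) := by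
  have h1 : (m : Matrix (Fin a × Fin b) (Fin a × Fin b) F) *
        XAm J1 u (c • (1 : Matrix (Fin b) (Fin b) F)) =
      ((1 + N) ⊗ₖ (1 : Matrix (Fin b) (Fin b) F)) *
        (m : Matrix (Fin a × Fin b) (Fin a × Fin b) F) := by
    have h2 : ((m * xA C u c * m⁻¹ : Matrix.GeneralLinearGroup (Fin a × Fin b) F) :
          Matrix (Fin a × Fin b) (Fin a × Fin b) F) *
          (m : Matrix (Fin a × Fin b) (Fin a × Fin b) F) =
        (m : Matrix (Fin a × Fin b) (Fin a × Fin b) F) *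
          XAm J1 u (c • (1 : Matrix (Fin b) (Fin b) F)) := by
      rw [← Units.val_mul, inv_mul_cancel_right, Units.val_mul, xA_coe]
    rw [← h2, ht]
  have h3 := congrArg (fun X : Matrix (Fin a × Fin b) (Fin a × Fin b) F => X *ᵥ v) h1
  simp only [← Matrix.mulVec_mulVec] at h3
  rw [tsnta_XAm_mulVec, Matrix.mulVec_add, Matrix.add_kronecker, Matrix.one_kronecker_one,
    Matrix.add_mulVec, Matrix.one_mulVec, Matrix.smul_mulVec, Matrix.one_mulVec] at h3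
  exact (add_left_cancel h3).symm

/-- C1A, A-type: `m x_u(c) m⁻¹ = (1 + N) ⊗ 1` ⇒ `m L_u = L_{u'}`. -/
theorem ts4c1aa_typeA (C : Ctx J1 J2) (hb : 1 ≤ b)
    (m : Matrix.GeneralLinearGroup (Fin a × Fin b) F) (u : Fin a → F) (c : F)
    (hu : u ≠ 0) (hc : c ≠ 0) (N : Matrix (Fin a) (Fin a) F)
    (ht : ((m * xA C u c * m⁻¹ : Matrix.GeneralLinearGroup (Fin a × Fin b) F) :
        Matrix (Fin a × Fin b) (Fin a × Fin b) F) = (1 + N) ⊗ₖ (1 : Matrix (Fin b) (Fin b) F)) :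
    ∃ u' : Fin a → F, u' ≠ 0 ∧ ∀ y : Fin b → F, ∃ y' : Fin b → F,
      (m : Matrix (Fin a × Fin b) (Fin a × Fin b) F) *ᵥ ten u y = ten u' y' := by
  have hkey := ts4c1aa_key C m u c N ht
  have hminj : ∀ v : Fin a × Fin b → F,
      (m : Matrix (Fin a × Fin b) (Fin a × Fin b) F) *ᵥ v = 0 → v = 0 := by
    intro v hv
    have h1 : ((m⁻¹ : Matrix.GeneralLinearGroup (Fin a × Fin b) F) :
        Matrix (Fin a × Fin b) (Fin a × Fin b) F) *ᵥ
        ((m : Matrix (Fin a × Fin b) (Fin a × Fin b) F) *ᵥ v) = v := by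
      rw [Matrix.mulVec_mulVec, ← Units.val_mul, inv_mul_cancel, Units.val_one, Matrix.one_mulVec]
    rw [hv, Matrix.mulVec_zero] at h1
    exact h1.symm
  have hmminv : ∀ v : Fin a × Fin b → F,
      (m : Matrix (Fin a × Fin b) (Fin a × Fin b) F) *ᵥ
        (((m⁻¹ : Matrix.GeneralLinearGroup (Fin a × Fin b) F) :
        Matrix (Fin a × Fin b) (Fin a × Fin b) F) *ᵥ v) = v := by
    intro v
    rw [Matrix.mulVec_mulVec, ← Units.val_mul, mul_inv_cancel, Units.val_one, Matrix.one_mulVec]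
  -- N ≠ 0
  have hN0 : N ≠ 0 := by
    rintro rfl
    obtain ⟨x₁, hx₁⟩ := bf_nondeg C.det1 hu
    have h1 := hkey (ten x₁ (fun _ => (1 : F)))
    rw [Matrix.zero_kronecker, Matrix.zero_mulVec, tsP_ten] at h1
    have h2 := ts4gen_ten_eq_zero hu (hminj _ h1.symm)
    have h3 := congrFun h2 ⟨0, by omega⟩
    simp only [Pi.smul_apply, smul_eq_mul, mul_one, Pi.zero_apply, mul_eq_zero] at h3
    rcases h3 with h3 | h3
    · exact hc h3
    · exact hx₁ h3
  -- x₀ with N x₀ ≠ 0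
  obtain ⟨x₀, hx₀⟩ : ∃ x₀ : Fin a → F, N *ᵥ x₀ ≠ 0 := by
    by_contra hcon
    push Not at hcon
    apply hN0
    ext i j
    have h1 := congrFun (hcon (Pi.single j 1)) i
    rw [Matrix.mulVec_single_one] at h1
    simpa using h1
  -- the endomorphism ψ
  let ψ : (Fin b → F) →ₗ[F] (Fin b → F) :=
    { toFun := fun y => c • tsP J1 u
        (((m⁻¹ : Matrix.GeneralLinearGroup (Fin a × Fin b) F) :
          Matrix (Fin a × Fin b) (Fin a × Fin b) F) *ᵥ ten x₀ y)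
      map_add' := fun y y' => by
        rw [ten_add_right, Matrix.mulVec_add, tsP_add, smul_add]
      map_smul' := fun k y => by
        rw [ten_smul_right, Matrix.mulVec_smul, tsP_smul, smul_comm, RingHom.id_apply] }
  have hψ : ∀ y : Fin b → F, ten (N *ᵥ x₀) y =
      (m : Matrix (Fin a × Fin b) (Fin a × Fin b) F) *ᵥ ten u (ψ y) := by
    intro y
    have h1 := hkey (((m⁻¹ : Matrix.GeneralLinearGroup (Fin a × Fin b) F) :
          Matrix (Fin a × Fin b) (Fin a × Fin b) F) *ᵥ ten x₀ y)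
    rw [hmminv, kron_mulVec_ten, Matrix.one_mulVec] at h1
    exact h1
  have hinj : Function.Injective ψ := by
    rw [← LinearMap.ker_eq_bot, LinearMap.ker_eq_bot']
    intro y hy
    have h1 := hψ y
    rw [hy, ts4gen_ten_zero, Matrix.mulVec_zero] at h1
    exact ts4gen_ten_eq_zero hx₀ h1
  have hsurj : Function.Surjective ψ := LinearMap.injective_iff_surjective.mp hinj
  refine ⟨N *ᵥ x₀, hx₀, ?_⟩
  intro y
  obtain ⟨y', hy'⟩ := hsurj y
  exact ⟨y', by rw [hψ y', hy']⟩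

end Cfsg.Agent.Lib.Helper21.TS
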