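import Cfsg.Agent.Lib.Helper29.TS4C1AA
import Cfsg.Agent.Lib.Lead.TS2SQZ

/-!
# TS4 / C1A core: `c1A_of_ntsA` modulo the B-type alternative of `sqz_kron`

`t = m x_u(c) m⁻¹ ∈ K0`, `(t - 1)² = m (c N_u)² m⁻¹ = 0` (`ts4c1a_sq`); `Lead.TS2SQZ.sqz_kron` gives `t = (1 + N) ⊗ 1`
(A-type: `ts4c1aa_typeA`) or `t = 1 ⊗ (1 + N)` (B-type: hypothesis `hB`, = helper9's `ts4c1ab_false` partially applied).
-/

set_option autoImplicit false
set_option linter.unusedSectionVars false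
set_option linter.unusedVariables false

namespace Cfsg.Agent.Lib.Helper21.TS

open Matrix
open scoped Kronecker
open Cfsg.Agent.Lib.helper7.TP

variable {a b : ℕ} {F : Type*} [Field F]
variable {J1 : Matrix (Fin a) (Fin a) F} {J2 : Matrix (Fin b) (Fin b) F}

/-- `(t - 1)² = 0` for `t = m x_u(c) m⁻¹`. -/
theorem ts4c1a_sq (C : Ctx J1 J2) (m : Matrix.GeneralLinearGroup (Fin a × Fin b) F)
    (u : Fin a → F) (c : F) :
    (((m * xA C u c * m⁻¹ : Matrix.GeneralLinearGroup (Fin a × Fin b) F) :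
        Matrix (Fin a × Fin b) (Fin a × Fin b) F) - 1) *
      (((m * xA C u c * m⁻¹ : Matrix.GeneralLinearGroup (Fin a × Fin b) F) :
        Matrix (Fin a × Fin b) (Fin a × Fin b) F) - 1) = 0 := by
  have hu0 := bf_self_alt C.alt C.two u
  have hmm : (m : Matrix (Fin a × Fin b) (Fin a × Fin b) F) *
      ((m⁻¹ : Matrix.GeneralLinearGroup (Fin a × Fin b) F) :
        Matrix (Fin a × Fin b) (Fin a × Fin b) F) = 1 := by
    rw [← Units.val_mul, mul_inv_cancel, Units.val_one]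
  have hmm' : ((m⁻¹ : Matrix.GeneralLinearGroup (Fin a × Fin b) F) :
        Matrix (Fin a × Fin b) (Fin a × Fin b) F) *
      (m : Matrix (Fin a × Fin b) (Fin a × Fin b) F) = 1 := by
    rw [← Units.val_mul, inv_mul_cancel, Units.val_one]
  have e : ((m * xA C u c * m⁻¹ : Matrix.GeneralLinearGroup (Fin a × Fin b) F) :
        Matrix (Fin a × Fin b) (Fin a × Fin b) F) - 1 =
      (m : Matrix (Fin a × Fin b) (Fin a × Fin b) F) *
        (opm J1 u u ⊗ₖ (c • (1 : Matrix (Fin b) (Fin b) F))) *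
        ((m⁻¹ : Matrix.GeneralLinearGroup (Fin a × Fin b) F) :
          Matrix (Fin a × Fin b) (Fin a × Fin b) F) := by
    rw [Units.val_mul, Units.val_mul, xA_coe, XAm, Matrix.mul_add, Matrix.add_mul, Matrix.mul_one,
      hmm, add_sub_cancel_left]
  have hAA : (opm J1 u u ⊗ₖ (c • (1 : Matrix (Fin b) (Fin b) F))) *
      (opm J1 u u ⊗ₖ (c • (1 : Matrix (Fin b) (Fin b) F))) = 0 := by
    rw [← Matrix.mul_kronecker_mul, opm_mul_opm, hu0, zero_smul, Matrix.zero_kronecker]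
  rw [e]
  calc (m : Matrix (Fin a × Fin b) (Fin a × Fin b) F) *
          (opm J1 u u ⊗ₖ (c • (1 : Matrix (Fin b) (Fin b) F))) *
          ((m⁻¹ : Matrix.GeneralLinearGroup (Fin a × Fin b) F) :
            Matrix (Fin a × Fin b) (Fin a × Fin b) F) *
        ((m : Matrix (Fin a × Fin b) (Fin a × Fin b) F) *
          (opm J1 u u ⊗ₖ (c • (1 : Matrix (Fin b) (Fin b) F))) *
          ((m⁻¹ : Matrix.GeneralLinearGroup (Fin a × Fin b) F) :
            Matrix (Fin a × Fin b) (Fin a × Fin b) F))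
      = (m : Matrix (Fin a × Fin b) (Fin a × Fin b) F) *
          ((opm J1 u u ⊗ₖ (c • (1 : Matrix (Fin b) (Fin b) F))) *
            (((m⁻¹ : Matrix.GeneralLinearGroup (Fin a × Fin b) F) :
              Matrix (Fin a × Fin b) (Fin a × Fin b) F) *
              (m : Matrix (Fin a × Fin b) (Fin a × Fin b) F)) *
            (opm J1 u u ⊗ₖ (c • (1 : Matrix (Fin b) (Fin b) F)))) *
          ((m⁻¹ : Matrix.GeneralLinearGroup (Fin a × Fin b) F) :
            Matrix (Fin a × Fin b) (Fin a × Fin b) F) := by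
        simp only [Matrix.mul_assoc]
    _ = 0 := by
        rw [hmm', Matrix.mul_one, hAA, Matrix.mul_zero, Matrix.zero_mul]

/-- C1A modulo the B-type alternative. -/
theorem ts4c1a_core (C : Ctx J1 J2) (ha : 1 ≤ a) (hb : 1 ≤ b)
    (m : Matrix.GeneralLinearGroup (Fin a × Fin b) F) (u : Fin a → F) (c : F)
    (hu : u ≠ 0) (hc : c ≠ 0) (ht : m * xA C u c * m⁻¹ ∈ K0 a b F)
    (hB : ∀ N : Matrix (Fin b) (Fin b) F, N * N = 0 →
      ((m * xA C u c * m⁻¹ : Matrix.GeneralLinearGroup (Fin a × Fin b) F) :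
        Matrix (Fin a × Fin b) (Fin a × Fin b) F) =
        (1 : Matrix (Fin a) (Fin a) F) ⊗ₖ (1 + N) → False) :
    ∃ u' : Fin a → F, u' ≠ 0 ∧ ∀ y : Fin b → F, ∃ y' : Fin b → F,
      (m : Matrix (Fin a × Fin b) (Fin a × Fin b) F) *ᵥ ten u y = ten u' y' := by
  rcases sqz_kron C.two ha hb (m * xA C u c * m⁻¹) ht (ts4c1a_sq C m u c) with
    ⟨N, hN, hteq⟩ | ⟨N, hN, hteq⟩
  · exact ts4c1aa_typeA C hb m u c hu hc N hteq
  · exact (hB N hN hteq).elim

end Cfsg.Agent.Lib.Helper21.TS
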