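import Cfsg.Agent.Lib.helper6.TS4.Defs

/-!
# TS4 / ISOB : `iso_sqzero_skew` (statement verbatim from `helper6/TS4/Skel.lean.txt`)

`β = 1 + N ∈ Iso J2` with `N * N = 0`: from `βᵀ J β = J` we get `NᵀJ + JN + NᵀJN = 0`; multiplying on the right by
`N` gives `NᵀJN = 0`, hence `NᵀJ = -(JN)`.  (Neither the symmetry of `J2` nor `2 ≠ 0` is used.)
-/

set_option autoImplicit false
set_option linter.unusedSectionVars false
set_option linter.unusedVariables false

namespace Cfsg.Agent.Lib.Helper21.TS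

open Matrix
open scoped Kronecker
open Cfsg.Agent.Lib.helper7.TP

variable {a b : ℕ} {F : Type*} [Field F]
variable {J1 : Matrix (Fin a) (Fin a) F} {J2 : Matrix (Fin b) (Fin b) F}

/-- matrix core of ISOB: `(1 + N)ᵀ J (1 + N) = J`, `N * N = 0` ⇒ `Nᵀ J N = 0` and `Nᵀ J = -(J N)`. -/
theorem ts4isob_core {ι : Type*} [Fintype ι] [DecidableEq ι] (J N : Matrix ι ι F)
    (h : (1 + N)ᵀ * J * (1 + N) = J) (hsq : N * N = 0) :
    Nᵀ * J * N = 0 ∧ Nᵀ * J = -(J * N) := by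
  have e1 : Nᵀ * J + J * N + Nᵀ * J * N = 0 := by
    have h2 : (1 + N)ᵀ * J * (1 + N) = J + (Nᵀ * J + J * N + Nᵀ * J * N) := by
      rw [Matrix.transpose_add, Matrix.transpose_one]
      simp only [Matrix.add_mul, Matrix.mul_add, Matrix.one_mul, Matrix.mul_one]
      abel
    rw [h2] at h
    exact left_eq_add.mp h.symm
  have e2 : Nᵀ * J * N = 0 := by
    have h3 : (Nᵀ * J + J * N + Nᵀ * J * N) * N = Nᵀ * J * N := by
      simp only [Matrix.add_mul, Matrix.mul_assoc, hsq, Matrix.mul_zero, add_zero]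
    rw [e1, Matrix.zero_mul] at h3
    exact h3.symm
  refine ⟨e2, ?_⟩
  rw [e2, add_zero] at e1
  exact eq_neg_of_add_eq_zero_left e1

/-- ISOB (B-side lemma for C1A): an isometry `β` of the symmetric form with `(β - 1)² = 0`:
`N = β - 1` is skew-adjoint and its image is totally singular. -/
theorem iso_sqzero_skew (C : Ctx J1 J2) (β : Matrix.GeneralLinearGroup (Fin b) F) (hβ : β ∈ Iso J2)
    (hsq : ((β : Matrix (Fin b) (Fin b) F) - 1) * ((β : Matrix (Fin b) (Fin b) F) - 1) = 0) :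
    SkewAdj J2 ((β : Matrix (Fin b) (Fin b) F) - 1) ∧
      ∀ x y : Fin b → F, bf J2 (((β : Matrix (Fin b) (Fin b) F) - 1) *ᵥ x)
        (((β : Matrix (Fin b) (Fin b) F) - 1) *ᵥ y) = 0 := by
  have hβ' : (1 + ((β : Matrix (Fin b) (Fin b) F) - 1))ᵀ * J2 *
      (1 + ((β : Matrix (Fin b) (Fin b) F) - 1)) = J2 := by
    rw [add_sub_cancel]
    exact (mem_Iso J2 β).mp hβ
  obtain ⟨h1, h2⟩ := ts4isob_core J2 ((β : Matrix (Fin b) (Fin b) F) - 1) hβ' hsq
  refine ⟨h2, ?_⟩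
  intro x y
  rw [bf_mulVec_left, bf_mulVec_right, h1]
  simp [bf]

end Cfsg.Agent.Lib.Helper21.TS
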