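import Mathlib
import Cfsg.Agent.Lib.Helper29.Yoshida
open MulAction Subgroup
open Cfsg.Agent.Lib.Helper29.Yoshida

namespace Cfsg.Agent.Lib.Helper29.TateExt

universe u v

@[reducible] def centerCommGroup (E : Type*) [Group E] : CommGroup ↥(Subgroup.center E) :=
  { (inferInstance : Group ↥(Subgroup.center E)) with
    mul_comm := fun a b => Subtype.ext (Subgroup.mem_center_iff.mp b.2 a) }

attribute [local instance] centerCommGroup

theorem lift_central {G : Type u} [Group G] [Finite G] {E : Type v} [Group E] [Finite E]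
    {p : ℕ} [Fact p.Prime] (P : Sylow p G) (hE : IsPGroup p E)
    (θ₀ : G →* E ⧸ Subgroup.center E) (ν : ↥(P : Subgroup G) →* E)
    (hν : ∀ u : ↥(P : Subgroup G), θ₀ (u : G) = ((ν u : E) : E ⧸ Subgroup.center E)) :
    ∃ θ : G →* E, ∀ g, ((θ g : E) : E ⧸ Subgroup.center E) = θ₀ g := by
  classical
  have hp := (Fact.out : p.Prime)
  set Z : Subgroup E := Subgroup.center E with hZ
  have hcomm : ∀ (z : E), z ∈ Z → ∀ e : E, e * z = z * e := fun z hz e => Subgroup.mem_center_iff.mp hz e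
  let Ê : Subgroup (G × E) :=
    MonoidHom.eqLocus (θ₀.comp (MonoidHom.fst G E)) ((QuotientGroup.mk' Z).comp (MonoidHom.snd G E))
  have hmem : ∀ x : ↥Ê, θ₀ x.1.1 = ((x.1.2 : E) : E ⧸ Z) := fun x => x.2
  let fstE : ↥Ê →* G := (MonoidHom.fst G E).comp Ê.subtype
  have hsurj : Function.Surjective fstE := by
    intro g
    obtain ⟨e, he⟩ := QuotientGroup.mk_surjective (θ₀ g)
    exact ⟨⟨(g, e), he.symm⟩, rfl⟩
  let Ph : Subgroup ↥Ê := (P : Subgroup G).comap fstE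
  have hidx : Ph.index = (P : Subgroup G).index := Subgroup.index_comap_of_surjective _ hsurj
  have hπmem : ∀ x : ↥Ph, (ν ⟨fstE x.1, x.2⟩)⁻¹ * (x.1.1.2) ∈ Z := by
    intro x
    have h1 : θ₀ (fstE x.1) = ((x.1.1.2 : E) : E ⧸ Z) := hmem x.1
    have h2 := hν ⟨fstE x.1, x.2⟩
    rw [h1] at h2
    exact QuotientGroup.eq.mp h2.symm
  let π : ↥Ph →* ↥Z :=
    { toFun := fun x => ⟨(ν ⟨fstE x.1, x.2⟩)⁻¹ * x.1.1.2, hπmem x⟩
      map_one' := by
        apply Subtype.ext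
        show (ν ⟨fstE (1 : ↥Ph).1, _⟩)⁻¹ * (1 : ↥Ph).1.1.2 = 1
        have : (⟨fstE (1 : ↥Ph).1, (1 : ↥Ph).2⟩ : ↥(P : Subgroup G)) = 1 := rfl
        rw [this, map_one]
        simp
      map_mul' := by
        intro x y
        apply Subtype.ext
        have hxy : (⟨fstE (x * y).1, (x * y).2⟩ : ↥(P : Subgroup G))
            = ⟨fstE x.1, x.2⟩ * ⟨fstE y.1, y.2⟩ := rfl
        show (ν ⟨fstE (x * y).1, (x * y).2⟩)⁻¹ * (x.1.1.2 * y.1.1.2)
          = ((ν ⟨fstE x.1, x.2⟩)⁻¹ * x.1.1.2) * ((ν ⟨fstE y.1, y.2⟩)⁻¹ * y.1.1.2)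
        rw [hxy, map_mul, mul_inv_rev]
        have hc := hcomm _ (hπmem x) (ν ⟨fstE y.1, y.2⟩)⁻¹
        calc (ν ⟨fstE y.1, y.2⟩)⁻¹ * (ν ⟨fstE x.1, x.2⟩)⁻¹ * (x.1.1.2 * y.1.1.2)
            = ((ν ⟨fstE y.1, y.2⟩)⁻¹ * ((ν ⟨fstE x.1, x.2⟩)⁻¹ * x.1.1.2)) * y.1.1.2 := by group
          _ = (((ν ⟨fstE x.1, x.2⟩)⁻¹ * x.1.1.2) * (ν ⟨fstE y.1, y.2⟩)⁻¹) * y.1.1.2 := by rw [hc]
          _ = _ := by group }
  let V : ↥Ê →* ↥Z := MonoidHom.transfer π
  let zh : ↥Z → ↥Ê := fun z => ⟨(1, (z : E)), by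
    show θ₀ 1 = (((z : E)) : E ⧸ Z)
    rw [map_one]
    exact ((QuotientGroup.eq_one_iff _).mpr z.2).symm⟩
  have hzhpow : ∀ (z : ↥Z) (k : ℕ), zh z ^ k = zh (z ^ k) := by
    intro z k
    apply Subtype.ext
    apply Prod.ext
    · show ((zh z ^ k : ↥Ê) : G × E).1 = 1
      rw [Subgroup.coe_pow, Prod.pow_fst]
      exact one_pow k
    · show ((zh z ^ k : ↥Ê) : G × E).2 = ((z ^ k : ↥Z) : E)
      rw [Subgroup.coe_pow, Prod.pow_snd]
      rfl
  have hzhconj : ∀ (z : ↥Z) (g₀ : ↥Ê), g₀⁻¹ * zh z * g₀ = zh z := by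
    intro z g₀
    apply Subtype.ext
    apply Prod.ext
    · show g₀.1.1⁻¹ * 1 * g₀.1.1 = 1
      group
    · show g₀.1.2⁻¹ * (z : E) * g₀.1.2 = (z : E)
      rw [mul_assoc, ← hcomm _ z.2, inv_mul_cancel_left]
  have hzhPh : ∀ z : ↥Z, zh z ∈ Ph := fun z => (P : Subgroup G).one_mem
  have hπzh : ∀ z : ↥Z, π ⟨zh z, hzhPh z⟩ = z := by
    intro z
    apply Subtype.ext
    show (ν ⟨1, _⟩)⁻¹ * (z : E) = z
    have : (⟨1, (P : Subgroup G).one_mem⟩ : ↥(P : Subgroup G)) = 1 := rfl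
    rw [this, map_one, inv_one, one_mul]
  have hVz : ∀ z : ↥Z, V (zh z) = z ^ (P : Subgroup G).index := by
    intro z
    rw [← hidx]
    apply transfer_eq_pow_index
    intro k g₀ hk
    have h1 : g₀⁻¹ * zh z ^ k * g₀ = zh (z ^ k) := by rw [hzhpow, hzhconj]
    have h2 : (⟨g₀⁻¹ * zh z ^ k * g₀, hk⟩ : ↥Ph) = ⟨zh (z ^ k), hzhPh _⟩ := Subtype.ext h1
    rw [h2, hπzh]
  -- invert the m-th power map on Z
  have hZp : IsPGroup p ↥Z := hE.to_subgroup Z
  obtain ⟨a, ha⟩ := IsPGroup.iff_card.mp hZp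
  have hcop : (Nat.card ↥Z).Coprime (P : Subgroup G).index := by
    rw [ha]
    apply Nat.Coprime.pow_left
    rw [hp.coprime_iff_not_dvd]
    exact P.not_dvd_index
  let pm : ↥Z ≃* ↥Z := MulEquiv.ofBijective (powMonoidHom (P : Subgroup G).index) (powCoprime hcop).bijective
  let Pr : ↥Ê →* ↥Z := pm.symm.toMonoidHom.comp V
  have hPrz : ∀ z : ↥Z, Pr (zh z) = z := by
    intro z
    show pm.symm (V (zh z)) = z
    rw [hVz, MulEquiv.symm_apply_eq]
    rfl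
  let F : ↥Ê →* E :=
    { toFun := fun x => x.1.2 * ((Pr x : ↥Z) : E)⁻¹
      map_one' := by
        show (1 : E) * ((Pr 1 : ↥Z) : E)⁻¹ = 1
        rw [map_one]; simp
      map_mul' := by
        intro x y
        show (x.1.2 * y.1.2) * ((Pr (x * y) : ↥Z) : E)⁻¹ = (x.1.2 * ((Pr x : ↥Z) : E)⁻¹) * (y.1.2 * ((Pr y : ↥Z) : E)⁻¹)
        rw [map_mul, Subgroup.coe_mul, mul_inv_rev]
        have hc := hcomm _ (Z.inv_mem (Pr x).2) y.1.2
        rw [mul_assoc x.1.2 (((Pr x : ↥Z) : E)⁻¹), ← mul_assoc (((Pr x : ↥Z) : E)⁻¹), ← hc]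
        have hc2 := hcomm _ (Z.inv_mem (Pr x).2) (((Pr y : ↥Z) : E)⁻¹)
        rw [mul_assoc y.1.2, ← hc2]
        group }
  have hker : fstE.ker ≤ F.ker := by
    intro x hx
    have hx1 : x.1.1 = 1 := hx
    have hxZ : x.1.2 ∈ Z := by
      have := hmem x
      rw [hx1, map_one] at this
      exact (QuotientGroup.eq_one_iff _).mp this.symm
    have hxz : x = zh ⟨x.1.2, hxZ⟩ := by
      apply Subtype.ext
      apply Prod.ext
      · exact hx1
      · rfl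
    show x.1.2 * ((Pr x : ↥Z) : E)⁻¹ = 1
    rw [hxz, hPrz]
    show x.1.2 * (x.1.2)⁻¹ = 1
    exact mul_inv_cancel _
  let θ : G →* E := fstE.liftOfRightInverse (Function.surjInv hsurj) (Function.rightInverse_surjInv hsurj) ⟨F, hker⟩
  refine ⟨θ, ?_⟩
  intro g
  obtain ⟨x, rfl⟩ := hsurj g
  have h1 : θ (fstE x) = F x := MonoidHom.liftOfRightInverse_comp_apply _ _ _ ⟨F, hker⟩ x
  rw [h1]
  show ((x.1.2 * ((Pr x : ↥Z) : E)⁻¹ : E) : E ⧸ Z) = θ₀ x.1.1
  rw [hmem x, QuotientGroup.mk_mul, QuotientGroup.mk_inv, (QuotientGroup.eq_one_iff _).mpr (Pr x).2, inv_one, mul_one]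

theorem tate_ext_aux {G : Type u} [Group G] [Finite G] {p : ℕ} [Fact p.Prime] (P : Sylow p G)
    (H : Subgroup G) (hPH : (P : Subgroup G) ≤ H)
    (hab : ∀ (A : Type v) [CommGroup A] [Finite A], IsPGroup p A → ∀ δ : ↥H →* A,
      ∃ Δ : G →* A, ∀ h : ↥H, Δ (h : G) = δ h) :
    ∀ (n : ℕ) (E : Type v) [Group E] [Finite E], IsPGroup p E → Nat.card E = n →
      ∀ ν : ↥H →* E, ∃ θ : G →* E, ∀ h : ↥H, θ (h : G) = ν h := by
  intro n
  induction n using Nat.strong_induction_on with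
  | _ n ih =>
  intro E _ _ hE hn ν
  by_cases htriv : Subsingleton E
  · exact ⟨1, fun h => Subsingleton.elim _ _⟩
  · rw [not_subsingleton_iff_nontrivial] at htriv
    have hZnt : Nontrivial ↥(Subgroup.center E) := hE.center_nontrivial
    have hlt : Nat.card (E ⧸ Subgroup.center E) < n := by
      have h1 := Subgroup.card_eq_card_quotient_mul_card_subgroup (Subgroup.center E)
      have h2 : 1 < Nat.card ↥(Subgroup.center E) := Finite.one_lt_card
      have h3 : 0 < Nat.card (E ⧸ Subgroup.center E) := Nat.card_pos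
      rw [← hn, h1]
      nlinarith
    obtain ⟨θ₀, hθ₀⟩ := ih _ hlt (E ⧸ Subgroup.center E) (hE.to_quotient _) rfl
      ((QuotientGroup.mk' (Subgroup.center E)).comp ν)
    obtain ⟨θ₁, hθ₁⟩ := lift_central P hE θ₀ (ν.comp (Subgroup.inclusion hPH)) (by
      intro u
      exact hθ₀ (Subgroup.inclusion hPH u))
    -- the correction
    have hδmem : ∀ h : ↥H, (ν h)⁻¹ * θ₁ (h : G) ∈ Subgroup.center E := by
      intro h
      have h1 := hθ₁ (h : G)
      rw [hθ₀ h] at h1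
      exact QuotientGroup.eq.mp h1.symm
    have hcomm : ∀ (z : E), z ∈ Subgroup.center E → ∀ e : E, e * z = z * e :=
      fun z hz e => Subgroup.mem_center_iff.mp hz e
    let δ : ↥H →* ↥(Subgroup.center E) :=
      { toFun := fun h => ⟨(ν h)⁻¹ * θ₁ (h : G), hδmem h⟩
        map_one' := by
          apply Subtype.ext
          show (ν 1)⁻¹ * θ₁ ((1 : ↥H) : G) = 1
          simp
        map_mul' := by
          intro x y
          apply Subtype.ext
          show (ν (x * y))⁻¹ * θ₁ ((x * y : ↥H) : G) = ((ν x)⁻¹ * θ₁ (x : G)) * ((ν y)⁻¹ * θ₁ (y : G))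
          rw [map_mul, Subgroup.coe_mul, map_mul, mul_inv_rev]
          have hc := hcomm _ (hδmem x) (ν y)⁻¹
          calc (ν y)⁻¹ * (ν x)⁻¹ * (θ₁ (x : G) * θ₁ (y : G))
              = ((ν y)⁻¹ * ((ν x)⁻¹ * θ₁ (x : G))) * θ₁ (y : G) := by group
            _ = (((ν x)⁻¹ * θ₁ (x : G)) * (ν y)⁻¹) * θ₁ (y : G) := by rw [hc]
            _ = _ := by group }
    obtain ⟨Δ, hΔ⟩ := hab ↥(Subgroup.center E) (hE.to_subgroup _) δ
    let θ : G →* E :=
      { toFun := fun g => θ₁ g * ((Δ g : ↥(Subgroup.center E)) : E)⁻¹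
        map_one' := by simp
        map_mul' := by
          intro x y
          show θ₁ (x * y) * ((Δ (x * y) : ↥(Subgroup.center E)) : E)⁻¹
            = (θ₁ x * ((Δ x : ↥(Subgroup.center E)) : E)⁻¹) * (θ₁ y * ((Δ y : ↥(Subgroup.center E)) : E)⁻¹)
          rw [map_mul, map_mul, Subgroup.coe_mul, mul_inv_rev]
          have hc := hcomm _ ((Subgroup.center E).inv_mem (Δ x).2) (θ₁ y)
          have hc2 := hcomm _ ((Subgroup.center E).inv_mem (Δ x).2) (((Δ y : ↥(Subgroup.center E)) : E)⁻¹)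
          calc θ₁ x * θ₁ y * ((((Δ y : ↥(Subgroup.center E)) : E))⁻¹ * (((Δ x : ↥(Subgroup.center E)) : E))⁻¹)
              = θ₁ x * θ₁ y * ((((Δ x : ↥(Subgroup.center E)) : E))⁻¹ * (((Δ y : ↥(Subgroup.center E)) : E))⁻¹) := by
                rw [hc2]
            _ = θ₁ x * (θ₁ y * (((Δ x : ↥(Subgroup.center E)) : E))⁻¹) * (((Δ y : ↥(Subgroup.center E)) : E))⁻¹ := by group
            _ = θ₁ x * ((((Δ x : ↥(Subgroup.center E)) : E))⁻¹ * θ₁ y) * (((Δ y : ↥(Subgroup.center E)) : E))⁻¹ := by rw [hc]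
            _ = _ := by group }
    refine ⟨θ, ?_⟩
    intro h
    show θ₁ (h : G) * ((Δ (h : G) : ↥(Subgroup.center E)) : E)⁻¹ = ν h
    rw [hΔ h]
    show θ₁ (h : G) * ((ν h)⁻¹ * θ₁ (h : G))⁻¹ = ν h
    group

/-- **Tate's theorem**, extension form: if `P ≤ H ≤ G` with `P` Sylow and every homomorphism from `H` to an
abelian `p`-group extends to `G`, then every homomorphism from `H` to a `p`-group extends to `G`. -/
theorem tate_ext {G : Type u} [Group G] [Finite G] {p : ℕ} [Fact p.Prime] (P : Sylow p G)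
    (H : Subgroup G) (hPH : (P : Subgroup G) ≤ H)
    (hab : ∀ (A : Type v) [CommGroup A] [Finite A], IsPGroup p A → ∀ δ : ↥H →* A,
      ∃ Δ : G →* A, ∀ h : ↥H, Δ (h : G) = δ h)
    (E : Type v) [Group E] [Finite E] (hE : IsPGroup p E) (ν : ↥H →* E) :
    ∃ θ : G →* E, ∀ h : ↥H, θ (h : G) = ν h :=
  tate_ext_aux P H hPH hab _ E hE rfl ν

end Cfsg.Agent.Lib.Helper29.TateExt
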