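import Mathlib
import Cfsg.Prelude.Def_GeometricClasses
import Cfsg.Agent.Lib.Helper27.ASC.Defs
import Cfsg.Agent.Lib.Lead.ASCU.Defs
import Cfsg.Agent.Lib.helper2.UXDefs
import Cfsg.Agent.Lib.Helper28.UHerm
import Cfsg.Agent.S5643
import Cfsg.Agent.Lib.Helper18.ASCUUPR3
import Cfsg.Agent.Lib.Helper29.SPXPR4

/-!
# Project UX, piece PRT : `SU_n(q)` preserves no tensor decomposition.
A unitary transvection `t = 1 + y rᵀ` (`rᵀ y = 0`, `y, r ≠ 0`) lies in `SU_n(q)`; a Kronecker product is never of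
this shape (`spxpr4_kron`, project SPX).
-/

set_option autoImplicit false
set_option linter.unusedVariables false
set_option linter.unusedSectionVars false

namespace Cfsg.Agent.Lib.helper2.UX

open Cfsg Cfsg.Geo Cfsg.Agent.Lib.Helper27.ASC Cfsg.Agent.Lib.Lead.ASCU
open scoped MatrixGroups Matrix

variable {n : ℕ} {F : Type*} [Field F] [Fintype F]

/-- a unitary transvection of `SU_n(q)`, `n ≥ 2`, in coordinates: `t x = x + (r ⬝ᵥ x) • y` with `r ⬝ᵥ y = 0`,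
`y ≠ 0`, `r ≠ 0` -/
theorem uxprt_tv (q : ℕ) (hF : Fintype.card F = q ^ 2) (hn : 2 ≤ n) :
    ∃ t : GL (Fin n) F, t ∈ SUg n F q ∧ ∃ y r : Fin n → F, y ≠ 0 ∧ r ≠ 0 ∧ r ⬝ᵥ y = 0 ∧
      ∀ x, (t : Matrix (Fin n) (Fin n) F) *ᵥ x = x + (r ⬝ᵥ x) • y := by
  classical
  obtain ⟨σ, hσ, hf⟩ := Cfsg.Agent.Lib.Helper28.UHerm.herm_unitary hF n
  have hq0 : q ≠ 0 := by
    have := Cfsg.Agent.Lib.Helper28.UHerm.two_le_q hF
    omega
  obtain ⟨c0, hc00, hc0⟩ := Cfsg.Agent.Lib.Helper28.UForm.exists_K0 hf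
  obtain ⟨ζ, hζ⟩ := Cfsg.Agent.Lib.Helper28.UForm.norm_surj hf (-1 : F) (by rw [map_neg, map_one])
  rw [hσ] at hζ
  have hij : (⟨0, by omega⟩ : Fin n) ≠ ⟨1, by omega⟩ := by
    intro h
    have := congrArg Fin.val h
    simp at this
  set y : Fin n → F := ascuupr3_z n ⟨0, by omega⟩ ⟨1, by omega⟩ ζ with hydef
  have hy : hermForm n F q y y = 0 := ascuupr3_iso q hq0 _ _ hij ζ hζ
  have hy0 : y ≠ 0 := by
    intro h
    have := congrFun h ⟨0, by omega⟩
    simp [hydef, ascuupr3_z] at this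
  have hyu : hermForm n F q y (c0 • y) = 0 := by
    rw [Cfsg.Agent.Lib.Helper28.UForm.f_smul_right hf, hy, mul_zero]
  obtain ⟨t, htS, ht⟩ := Cfsg.Agent.S5643.tvGL hf y (c0 • y) hyu
  have htU : t ∈ GU n F q := by
    rw [mem_GU_iff]
    intro u v
    exact Cfsg.Agent.S5643.utv_iso hf y hy c0 hc0 t ht u v
  refine ⟨t, ⟨htU, htS⟩, y, Cfsg.Agent.Lib.Helper28.UForm.rho (hermForm n F q) (c0 • y), hy0, ?_, ?_, ?_⟩
  · intro h
    obtain ⟨⟨w, hw⟩, _⟩ := hf.nondegenerate (c0 • y) (smul_ne_zero hc00 hy0)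
    apply hw
    rw [Cfsg.Agent.Lib.Helper28.UForm.f_eq_dot hf, h, zero_dotProduct]
  · rw [← Cfsg.Agent.Lib.Helper28.UForm.f_eq_dot hf]
    exact hyu
  · intro x
    rw [ht, Cfsg.Agent.Lib.Helper28.UForm.f_eq_dot hf]

omit [Fintype F] in
/-- an element `1 + y rᵀ`, `rᵀ y = 0`, of the stabiliser of a tensor decomposition is trivial -/
theorem uxprt_core {ι : Type} [Fintype ι] [DecidableEq ι] {n₁ n₂ : ℕ} (h1 : 2 ≤ n₁) (h2 : 2 ≤ n₂)
    (e : ι ≃ Fin n₁ × Fin n₂) (P g : GL ι F) (hgT : g ∈ tensorProductSubgroup n₁ n₂ e P)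
    (v w : ι → F) (hwv : w ⬝ᵥ v = 0) (hg : (g : Matrix ι ι F) = 1 + Matrix.vecMulVec v w) :
    v = 0 ∨ w = 0 := by
  classical
  by_contra hcon
  push Not at hcon
  obtain ⟨hv, hw0⟩ := hcon
  unfold tensorProductSubgroup at hgT
  obtain ⟨y, hy, hyg⟩ := hgT
  obtain ⟨k, ⟨a, b, hkab⟩, rfl⟩ := hy
  have hPi : ((P⁻¹ : GL ι F) : Matrix ι ι F) * (P : Matrix ι ι F) = 1 := by
    rw [← Units.val_mul, inv_mul_cancel, Units.val_one]
  have hPi' : (P : Matrix ι ι F) * ((P⁻¹ : GL ι F) : Matrix ι ι F) = 1 := by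
    rw [← Units.val_mul, mul_inv_cancel, Units.val_one]
  have h3 : (glReindex e.symm k : GL ι F) = P⁻¹ * g * P := by
    rw [← hyg]
    show _ = P⁻¹ * (P * glReindex e.symm k * P⁻¹) * P
    group
  have h4 : (k : Matrix (Fin n₁ × Fin n₂) (Fin n₁ × Fin n₂) F).submatrix e e =
      1 + Matrix.vecMulVec (((P⁻¹ : GL ι F) : Matrix ι ι F) *ᵥ v) (w ᵥ* (P : Matrix ι ι F)) := by
    have h5 := congrArg (fun u : GL ι F => (u : Matrix ι ι F)) h3
    simp only [Units.val_mul] at h5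
    rw [hg] at h5
    rw [Matrix.mul_add, Matrix.add_mul, mul_one, hPi, Matrix.mul_vecMulVec, Matrix.vecMulVec_mul] at h5
    rw [← h5]
    rfl
  set x' : ι → F := ((P⁻¹ : GL ι F) : Matrix ι ι F) *ᵥ v with hx'
  set y' : ι → F := w ᵥ* (P : Matrix ι ι F) with hy'
  have hx'0 : x' ≠ 0 := by
    intro h
    apply hv
    have : (P : Matrix ι ι F) *ᵥ x' = v := by
      rw [hx', Matrix.mulVec_mulVec, hPi', Matrix.one_mulVec]
    rw [← this, h, Matrix.mulVec_zero]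
  have hy'0 : y' ≠ 0 := by
    intro h
    apply hw0
    have : y' ᵥ* ((P⁻¹ : GL ι F) : Matrix ι ι F) = w := by
      rw [hy', Matrix.vecMul_vecMul, hPi', Matrix.vecMul_one]
    rw [← this, h, Matrix.zero_vecMul]
  have hdot : ∑ p, x' p * y' p = 0 := by
    have h5 : y' ⬝ᵥ x' = 0 := by
      rw [hy', hx', ← Matrix.dotProduct_mulVec, Matrix.mulVec_mulVec, hPi', Matrix.one_mulVec]
      exact hwv
    rw [← h5, dotProduct]
    exact Finset.sum_congr rfl fun p _ => mul_comm _ _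
  have hkron := Cfsg.Agent.Lib.helper6.SPX.spxpr4_kron h1 h2 (a : Matrix (Fin n₁) (Fin n₁) F)
    (b : Matrix (Fin n₂) (Fin n₂) F)
    ((Matrix.isUnit_iff_isUnit_det _).mp a.isUnit) ((Matrix.isUnit_iff_isUnit_det _).mp b.isUnit)
    (fun p => x' (e.symm p)) (fun q => y' (e.symm q)) (by
      intro p q
      have h5 := congrFun (congrFun h4 (e.symm p)) (e.symm q)
      rw [Matrix.submatrix_apply, Equiv.apply_symm_apply, Equiv.apply_symm_apply, hkab,
        Matrix.kroneckerMap_apply, Matrix.add_apply, Matrix.vecMulVec_apply, Matrix.one_apply] at h5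
      rw [h5]
      congr 1
      by_cases hpq : p = q
      · rw [if_pos hpq, if_pos (by rw [hpq])]
      · rw [if_neg hpq, if_neg (fun h => hpq (e.symm.injective h))]) (by
      rw [← hdot]
      exact Equiv.sum_comp e.symm (fun p => x' p * y' p))
  obtain ⟨p, hp⟩ : ∃ p, x' p ≠ 0 := by
    by_contra h
    push Not at h
    exact hx'0 (funext h)
  obtain ⟨q, hq⟩ : ∃ q, y' q ≠ 0 := by
    by_contra h
    push Not at h
    exact hy'0 (funext h)
  have := hkron (e p) (e q)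
  simp only [Equiv.symm_apply_apply] at this
  exact (mul_ne_zero hp hq) this

/-- PRT : `SU_n(q)` does not stabilise a tensor decomposition. -/
theorem upr_tensor (q : ℕ) (hF : Fintype.card F = q ^ 2) (hn : 3 ≤ n) {n₁ n₂ : ℕ} (h1 : 2 ≤ n₁) (h2 : 2 ≤ n₂)
    (e : Fin n ≃ Fin n₁ × Fin n₂) (P : GL (Fin n) F) : ¬ SUg n F q ≤ tensorProductSubgroup n₁ n₂ e P := by
  classical
  intro hle
  obtain ⟨t, htS, y, r, hy0, hr0, hry, ht⟩ := uxprt_tv q hF (by omega : 2 ≤ n)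
  have hgm : (t : Matrix (Fin n) (Fin n) F) = 1 + Matrix.vecMulVec y r := by
    rw [Matrix.ext_iff_mulVec]
    intro x
    rw [ht, Matrix.add_mulVec, Matrix.one_mulVec, Matrix.vecMulVec_mulVec]
    congr 1
    funext i
    simp [mul_comm]
  rcases uxprt_core h1 h2 e P t (hle htS) y r hry hgm with h | h
  · exact hy0 h
  · exact hr0 h

end Cfsg.Agent.Lib.helper2.UX
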