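import Mathlib
import Cfsg.Prelude.Def_GeometricClasses
import Cfsg.Agent.Lib.Helper27.ASC.Defs
import Cfsg.Agent.Lib.Lead.ASCU.Defs
import Cfsg.Agent.Lib.helper2.UXDefs
import Cfsg.Agent.Lib.Helper11.O9WR
import Cfsg.Agent.Lib.Helper29.UXPRT

/-!
# Project UX, piece PRW : `SU_9(q)` preserves no decomposition as a tensor square.
A unitary transvection `t` fixes a hyperplane pointwise.  Its preimage `M` in `GL_3 ≀ S_2` is a twisted pure tensor:
* `M = a ⊗ b`: every vector is an eigenvector of `a` and of `b` (helper11's `o9wr` tools), so `M = 1`;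
* `M = (a ⊗ b) ∘ swap`: for `u ≠ 0` the hyperplane meets `u ⊗ F^3` in dimension `≥ 2`, but
  `M (u ⊗ w) = a w ⊗ b u = u ⊗ w` forces `w ∥ b u`.
Any characteristic (`o9wr_core` needs `2 ≠ 0`).
-/

set_option autoImplicit false
set_option linter.unusedVariables false
set_option linter.unusedSectionVars false

namespace Cfsg.Agent.Lib.helper2.UX

open Cfsg Cfsg.Geo Cfsg.Agent.Lib.Helper27.ASC Cfsg.Agent.Lib.Lead.ASCU
open scoped MatrixGroups Matrix

variable {n : ℕ} {F : Type*} [Field F] [Fintype F]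

omit [Fintype F] in
/-- the kernel of a linear form on `F^3` contains two linearly independent vectors -/
theorem uxprw_ker_pair (ψ : (Fin 3 → F) →ₗ[F] F) :
    ∃ w₁ w₂ : Fin 3 → F, ψ w₁ = 0 ∧ ψ w₂ = 0 ∧ ∀ a b : F, a • w₁ + b • w₂ = 0 → a = 0 ∧ b = 0 := by
  have h1 := LinearMap.finrank_range_add_finrank_ker ψ
  rw [Module.finrank_fin_fun] at h1
  have h2 : Module.finrank F (LinearMap.range ψ) ≤ 1 := by
    have := Submodule.finrank_le (LinearMap.range ψ)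
    rwa [Module.finrank_self] at this
  have h3 : 1 < Module.finrank F (LinearMap.ker ψ) := by omega
  have h4 : 0 < Module.finrank F (LinearMap.ker ψ) := by omega
  obtain ⟨x, hx⟩ := Module.finrank_pos_iff_exists_ne_zero.mp h4
  obtain ⟨y, hy⟩ := exists_linearIndependent_pair_of_one_lt_finrank h3 hx
  rw [LinearIndependent.pair_iff] at hy
  refine ⟨x, y, x.2, y.2, fun a b hab => hy a b ?_⟩
  apply Subtype.ext
  simpa using hab

/-- the algebraic core, any characteristic: a twisted pure tensor on `F^3 ⊗ F^3` that fixes the kernel of a linear form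
pointwise is the identity -/
theorem uxprw_core (Mm : Matrix (Fin 2 → Fin 3) (Fin 2 → Fin 3) F) (hshape : LxprtShape 3 2 Mm)
    (φ : ((Fin 2 → Fin 3) → F) →ₗ[F] F) (hfix : ∀ v, φ v = 0 → Mm *ᵥ v = v) : ∀ v, Mm *ᵥ v = v := by
  classical
  obtain ⟨σ, c, hc⟩ := hshape
  have hσ' : ∀ τ : Equiv.Perm (Fin 2), τ = 1 ∨ τ = Equiv.swap 0 1 := by decide
  have key : ∀ u : Fin 3 → F, ∃ w₁ w₂ : Fin 3 → F,
      Mm *ᵥ Cfsg.Agent.Lib.Helper25.O9.o9wrTens u w₁ = Cfsg.Agent.Lib.Helper25.O9.o9wrTens u w₁ ∧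
      Mm *ᵥ Cfsg.Agent.Lib.Helper25.O9.o9wrTens u w₂ = Cfsg.Agent.Lib.Helper25.O9.o9wrTens u w₂ ∧
      ∀ a b : F, a • w₁ + b • w₂ = 0 → a = 0 ∧ b = 0 := by
    intro u
    obtain ⟨w₁, w₂, h1, h2, h3⟩ := uxprw_ker_pair (φ.comp (Cfsg.Agent.Lib.Helper25.O9.o9wrTensR u))
    exact ⟨w₁, w₂, hfix _ h1, hfix _ h2, h3⟩
  have keyL : ∀ w : Fin 3 → F, ∃ u₁ u₂ : Fin 3 → F,
      Mm *ᵥ Cfsg.Agent.Lib.Helper25.O9.o9wrTens u₁ w = Cfsg.Agent.Lib.Helper25.O9.o9wrTens u₁ w ∧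
      Mm *ᵥ Cfsg.Agent.Lib.Helper25.O9.o9wrTens u₂ w = Cfsg.Agent.Lib.Helper25.O9.o9wrTens u₂ w ∧
      ∀ a b : F, a • u₁ + b • u₂ = 0 → a = 0 ∧ b = 0 := by
    intro w
    obtain ⟨u₁, u₂, h1, h2, h3⟩ := uxprw_ker_pair (φ.comp (Cfsg.Agent.Lib.Helper25.O9.o9wrTensL w))
    exact ⟨u₁, u₂, hfix _ h1, hfix _ h2, h3⟩
  have hne : ∀ w₁ w₂ : Fin 3 → F, (∀ a b : F, a • w₁ + b • w₂ = 0 → a = 0 ∧ b = 0) → w₁ ≠ 0 := by
    intro w₁ w₂ hind h0
    have := (hind 1 0 (by rw [h0, smul_zero, zero_smul, add_zero])).1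
    exact one_ne_zero this
  have hne2 : ∀ w₁ w₂ : Fin 3 → F, (∀ a b : F, a • w₁ + b • w₂ = 0 → a = 0 ∧ b = 0) → w₂ ≠ 0 := by
    intro w₁ w₂ hind h0
    have := (hind 0 1 (by rw [h0, smul_zero, zero_smul, add_zero])).2
    exact one_ne_zero this
  have hsingle : (Pi.single 0 1 : Fin 3 → F) ≠ 0 := by
    intro h
    have := congrFun h 0
    simp at this
  rcases hσ' σ with hσ | hσ
  · -- a pure tensor
    subst hσ
    have hNab : ∀ x y, Mm x y = c 0 (x 0) (y 0) * c 1 (x 1) (y 1) := by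
      intro x y
      rw [hc, Fin.prod_univ_two]
      rfl
    have ha : ∀ u : Fin 3 → F, ∃ l : F, c 0 *ᵥ u = l • u := by
      intro u
      by_cases hu : u = 0
      · exact ⟨0, by rw [hu, Matrix.mulVec_zero, smul_zero]⟩
      obtain ⟨w, w₂, hw, _, hind⟩ := key u
      have hw0 : w ≠ 0 := hne w w₂ hind
      rw [Cfsg.Agent.Lib.Helper25.O9.o9wr_mulVec_tens Mm (c 0) (c 1) hNab] at hw
      exact Cfsg.Agent.Lib.Helper25.O9.o9wr_tens_eq_left u _ w _ hu hw0 hw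
    have hb : ∀ w : Fin 3 → F, ∃ l : F, c 1 *ᵥ w = l • w := by
      intro w
      by_cases hw : w = 0
      · exact ⟨0, by rw [hw, Matrix.mulVec_zero, smul_zero]⟩
      obtain ⟨u, u₂, hu, _, hind⟩ := keyL w
      have hu0 : u ≠ 0 := hne u u₂ hind
      rw [Cfsg.Agent.Lib.Helper25.O9.o9wr_mulVec_tens Mm (c 0) (c 1) hNab] at hu
      exact Cfsg.Agent.Lib.Helper25.O9.o9wr_tens_eq_right u _ w _ hu0 hw hu
    obtain ⟨α, hα⟩ := Cfsg.Agent.Lib.Helper25.O9.o9wr_scalar_of_eigen (c 0) ha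
    obtain ⟨β, hβ⟩ := Cfsg.Agent.Lib.Helper25.O9.o9wr_scalar_of_eigen (c 1) hb
    have hαβ : α * β = 1 := by
      obtain ⟨w, w₂, hw, _, hind⟩ := key (Pi.single 0 1)
      have hw0 : w ≠ 0 := hne w w₂ hind
      rw [Cfsg.Agent.Lib.Helper25.O9.o9wr_mulVec_tens Mm (c 0) (c 1) hNab, hα, hβ, Matrix.smul_mulVec,
        Matrix.smul_mulVec, Matrix.one_mulVec, Matrix.one_mulVec] at hw
      obtain ⟨k, hk⟩ := Function.ne_iff.mp hw0
      have := congrFun hw ![0, k]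
      simp only [Cfsg.Agent.Lib.Helper25.O9.o9wrTens, Matrix.cons_val_zero, Matrix.cons_val_one, Pi.smul_apply,
        smul_eq_mul, Pi.single_eq_same, mul_one, one_mul] at this
      have hk' : w k ≠ 0 := hk
      have h3 : (α * β - 1) * w k = 0 := by linear_combination this
      rcases mul_eq_zero.mp h3 with h | h
      · linear_combination h
      · exact absurd h hk'
    have hM1 : Mm = 1 := by
      ext x y
      rw [hNab, hα, hβ]
      simp only [Matrix.smul_apply, Matrix.one_apply, smul_eq_mul]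
      by_cases hxy : x = y
      · subst hxy
        simp [hαβ]
      · rw [if_neg hxy]
        have : ¬ (x 0 = y 0 ∧ x 1 = y 1) := by
          rintro ⟨h0, h1⟩
          apply hxy
          funext i
          fin_cases i
          · exact h0
          · exact h1
        by_cases h0 : x 0 = y 0
        · have h1 : x 1 ≠ y 1 := fun h1 => this ⟨h0, h1⟩
          simp [h1]
        · simp [h0]
    intro v
    rw [hM1, Matrix.one_mulVec]
  · -- a pure tensor followed by the swap: impossible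
    exfalso
    have hNab : ∀ x y, Mm x y = c 0 (x 0) (y 1) * c 1 (x 1) (y 0) := by
      intro x y
      rw [hc, Fin.prod_univ_two, hσ]
      rfl
    have hmul : ∀ u w : Fin 3 → F, Mm *ᵥ Cfsg.Agent.Lib.Helper25.O9.o9wrTens u w =
        Cfsg.Agent.Lib.Helper25.O9.o9wrTens (c 0 *ᵥ w) (c 1 *ᵥ u) := by
      intro u w
      funext x
      show ∑ y, Mm x y * Cfsg.Agent.Lib.Helper25.O9.o9wrTens u w y =
        (∑ j, c 0 (x 0) j * w j) * (∑ k, c 1 (x 1) k * u k)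
      rw [Finset.sum_mul_sum, ← Finset.sum_product']
      refine Fintype.sum_equiv ((piFinTwoEquiv (fun _ => Fin 3)).trans (Equiv.prodComm _ _)) _ _ (fun y => ?_)
      simp only [Cfsg.Agent.Lib.Helper25.O9.o9wrTens, hNab, Equiv.trans_apply, piFinTwoEquiv_apply,
        Equiv.prodComm_apply, Prod.swap_prod_mk]
      ring
    obtain ⟨w₁, w₂, h1, h2, hind⟩ := key (Pi.single 0 1)
    have hw1 : w₁ ≠ 0 := hne w₁ w₂ hind
    have hw2 : w₂ ≠ 0 := hne2 w₁ w₂ hind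
    rw [hmul] at h1 h2
    obtain ⟨l₁, hl₁⟩ := Cfsg.Agent.Lib.Helper25.O9.o9wr_tens_eq_right (Pi.single 0 1) (c 0 *ᵥ w₁) w₁
      (c 1 *ᵥ (Pi.single 0 1)) hsingle hw1 h1
    obtain ⟨l₂, hl₂⟩ := Cfsg.Agent.Lib.Helper25.O9.o9wr_tens_eq_right (Pi.single 0 1) (c 0 *ᵥ w₂) w₂
      (c 1 *ᵥ (Pi.single 0 1)) hsingle hw2 h2
    have hcu : c 1 *ᵥ (Pi.single 0 1 : Fin 3 → F) ≠ 0 := by
      intro h0
      rw [h0] at h1
      have hz : Cfsg.Agent.Lib.Helper25.O9.o9wrTens (c 0 *ᵥ w₁) (0 : Fin 3 → F) = 0 := by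
        funext x
        simp [Cfsg.Agent.Lib.Helper25.O9.o9wrTens]
      rw [hz] at h1
      exact Cfsg.Agent.Lib.Helper25.O9.o9wr_tens_ne_zero (Pi.single 0 1) w₁ hsingle hw1 h1.symm
    have hl10 : l₁ ≠ 0 := by
      rintro rfl
      rw [zero_smul] at hl₁
      exact hcu hl₁
    have := hind l₁ (-l₂) (by rw [neg_smul, ← hl₁, ← hl₂, add_neg_cancel])
    exact hl10 this.1

/-- PRW : `SU_9(q)` does not stabilise a decomposition as a tensor square. -/
theorem upr_wreath33 (q : ℕ) (hF : Fintype.card F = q ^ 2) (e : Fin 9 ≃ (Fin 2 → Fin 3)) (P : GL (Fin 9) F) :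
    ¬ SUg 9 F q ≤ tensorWreathSubgroup 3 2 e P := by
  classical
  intro hle
  obtain ⟨g, hgS, y, r, hy0, hr0, hry, hg⟩ := uxprt_tv q hF (by norm_num : 2 ≤ 9)
  -- the preimage in the standard group
  obtain ⟨k, hk, hkg⟩ := hle hgS
  obtain ⟨M, hM, hMk⟩ := hk
  set Mm : Matrix (Fin 2 → Fin 3) (Fin 2 → Fin 3) F := (M : Matrix (Fin 2 → Fin 3) (Fin 2 → Fin 3) F) with hMm
  have hkmat : (k : Matrix (Fin 9) (Fin 9) F) = Mm.submatrix e e := by
    rw [← hMk]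
    show Matrix.reindexAlgEquiv F F e.symm (M : Matrix (Fin 2 → Fin 3) (Fin 2 → Fin 3) F) = _
    rw [Matrix.coe_reindexAlgEquiv, Matrix.reindex_apply]
    rfl
  have hgmat : (g : Matrix (Fin 9) (Fin 9) F) =
      (P : Matrix (Fin 9) (Fin 9) F) * (Mm.submatrix e e) * ((P⁻¹ : GL (Fin 9) F) : Matrix (Fin 9) (Fin 9) F) := by
    rw [← hkg, ← hkmat]
    rfl
  -- the transport map
  let ψ : ((Fin 2 → Fin 3) → F) →ₗ[F] (Fin 9 → F) :=
    (Matrix.toLin' (P : Matrix (Fin 9) (Fin 9) F)).comp (LinearMap.funLeft F F e)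
  have hψ : ∀ v, ψ v = (P : Matrix (Fin 9) (Fin 9) F) *ᵥ (v ∘ e) := fun v => rfl
  have hPinv : ∀ x : Fin 9 → F, ((P⁻¹ : GL (Fin 9) F) : Matrix (Fin 9) (Fin 9) F) *ᵥ
      ((P : Matrix (Fin 9) (Fin 9) F) *ᵥ x) = x := by
    intro x
    rw [Matrix.mulVec_mulVec, ← Units.val_mul, inv_mul_cancel, Units.val_one, Matrix.one_mulVec]
  have hPinv' : ∀ x : Fin 9 → F, (P : Matrix (Fin 9) (Fin 9) F) *ᵥ
      (((P⁻¹ : GL (Fin 9) F) : Matrix (Fin 9) (Fin 9) F) *ᵥ x) = x := by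
    intro x
    rw [Matrix.mulVec_mulVec, ← Units.val_mul, mul_inv_cancel, Units.val_one, Matrix.one_mulVec]
  have hψinj : Function.Injective ψ := by
    intro v v' hvv
    rw [hψ, hψ] at hvv
    have h1 := congrArg (fun x => ((P⁻¹ : GL (Fin 9) F) : Matrix (Fin 9) (Fin 9) F) *ᵥ x) hvv
    simp only [hPinv] at h1
    funext x
    have := congrFun h1 (e.symm x)
    simpa using this
  have hψsurj : ∀ x : Fin 9 → F, ∃ v, ψ v = x := by
    intro x
    refine ⟨(((P⁻¹ : GL (Fin 9) F) : Matrix (Fin 9) (Fin 9) F) *ᵥ x) ∘ e.symm, ?_⟩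
    rw [hψ]
    have : ((((P⁻¹ : GL (Fin 9) F) : Matrix (Fin 9) (Fin 9) F) *ᵥ x) ∘ e.symm) ∘ e =
        ((P⁻¹ : GL (Fin 9) F) : Matrix (Fin 9) (Fin 9) F) *ᵥ x := by
      funext i
      simp
    rw [this, hPinv']
  have hgψ : ∀ v, (g : Matrix (Fin 9) (Fin 9) F) *ᵥ ψ v = ψ (Mm *ᵥ v) := by
    intro v
    rw [hψ, hψ, hgmat, ← Matrix.mulVec_mulVec, ← Matrix.mulVec_mulVec, hPinv]
    congr 1
    rw [Matrix.submatrix_mulVec_equiv]
    congr 2
    funext x
    simp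
  -- the linear form
  let φ : ((Fin 2 → Fin 3) → F) →ₗ[F] F :=
    { toFun := fun v => r ⬝ᵥ ψ v
      map_add' := fun a b => by rw [map_add, dotProduct_add]
      map_smul' := fun c a => by rw [map_smul, dotProduct_smul]; rfl }
  have hφ : ∀ v, φ v = r ⬝ᵥ ψ v := fun v => rfl
  have hfix : ∀ v, φ v = 0 → Mm *ᵥ v = v := by
    intro v hv
    apply hψinj
    rw [← hgψ, hg, ← hφ, hv, zero_smul, add_zero]
  have hone := uxprw_core Mm (lxprt_shape_of_mem 3 2 M hM) φ hfix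
  -- `g = 1`, contradiction
  have hg1 : ∀ x, (g : Matrix (Fin 9) (Fin 9) F) *ᵥ x = x := by
    intro x
    obtain ⟨v, rfl⟩ := hψsurj x
    rw [hgψ, hone]
  obtain ⟨i, hi⟩ := Function.ne_iff.mp hr0
  have h3 := hg1 (Pi.single i 1)
  rw [hg, dotProduct_single, mul_one] at h3
  have h4 : r i • y = 0 := by
    have := congrArg (fun v => v - Pi.single i 1) h3
    simpa using this
  rcases smul_eq_zero.mp h4 with h | h
  · exact hi h
  · exact hy0 h

end Cfsg.Agent.Lib.helper2.UX
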