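import Mathlib
import Cfsg.Agent.Lib.Helper29.Yoshida
open Subgroup
open scoped commutatorElement
open Cfsg.Agent.Lib.Helper29.Yoshida

namespace Cfsg.Agent.Lib.Helper29.WreathClass

abbrev Zp (p : ℕ) := Multiplicative (ZMod p)

/-- the embedding of the base group -/
def beta (p : ℕ) (φ : ZMod p → ZMod p) : RegularWreathProduct (Zp p) (Zp p) :=
  ⟨fun x => Multiplicative.ofAdd (φ (Multiplicative.toAdd x)), 1⟩

def yel (p : ℕ) : RegularWreathProduct (Zp p) (Zp p) := ⟨1, Multiplicative.ofAdd 1⟩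

theorem comm_beta (p : ℕ) (φ : ZMod p → ZMod p) :
    ⁅yel p, beta p φ⁆ = beta p (fun i => φ (i - 1) - φ i) := by
  rw [commutatorElement_def]
  apply RegularWreathProduct.ext
  · funext x
    simp only [RegularWreathProduct.mul_left, RegularWreathProduct.inv_left, RegularWreathProduct.mul_right,
      RegularWreathProduct.inv_right, yel, beta, Pi.mul_apply, Pi.one_apply, Pi.inv_apply]
    simp [sub_eq_add_neg, add_comm]
  · simp [RegularWreathProduct.mul_right, RegularWreathProduct.inv_right, yel, beta]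

noncomputable def Tsh (p : ℕ) : Module.End (ZMod p) (ZMod p → ZMod p) :=
  LinearMap.funLeft (ZMod p) (ZMod p) (fun i : ZMod p => i - 1)

theorem Tsh_apply (p : ℕ) (φ : ZMod p → ZMod p) (x : ZMod p) : Tsh p φ x = φ (x - 1) := rfl

theorem Tsh_pow_apply (p : ℕ) (i : ℕ) (φ : ZMod p → ZMod p) (x : ZMod p) :
    ((Tsh p) ^ i) φ x = φ (x - i) := by
  induction i generalizing φ x with
  | zero => simp
  | succ i ih =>
    rw [pow_succ, Module.End.mul_apply, ih, Tsh_apply]
    congr 1
    push_cast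
    ring

def cel (p : ℕ) (φ : ZMod p → ZMod p) : ℕ → RegularWreathProduct (Zp p) (Zp p)
  | 0 => beta p φ
  | n + 1 => ⁅yel p, cel p φ n⁆

theorem cel_eq (p : ℕ) (φ : ZMod p → ZMod p) (n : ℕ) :
    cel p φ n = beta p (((Tsh p - 1) ^ n) φ) := by
  induction n with
  | zero => simp [cel]
  | succ n ih =>
    rw [cel, ih, comm_beta, pow_succ', Module.End.mul_apply]
    congr 1

theorem cel_mem (p : ℕ) (φ : ZMod p → ZMod p) (n : ℕ) :
    cel p φ n ∈ (⊤ : Subgroup (RegularWreathProduct (Zp p) (Zp p))).lowerCentralSeries n := by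
  induction n with
  | zero => exact Subgroup.mem_top _
  | succ n ih =>
    rw [cel, Subgroup.lowerCentralSeries_succ, Subgroup.commutator_comm]
    exact Subgroup.commutator_mem_commutator (Subgroup.mem_top _) ih

theorem key (p : ℕ) [Fact p.Prime] :
    ((Tsh p - 1) ^ (p - 1)) (Pi.single 0 1) 0 = 1 := by
  have hp := (Fact.out : p.Prime)
  have h1 := congrArg (Polynomial.aeval (Tsh p)) (Cfsg.Agent.S1952.poly_id p)
  simp only [map_pow, map_sub, Polynomial.aeval_X, map_one, map_sum] at h1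
  rw [h1, LinearMap.sum_apply, Finset.sum_apply]
  simp only [Tsh_pow_apply]
  rw [Finset.sum_eq_single 0]
  · simp
  · intro i hi hi0
    rw [Pi.single_apply, if_neg]
    rw [zero_sub, neg_eq_zero]
    intro h
    rw [ZMod.natCast_eq_zero_iff] at h
    exact hi0 (Nat.eq_zero_of_dvd_of_lt h (Finset.mem_range.mp hi))
  · intro h
    exact absurd (Finset.mem_range.mpr hp.pos) h

theorem lcs_wreath_ne_bot (p : ℕ) [Fact p.Prime] :
    (⊤ : Subgroup (RegularWreathProduct (Zp p) (Zp p))).lowerCentralSeries (p - 1) ≠ ⊥ := by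
  intro h
  have h1 := cel_mem p (Pi.single 0 1) (p - 1)
  rw [h, Subgroup.mem_bot, cel_eq] at h1
  have h2 := congrArg (fun w => Multiplicative.toAdd (w.left 1)) h1
  simp only [beta, RegularWreathProduct.one_left, Pi.one_apply, toAdd_one, toAdd_ofAdd] at h2
  rw [key] at h2
  exact one_ne_zero h2

/-- A Sylow `p`-subgroup of `Perm (Fin (p^2))` is isomorphic to the regular wreath product. -/
theorem sylow_equiv_wreath (p : ℕ) [Fact p.Prime] (Q : Sylow p (Equiv.Perm (Fin (p ^ 2)))) :
    Nonempty (↥(Q : Subgroup (Equiv.Perm (Fin (p ^ 2)))) ≃* RegularWreathProduct (Zp p) (Zp p)) := by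
  have hp := (Fact.out : p.Prime)
  have hcard : Nat.card (Zp p × Zp p) = p ^ 2 := by
    rw [Nat.card_prod]
    simp [pow_two]
  let e1 : Fin (p ^ 2) ≃ (Zp p × Zp p) := (Finite.equivFinOfCardEq hcard).symm
  let f := e1.symm.permCongrHom.toMonoidHom.comp (RegularWreathProduct.toPerm (Zp p) (Zp p) (Zp p))
  have hf : Function.Injective f :=
    (e1.symm.permCongrHom.comp_injective _).mpr (RegularWreathProduct.toPermInj (Zp p) (Zp p) (Zp p))
  let g := (MonoidHom.ofInjective hf).symm
  let P' : Sylow p (Equiv.Perm (Fin (p ^ 2))) := Sylow.ofCard (MonoidHom.range f) (by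
    rw [Nat.card_congr g.toEquiv, RegularWreathProduct.card, Nat.card_perm, Nat.card_fin,
      Cfsg.Agent.S1952.fact_val]
    simp [pow_succ])
  exact ⟨(Q.equiv P').trans g⟩

theorem not_hasWreath_of_lcs {G : Type*} [Group G] {p : ℕ} [Fact p.Prime] (P : Subgroup G)
    (hcl : P.lowerCentralSeries (p - 1) = ⊥) : ¬ HasWreath p ↥P := by
  rintro ⟨Q, f, hf⟩
  obtain ⟨e⟩ := sylow_equiv_wreath p Q
  have h1 : (⊤ : Subgroup ↥P).lowerCentralSeries (p - 1) = ⊥ := by
    have := Subgroup.top_subtype_lowerCentralSeries P (p - 1)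
    rw [hcl] at this
    exact (Subgroup.map_eq_bot_iff_of_injective _ P.subtype_injective).mp this
  have hsurj : Function.Surjective (e.toMonoidHom.comp f) := e.surjective.comp hf
  have h2 := Subgroup.map_lowerCentralSeries (⊤ : Subgroup ↥P) (e.toMonoidHom.comp f) (p - 1)
  rw [h1, Subgroup.map_bot, Subgroup.map_top_of_surjective _ hsurj] at h2
  exact lcs_wreath_ne_bot p h2.symm


end Cfsg.Agent.Lib.Helper29.WreathClass
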