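import Mathlib
import Cfsg.Agent.Lib.Helper29.Yoshida
import Cfsg.Agent.Lib.Helper29.TateExt
import Cfsg.Agent.Lib.Helper29.WreathClass
import Cfsg.Agent.Lib.Helper1.Residual
import Cfsg.Prelude.Def_BaumannBlocks
open Subgroup
open scoped commutatorElement
open Cfsg.Agent.Lib.Helper29.Yoshida

namespace Cfsg.Agent.Lib.Helper29.YoshidaTate

universe u v

/-- two homomorphisms into an abelian `p`-group agreeing on a Sylow `p`-subgroup agree -/
theorem hom_eq_of_eq_on_sylow {N : Type*} [Group N] [Finite N] {p : ℕ} [Fact p.Prime] (P : Sylow p N)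
    {A : Type*} [CommGroup A] [Finite A] (hA : IsPGroup p A) (f g : N →* A)
    (h : ∀ u : ↥(P : Subgroup N), f u = g u) : f = g := by
  have hp := (Fact.out : p.Prime)
  let κ : N →* A := f * g⁻¹
  have hPκ : (P : Subgroup N) ≤ κ.ker := by
    intro u hu
    rw [MonoidHom.mem_ker]
    show f u * (g u)⁻¹ = 1
    rw [h ⟨u, hu⟩, mul_inv_cancel]
  have h1 : κ.ker.index ∣ (P : Subgroup N).index := Subgroup.index_dvd_of_le hPκ
  have h2 : κ.ker.index ∣ Nat.card A := by
    rw [Subgroup.index_ker]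
    exact Subgroup.card_subgroup_dvd_card _
  obtain ⟨a, ha⟩ := IsPGroup.iff_card.mp hA
  have hcop : Nat.Coprime (p ^ a) (P : Subgroup N).index := by
    apply Nat.Coprime.pow_left
    rw [hp.coprime_iff_not_dvd]
    exact P.not_dvd_index
  rw [ha] at h2
  have h3 : κ.ker.index = 1 := Nat.eq_one_of_dvd_coprimes hcop h2 h1
  have h4 : κ.ker = ⊤ := Subgroup.index_eq_one.mp h3
  ext n
  have : κ n = 1 := by
    have : n ∈ κ.ker := by rw [h4]; exact Subgroup.mem_top _
    exact this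
  have h5 : f n * (g n)⁻¹ = 1 := this
  exact mul_inv_eq_one.mp h5

/-- Yoshida: homomorphisms from the Sylow normalizer to abelian `p`-groups extend to `G`. -/
theorem yoshida_extend {G : Type u} [Group G] [Finite G] {p : ℕ} [Fact p.Prime] (P : Sylow p G)
    (hnw : ¬ HasWreath p ↥(P : Subgroup G)) (N : Subgroup G)
    (hN : N = Subgroup.normalizer ((P : Subgroup G) : Set G))
    (A : Type v) [CommGroup A] [Finite A] (hA : IsPGroup p A) (δ : ↥N →* A) :
    ∃ Δ : G →* A, ∀ h : ↥N, Δ (h : G) = δ h := by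
  classical
  have hp := (Fact.out : p.Prime)
  have hPN : (P : Subgroup G) ≤ N := by rw [hN]; exact Subgroup.le_normalizer
  let lam : ↥(P : Subgroup G) →* A := δ.comp (Subgroup.inclusion hPN)
  have hinv : Inv (P : Subgroup G) lam := by
    intro g hg u hu
    have hgN : g⁻¹ ∈ N := by
      rw [hN]
      apply Subgroup.mem_normalizer_fintype
      intro n hn
      have := hg n hn
      show g⁻¹ * n * g⁻¹⁻¹ ∈ ((P : Subgroup G) : Set G)
      rw [inv_inv]
      exact this
    have hgN' : g ∈ N := by simpa using N.inv_mem hgN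
    have : Subgroup.inclusion hPN ⟨g⁻¹ * (u : G) * g, hu⟩
        = (⟨g, hgN'⟩ : ↥N)⁻¹ * Subgroup.inclusion hPN u * ⟨g, hgN'⟩ := by
      apply Subtype.ext
      rfl
    show δ (Subgroup.inclusion hPN ⟨g⁻¹ * (u : G) * g, hu⟩) = δ (Subgroup.inclusion hPN u)
    rw [this, map_mul, map_mul, map_inv, mul_comm, ← mul_assoc, mul_inv_cancel, one_mul]
  have hkill := full P hnw hA lam hinv
  set m := (P : Subgroup G).index with hm
  let V : G →* A := MonoidHom.transfer lam
  have hV : ∀ u : ↥(P : Subgroup G), V (u : G) = lam u ^ m := by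
    intro u
    apply transfer_eq_pow_index
    intro k g₀ hk
    set w : ↥(P : Subgroup G) := (u ^ k)⁻¹ * ⟨g₀⁻¹ * (u : G) ^ k * g₀, hk⟩ with hw
    have hwc : (w : G) ∈ commutator G := by
      have : (w : G) = ⁅((u : G) ^ k)⁻¹, g₀⁻¹⁆ := by
        rw [hw, commutatorElement_def]
        simp only [Subgroup.coe_mul, Subgroup.coe_inv, Subgroup.coe_pow, inv_inv]
        group
      rw [this]
      exact Subgroup.commutator_mem_commutator (Subgroup.mem_top _) (Subgroup.mem_top _)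
    have h3 : (⟨g₀⁻¹ * (u : G) ^ k * g₀, hk⟩ : ↥(P : Subgroup G)) = u ^ k * w := by
      rw [hw]; group
    rw [h3, map_mul, hkill w hwc, mul_one, map_pow]
  obtain ⟨a, ha⟩ := IsPGroup.iff_card.mp hA
  have hcop : (Nat.card A).Coprime m := by
    rw [ha]
    apply Nat.Coprime.pow_left
    rw [hp.coprime_iff_not_dvd]
    exact P.not_dvd_index
  let pm : A ≃* A := MulEquiv.ofBijective (powMonoidHom m) (powCoprime hcop).bijective
  let Δ : G →* A := pm.symm.toMonoidHom.comp V
  have hΔ : ∀ u : ↥(P : Subgroup G), Δ (u : G) = lam u := by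
    intro u
    show pm.symm (V (u : G)) = lam u
    rw [hV, MulEquiv.symm_apply_eq]
    rfl
  refine ⟨Δ, ?_⟩
  -- agree on the Sylow subgroup of N
  have hSylN : ∃ P' : Sylow p ↥N, (P' : Subgroup ↥N) = (P : Subgroup G).subgroupOf N := by
    refine ⟨P.subtype hPN, ?_⟩
    rfl
  obtain ⟨P', hP'⟩ := hSylN
  have hEq : Δ.comp N.subtype = δ := by
    apply hom_eq_of_eq_on_sylow P' hA
    intro u
    have hu : ((u : ↥N) : G) ∈ (P : Subgroup G) := by
      have h0 : (u : ↥N) ∈ (P : Subgroup G).subgroupOf N := (SetLike.ext_iff.mp hP' _).mp u.2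
      exact Subgroup.mem_subgroupOf.mp h0
    show Δ ((u : ↥N) : G) = δ (u : ↥N)
    have := hΔ ⟨((u : ↥N) : G), hu⟩
    rw [this]
    rfl
  intro h
  exact DFunLike.congr_fun hEq h

/-- Yoshida + Tate: if the Sylow `p`-subgroup `P` has no quotient `Z_p ≀ Z_p`, every homomorphism from
`N_G(P)` to a finite `p`-group extends to `G`. -/
theorem yoshida_tate_extend {G : Type u} [Group G] [Finite G] {p : ℕ} [Fact p.Prime] (P : Sylow p G)
    (hnw : ¬ HasWreath p ↥(P : Subgroup G)) (N : Subgroup G)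
    (hN : N = Subgroup.normalizer ((P : Subgroup G) : Set G))
    (E : Type v) [Group E] [Finite E] (hE : IsPGroup p E) (ν : ↥N →* E) :
    ∃ θ : G →* E, ∀ h : ↥N, θ (h : G) = ν h := by
  have hPN : (P : Subgroup G) ≤ N := by rw [hN]; exact Subgroup.le_normalizer
  exact Cfsg.Agent.Lib.Helper29.TateExt.tate_ext P N hPN
    (fun A _ _ hA δ => yoshida_extend P hnw N hN A hA δ) E hE ν

theorem pResidualOf_le {G : Type*} [Group G] (p : ℕ) (H : Subgroup G) :
    Cfsg.pResidualOf p H ≤ Cfsg.pResidual p G ⊓ H := by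
  unfold Cfsg.pResidualOf
  rw [Subgroup.map_le_iff_le_comap]
  apply (Subgroup.closure_le _).mpr
  intro h hh
  refine ⟨?_, h.2⟩
  apply Subgroup.subset_closure
  show Nat.Coprime (orderOf ((h : ↥H) : G)) p
  rw [Subgroup.orderOf_coe]
  exact hh

/-- if the canonical projection of `H` onto its largest `p`-quotient extends to `G`, then
`O^p(H) = O^p(G) ∩ H`. -/
theorem pResidualOf_eq_of_extend {G : Type*} [Group G] [Finite G] {p : ℕ} [Fact p.Prime] (H : Subgroup G)
    (hext : haveI := Cfsg.Agent.Lib.Helper1.pResidual_normal (G := ↥H) p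
      ∃ θ : G →* (↥H ⧸ Cfsg.pResidual p ↥H), ∀ h : ↥H, θ (h : G) = (h : ↥H ⧸ Cfsg.pResidual p ↥H)) :
    Cfsg.pResidualOf p H = Cfsg.pResidual p G ⊓ H := by
  have := Cfsg.Agent.Lib.Helper1.pResidual_normal (G := ↥H) p
  apply le_antisymm (pResidualOf_le p H)
  obtain ⟨θ, hθ⟩ := hext
  have hE : IsPGroup p (↥H ⧸ Cfsg.pResidual p ↥H) := Cfsg.Agent.Lib.Helper1.quotient_pResidual_isPGroup p
  have hker : Cfsg.pResidual p G ≤ θ.ker := by
    apply (Subgroup.closure_le _).mpr
    intro g hg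
    have hg' : Nat.Coprime (orderOf g) p := hg
    obtain ⟨k, hk⟩ := hE (θ g)
    have h1 : orderOf (θ g) ∣ p ^ k := orderOf_dvd_of_pow_eq_one hk
    have h2 : orderOf (θ g) ∣ orderOf g := orderOf_map_dvd θ g
    have h3 : orderOf (θ g) = 1 := Nat.eq_one_of_dvd_coprimes (Nat.Coprime.pow_right k hg') h2 h1
    exact orderOf_eq_one_iff.mp h3
  rintro x ⟨hxG, hxH⟩
  have h1 : θ x = 1 := hker hxG
  have h2 := hθ ⟨x, hxH⟩
  rw [h1] at h2
  have h3 : (⟨x, hxH⟩ : ↥H) ∈ Cfsg.pResidual p ↥H := (QuotientGroup.eq_one_iff _).mp h2.symm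
  exact ⟨⟨x, hxH⟩, h3, rfl⟩

/-- Yoshida + Tate: `O^p(N_G(P)) = O^p(G) ∩ N_G(P)` when `P` has no quotient `Z_p ≀ Z_p`. -/
theorem pResidualOf_normalizer {G : Type u} [Group G] [Finite G] {p : ℕ} [Fact p.Prime] (P : Sylow p G)
    (hnw : ¬ HasWreath p ↥(P : Subgroup G)) :
    Cfsg.pResidualOf p (Subgroup.normalizer ((P : Subgroup G) : Set G))
      = Cfsg.pResidual p G ⊓ Subgroup.normalizer ((P : Subgroup G) : Set G) := by
  have := Cfsg.Agent.Lib.Helper1.pResidual_normal (G := ↥(Subgroup.normalizer ((P : Subgroup G) : Set G))) p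
  apply pResidualOf_eq_of_extend
  exact yoshida_tate_extend P hnw _ rfl _ (Cfsg.Agent.Lib.Helper1.quotient_pResidual_isPGroup p)
    (QuotientGroup.mk' _)

end Cfsg.Agent.Lib.Helper29.YoshidaTate
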