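import Mathlib
import Cfsg.Agent.Lib.Helper29.Yoshida
open MulAction Subgroup
open scoped commutatorElement
open Cfsg.Agent.Lib.Helper29.Yoshida

namespace Cfsg.Agent.Lib.Helper29.YoshidaW

section CommId
variable {𝔓 : Type*} [Group 𝔓] {p : ℕ}

/-- the shift operator on sequences -/
noncomputable def Sh (p : ℕ) : Module.End (ZMod p) (ℕ → ZMod p) :=
  LinearMap.funLeft (ZMod p) (ZMod p) (fun i : ℕ => i + 1)

theorem Sh_apply (f : ℕ → ZMod p) (j : ℕ) : Sh p f j = f (j + 1) := rfl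

theorem Sh_pow_apply (i : ℕ) (f : ℕ → ZMod p) (j : ℕ) : ((Sh p) ^ i) f j = f (j + i) := by
  induction i generalizing f j with
  | zero => simp
  | succ i ih =>
    rw [pow_succ, Module.End.mul_apply, ih, Sh_apply]
    exact congrArg f (by omega)

/-- the sequence of values of `ν` on the conjugates of `g` -/
noncomputable def Phi (M : Subgroup 𝔓) (ν : M →* Multiplicative (ZMod p)) (y g : 𝔓) : ℕ → ZMod p :=
  fun i => Multiplicative.toAdd (ext1 M ν ((y ^ i)⁻¹ * g * y ^ i))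

theorem conj_mem' (M : Subgroup 𝔓) [M.Normal] (y : 𝔓) {g : 𝔓} (hg : g ∈ M) (i : ℕ) :
    (y ^ i)⁻¹ * g * y ^ i ∈ M := by
  have := ‹M.Normal›.conj_mem g hg (y ^ i)⁻¹
  simpa using this

theorem Phi_mul (M : Subgroup 𝔓) [M.Normal] (ν : M →* Multiplicative (ZMod p)) (y : 𝔓) {g g' : 𝔓}
    (hg : g ∈ M) (hg' : g' ∈ M) : Phi M ν y (g * g') = Phi M ν y g + Phi M ν y g' := by
  funext i
  show Multiplicative.toAdd (ext1 M ν ((y ^ i)⁻¹ * (g * g') * y ^ i))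
    = Multiplicative.toAdd (ext1 M ν ((y ^ i)⁻¹ * g * y ^ i)) + Multiplicative.toAdd (ext1 M ν ((y ^ i)⁻¹ * g' * y ^ i))
  have h1 := conj_mem' M y hg i
  have h2 := conj_mem' M y hg' i
  have h3 : (y ^ i)⁻¹ * (g * g') * y ^ i = ((y ^ i)⁻¹ * g * y ^ i) * ((y ^ i)⁻¹ * g' * y ^ i) := by group
  rw [h3, ext1_of_mem M ν (M.mul_mem h1 h2), ext1_of_mem M ν h1, ext1_of_mem M ν h2, ← toAdd_mul, ← map_mul]
  rfl

theorem Phi_inv (M : Subgroup 𝔓) [M.Normal] (ν : M →* Multiplicative (ZMod p)) (y : 𝔓) {g : 𝔓}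
    (hg : g ∈ M) : Phi M ν y g⁻¹ = - Phi M ν y g := by
  funext i
  show Multiplicative.toAdd (ext1 M ν ((y ^ i)⁻¹ * g⁻¹ * y ^ i))
    = - Multiplicative.toAdd (ext1 M ν ((y ^ i)⁻¹ * g * y ^ i))
  have h1 := conj_mem' M y hg i
  have h3 : (y ^ i)⁻¹ * g⁻¹ * y ^ i = ((y ^ i)⁻¹ * g * y ^ i)⁻¹ := by group
  rw [h3, ext1_of_mem M ν (M.inv_mem h1), ext1_of_mem M ν h1, ← toAdd_inv, ← map_inv]
  rfl

theorem Phi_conj (M : Subgroup 𝔓) (ν : M →* Multiplicative (ZMod p)) (y g : 𝔓) (i : ℕ) :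
    Phi M ν y ((y ^ i)⁻¹ * g * y ^ i) = ((Sh p) ^ i) (Phi M ν y g) := by
  funext j
  rw [Sh_pow_apply]
  show Multiplicative.toAdd (ext1 M ν ((y ^ j)⁻¹ * ((y ^ i)⁻¹ * g * y ^ i) * y ^ j))
    = Multiplicative.toAdd (ext1 M ν ((y ^ (j + i))⁻¹ * g * y ^ (j + i)))
  have : (y ^ j)⁻¹ * ((y ^ i)⁻¹ * g * y ^ i) * y ^ j = (y ^ (j + i))⁻¹ * g * y ^ (j + i) := by
    rw [add_comm j i, pow_add]; group
  rw [this]

theorem Phi_step (M : Subgroup 𝔓) [M.Normal] (ν : M →* Multiplicative (ZMod p)) (y : 𝔓) {w : 𝔓}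
    (hw : w ∈ M) : Phi M ν y (w⁻¹ * y⁻¹ * w * y) = (Sh p - 1) (Phi M ν y w) := by
  have h1 : y⁻¹ * w * y ∈ M := by simpa using conj_mem' M y hw 1
  have h2 : w⁻¹ * y⁻¹ * w * y = w⁻¹ * (y⁻¹ * w * y) := by group
  rw [h2, Phi_mul M ν y (M.inv_mem hw) h1, Phi_inv M ν y hw]
  have h3 := Phi_conj M ν y w 1
  simp only [pow_one] at h3
  rw [h3, LinearMap.sub_apply, Module.End.one_apply]
  abel

theorem iter_mem (M : Subgroup 𝔓) [M.Normal] (y : 𝔓) {x : 𝔓} (hx : x ∈ M) (n : ℕ) :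
    (fun w => w⁻¹ * y⁻¹ * w * y)^[n] x ∈ M := by
  induction n with
  | zero => exact hx
  | succ n ih =>
    rw [Function.iterate_succ_apply']
    have h1 : y⁻¹ * ((fun w => w⁻¹ * y⁻¹ * w * y)^[n] x) * y ∈ M := by simpa using conj_mem' M y ih 1
    have := M.mul_mem (M.inv_mem ih) h1
    simpa [mul_assoc] using this

theorem Phi_iter (M : Subgroup 𝔓) [M.Normal] (ν : M →* Multiplicative (ZMod p)) (y : 𝔓) {x : 𝔓}
    (hx : x ∈ M) (n : ℕ) :
    Phi M ν y ((fun w => w⁻¹ * y⁻¹ * w * y)^[n] x) = ((Sh p - 1) ^ n) (Phi M ν y x) := by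
  induction n with
  | zero => simp
  | succ n ih =>
    rw [Function.iterate_succ_apply', Phi_step M ν y (iter_mem M y hx n), ih, pow_succ',
      Module.End.mul_apply]

theorem prod_mem_aux (M : Subgroup 𝔓) [M.Normal] (y : 𝔓) {x : 𝔓} (hx : x ∈ M) (n : ℕ) :
    ((List.range n).map (fun i => (y ^ i)⁻¹ * x * y ^ i)).prod ∈ M := by
  apply Subgroup.list_prod_mem
  intro g hg
  obtain ⟨i, _, rfl⟩ := List.mem_map.mp hg
  exact conj_mem' M y hx i

theorem Phi_prod (M : Subgroup 𝔓) [M.Normal] (ν : M →* Multiplicative (ZMod p)) (y : 𝔓) {x : 𝔓}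
    (hx : x ∈ M) (n : ℕ) :
    Phi M ν y ((List.range n).map (fun i => (y ^ i)⁻¹ * x * y ^ i)).prod
      = (∑ i ∈ Finset.range n, (Sh p) ^ i) (Phi M ν y x) := by
  induction n with
  | zero =>
    simp only [List.range_zero, List.map_nil, List.prod_nil, Finset.range_zero, Finset.sum_empty,
      LinearMap.zero_apply]
    funext i
    show Multiplicative.toAdd (ext1 M ν ((y ^ i)⁻¹ * 1 * y ^ i)) = 0
    have : (y ^ i)⁻¹ * 1 * y ^ i = 1 := by group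
    rw [this, ext1_of_mem M ν M.one_mem]
    have : (⟨1, M.one_mem⟩ : M) = 1 := rfl
    rw [this, map_one]; rfl
  | succ n ih =>
    rw [List.range_succ, List.map_append, List.prod_append, List.map_singleton, List.prod_singleton,
      Phi_mul M ν y (prod_mem_aux M y hx n) (conj_mem' M y hx n), ih, Phi_conj, Finset.sum_range_succ,
      LinearMap.add_apply]

theorem comm_identity [Fact p.Prime] (M : Subgroup 𝔓) [M.Normal] (ν : M →* Multiplicative (ZMod p)) (x y : 𝔓)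
    (hx : x ∈ M) :
    ν ⟨(fun w => w⁻¹ * y⁻¹ * w * y)^[p - 1] x, iter_mem M y hx (p - 1)⟩
      = ν ⟨((List.range p).map (fun i => (y ^ i)⁻¹ * x * y ^ i)).prod, prod_mem_aux M y hx p⟩ := by
  have h1 := Phi_iter M ν y hx (p - 1)
  have h2 := Phi_prod M ν y hx p
  have h3 := congrArg (Polynomial.aeval (Sh p)) (Cfsg.Agent.S1952.poly_id p)
  simp only [map_pow, map_sub, Polynomial.aeval_X, map_one, map_sum] at h3
  rw [h3, ← h2] at h1
  have h4 := congrFun h1 0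
  simp only [Phi, pow_zero, inv_one, one_mul, mul_one] at h4
  rw [ext1_of_mem M ν (iter_mem M y hx (p - 1)), ext1_of_mem M ν (prod_mem_aux M y hx p)] at h4
  exact Multiplicative.toAdd.injective h4

end CommId

/-- general one-step evaluation: for `S ≤ M`, `M` normal of index `p`, `y ∉ M`, the product of the
`μ`-values over `𝔓 ⧸ S` is `1` if `x ∉ M`, and else is the value of the transferred character `ν` on
the norm-like product of the `y`-conjugates of `x`. -/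
theorem plevel_gen {𝔓 : Type*} [Group 𝔓] [Finite 𝔓] {p : ℕ} [Fact p.Prime]
    (S M : Subgroup 𝔓) [M.Normal] (hidx : M.index = p) (hSM : S ≤ M) (y : 𝔓) (hy : y ∉ M)
    (μ : S →* Multiplicative (ZMod p)) (x : 𝔓)
    (hvan : ∀ (k : ℕ) (r : 𝔓), 1 < k → k ∣ orderOf x → ∀ h : r⁻¹ * x ^ k * r ∈ S,
      μ ⟨r⁻¹ * x ^ k * r, h⟩ = 1)
    [Fintype (𝔓 ⧸ S)] :
    (x ∉ M → ∏ q : 𝔓 ⧸ S, ext1 S μ (q.out⁻¹ * x * q.out) = 1) ∧
    (∀ hx : x ∈ M, ∃ ν : M →* Multiplicative (ZMod p),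
      ∏ q : 𝔓 ⧸ S, ext1 S μ (q.out⁻¹ * x * q.out)
        = ν ⟨((List.range p).map (fun i => (y ^ i)⁻¹ * x * y ^ i)).prod, prod_mem_aux M y hx p⟩) := by
  classical
  have hconj : ∀ (r m : 𝔓), m ∈ M → r⁻¹ * m * r ∈ M := by
    intro r m hm
    have := ‹M.Normal›.conj_mem m hm r⁻¹
    simpa using this
  constructor
  · intro hxM
    apply Finset.prod_eq_one
    intro q _
    apply ext1_of_not_mem
    intro h
    apply hxM
    have h1 := hconj q.out⁻¹ _ (hSM h)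
    simpa [mul_assoc] using h1
  · intro hxM
    set SM : Subgroup M := S.subgroupOf M with hSMdef
    set μM : SM →* Multiplicative (ZMod p) :=
      μ.comp (Subgroup.subgroupOfEquivOfLe hSM).toMonoidHom with hμM
    let ν : M →* Multiplicative (ZMod p) := MonoidHom.transfer μM
    refine ⟨ν, ?_⟩
    let xc : 𝔓 → M := fun r => ⟨r⁻¹ * x * r, hconj r x hxM⟩
    let _ : Fintype (𝔓 ⧸ M) := Fintype.ofFinite _
    let _ : Fintype (M ⧸ SM) := Fintype.ofFinite _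
    have hf : ∀ r s, s ∈ S → ext1 S μ ((r * s)⁻¹ * x * (r * s)) = ext1 S μ (r⁻¹ * x * r) := by
      intro r s hs
      have : (r * s)⁻¹ * x * (r * s) = s⁻¹ * (r⁻¹ * x * r) * s := by group
      rw [this, ext1_conj S μ _ hs]
    rw [prod_quot_trans S M hSM (fun r => ext1 S μ (r⁻¹ * x * r)) hf]
    have hinner : ∀ Q : 𝔓 ⧸ M, ∏ q' : M ⧸ SM, ext1 S μ ((Q.out * (q'.out : 𝔓))⁻¹ * x * (Q.out * (q'.out : 𝔓)))
        = ν (xc Q.out) := by
      intro Q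
      have hvanM : ∀ (k : ℕ) (g₀ : M), 1 < k → k ∣ orderOf (xc Q.out) →
          ∀ hk : g₀⁻¹ * (xc Q.out) ^ k * g₀ ∈ SM, μM ⟨g₀⁻¹ * (xc Q.out) ^ k * g₀, hk⟩ = 1 := by
        intro k g₀ hk1 hkd hk
        have hord : orderOf (xc Q.out) = orderOf x := by
          rw [← Subgroup.orderOf_coe]
          show orderOf (Q.out⁻¹ * x * Q.out) = orderOf x
          have : Q.out⁻¹ * x * Q.out = (MulAut.conj Q.out⁻¹) x := by simp
          rw [this, MulEquiv.orderOf_eq]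
        rw [hord] at hkd
        have hmem : (Q.out * (g₀ : 𝔓))⁻¹ * x ^ k * (Q.out * (g₀ : 𝔓)) ∈ S := by
          have h1 := Subgroup.mem_subgroupOf.mp hk
          have h2 : ((g₀⁻¹ * (xc Q.out) ^ k * g₀ : M) : 𝔓) =
              (Q.out * (g₀ : 𝔓))⁻¹ * x ^ k * (Q.out * (g₀ : 𝔓)) := by
            show (g₀ : 𝔓)⁻¹ * (Q.out⁻¹ * x * Q.out) ^ k * (g₀ : 𝔓) = _
            rw [conj_pow_inv]
            group
          rwa [h2] at h1
        have h3 := hvan k (Q.out * (g₀ : 𝔓)) hk1 hkd hmem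
        rw [← h3]
        show μ _ = μ _
        congr 1
        apply Subtype.ext
        show (g₀ : 𝔓)⁻¹ * (Q.out⁻¹ * x * Q.out) ^ k * (g₀ : 𝔓) = _
        rw [conj_pow_inv]
        group
      show _ = MonoidHom.transfer μM (xc Q.out)
      rw [transfer_eq_prod_fixed SM μM (xc Q.out) hvanM]
      apply Finset.prod_congr rfl
      intro q' _
      rw [ext1_subgroupOf S M hSM μ]
      congr 1
      show _ = (q'.out : 𝔓)⁻¹ * (Q.out⁻¹ * x * Q.out) * (q'.out : 𝔓)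
      group
    rw [Finset.prod_congr rfl (fun Q _ => hinner Q)]
    rw [prod_quot_prime M hidx y hy (fun Q => ν (xc Q.out))]
    have hrep : ∀ i : ℕ, ν (xc (((y ^ i : 𝔓) : 𝔓 ⧸ M)).out) = ν (xc (y ^ i)) := by
      intro i
      obtain ⟨m, hm⟩ := QuotientGroup.mk_out_eq_mul M (y ^ i)
      have h1 : xc (((y ^ i : 𝔓) : 𝔓 ⧸ M)).out = m⁻¹ * xc (y ^ i) * m := by
        apply Subtype.ext
        show (((y ^ i : 𝔓) : 𝔓 ⧸ M)).out⁻¹ * x * (((y ^ i : 𝔓) : 𝔓 ⧸ M)).out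
          = (m : 𝔓)⁻¹ * ((y ^ i)⁻¹ * x * y ^ i) * (m : 𝔓)
        rw [hm]; group
      rw [h1, map_mul, map_mul, map_inv, mul_comm, ← mul_assoc, mul_inv_cancel, one_mul]
    rw [Finset.prod_congr rfl (fun i _ => hrep i)]
    set z : M := ((List.range p).map (fun i => xc (y ^ i))).prod with hzdef
    have hz : (z : 𝔓) = ((List.range p).map (fun i => (y ^ i)⁻¹ * x * y ^ i)).prod := by
      have := map_list_prod M.subtype ((List.range p).map (fun i => xc (y ^ i)))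
      rw [List.map_map] at this
      exact this
    have hνz : ν z = ∏ i ∈ Finset.range p, ν (xc (y ^ i)) := by
      rw [hzdef, map_list_prod, List.map_map, ← List.toFinset_range,
        List.prod_toFinset _ (List.nodup_range)]
      rfl
    rw [← hνz]
    congr 1
    exact Subtype.ext hz

/-- the configuration: `x ∈ B`, `z ∈ W`, a subgroup `W₁` of index `p` in `W` and a character of `W₁`
not vanishing on the iterated commutator `[x, z; p-1]`. -/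
def CfgB (p : ℕ) {𝔓 : Type*} [Group 𝔓] (W B : Subgroup 𝔓) : Prop :=
  ∃ x ∈ B, ∃ z ∈ W, ∃ (W₁ : Subgroup 𝔓) (ν : W₁ →* Multiplicative (ZMod p)), W₁ ≤ W ∧ W₁.relIndex W = p ∧
    ∃ h : (fun w => w⁻¹ * z⁻¹ * w * z)^[p - 1] x ∈ W₁, ν ⟨_, h⟩ ≠ 1

theorem CfgB.mono {p : ℕ} {𝔓 : Type*} [Group 𝔓] {W B B' : Subgroup 𝔓} (hB : B ≤ B')
    (h : CfgB p W B) : CfgB p W B' := by
  obtain ⟨x, hx, rest⟩ := h
  exact ⟨x, hB hx, rest⟩

theorem CfgB.map {p : ℕ} {𝕋 𝔓 : Type*} [Group 𝕋] [Group 𝔓] (ι : 𝕋 →* 𝔓) (hι : Function.Injective ι)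
    (W : Subgroup 𝔓) (hW : W ≤ ι.range) (h : CfgB p (W.comap ι) ⊤) : CfgB p W ι.range := by
  obtain ⟨x, -, z, hz, W₁', ν', hle, hidx, hc, hν⟩ := h
  let e : W₁' ≃* W₁'.map ι := W₁'.equivMapOfInjective ι hι
  have hsemi : Function.Semiconj ι (fun w => w⁻¹ * z⁻¹ * w * z) (fun v => v⁻¹ * (ι z)⁻¹ * v * ι z) := by
    intro w
    simp only [map_mul, map_inv]
  have hiter : (fun v => v⁻¹ * (ι z)⁻¹ * v * ι z)^[p - 1] (ι x)
      = ι ((fun w => w⁻¹ * z⁻¹ * w * z)^[p - 1] x) := ((hsemi.iterate_right (p - 1)) x).symm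
  refine ⟨ι x, ⟨x, rfl⟩, ι z, hz, W₁'.map ι, ν'.comp e.symm.toMonoidHom, ?_, ?_, ?_, ?_⟩
  · rw [Subgroup.map_le_iff_le_comap]; exact hle
  · have h1 := Subgroup.relIndex_comap (H := W₁'.map ι) ι (W.comap ι)
    rw [Subgroup.comap_map_eq_self_of_injective hι, Subgroup.map_comap_eq, inf_eq_right.mpr hW] at h1
    rw [← h1]; exact hidx
  · rw [hiter]; exact Subgroup.mem_map_of_mem ι hc
  · intro hh
    apply hν
    rw [← hh]
    show ν' _ = ν' (e.symm _)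
    congr 1
    rw [MulEquiv.eq_symm_apply]
    apply Subtype.ext
    show ι _ = _
    exact hiter.symm

theorem iter_mem_normal {𝔓 : Type*} [Group 𝔓] (W : Subgroup 𝔓) [W.Normal] {z : 𝔓} (hz : z ∈ W) (x : 𝔓)
    (n : ℕ) (hn : 0 < n) : (fun w => w⁻¹ * z⁻¹ * w * z)^[n] x ∈ W := by
  obtain ⟨m, rfl⟩ := Nat.exists_eq_succ_of_ne_zero hn.ne'
  rw [Function.iterate_succ_apply']
  set c := (fun w => w⁻¹ * z⁻¹ * w * z)^[m] x
  have h1 : c⁻¹ * z⁻¹ * c⁻¹⁻¹ ∈ W := ‹W.Normal›.conj_mem z⁻¹ (W.inv_mem hz) c⁻¹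
  rw [inv_inv] at h1
  exact W.mul_mem h1 hz

theorem core {𝕋 : Type*} [Group 𝕋] [Finite 𝕋] {p : ℕ} [Fact p.Prime] (hT : IsPGroup p 𝕋)
    (W S : Subgroup 𝕋) [W.Normal] (hSW : S ⊔ W = ⊤) (hS : S ≠ ⊤) (hnc : ¬ CfgB p W ⊤)
    (μ : S →* Multiplicative (ZMod p)) (x : 𝕋)
    (hvan : ∀ (k : ℕ) (r : 𝕋), 1 < k → k ∣ orderOf x → ∀ h : r⁻¹ * x ^ k * r ∈ S,
      μ ⟨r⁻¹ * x ^ k * r, h⟩ = 1)
    [Fintype (𝕋 ⧸ S)] :
    ∏ q : 𝕋 ⧸ S, ext1 S μ (q.out⁻¹ * x * q.out) = 1 := by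
  have hp := (Fact.out : p.Prime)
  obtain ⟨M, hM, hSM⟩ := (eq_top_or_exists_le_coatom S).resolve_left hS
  haveI : M.Normal := Cfsg.Agent.Lib.Helper1.pgroup_coatom_normal hT hM
  have hidx : M.index = p := Cfsg.Agent.Lib.Helper1.pgroup_coatom_index hT hM
  have hWM : ¬ W ≤ M := by
    intro h
    apply hM.1
    rw [eq_top_iff, ← hSW]
    exact sup_le hSM h
  obtain ⟨z, hzW, hzM⟩ := SetLike.not_le_iff_exists.mp hWM
  obtain ⟨h1, h2⟩ := plevel_gen S M hidx hSM z hzM μ x hvan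
  by_cases hxM : x ∈ M
  · obtain ⟨ν, hν⟩ := h2 hxM
    rw [hν]
    by_contra hne
    apply hnc
    rw [← comm_identity M ν x z hxM] at hne
    have hcW : (fun w => w⁻¹ * z⁻¹ * w * z)^[p - 1] x ∈ W :=
      iter_mem_normal W hzW x (p - 1) (Nat.sub_pos_of_lt hp.one_lt)
    have hcM := iter_mem M z hxM (p - 1)
    refine ⟨x, Subgroup.mem_top x, z, hzW, W ⊓ M, ν.comp (Subgroup.inclusion inf_le_right), inf_le_left, ?_,
      ⟨hcW, hcM⟩, hne⟩
    rw [Subgroup.inf_relIndex_left]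
    have hsup : M ⊔ W = ⊤ := by
      by_contra hne'
      have hlt : M < M ⊔ W := lt_of_le_of_ne le_sup_left (fun h => hWM (h ▸ le_sup_right))
      exact hne' (hM.2 _ hlt)
    rw [← Subgroup.relIndex_sup_left (K := M) (H := W), hsup, Subgroup.relIndex_top_right, hidx]
  · exact h1 hxM

theorem plevelW {𝔓 : Type*} [Group 𝔓] [Finite 𝔓] {p : ℕ} [Fact p.Prime] (hP : IsPGroup p 𝔓)
    (W : Subgroup 𝔓) [W.Normal] (hnc : ¬ CfgB p W ⊤) (S : Subgroup 𝔓) (hWS : ¬ W ≤ S)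
    (μ : S →* Multiplicative (ZMod p)) (x : 𝔓)
    (hvan : ∀ (k : ℕ) (r : 𝔓), 1 < k → k ∣ orderOf x → ∀ h : r⁻¹ * x ^ k * r ∈ S,
      μ ⟨r⁻¹ * x ^ k * r, h⟩ = 1)
    [Fintype (𝔓 ⧸ S)] :
    ∏ q : 𝔓 ⧸ S, ext1 S μ (q.out⁻¹ * x * q.out) = 1 := by
  classical
  set T : Subgroup 𝔓 := S ⊔ W with hTdef
  have hST : S ≤ T := le_sup_left
  have hWT : W ≤ T := le_sup_right
  set ST : Subgroup T := S.subgroupOf T with hSTdef
  set μT : ST →* Multiplicative (ZMod p) :=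
    μ.comp (Subgroup.subgroupOfEquivOfLe hST).toMonoidHom with hμT
  let _ : Fintype (𝔓 ⧸ T) := Fintype.ofFinite _
  let _ : Fintype (T ⧸ ST) := Fintype.ofFinite _
  have hf : ∀ r s, s ∈ S → ext1 S μ ((r * s)⁻¹ * x * (r * s)) = ext1 S μ (r⁻¹ * x * r) := by
    intro r s hs
    have : (r * s)⁻¹ * x * (r * s) = s⁻¹ * (r⁻¹ * x * r) * s := by group
    rw [this, ext1_conj S μ _ hs]
  rw [prod_quot_trans S T hST (fun r => ext1 S μ (r⁻¹ * x * r)) hf]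
  apply Finset.prod_eq_one
  intro Q _
  by_cases hxT : Q.out⁻¹ * x * Q.out ∈ T
  · -- pass to the group `T`
    set xT : T := ⟨Q.out⁻¹ * x * Q.out, hxT⟩ with hxTdef
    have hnc' : ¬ CfgB p (W.subgroupOf T) (⊤ : Subgroup T) := by
      intro h
      apply hnc
      have h1 := CfgB.map T.subtype T.subtype_injective W (by rw [Subgroup.range_subtype]; exact hWT) h
      exact h1.mono le_top
    have hsup : ST ⊔ W.subgroupOf T = ⊤ := by
      rw [hSTdef, ← Subgroup.subgroupOf_sup hST hWT, ← hTdef, Subgroup.subgroupOf_self]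
    have hne : ST ≠ ⊤ := by
      intro h
      rw [hSTdef, Subgroup.subgroupOf_eq_top] at h
      exact hWS (hWT.trans h)
    have hvanT : ∀ (k : ℕ) (g₀ : T), 1 < k → k ∣ orderOf xT →
        ∀ hk : g₀⁻¹ * xT ^ k * g₀ ∈ ST, μT ⟨g₀⁻¹ * xT ^ k * g₀, hk⟩ = 1 := by
      intro k g₀ hk1 hkd hk
      have hord : orderOf xT = orderOf x := by
        rw [← Subgroup.orderOf_coe]
        show orderOf (Q.out⁻¹ * x * Q.out) = orderOf x
        have : Q.out⁻¹ * x * Q.out = (MulAut.conj Q.out⁻¹) x := by simp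
        rw [this, MulEquiv.orderOf_eq]
      rw [hord] at hkd
      have hmem : (Q.out * (g₀ : 𝔓))⁻¹ * x ^ k * (Q.out * (g₀ : 𝔓)) ∈ S := by
        have h1 := Subgroup.mem_subgroupOf.mp hk
        have h2 : ((g₀⁻¹ * xT ^ k * g₀ : T) : 𝔓) =
            (Q.out * (g₀ : 𝔓))⁻¹ * x ^ k * (Q.out * (g₀ : 𝔓)) := by
          show (g₀ : 𝔓)⁻¹ * (Q.out⁻¹ * x * Q.out) ^ k * (g₀ : 𝔓) = _
          rw [conj_pow_inv]
          group
        rwa [h2] at h1
      have h3 := hvan k (Q.out * (g₀ : 𝔓)) hk1 hkd hmem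
      rw [← h3]
      show μ _ = μ _
      congr 1
      apply Subtype.ext
      show (g₀ : 𝔓)⁻¹ * (Q.out⁻¹ * x * Q.out) ^ k * (g₀ : 𝔓) = _
      rw [conj_pow_inv]
      group
    have hcore := core (hP.to_subgroup T) (W.subgroupOf T) ST hsup hne hnc' μT xT hvanT
    rw [← hcore]
    apply Finset.prod_congr rfl
    intro q' _
    rw [ext1_subgroupOf S T hST μ]
    congr 1
    show _ = (q'.out : 𝔓)⁻¹ * (Q.out⁻¹ * x * Q.out) * (q'.out : 𝔓)
    group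
  · apply Finset.prod_eq_one
    intro q' _
    apply ext1_of_not_mem
    intro h
    apply hxT
    have h1 : (Q.out * (q'.out : 𝔓))⁻¹ * x * (Q.out * (q'.out : 𝔓))
        = (q'.out : 𝔓)⁻¹ * (Q.out⁻¹ * x * Q.out) * (q'.out : 𝔓) := by group
    rw [h1] at h
    have h2 := T.mul_mem (T.mul_mem q'.out.2 (hST h)) (T.inv_mem q'.out.2)
    simpa [mul_assoc] using h2

end Cfsg.Agent.Lib.Helper29.YoshidaW
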