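import Mathlib
import Cfsg.Agent.Lib.Helper29.YoshidaW
import Cfsg.Agent.Lib.Helper9.SylowConj
import Cfsg.Agent.Lib.Helper29.YoshidaTate
import Cfsg.Prelude.Def_Transfer
open MulAction Subgroup
open scoped commutatorElement
open Cfsg.Agent.Lib.Helper29.Yoshida

open Cfsg.Agent.Lib.Helper29.YoshidaW

namespace Cfsg.Agent.Lib.Helper29.YoshidaW2

theorem mem_normalizer_of_map_conj_eq {G : Type*} [Group G] (W : Subgroup G) (g : G)
    (h : W.map (MulAut.conj g).toMonoidHom = W) : g ∈ Subgroup.normalizer (W : Set G) := by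
  rw [Subgroup.mem_normalizer_iff]
  intro w
  constructor
  · intro hw
    rw [← h]
    exact ⟨w, hw, rfl⟩
  · intro hw
    rw [← h] at hw
    obtain ⟨w', hw', hEq⟩ := hw
    have : w' = w := by
      have h1 : g * w' * g⁻¹ = g * w * g⁻¹ := hEq
      simpa using h1
    rw [← this]; exact hw'

theorem weaklyClosed_le_normalizer {G : Type*} [Group G] {W P : Subgroup G}
    (hW : Cfsg.IsWeaklyClosed W P) : P ≤ Subgroup.normalizer (W : Set G) := by
  intro u hu
  apply mem_normalizer_of_map_conj_eq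
  apply hW.2
  rintro _ ⟨w, hw, rfl⟩
  exact P.mul_mem (P.mul_mem hu (hW.1 hw)) (P.inv_mem hu)

/-- a conjugate of `W` lying in `N_G(W)` forces the conjugating element into `N_G(W)` -/
theorem weaklyClosed_conj_le_normalizer {G : Type*} [Group G] [Finite G] {p : ℕ} [Fact p.Prime]
    (P : Sylow p G) {W : Subgroup G} (hW : Cfsg.IsWeaklyClosed W (P : Subgroup G)) (g₀ : G)
    (h : ∀ w ∈ W, g₀⁻¹ * w * g₀ ∈ Subgroup.normalizer (W : Set G)) :
    g₀ ∈ Subgroup.normalizer (W : Set G) := by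
  set N := Subgroup.normalizer (W : Set G) with hN
  have hPN : (P : Subgroup G) ≤ N := weaklyClosed_le_normalizer hW
  set R : Subgroup G := W.map (MulAut.conj g₀⁻¹).toMonoidHom with hR
  have hRp : IsPGroup p R := by
    have hWp : IsPGroup p W := P.2.to_le hW.1
    exact hWp.map _
  have hRN : R ≤ N := by
    rintro _ ⟨w, hw, rfl⟩
    have := h w hw
    simpa using this
  obtain ⟨m, hmN, hm⟩ := Cfsg.Agent.Lib.Helper9.exists_conj_le_sylow_of_le N P hPN R hRp hRN
  have hle : W.map (MulAut.conj (m * g₀⁻¹)).toMonoidHom ≤ (P : Subgroup G) := by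
    rintro _ ⟨w, hw, rfl⟩
    have h1 := hm (g₀⁻¹ * w * g₀) ⟨w, hw, by simp⟩
    have h2 : (MulAut.conj (m * g₀⁻¹)).toMonoidHom w = m * (g₀⁻¹ * w * g₀) * m⁻¹ := by
      simp [MulAut.conj_apply, mul_assoc]
    rw [h2]; exact h1
  have h3 := mem_normalizer_of_map_conj_eq W _ (hW.2 _ hle)
  have h4 : g₀⁻¹ ∈ N := by
    have := N.mul_mem (N.inv_mem hmN) h3
    simpa [mul_assoc] using this
  simpa using N.inv_mem h4

theorem main_lemmaW {G : Type*} [Group G] [Finite G] {p : ℕ} [Fact p.Prime] (P : Sylow p G)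
    (W : Subgroup G) (hW : Cfsg.IsWeaklyClosed W (P : Subgroup G))
    (hnc : ¬ CfgB p W (P : Subgroup G))
    (N : Subgroup G) (hN : N = Subgroup.normalizer (W : Set G)) (hPN : (P : Subgroup G) ≤ N)
    (δ : ↥N →* Multiplicative (ZMod p)) :
    ∀ u : ↥(P : Subgroup G), (u : G) ∈ commutator G → δ (Subgroup.inclusion hPN u) = 1 := by
  classical
  have hp := (Fact.out : p.Prime)
  -- the subgroup `W` inside `P`
  set WP : Subgroup ↥(P : Subgroup G) := W.subgroupOf (P : Subgroup G) with hWP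
  haveI : WP.Normal := by
    rw [hWP, Subgroup.normal_subgroupOf_iff_le_normalizer hW.1]
    exact weaklyClosed_le_normalizer hW
  have hncP : ¬ CfgB p WP ⊤ := by
    intro h
    apply hnc
    have h1 := CfgB.map (P : Subgroup G).subtype (P : Subgroup G).subtype_injective W
      (by rw [Subgroup.range_subtype]; exact hW.1) h
    rwa [Subgroup.range_subtype] at h1
  -- δ is a class function on N
  have hδconj : ∀ (a b : ↥N), δ (b⁻¹ * a * b) = δ a := by
    intro a b
    rw [map_mul, map_mul, map_inv, mul_comm, ← mul_assoc, mul_inv_cancel, one_mul]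
  intro u
  induction' hn : orderOf u using Nat.strong_induction_on with n ih generalizing u
  intro hu
  have hsmall : ∀ (k : ℕ) (g : G), 1 < k → k ∣ orderOf (u : G) →
      ∀ hk : g⁻¹ * (u : G) ^ k * g ∈ N, δ ⟨g⁻¹ * (u : G) ^ k * g, hk⟩ = 1 := by
    intro k g hk1 hkd hk
    have hpow : ∃ j : ℕ, orderOf (g⁻¹ * (u : G) ^ k * g) = p ^ j := by
      have h1 : g⁻¹ * (u : G) ^ k * g = (MulAut.conj g⁻¹) ((u : G) ^ k) := by simp
      rw [h1, MulEquiv.orderOf_eq]
      obtain ⟨a, ha⟩ := (IsPGroup.iff_orderOf.mp P.2) (u ^ k)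
      refine ⟨a, ?_⟩
      rw [← ha, ← Subgroup.orderOf_coe]
      rfl
    obtain ⟨m, hmN, hmP⟩ := Cfsg.Agent.Lib.Helper9.exists_conj_mem_sylow_of_mem N P hPN _ hpow hk
    have hEq : m * (g⁻¹ * (u : G) ^ k * g) * m⁻¹ = (g * m⁻¹)⁻¹ * (u : G) ^ k * (g * m⁻¹) := by group
    rw [hEq] at hmP
    have hv : δ (Subgroup.inclusion hPN ⟨(g * m⁻¹)⁻¹ * (u : G) ^ k * (g * m⁻¹), hmP⟩) = 1 := by
      apply ih (orderOf (⟨(g * m⁻¹)⁻¹ * (u : G) ^ k * (g * m⁻¹), hmP⟩ : ↥(P : Subgroup G))) _ _ rfl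
      · exact conj_mem_commutator _ _ _ hu
      · rw [← hn, ← Subgroup.orderOf_coe, ← Subgroup.orderOf_coe u]
        exact orderOf_conj_pow_lt _ _ _ hk1 hkd
    rw [← hv, ← hδconj _ (⟨m⁻¹, N.inv_mem hmN⟩ : ↥N)]
    congr 1
    apply Subtype.ext
    show m⁻¹⁻¹ * (g⁻¹ * (u : G) ^ k * g) * m⁻¹ = (g * m⁻¹)⁻¹ * (u : G) ^ k * (g * m⁻¹)
    group
  set c := δ (Subgroup.inclusion hPN u) with hc
  let _ : Fintype (G ⧸ N) := Fintype.ofFinite _
  let _ : Fintype (Quotient (orbitRel ↥(P : Subgroup G) (G ⧸ N))) := Fintype.ofFinite _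
  let _ : ∀ o : Quotient (orbitRel ↥(P : Subgroup G) (G ⧸ N)),
      Fintype (↥(P : Subgroup G) ⧸ stabilizer ↥(P : Subgroup G) o.out) := fun o => Fintype.ofFinite _
  have h1 : MonoidHom.transfer δ (u : G) = 1 :=
    (Abelianization.commutator_subset_ker (MonoidHom.transfer δ)) hu
  rw [transfer_eq_prod_fixed N δ (u : G) hsmall, orbit_prod (H := ↥(P : Subgroup G))] at h1
  -- the trivial orbit
  set o₁ : Quotient (orbitRel ↥(P : Subgroup G) (G ⧸ N)) := ⟦((1 : G) : G ⧸ N)⟧ with ho₁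
  have htriv : ∀ o : Quotient (orbitRel ↥(P : Subgroup G) (G ⧸ N)), o.out.out ∈ N ↔ o = o₁ := by
    intro o
    constructor
    · intro h
      have h2 : o.out = ((1 : G) : G ⧸ N) := by
        rw [← QuotientGroup.out_eq' o.out, QuotientGroup.eq]
        simpa using N.inv_mem h
      rw [← Quotient.out_eq o, h2]
    · intro h
      rw [h]
      have h2 : o₁.out ∈ MulAction.orbit ↥(P : Subgroup G) (((1 : G) : G ⧸ N)) :=
        MulAction.orbitRel_apply.mp (Quotient.exact (Quotient.out_eq o₁))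
      obtain ⟨v, hv⟩ := h2
      have h3 : o₁.out = (((v : G) : G) : G ⧸ N) := by
        rw [← hv]
        show (((v : G) * 1 : G) : G ⧸ N) = _
        rw [mul_one]
      obtain ⟨n, hn'⟩ := QuotientGroup.mk_out_eq_mul N (v : G)
      rw [h3, hn']
      exact N.mul_mem (hPN v.2) n.2
  have h2 : ∀ o : Quotient (orbitRel ↥(P : Subgroup G) (G ⧸ N)),
      ∏ q : ↥(P : Subgroup G) ⧸ stabilizer ↥(P : Subgroup G) o.out,
        ext1 N δ ((q.out • o.out).out⁻¹ * (u : G) * (q.out • o.out).out)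
      = if o = o₁ then c else 1 := by
    intro o
    set ω₀ : G ⧸ N := o.out with hω₀
    set g₀ : G := ω₀.out with hg₀
    set S : Subgroup ↥(P : Subgroup G) := stabilizer ↥(P : Subgroup G) ω₀ with hSdef
    have hω₀mk : ω₀ = ((g₀ : G) : G ⧸ N) := (QuotientGroup.out_eq' ω₀).symm
    have hsmul : ∀ v : ↥(P : Subgroup G), v • ω₀ = (((v : G) * g₀ : G) : G ⧸ N) := by
      intro v
      conv_lhs => rw [hω₀mk]
      rfl
    have hmemS : ∀ v : ↥(P : Subgroup G), v ∈ S ↔ g₀⁻¹ * (v : G) * g₀ ∈ N := by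
      intro v
      rw [hSdef, MulAction.mem_stabilizer_iff]
      have := smul_eq_iff_conj_mem N (v : G) g₀
      rw [← hω₀mk] at this
      exact this
    let μ : S →* Multiplicative (ZMod p) :=
      { toFun := fun v => δ ⟨g₀⁻¹ * ((v : ↥(P : Subgroup G)) : G) * g₀, (hmemS v).mp v.2⟩
        map_one' := by
          have : (⟨g₀⁻¹ * (((1 : S) : ↥(P : Subgroup G)) : G) * g₀, (hmemS _).mp (1 : S).2⟩ : ↥N) = 1 := by
            apply Subtype.ext; simp
          rw [this, map_one]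
        map_mul' := by
          intro v w
          have : (⟨g₀⁻¹ * (((v * w : S) : ↥(P : Subgroup G)) : G) * g₀, (hmemS _).mp (v * w).2⟩ : ↥N) =
              ⟨g₀⁻¹ * ((v : ↥(P : Subgroup G)) : G) * g₀, (hmemS v).mp v.2⟩ *
              ⟨g₀⁻¹ * ((w : ↥(P : Subgroup G)) : G) * g₀, (hmemS w).mp w.2⟩ := by
            apply Subtype.ext
            show g₀⁻¹ * (((v : ↥(P : Subgroup G)) : G) * ((w : ↥(P : Subgroup G)) : G)) * g₀ = _
            simp only [Subgroup.coe_mul]
            group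
          rw [this, map_mul] }
    have hμ : ∀ (v : ↥(P : Subgroup G)) (hv : v ∈ S),
        μ ⟨v, hv⟩ = δ ⟨g₀⁻¹ * (v : G) * g₀, (hmemS v).mp hv⟩ := fun v hv => rfl
    have hterm : ∀ q : ↥(P : Subgroup G) ⧸ S,
        ext1 N δ ((q.out • ω₀).out⁻¹ * (u : G) * (q.out • ω₀).out)
          = ext1 S μ (q.out⁻¹ * u * q.out) := by
      intro q
      rw [hsmul, ext1_out]
      have hEq : ((q.out : G) * g₀)⁻¹ * (u : G) * ((q.out : G) * g₀)
          = g₀⁻¹ * ((q.out⁻¹ * u * q.out : ↥(P : Subgroup G)) : G) * g₀ := by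
        simp only [Subgroup.coe_mul, Subgroup.coe_inv]
        group
      rw [hEq]
      by_cases hv : (q.out⁻¹ * u * q.out) ∈ S
      · rw [ext1_of_mem S μ hv, hμ, ext1_of_mem _ _ ((hmemS _).mp hv)]
      · rw [ext1_of_not_mem S μ hv, ext1_of_not_mem _ _ (fun h => hv ((hmemS _).mpr h))]
    rw [Finset.prod_congr rfl (fun q _ => hterm q)]
    by_cases hg₀N : g₀ ∈ N
    · -- the trivial orbit
      rw [if_pos ((htriv o).mp hg₀N)]
      have hall : ∀ v : ↥(P : Subgroup G), v ∈ S := by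
        intro v
        rw [hmemS]
        exact N.mul_mem (N.mul_mem (N.inv_mem hg₀N) (hPN v.2)) hg₀N
      have hStop : S = ⊤ := eq_top_iff.mpr (fun v _ => hall v)
      have hconst : ∀ q : ↥(P : Subgroup G) ⧸ S, ext1 S μ (q.out⁻¹ * u * q.out) = c := by
        intro q
        rw [ext1_of_mem S μ (hall _), hμ, hc, ← hδconj (Subgroup.inclusion hPN u)
          (⟨(q.out : G) * g₀, N.mul_mem (hPN q.out.2) hg₀N⟩ : ↥N)]
        congr 1
        apply Subtype.ext
        show g₀⁻¹ * ((q.out⁻¹ * u * q.out : ↥(P : Subgroup G)) : G) * g₀ = ((q.out : G) * g₀)⁻¹ * (u : G) * ((q.out : G) * g₀)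
        simp only [Subgroup.coe_mul, Subgroup.coe_inv]
        group
      rw [Finset.prod_congr rfl (fun q _ => hconst q), Finset.prod_const, Finset.card_univ,
        ← Nat.card_eq_fintype_card, ← Subgroup.index_eq_card, hStop, Subgroup.index_top, pow_one]
    · rw [if_neg (fun h => hg₀N ((htriv o).mpr h))]
      have hWS : ¬ WP ≤ S := by
        intro hle
        apply hg₀N
        rw [hN]
        apply weaklyClosed_conj_le_normalizer P hW g₀
        intro w hw
        have h3 : (⟨w, hW.1 hw⟩ : ↥(P : Subgroup G)) ∈ S := hle (Subgroup.mem_subgroupOf.mpr hw)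
        have h4 := (hmemS _).mp h3
        rw [hN] at h4
        exact h4
      apply plevelW P.2 WP hncP S hWS μ u
      intro k r hk1 hkd h
      rw [hμ]
      have hkd' : k ∣ orderOf (u : G) := by rwa [Subgroup.orderOf_coe]
      have hmemN : ((r : G) * g₀)⁻¹ * (u : G) ^ k * ((r : G) * g₀) ∈ N := by
        have := (hmemS _).mp h
        have hEq : ((r : G) * g₀)⁻¹ * (u : G) ^ k * ((r : G) * g₀)
            = g₀⁻¹ * ((r⁻¹ * u ^ k * r : ↥(P : Subgroup G)) : G) * g₀ := by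
          simp only [Subgroup.coe_mul, Subgroup.coe_inv, Subgroup.coe_pow]
          group
        rw [hEq]; exact this
      have := hsmall k ((r : G) * g₀) hk1 hkd' hmemN
      rw [← this]
      congr 1
      apply Subtype.ext
      simp only [Subgroup.coe_mul, Subgroup.coe_inv, Subgroup.coe_pow]
      group
  rw [Finset.prod_congr rfl (fun o _ => h2 o), Finset.prod_ite_eq' Finset.univ o₁ (fun _ => c)] at h1
  simpa using h1

/-- for `u ∈ P` and any conjugate of a power landing in `N`, the value of a character of `N` is that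
of the power, up to an element of `P ∩ G'`. -/
theorem conj_pow_value {G : Type*} [Group G] [Finite G] {p : ℕ} [Fact p.Prime] (P : Sylow p G)
    (N : Subgroup G) (hPN : (P : Subgroup G) ≤ N) {A : Type*} [CommGroup A] (δ : ↥N →* A)
    (u : ↥(P : Subgroup G)) (k : ℕ) (g₀ : G) (hk : g₀⁻¹ * (u : G) ^ k * g₀ ∈ N) :
    ∃ w : ↥(P : Subgroup G), (w : G) ∈ commutator G ∧
      δ ⟨g₀⁻¹ * (u : G) ^ k * g₀, hk⟩ = δ (Subgroup.inclusion hPN u) ^ k * δ (Subgroup.inclusion hPN w) := by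
  have hδconj : ∀ (a b : ↥N), δ (b⁻¹ * a * b) = δ a := by
    intro a b
    rw [map_mul, map_mul, map_inv, mul_comm, ← mul_assoc, mul_inv_cancel, one_mul]
  have hpow : ∃ j : ℕ, orderOf (g₀⁻¹ * (u : G) ^ k * g₀) = p ^ j := by
    have h1 : g₀⁻¹ * (u : G) ^ k * g₀ = (MulAut.conj g₀⁻¹) ((u : G) ^ k) := by simp
    rw [h1, MulEquiv.orderOf_eq]
    obtain ⟨a, ha⟩ := (IsPGroup.iff_orderOf.mp P.2) (u ^ k)
    refine ⟨a, ?_⟩
    rw [← ha, ← Subgroup.orderOf_coe]
    rfl
  obtain ⟨m, hmN, hmP⟩ := Cfsg.Agent.Lib.Helper9.exists_conj_mem_sylow_of_mem N P hPN _ hpow hk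
  set v : ↥(P : Subgroup G) := ⟨m * (g₀⁻¹ * (u : G) ^ k * g₀) * m⁻¹, hmP⟩ with hv
  refine ⟨(u ^ k)⁻¹ * v, ?_, ?_⟩
  · have : (((u ^ k)⁻¹ * v : ↥(P : Subgroup G)) : G) = ⁅((u : G) ^ k)⁻¹, m * g₀⁻¹⁆ := by
      rw [hv, commutatorElement_def]
      simp only [Subgroup.coe_mul, Subgroup.coe_inv, Subgroup.coe_pow, inv_inv]
      group
    rw [this]
    exact Subgroup.commutator_mem_commutator (Subgroup.mem_top _) (Subgroup.mem_top _)
  · rw [← map_pow, ← map_mul, ← hδconj _ (⟨m⁻¹, N.inv_mem hmN⟩ : ↥N)]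
    congr 1
    apply Subtype.ext
    show m⁻¹⁻¹ * (g₀⁻¹ * (u : G) ^ k * g₀) * m⁻¹ = (u : G) ^ k * (((u : G) ^ k)⁻¹ * (m * (g₀⁻¹ * (u : G) ^ k * g₀) * m⁻¹))
    group

theorem stepW {G : Type*} [Group G] [Finite G] {p : ℕ} [Fact p.Prime] (P : Sylow p G)
    (W : Subgroup G) (hW : Cfsg.IsWeaklyClosed W (P : Subgroup G))
    (hnc : ¬ CfgB p W (P : Subgroup G))
    (N : Subgroup G) (hN : N = Subgroup.normalizer (W : Set G)) (hPN : (P : Subgroup G) ≤ N)
    {A : Type*} [CommGroup A] [Finite A] (hA : IsPGroup p A) (δ : ↥N →* A)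
    (hpw : ∀ u : ↥(P : Subgroup G), (u : G) ∈ commutator G → δ (Subgroup.inclusion hPN u) ^ p = 1) :
    ∀ u : ↥(P : Subgroup G), (u : G) ∈ commutator G → δ (Subgroup.inclusion hPN u) = 1 := by
  classical
  have hp := (Fact.out : p.Prime)
  set m := N.index with hm
  let pw : A →* A := powMonoidHom p
  let V : G →* A := MonoidHom.transfer δ
  have ha : ∀ u : ↥(P : Subgroup G), V u ^ p = (δ (Subgroup.inclusion hPN u) ^ p) ^ m := by
    intro u
    have h1 : MonoidHom.transfer (pw.comp δ) (u : G) = pw (V u) := transfer_comp _ δ pw u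
    have h2 : MonoidHom.transfer (pw.comp δ) (u : G) = (δ (Subgroup.inclusion hPN u) ^ p) ^ m := by
      apply transfer_eq_pow_index
      intro k g₀ hk
      show (δ ⟨g₀⁻¹ * (u : G) ^ k * g₀, hk⟩) ^ p = (δ (Subgroup.inclusion hPN u) ^ p) ^ k
      obtain ⟨w, hwc, hw⟩ := conj_pow_value P N hPN δ u k g₀ hk
      rw [hw, mul_pow, hpw w hwc, mul_one, ← pow_mul, ← pow_mul, mul_comm]
    rw [← h2, h1]
    rfl
  let K : Subgroup A := pw.ker
  let ε₀ : ↥N →* A :=
    { toFun := fun n => V n * (δ n ^ m)⁻¹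
      map_one' := by simp
      map_mul' := by
        intro a b
        simp only [Subgroup.coe_mul, map_mul, mul_pow, mul_inv]
        rw [mul_mul_mul_comm] }
  have hε₀P : ∀ u : ↥(P : Subgroup G), ε₀ (Subgroup.inclusion hPN u) ^ p = 1 := by
    intro u
    show (V (u : G) * (δ (Subgroup.inclusion hPN u) ^ m)⁻¹) ^ p = 1
    rw [mul_pow, ha, inv_pow, ← pow_mul, ← pow_mul, mul_comm m p, mul_inv_cancel]
  have hε₀K : ∀ n : ↥N, ε₀ n ∈ K := by
    have hEq : pw.comp ε₀ = 1 := by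
      apply Cfsg.Agent.Lib.Helper29.YoshidaTate.hom_eq_of_eq_on_sylow (P.subtype hPN) hA
      intro x
      have hx : ((x : ↥N) : G) ∈ (P : Subgroup G) := by
        have h0 : (x : ↥N) ∈ (P : Subgroup G).subgroupOf N := x.2
        exact Subgroup.mem_subgroupOf.mp h0
      show (ε₀ (x : ↥N)) ^ p = 1
      exact hε₀P ⟨((x : ↥N) : G), hx⟩
    intro n
    exact DFunLike.congr_fun hEq n
  let ε : ↥N →* K := ε₀.codRestrict K hε₀K
  have hKexp : ∀ a : K, a ^ p = 1 := by
    intro a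
    apply Subtype.ext
    exact a.2
  intro u hu
  have hεu : ε (Subgroup.inclusion hPN u) = 1 := by
    by_contra hne
    obtain ⟨χ, hχ⟩ := sep hKexp (ε (Subgroup.inclusion hPN u)) hne
    apply hχ
    exact main_lemmaW P W hW hnc N hN hPN (χ.comp ε) u hu
  have hε₀u : V (u : G) * (δ (Subgroup.inclusion hPN u) ^ m)⁻¹ = 1 := congrArg Subtype.val hεu
  have hVu : V u = 1 := (Abelianization.commutator_subset_ker V) hu
  rw [hVu, one_mul, inv_eq_one] at hε₀u
  obtain ⟨j, hj⟩ := hA (δ (Subgroup.inclusion hPN u))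
  have hcop : Nat.Coprime (p ^ j) m := by
    apply Nat.Coprime.pow_left
    rw [hp.coprime_iff_not_dvd]
    intro hdvd
    exact P.not_dvd_index (hdvd.trans (Subgroup.index_dvd_of_le hPN))
  have h4 : orderOf (δ (Subgroup.inclusion hPN u)) ∣ 1 := by
    rw [← Nat.Coprime.gcd_eq_one hcop]
    exact Nat.dvd_gcd (orderOf_dvd_of_pow_eq_one hj) (orderOf_dvd_of_pow_eq_one hε₀u)
  exact orderOf_eq_one_iff.mp (Nat.dvd_one.mp h4)

theorem fullW_aux {G : Type*} [Group G] [Finite G] {p : ℕ} [Fact p.Prime] (P : Sylow p G)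
    (W : Subgroup G) (hW : Cfsg.IsWeaklyClosed W (P : Subgroup G))
    (hnc : ¬ CfgB p W (P : Subgroup G))
    (N : Subgroup G) (hN : N = Subgroup.normalizer (W : Set G)) (hPN : (P : Subgroup G) ≤ N)
    {A : Type*} [CommGroup A] [Finite A] (hA : IsPGroup p A) (δ : ↥N →* A) (j : ℕ) :
    (∀ u : ↥(P : Subgroup G), (u : G) ∈ commutator G → δ (Subgroup.inclusion hPN u) ^ (p ^ j) = 1) →
    ∀ u : ↥(P : Subgroup G), (u : G) ∈ commutator G → δ (Subgroup.inclusion hPN u) = 1 := by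
  induction j with
  | zero =>
    intro H u hu
    simpa using H u hu
  | succ j ih =>
    intro H
    apply ih
    have := stepW P W hW hnc N hN hPN hA ((powMonoidHom (p ^ j)).comp δ) (by
      intro u hu
      show (δ (Subgroup.inclusion hPN u) ^ (p ^ j)) ^ p = 1
      rw [← pow_mul, ← pow_succ]
      exact H u hu)
    exact this

/-- Yoshida's theorem for weakly closed subgroups: absent the configuration, every character of
`N_G(W)` with values in an abelian `p`-group kills `P ∩ G'`. -/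
theorem fullW {G : Type*} [Group G] [Finite G] {p : ℕ} [Fact p.Prime] (P : Sylow p G)
    (W : Subgroup G) (hW : Cfsg.IsWeaklyClosed W (P : Subgroup G))
    (hnc : ¬ CfgB p W (P : Subgroup G))
    (N : Subgroup G) (hN : N = Subgroup.normalizer (W : Set G)) (hPN : (P : Subgroup G) ≤ N)
    {A : Type*} [CommGroup A] [Finite A] (hA : IsPGroup p A) (δ : ↥N →* A) :
    ∀ u : ↥(P : Subgroup G), (u : G) ∈ commutator G → δ (Subgroup.inclusion hPN u) = 1 := by
  obtain ⟨n, hn⟩ := IsPGroup.iff_card.mp hA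
  apply fullW_aux P W hW hnc N hN hPN hA δ n
  intro u _
  rw [← hn]
  exact pow_card_eq_one'

universe u v

theorem yoshidaW_extend {G : Type u} [Group G] [Finite G] {p : ℕ} [Fact p.Prime] (P : Sylow p G)
    (W : Subgroup G) (hW : Cfsg.IsWeaklyClosed W (P : Subgroup G))
    (hnc : ¬ CfgB p W (P : Subgroup G))
    (N : Subgroup G) (hN : N = Subgroup.normalizer (W : Set G))
    (A : Type v) [CommGroup A] [Finite A] (hA : IsPGroup p A) (δ : ↥N →* A) :
    ∃ Δ : G →* A, ∀ h : ↥N, Δ (h : G) = δ h := by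
  classical
  have hp := (Fact.out : p.Prime)
  have hPN : (P : Subgroup G) ≤ N := by rw [hN]; exact weaklyClosed_le_normalizer hW
  have hkill := fullW P W hW hnc N hN hPN hA δ
  set m := N.index with hm
  let V : G →* A := MonoidHom.transfer δ
  have hV : ∀ u : ↥(P : Subgroup G), V (u : G) = δ (Subgroup.inclusion hPN u) ^ m := by
    intro u
    apply transfer_eq_pow_index
    intro k g₀ hk
    obtain ⟨w, hwc, hw⟩ := conj_pow_value P N hPN δ u k g₀ hk
    rw [hw, hkill w hwc, mul_one]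
  obtain ⟨a, ha⟩ := IsPGroup.iff_card.mp hA
  have hcop : (Nat.card A).Coprime m := by
    rw [ha]
    apply Nat.Coprime.pow_left
    rw [hp.coprime_iff_not_dvd]
    intro hdvd
    exact P.not_dvd_index (hdvd.trans (Subgroup.index_dvd_of_le hPN))
  let pm : A ≃* A := MulEquiv.ofBijective (powMonoidHom m) (powCoprime hcop).bijective
  let Δ : G →* A := pm.symm.toMonoidHom.comp V
  have hΔ : ∀ u : ↥(P : Subgroup G), Δ (u : G) = δ (Subgroup.inclusion hPN u) := by
    intro u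
    show pm.symm (V (u : G)) = _
    rw [hV, MulEquiv.symm_apply_eq]
    rfl
  refine ⟨Δ, ?_⟩
  have hEq : Δ.comp N.subtype = δ := by
    apply Cfsg.Agent.Lib.Helper29.YoshidaTate.hom_eq_of_eq_on_sylow (P.subtype hPN) hA
    intro x
    have hx : ((x : ↥N) : G) ∈ (P : Subgroup G) := by
      have h0 : (x : ↥N) ∈ (P : Subgroup G).subgroupOf N := x.2
      exact Subgroup.mem_subgroupOf.mp h0
    show Δ ((x : ↥N) : G) = δ (x : ↥N)
    have := hΔ ⟨((x : ↥N) : G), hx⟩
    rw [this]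
    rfl
  intro h
  exact DFunLike.congr_fun hEq h

/-- Hall–Wielandt / Yoshida: absent the configuration, `O^p(N_G(W)) = O^p(G) ∩ N_G(W)`. -/
theorem pResidualOf_normalizerW {G : Type u} [Group G] [Finite G] {p : ℕ} [Fact p.Prime] (P : Sylow p G)
    (W : Subgroup G) (hW : Cfsg.IsWeaklyClosed W (P : Subgroup G))
    (hnc : ¬ CfgB p W (P : Subgroup G)) :
    Cfsg.pResidualOf p (Subgroup.normalizer (W : Set G))
      = Cfsg.pResidual p G ⊓ Subgroup.normalizer (W : Set G) := by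
  have := Cfsg.Agent.Lib.Helper1.pResidual_normal (G := ↥(Subgroup.normalizer (W : Set G))) p
  apply Cfsg.Agent.Lib.Helper29.YoshidaTate.pResidualOf_eq_of_extend
  exact Cfsg.Agent.Lib.Helper29.TateExt.tate_ext P _ (weaklyClosed_le_normalizer hW)
    (fun A _ _ hA δ => yoshidaW_extend P W hW hnc _ rfl A hA δ) _
    (Cfsg.Agent.Lib.Helper1.quotient_pResidual_isPGroup p) (QuotientGroup.mk' _)

theorem not_cfgB_of_engel {G : Type*} [Group G] {p : ℕ} (W B : Subgroup G)
    (h : ∀ u ∈ B, ∀ z ∈ W, (fun y : G => y⁻¹ * z⁻¹ * y * z)^[p - 1] u = 1) : ¬ CfgB p W B := by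
  rintro ⟨x, hx, z, hz, W₁, ν, -, -, hc, hν⟩
  apply hν
  have : (⟨_, hc⟩ : ↥W₁) = 1 := Subtype.ext (h x hx z hz)
  rw [this, map_one]

end Cfsg.Agent.Lib.Helper29.YoshidaW2
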